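import Cfsg.Agent.Lib.GW.Component.Split2Base
import Cfsg.Agent.Lib.Solvable.Fitting

/-!
The component leg, split case: the centralizer of `eP a p` is cyclic, and no element of
`O(C(a))` acts on `eP a p` modulo `zP a p` as a transvection fixing one of the two lines of `b`.
-/

set_option autoImplicit false
set_option linter.unusedSectionVars false
set_option linter.style.haveILetI false

namespace CfsgLib.GW

open Subgroup CfsgLib.Invol
open scoped commutatorElement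

universe u

variable {G : Type u} [Group G] [Finite G]

/-- A square root of the commutator with an involution. -/
theorem exists_sqrt_inverted {a b x : G} (hb : orderOf b = 2) (hbc : b ∈ cI a) (hx : x ∈ coreC a) :
    ∃ s : G, s ∈ zpowers (x⁻¹ * (b * x * b⁻¹)) ∧ s ∈ coreC a ∧ b * s * b⁻¹ = s⁻¹ ∧ x * s ∈ cI b := by
  set y := x⁻¹ * (b * x * b⁻¹) with hy
  have hyO : y ∈ coreC a := mul_mem (inv_mem hx) (conj_mem_coreC hbc hx)
  have hby : b * y * b⁻¹ = y⁻¹ := by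
    have hbb := invol_mul_self hb
    calc b * y * b⁻¹ = b * x⁻¹ * b⁻¹ * (b * b * x * (b * b)⁻¹) := by rw [hy]; group
      _ = y⁻¹ := by rw [hbb, hy]; group
  obtain ⟨k, hk⟩ := odd_orderOf_mem_coreC hyO
  refine ⟨y ^ (k + 1), pow_mem (mem_zpowers y) _, pow_mem hyO _,
    by rw [← conj_pow, hby, inv_pow], mem_cI.2 (mul_inv_eq_iff_eq_mul.1 ?_).symm⟩
  have hrr : y ^ (k + 1) * y ^ (k + 1) = y := by
    rw [← pow_add, show k + 1 + (k + 1) = orderOf y + 1 by omega, pow_succ, pow_orderOf_eq_one, one_mul]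
  have hbr : b * y ^ (k + 1) * b⁻¹ = (y ^ (k + 1))⁻¹ := by rw [← conj_pow, hby, inv_pow]
  calc b * (x * y ^ (k + 1)) * b⁻¹ = (b * x * b⁻¹) * (b * y ^ (k + 1) * b⁻¹) := by group
    _ = x * (y ^ (k + 1) * y ^ (k + 1)) * (y ^ (k + 1))⁻¹ := by rw [hrr, hbr, hy]; group
    _ = x * y ^ (k + 1) := by group

namespace SplitE

variable (C : Ctx G) {a b g : G} {p : ℕ} {u x₀ : G} (d : SplitE a b g p u x₀)

include C d

theorem zP_le_cZero : zP a p ≤ cZero a p := fun _ hz =>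
  ⟨zP_le_coreC a p hz, mem_centralizer_iff.2 fun e he => (hz.2.1 e (eP_le_fitP a p he)).eq.symm⟩

theorem cZero_le : cZero a p ≤ coreC a := inf_le_left

/-- No involution of `C(a)` other than `a` fixes a nontrivial element of the centralizer. -/
theorem cZero_inf {j : G} (hj : orderOf j = 2) (hjc : j ∈ cI a) (hne : j ≠ a) :
    cZero a p ⊓ cI j = ⊥ := by
  rw [eq_bot_iff_forall]
  rintro w ⟨hw, hwj⟩
  by_contra hw1
  have hζ := d.zeta_mem C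
  have hζinv := d.mixed.inverts C hj hjc hne hζ
  by_cases hfix : eP a p ⊓ cI j = ⊥
  · have hinvE := inverts_of_inf_eq_bot hj (fun _ he => conj_mem_eP hjc he) hfix
    refine d.zeta_ne C ?_
    have h1 := hinvE _ (mul_mem d.hx d.hu)
    have h2 : x₀ * u = u * x₀ := by
      calc x₀ * u = ((x₀ * u)⁻¹)⁻¹ := (inv_inv _).symm
        _ = (j * x₀ * j⁻¹ * (j * u * j⁻¹))⁻¹ := by rw [← h1]; group
        _ = u * x₀ := by rw [hinvE _ d.hx, hinvE _ d.hu, mul_inv_rev, inv_inv, inv_inv]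
    rw [h2]; group
  obtain ⟨g', hg'⟩ := d.mixed.mixed_of_fixed C hj hjc hne hfix
  obtain ⟨v, hv, hvz, hvinv⟩ : ∃ v ∈ eP a p, v ∉ zP a p ∧ j * v * j⁻¹ = v⁻¹ := by
    by_contra hno
    push_neg at hno
    have hscal : ∀ e ∈ eP a p, j * e * j⁻¹ * e⁻¹ ∈ zP a p := fun e he => by
      by_contra hnz
      refine hno _ (mul_mem (conj_mem_eP hjc he) (inv_mem he)) hnz ?_
      calc j * (j * e * j⁻¹ * e⁻¹) * j⁻¹ = (j * j) * e * (j⁻¹ * e⁻¹ * j⁻¹) := by group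
        _ = e * (j * e⁻¹ * j⁻¹) := by rw [invol_mul_self hj, invol_inv hj]; group
        _ = (j * e * j⁻¹ * e⁻¹)⁻¹ := by group
    obtain ⟨z1, hz1⟩ : ∃ z1, z1 = j * x₀ * j⁻¹ * x₀⁻¹ := ⟨_, rfl⟩
    obtain ⟨z2, hz2⟩ : ∃ z2, z2 = j * u * j⁻¹ * u⁻¹ := ⟨_, rfl⟩
    have h1 := hscal _ d.hx
    have h2 := hscal _ d.hu
    rw [← hz1] at h1
    rw [← hz2] at h2
    have hxU := eP_le_fitP a p d.hx
    have huU := eP_le_fitP a p d.hu
    have e : j * (x₀ * u * x₀⁻¹ * u⁻¹) * j⁻¹ = x₀ * u * x₀⁻¹ * u⁻¹ := by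
      calc j * (x₀ * u * x₀⁻¹ * u⁻¹) * j⁻¹
          = (z1 * x₀) * (z2 * u) * (z1 * x₀)⁻¹ * (z2 * u)⁻¹ := by rw [hz1, hz2]; group
        _ = z1 * (x₀ * z2) * u * x₀⁻¹ * z1⁻¹ * u⁻¹ * z2⁻¹ := by group
        _ = (z1 * z2) * (x₀ * u * x₀⁻¹) * z1⁻¹ * u⁻¹ * z2⁻¹ := by
          rw [← (h2.2.1 _ hxU).eq]; group
        _ = (z1 * z2) * z1⁻¹ * (x₀ * u * x₀⁻¹ * u⁻¹) * z2⁻¹ := by
          rw [mul_assoc (z1 * z2), ← (h1.2.1 _ (mul_mem (mul_mem hxU huU) (inv_mem hxU))).inv_left.eq]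
          group
        _ = z2 * (x₀ * u * x₀⁻¹ * u⁻¹) * z2⁻¹ := by
          rw [show z1 * z2 * z1⁻¹ = z2 by rw [(h1.2.1 _ h2.1).eq, mul_inv_cancel_right]]
        _ = _ := by rw [(h2.2.1 _ hζ.1).eq, mul_inv_cancel_right]
    rw [e] at hζinv
    exact d.zeta_ne C (eq_one_of_inverse_self (zP_le_coreC a p hζ) hζinv)
  exact hvz (hg'.mem_zP_of_inverted' C d.cent (C.min.fixed_mem_core hj hw.1 hwj) hw1
    (eP_le_fitP a p hv) hvinv (pow_eq_one_of_eP hv) (mem_centralizer_iff.1 hw.2 v hv))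

theorem cZero_inverts {j : G} (hj : orderOf j = 2) (hjc : j ∈ cI a) (hne : j ≠ a) {v : G}
    (hv : v ∈ cZero a p) : j * v * j⁻¹ = v⁻¹ :=
  inverts_of_inf_eq_bot hj (fun _ h => conj_mem_cZero hjc h) (d.cZero_inf C hj hjc hne) v hv

/-- The centralizer of `eP a p` in `O(C(a))` is cyclic. -/
theorem cZero_cyclic : IsCyclic (cZero a p) := by
  have h := d.mixed
  haveI := Fact.mk h.hp
  obtain ⟨N, hN, hle, hlay⟩ := h.exists_layer C h.meets le_rfl (h.inf_normal_W C)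
  have hcN : ∀ c : G, (∀ x ∈ fitP a p ⊓ cI b, Commute c x) → c ∈ N := fun c hc => hle
    (mem_normalizer_iff_of_finite fun x hx => by rwa [(hc x hx).eq, mul_inv_cancel_right])
  have haN : a ∈ N := hcN a fun x hx => (mem_cI.1 (fitP_le_cI a p hx.1)).symm
  have hbN : b ∈ N := hcN b fun x hx => (mem_cI.1 hx.2).symm
  have hC0N : ∀ v ∈ cZero a p, v ∈ N := fun v hv => hcN v fun x hx => by
    rw [d.fixed_eq C] at hx
    obtain ⟨i, rfl⟩ := mem_zpowers_iff.1 hx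
    exact Commute.zpow_right (mem_centralizer_iff.1 hv.2 x₀ d.hx).symm i
  obtain ⟨j, hjL, hj, hja, hjne⟩ := exists_invol_layer C h.four.ha haN hlay
  have htriv : ∀ v ∈ cZero a p, v ∈ coreK N → v = 1 := by
    intro v hv hvc
    have h1 := d.cZero_inverts C hj (mem_cI.2 hja) hjne hv
    rw [(layer_le_cent_coreK hvc hjL).eq, mul_inv_cancel_right] at h1
    exact eq_one_of_inverse_self hv.1 h1
  obtain ⟨R, r, hrR, hRle, hcyc, hR⟩ := C.torus N hN.1 a h.four.ha haN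
  haveI : (Cfsg.oddCore ↥N).Normal := CfsgLib.Solvable.pPrimeCore_normal 2 _
  let ψ : cZero a p →* ↥N ⧸ Cfsg.oddCore ↥N :=
    (QuotientGroup.mk' _).comp (inclusion (fun v hv => hC0N v hv : cZero a p ≤ N))
  have hψ : Function.Injective ψ := (injective_iff_map_eq_one ψ).2 fun v hv =>
    Subtype.ext (htriv v v.2 ⟨⟨v, hC0N v v.2⟩, (QuotientGroup.eq_one_iff _).1 hv, rfl⟩)
  have hrange : ψ.range ≤ zpowers (QuotientGroup.mk' (Cfsg.oddCore ↥N) ⟨r, (hRle hrR).1⟩) := by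
    rintro _ ⟨v, rfl⟩
    have hvR : (v : G) ∈ R := (hR b hbN h.four.hb h.four.comm.symm h.four.hab.symm).1 v
      ⟨hC0N v v.2, v.2.1⟩ (d.cZero_inverts C h.four.hb (d.hbc C) h.four.hab.symm v.2)
    obtain ⟨i, w, hw, hwe⟩ := hcyc v hvR
    refine ⟨i, ?_⟩
    show (QuotientGroup.mk' (Cfsg.oddCore ↥N) ⟨r, (hRle hrR).1⟩) ^ (i : ℤ) = _
    rw [zpow_natCast, ← map_pow]
    refine QuotientGroup.eq.2 ?_
    have e : (⟨r, (hRle hrR).1⟩ ^ i)⁻¹ * (inclusion (fun v hv => hC0N v hv : cZero a p ≤ N) v) = w :=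
      Subtype.ext (hwe.symm : (r ^ i)⁻¹ * (v : G) = N.subtype w)
    exact e.symm ▸ hw
  haveI : IsCyclic ψ.range := isCyclic_of_injective (inclusion hrange) (inclusion_injective hrange)
  exact isCyclic_of_injective ψ.rangeRestrict fun x y e => hψ (congrArg Subtype.val e)

/-- An element inverted by `b` centralises the cyclic centralizer. -/
theorem inverted_commute_cZero {s : G} (hs : s ∈ coreC a) (hbs : b * s * b⁻¹ = s⁻¹) {v : G}
    (hv : v ∈ cZero a p) : Commute s v := by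
  haveI := d.cZero_cyclic C
  obtain ⟨⟨t0, ht0⟩, hgen⟩ := IsCyclic.exists_generator (α := cZero a p)
  have hbc := d.hbc C
  have hinv : ∀ t ∈ cZero a p, b * t * b⁻¹ = t⁻¹ := fun t ht =>
    d.cZero_inverts C d.mixed.four.hb hbc d.mixed.four.hab.symm ht
  obtain ⟨i, hi⟩ := mem_zpowers_iff.1 (hgen ⟨_, conj_mem_cZero (coreC_le_cI a hs) ht0⟩)
  have hi' : s * t0 * s⁻¹ = t0 ^ i := (congrArg Subtype.val hi).symm
  have h2 : s⁻¹ * t0 * s = t0 ^ i := by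
    have e1 : b * (s * t0 * s⁻¹) * b⁻¹ = s⁻¹ * t0⁻¹ * s := by
      calc b * (s * t0 * s⁻¹) * b⁻¹ = (b * s * b⁻¹) * (b * t0 * b⁻¹) * (b * s * b⁻¹)⁻¹ := by group
        _ = _ := by rw [hbs, hinv t0 ht0, inv_inv]
    rw [hi', ← conj_zpow, hinv t0 ht0, inv_zpow] at e1
    calc s⁻¹ * t0 * s = (s⁻¹ * t0⁻¹ * s)⁻¹ := by group
      _ = t0 ^ i := by rw [← e1, inv_inv]
  have h3 : Commute (s * s) t0 := by
    calc s * s * t0 = s * (s * t0 * s⁻¹) * s := by group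
      _ = s * (s⁻¹ * t0 * s) * s := by rw [hi', h2]
      _ = t0 * (s * s) := by group
  obtain ⟨k, hk⟩ := odd_orderOf_mem_coreC hs
  have h4 : s = (s * s) ^ (k + 1) := by
    rw [← pow_two, ← pow_mul, show 2 * (k + 1) = orderOf s + 1 by omega, pow_succ, pow_orderOf_eq_one,
      one_mul]
  obtain ⟨l, hl⟩ := mem_zpowers_iff.1 (hgen ⟨v, hv⟩)
  rw [show v = t0 ^ l from (congrArg Subtype.val hl).symm, h4]
  exact ((h3.pow_left _).zpow_right l)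

/-- The image of `x₀` modulo `zP a p`. -/
abbrev xb : EBar a p := QuotientGroup.mk ⟨x₀, d.hx⟩

/-- The image of `u` modulo `zP a p`. -/
abbrev ub : EBar a p := QuotientGroup.mk ⟨u, d.hu⟩

theorem gen (q : EBar a p) : ∃ i j : ℤ, q = d.xb ^ i * d.ub ^ j := by
  obtain ⟨⟨e, he⟩, rfl⟩ := QuotientGroup.mk'_surjective (zE a p) q
  obtain ⟨i, j, z, hz, hee⟩ := d.span C he
  refine ⟨i, j, ?_⟩
  show (QuotientGroup.mk (⟨e, he⟩ : eP a p) : EBar a p) = _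
  rw [← QuotientGroup.mk_zpow, ← QuotientGroup.mk_zpow, ← QuotientGroup.mk_mul, mk_eq_mk]
  show e⁻¹ * (x₀ ^ i * u ^ j) ∈ zP a p
  rw [hee, mul_inv_rev, mul_assoc, inv_mul_cancel, mul_one]
  exact inv_mem hz

theorem xb_pow : d.xb ^ p = 1 := by
  rw [← QuotientGroup.mk_pow]
  exact mk_eq_one.2 (by show x₀ ^ p ∈ zP a p; rw [d.x_pow C]; exact one_mem _)

theorem ub_pow : d.ub ^ p = 1 := by
  rw [← QuotientGroup.mk_pow]
  exact mk_eq_one.2 (by show u ^ p ∈ zP a p; rw [d.u_pow C]; exact one_mem _)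

theorem xb_ne : d.xb ≠ 1 := fun h => d.x_not_mem C (mk_eq_one.1 h)

theorem ub_ne : d.ub ≠ 1 := fun h => d.huz (mk_eq_one.1 h)

/-- `b` fixes the first line. -/
theorem act_b_xb : act a p ⟨b, d.hbc C⟩ (d.xb) = d.xb := by
  rw [act_mk]
  refine congrArg _ (Subtype.ext ?_)
  show b * x₀ * b⁻¹ = x₀
  rw [(mem_cI.1 d.hxb).symm, mul_inv_cancel_right]

/-- `b` inverts the second line. -/
theorem act_b_ub : act a p ⟨b, d.hbc C⟩ (d.ub) = (d.ub)⁻¹ := by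
  rw [act_mk, ← QuotientGroup.mk_inv]
  exact congrArg _ (Subtype.ext d.hinv)

theorem eBar_eq_one {q : EBar a p} (h : q = q⁻¹) : q = 1 := by
  obtain ⟨⟨e, he⟩, rfl⟩ := QuotientGroup.mk'_surjective (zE a p) q
  have h1 : ((QuotientGroup.mk' (zE a p)) ⟨e, he⟩) ^ p = 1 := by
    rw [← map_pow, show (⟨e, he⟩ : eP a p) ^ p = 1 from Subtype.ext (pow_eq_one_of_eP he), map_one]
  exact orderOf_eq_one_iff.1 (Nat.eq_one_of_dvd_coprimes
    ((Nat.coprime_primes d.mixed.hp Nat.prime_two).2 d.mixed.ne_two) (orderOf_dvd_of_pow_eq_one h1)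
    (orderOf_dvd_of_pow_eq_one (by rw [pow_two]; nth_rw 1 [h]; exact inv_mul_cancel _)))

/-- Only the identity fixes both lines pointwise. -/
theorem act_eq_one {y : cI a} (h1 : act a p y (d.xb) = d.xb)
    (h2 : act a p y (d.ub) = d.ub) : act a p y = 1 := by
  refine MulEquiv.ext fun q => ?_
  obtain ⟨i, j, rfl⟩ := d.gen C q
  rw [map_mul, map_zpow, map_zpow, h1, h2, MulAut.one_apply]

/-- Powers of the commutator. -/
theorem zeta_order : orderOf (x₀ * u * x₀⁻¹ * u⁻¹) = p := by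
  haveI := Fact.mk d.mixed.hp
  exact orderOf_eq_prime (d.zeta_mem C).2.2 (d.zeta_ne C)

/-- An element of `O(C(a))` fixing the first line moves everything along it. -/
theorem fix_x {y : cI a} (hy : (y : G) ∈ coreC a) (h : act a p y (d.xb) = d.xb) (q : EBar a p) :
    act a p y q * q⁻¹ ∈ zpowers (d.xb) := by
  have hxU := eP_le_fitP a p d.hx
  have huU := eP_le_fitP a p d.hu
  rw [act_mk, mk_eq_mk, conjE_apply] at h
  obtain ⟨i, j, z, hz, hyu⟩ := d.span C (conj_mem_eP y.2 d.hu)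
  obtain ⟨z1, hz1, hyx⟩ : ∃ z1 ∈ zP a p, (y : G) * x₀ * (y : G)⁻¹ = x₀ * z1 :=
    ⟨_, inv_mem h, by group⟩
  have hζ := d.zeta_mem C
  have h1 : x₀ * u ^ j * x₀⁻¹ = (x₀ * u * x₀⁻¹ * u⁻¹) ^ j * u ^ j := by
    rw [← conj_zpow, ← (hζ.2.1 u huU).mul_zpow, inv_mul_cancel_right]
  have hw : x₀ ^ i * u ^ j * z ∈ fitP a p := mul_mem (mul_mem (zpow_mem hxU i) (zpow_mem huU j)) hz.1
  have key : (x₀ * u * x₀⁻¹ * u⁻¹) ^ j = x₀ * u * x₀⁻¹ * u⁻¹ := by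
    have e := d.cent _ hy _ hζ
    calc (x₀ * u * x₀⁻¹ * u⁻¹) ^ j
        = (x₀ * u * x₀⁻¹ * u⁻¹) ^ j * (x₀ ^ i * u ^ j * z) * (x₀ ^ i * u ^ j * z)⁻¹ := by group
      _ = x₀ ^ i * ((x₀ * u * x₀⁻¹ * u⁻¹) ^ j * u ^ j) * z * (x₀ ^ i * u ^ j * z)⁻¹ := by
        rw [← mul_assoc (x₀ ^ i), ← ((hζ.2.1 _ (zpow_mem hxU i)).zpow_left j).eq]; group
      _ = x₀ * (x₀ ^ i * u ^ j) * (x₀⁻¹ * z) * (x₀ ^ i * u ^ j * z)⁻¹ := by rw [← h1]; group
      _ = x₀ * (x₀ ^ i * u ^ j * z) * x₀⁻¹ * (x₀ ^ i * u ^ j * z)⁻¹ := by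
        rw [← (hz.2.1 _ (inv_mem hxU)).eq]; group
      _ = x₀ * (x₀ ^ i * u ^ j * z) * (z1 * z1⁻¹) * x₀⁻¹ * (x₀ ^ i * u ^ j * z)⁻¹ := by group
      _ = x₀ * z1 * (x₀ ^ i * u ^ j * z) * (x₀ * z1)⁻¹ * (x₀ ^ i * u ^ j * z)⁻¹ := by
        rw [← mul_assoc (x₀ * (x₀ ^ i * u ^ j * z)), mul_assoc x₀, ← (hz1.2.1 _ hw).eq]; group
      _ = (y : G) * (x₀ * u * x₀⁻¹ * u⁻¹) * (y : G)⁻¹ := by rw [← hyx, ← hyu]; group
      _ = x₀ * u * x₀⁻¹ * u⁻¹ := by rw [e.eq, mul_inv_cancel_right]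
  have huj : u ^ j = u := by
    have h3 : (x₀ * u * x₀⁻¹ * u⁻¹) ^ (j - 1) = 1 := by rw [zpow_sub_one, key, mul_inv_cancel]
    have h4 := orderOf_dvd_iff_zpow_eq_one.2 h3
    rw [d.zeta_order C] at h4
    obtain ⟨l, hl⟩ := h4
    rw [show j = (p : ℤ) * l + 1 by linarith, zpow_add_one, zpow_mul, zpow_natCast, d.u_pow C,
      one_zpow, one_mul]
  have hub : act a p y (d.ub) = d.xb ^ i * d.ub := by
    rw [act_mk, ← QuotientGroup.mk_zpow, ← QuotientGroup.mk_mul, mk_eq_mk, conjE_apply]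
    show ((y : G) * u * (y : G)⁻¹)⁻¹ * (x₀ ^ i * u) ∈ zP a p
    rw [hyu, huj, mul_inv_rev, mul_assoc, inv_mul_cancel, mul_one]
    exact inv_mem hz
  have hxb : act a p y (d.xb) = d.xb := by rw [act_mk, mk_eq_mk, conjE_apply]; exact h
  obtain ⟨k, l, rfl⟩ := d.gen C q
  refine mem_zpowers_iff.2 ⟨i * l, ?_⟩
  rw [map_mul, map_zpow, map_zpow, hxb, hub, (show Commute (d.xb ^ i) (d.ub) from eBar_comm a p _ _).mul_zpow,
    ← zpow_mul, mul_inv_rev]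
  calc d.xb ^ (i * l) = d.xb ^ k * d.xb ^ (i * l) * (d.xb ^ k)⁻¹ := by
        rw [eBar_comm a p (d.xb ^ k), mul_inv_cancel_right]
    _ = _ := by group

/-- An element of `O(C(a))` fixing the second line moves everything along it. -/
theorem fix_u {y : cI a} (hy : (y : G) ∈ coreC a) (h : act a p y (d.ub) = d.ub) (q : EBar a p) :
    act a p y q * q⁻¹ ∈ zpowers (d.ub) := by
  have hxU := eP_le_fitP a p d.hx
  have huU := eP_le_fitP a p d.hu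
  rw [act_mk, mk_eq_mk, conjE_apply] at h
  obtain ⟨i, j, z, hz, hyx⟩ := d.span C (conj_mem_eP y.2 d.hx)
  obtain ⟨z1, hz1, hyu⟩ : ∃ z1 ∈ zP a p, (y : G) * u * (y : G)⁻¹ = u * z1 :=
    ⟨_, inv_mem h, by group⟩
  have hζ := d.zeta_mem C
  have h1 : u * x₀ ^ i * u⁻¹ = ((x₀ * u * x₀⁻¹ * u⁻¹) ^ i)⁻¹ * x₀ ^ i := by
    rw [← conj_zpow, ← inv_zpow, ← (hζ.2.1 x₀ hxU).inv_left.mul_zpow]
    congr 1
    group
  have hw : x₀ ^ i * u ^ j * z ∈ fitP a p := mul_mem (mul_mem (zpow_mem hxU i) (zpow_mem huU j)) hz.1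
  have key : (x₀ * u * x₀⁻¹ * u⁻¹) ^ i = x₀ * u * x₀⁻¹ * u⁻¹ := by
    have e := d.cent _ hy _ hζ
    calc (x₀ * u * x₀⁻¹ * u⁻¹) ^ i
        = x₀ ^ i * u * (x₀ ^ i)⁻¹ * u⁻¹ := by
          calc (x₀ * u * x₀⁻¹ * u⁻¹) ^ i
              = (x₀ * u * x₀⁻¹ * u⁻¹) ^ i * (u * x₀ ^ i * u⁻¹) * u * (x₀ ^ i)⁻¹ * u⁻¹ := by group
            _ = _ := by rw [h1]; group
      _ = x₀ ^ i * (u ^ j * u * (u ^ j)⁻¹) * (x₀ ^ i)⁻¹ * u⁻¹ := by group
      _ = x₀ ^ i * u ^ j * z * u * (x₀ ^ i * u ^ j * z)⁻¹ * u⁻¹ := by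
        rw [show x₀ ^ i * u ^ j * z * u = x₀ ^ i * u ^ j * (u * z) by rw [mul_assoc, (hz.2.1 u huU).eq]]
        group
      _ = x₀ ^ i * u ^ j * z * u * (z1 * z1⁻¹) * (x₀ ^ i * u ^ j * z)⁻¹ * u⁻¹ := by group
      _ = x₀ ^ i * u ^ j * z * (u * z1) * (x₀ ^ i * u ^ j * z)⁻¹ * (u * z1)⁻¹ := by
        rw [← mul_assoc _ z1, mul_assoc _ z1⁻¹, (hz1.2.1 _ (inv_mem hw)).inv_left.eq]; group
      _ = (y : G) * (x₀ * u * x₀⁻¹ * u⁻¹) * (y : G)⁻¹ := by rw [← hyx, ← hyu]; group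
      _ = x₀ * u * x₀⁻¹ * u⁻¹ := by rw [e.eq, mul_inv_cancel_right]
  have hxi : x₀ ^ i = x₀ := by
    have h3 : (x₀ * u * x₀⁻¹ * u⁻¹) ^ (i - 1) = 1 := by rw [zpow_sub_one, key, mul_inv_cancel]
    have h4 := orderOf_dvd_iff_zpow_eq_one.2 h3
    rw [d.zeta_order C] at h4
    obtain ⟨l, hl⟩ := h4
    rw [show i = (p : ℤ) * l + 1 by linarith, zpow_add_one, zpow_mul, zpow_natCast, d.x_pow C,
      one_zpow, one_mul]
  have hxb : act a p y (d.xb) = d.xb * d.ub ^ j := by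
    rw [act_mk, ← QuotientGroup.mk_zpow, ← QuotientGroup.mk_mul, mk_eq_mk, conjE_apply]
    show ((y : G) * x₀ * (y : G)⁻¹)⁻¹ * (x₀ * u ^ j) ∈ zP a p
    rw [hyx, hxi, mul_inv_rev, mul_assoc, inv_mul_cancel, mul_one]
    exact inv_mem hz
  have hub : act a p y (d.ub) = d.ub := by rw [act_mk, mk_eq_mk, conjE_apply]; exact h
  obtain ⟨k, l, rfl⟩ := d.gen C q
  refine mem_zpowers_iff.2 ⟨j * k, ?_⟩
  rw [map_mul, map_zpow, map_zpow, hxb, hub, (show Commute (d.xb) (d.ub ^ j) from eBar_comm a p _ _).mul_zpow,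
    ← zpow_mul, mul_inv_rev]
  calc d.ub ^ (j * k) = d.xb ^ k * d.ub ^ (j * k) * (d.xb ^ k)⁻¹ := by
        rw [eBar_comm a p (d.xb ^ k), mul_inv_cancel_right]
    _ = _ := by group

/-- A fixed element which fixes one of the lines pointwise acts trivially. -/
theorem fixed_act {w : cI a} (hw : (w : G) ∈ coreC a) (hwb : (w : G) ∈ cI b)
    (h : act a p w (d.xb) = d.xb ∨ act a p w (d.ub) = d.ub) : act a p w = 1 := by
  have hcomm : ∀ q, act a p ⟨b, d.hbc C⟩ (act a p w q) = act a p w (act a p ⟨b, d.hbc C⟩ q) := by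
    intro q
    rw [← MulAut.mul_apply, ← MulAut.mul_apply, ← map_mul, ← map_mul,
      show (⟨b, d.hbc C⟩ : cI a) * w = w * ⟨b, d.hbc C⟩ from Subtype.ext (mem_cI.1 hwb).symm]
  rcases h with h | h
  · refine d.act_eq_one C h ?_
    obtain ⟨i, hi⟩ := mem_zpowers_iff.1 (d.fix_x C hw h (d.ub))
    have hwu : act a p w (d.ub) = d.xb ^ i * d.ub := by rw [hi]; group
    have h1 := hcomm (d.ub)
    rw [hwu, d.act_b_ub C, map_mul, map_zpow, map_inv, d.act_b_xb C, d.act_b_ub C, hwu,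
      mul_inv_rev, eBar_comm a p (d.ub)⁻¹] at h1
    rw [hwu, d.eBar_eq_one C (mul_right_cancel h1), one_mul]
  · refine d.act_eq_one C ?_ h
    obtain ⟨i, hi⟩ := mem_zpowers_iff.1 (d.fix_u C hw h (d.xb))
    have hwx : act a p w (d.xb) = d.ub ^ i * d.xb := by rw [hi]; group
    have h1 := hcomm (d.xb)
    rw [hwx, d.act_b_xb C, map_mul, map_zpow, d.act_b_ub C, d.act_b_xb C, hwx, inv_zpow] at h1
    rw [hwx, d.eBar_eq_one C (mul_right_cancel h1).symm, one_mul]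

end SplitE

end CfsgLib.GW
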