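import Cfsg.Agent.Lib.GW.Component.NoCentBase
import Cfsg.Agent.Lib.GW.Component.Split2

/-!
The component leg, scalar case: the elements of `eP a p` fixed by the involution form a cyclic
group, or `p = 3` and there are at most nine of them.
-/

set_option autoImplicit false
set_option linter.unusedSectionVars false
set_option linter.style.haveILetI false

namespace CfsgLib.GW

open Subgroup CfsgLib.Invol

universe u

/-- In a cyclic group the powers of an element contain every element of order dividing its own. -/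
theorem mem_zpowers_of_pow_eq_one {H : Type*} [Group H] [Finite H] {r x y : H}
    (hx : x ∈ zpowers r) (hy : y ∈ zpowers r) (hd : y ^ orderOf x = 1) : y ∈ zpowers x := by
  set Y := zpowers x ⊔ zpowers y
  have hY : Y ≤ zpowers r := sup_le (zpowers_le.2 hx) (zpowers_le.2 hy)
  haveI : IsCyclic Y := isCyclic_of_injective (inclusion hY) (inclusion_injective hY)
  obtain ⟨⟨c, hc⟩, hgen⟩ := IsCyclic.exists_generator (α := Y)
  obtain ⟨i, hi⟩ := mem_zpowers_iff.1 hx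
  obtain ⟨j, hj⟩ := mem_zpowers_iff.1 hy
  have hcom : Commute x y := hi ▸ hj ▸ ((Commute.refl r).zpow_zpow i j)
  have hcn : c ^ orderOf x = 1 := by
    obtain ⟨s, hs, t, ht, hst⟩ := (CfsgLib.Coprime.mem_sup_of_le_normalizer
      (A := zpowers y) (zpowers_le.2 (mem_normalizer_iff_of_finite fun s hs => by
        obtain ⟨k, rfl⟩ := mem_zpowers_iff.1 hs
        rw [(hcom.symm.zpow_right k).eq, mul_inv_cancel_right]
        exact zpow_mem (mem_zpowers x) k))).1 hc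
    obtain ⟨k, rfl⟩ := mem_zpowers_iff.1 hs
    obtain ⟨l, rfl⟩ := mem_zpowers_iff.1 ht
    rw [← hst, ((hcom.zpow_left k).zpow_right l).mul_pow, ← zpow_natCast, ← zpow_natCast,
      ← zpow_mul, ← zpow_mul, mul_comm k, mul_comm l, zpow_mul, zpow_mul, zpow_natCast,
      zpow_natCast, pow_orderOf_eq_one, hd, one_zpow, one_zpow, one_mul]
  have hle : Nat.card Y ≤ orderOf x := by
    rw [← orderOf_eq_card_of_forall_mem_zpowers hgen, orderOf_mk]
    exact Nat.le_of_dvd (orderOf_pos x) (orderOf_dvd_of_pow_eq_one hcn)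
  have he : zpowers x = Y := eq_of_le_of_card_ge le_sup_left (by rwa [Nat.card_zpowers])
  exact he.symm ▸ mem_sup_right (mem_zpowers y)

/-- The product formula: if `e = ⁅u, y⁆` is moved by `u` and `y` only by central powers of `z`,
where `u ^ p` and `y ^ p` are inverse, then `(u y) ^ p = 1` for `p ≥ 5`. -/
theorem mul_pow_prime_eq_one {H : Type*} [Group H] {p : ℕ} (hp : p.Prime) (h5 : 5 ≤ p)
    {u y e z : H} {γ δ : ℤ} (he : u * y * u⁻¹ = e * y) (hu : u * e * u⁻¹ = e * z ^ γ)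
    (hy : y * e * y⁻¹ = e * z ^ δ) (hzu : Commute z u) (hzy : Commute z y) (hze : Commute z e)
    (hpu : u ^ p ∈ zpowers z) (hyp : y ^ p = (u ^ p)⁻¹) : (u * y) ^ p = 1 := by
  -- the conjugates of `e` and `y` under the powers of `u`
  have h1 : ∀ n : ℕ, u ^ n * e * (u ^ n)⁻¹ = e * z ^ (γ * n) := fun n => by
    induction n with
    | zero => simp
    | succ n ih =>
      calc u ^ (n + 1) * e * (u ^ (n + 1))⁻¹ = u * (u ^ n * e * (u ^ n)⁻¹) * u⁻¹ := by
            rw [pow_succ']; group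
        _ = (u * e * u⁻¹) * (u * z ^ (γ * n) * u⁻¹) := by rw [ih]; group
        _ = e * z ^ (γ * (n + 1 : ℕ)) := by
          rw [hu, ((hzu.zpow_left _).symm).eq, mul_inv_cancel_right, mul_assoc, ← zpow_add]
          congr 2; push_cast; ring
  have h2 : ∀ n : ℕ, u ^ n * y * (u ^ n)⁻¹ = e ^ n * z ^ (γ * (n.choose 2 : ℤ)) * y := fun n => by
    induction n with
    | zero => simp
    | succ n ih =>
      calc u ^ (n + 1) * y * (u ^ (n + 1))⁻¹ = u ^ n * (u * y * u⁻¹) * (u ^ n)⁻¹ := by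
            rw [pow_succ]; group
        _ = (u ^ n * e * (u ^ n)⁻¹) * (u ^ n * y * (u ^ n)⁻¹) := by rw [he]; group
        _ = e * z ^ (γ * n) * (e ^ n * z ^ (γ * (n.choose 2 : ℤ)) * y) := by rw [h1, ih]
        _ = e * (z ^ (γ * n) * e ^ n) * z ^ (γ * (n.choose 2 : ℤ)) * y := by group
        _ = e * e ^ n * (z ^ (γ * n) * z ^ (γ * (n.choose 2 : ℤ))) * y := by
          rw [((hze.zpow_left (γ * n)).pow_right n).eq]; group
        _ = _ := by
          rw [← pow_succ', ← zpow_add]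
          congr 3
          rw [Nat.choose_succ_succ' n 1, Nat.choose_one_right]; push_cast; ring
  have h3 : ∀ n : ℕ, y * e ^ n = e ^ n * z ^ (δ * n) * y := fun n => by
    have h := congrArg (· ^ n) hy
    simp only [conj_pow] at h
    rw [((hze.zpow_left δ).symm).mul_pow, ← zpow_natCast (z ^ δ), ← zpow_mul] at h
    exact mul_inv_eq_iff_eq_mul.1 h
  have h3' : ∀ n m : ℕ, y ^ m * e ^ n = e ^ n * z ^ (δ * n * m) * y ^ m := fun n m => by
    induction m with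
    | zero => simp
    | succ m ih =>
      calc y ^ (m + 1) * e ^ n = y ^ m * (y * e ^ n) := by rw [pow_succ, mul_assoc]
        _ = y ^ m * e ^ n * z ^ (δ * n) * y := by rw [h3]; group
        _ = e ^ n * z ^ (δ * n * m) * (y ^ m * z ^ (δ * n)) * y := by rw [ih]; group
        _ = e ^ n * (z ^ (δ * n * m) * z ^ (δ * n)) * (y ^ m * y) := by
          rw [← ((hzy.zpow_left (δ * n)).pow_right m).eq]; group
        _ = _ := by
          rw [← zpow_add, ← pow_succ]; congr 3; push_cast; ring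
  have h4 : ∀ n : ℕ, (u * y) ^ n = e ^ ((n + 1).choose 2) *
      z ^ ((γ + 2 * δ) * ((n + 1).choose 3 : ℤ)) * y ^ n * u ^ n := fun n => by
    induction n with
    | zero => simp [Nat.choose_eq_zero_of_lt]
    | succ n ih =>
      calc (u * y) ^ (n + 1) = e ^ ((n + 1).choose 2) *
            z ^ ((γ + 2 * δ) * ((n + 1).choose 3 : ℤ)) * y ^ n *
            (u ^ (n + 1) * y * (u ^ (n + 1))⁻¹) * u ^ (n + 1) := by
            rw [pow_succ (u * y), ih, pow_succ u]; group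
        _ = e ^ ((n + 1).choose 2) * z ^ ((γ + 2 * δ) * ((n + 1).choose 3 : ℤ)) *
            (y ^ n * e ^ (n + 1)) * z ^ (γ * ((n + 1).choose 2 : ℤ)) * y * u ^ (n + 1) := by
            rw [h2]; group
        _ = e ^ ((n + 1).choose 2) * (z ^ ((γ + 2 * δ) * ((n + 1).choose 3 : ℤ)) * e ^ (n + 1)) *
            z ^ (δ * (n + 1 : ℕ) * n) * (y ^ n * z ^ (γ * ((n + 1).choose 2 : ℤ))) * y *
            u ^ (n + 1) := by rw [h3']; group
        _ = e ^ ((n + 1).choose 2) * e ^ (n + 1) * (z ^ ((γ + 2 * δ) * ((n + 1).choose 3 : ℤ)) *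
            z ^ (δ * (n + 1 : ℕ) * n) * z ^ (γ * ((n + 1).choose 2 : ℤ))) * (y ^ n * y) *
            u ^ (n + 1) := by
            rw [((hze.zpow_left ((γ + 2 * δ) * ((n + 1).choose 3 : ℤ))).pow_right (n + 1)).eq,
              ← ((hzy.zpow_left (γ * ((n + 1).choose 2 : ℤ))).pow_right n).eq]
            group
        _ = _ := by
          have e2 : ((n + 1).choose 2 : ℤ) * 2 = (n + 1) * n := by
            rw [Nat.choose_two_right, Nat.add_sub_cancel]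
            have := Nat.div_mul_cancel ((Nat.even_mul_succ_self n).two_dvd)
            rw [mul_comm n] at this
            exact_mod_cast this
          rw [← pow_add, ← zpow_add, ← zpow_add, ← pow_succ y]
          congr 4
          · rw [Nat.choose_succ_succ' (n + 1) 1, Nat.choose_one_right, show (1 : ℕ) + 1 = 2 from rfl]; omega
          · rw [Nat.choose_succ_succ' (n + 1) 2]; push_cast
            linear_combination (-δ) * e2
  -- `z ^ (p γ) = 1` and `e ^ p = z ^ (- γ (p choose 2))`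
  have hup : Commute (u ^ p) y ∧ Commute (u ^ p) e := by
    obtain ⟨k, hk⟩ := mem_zpowers_iff.1 hpu
    exact ⟨hk ▸ hzy.zpow_left k, hk ▸ hze.zpow_left k⟩
  have e2 := h2 p
  rw [hup.1.eq, mul_inv_cancel_right] at e2
  have hγp : z ^ (γ * p) = 1 := by
    have e1 := h1 p
    rw [hup.2.eq, mul_inv_cancel_right] at e1
    exact mul_left_cancel (a := e) (by rw [mul_one, ← e1])
  have hep : e ^ p = z ^ (-(γ * (p.choose 2 : ℤ))) := by
    rw [zpow_neg]
    refine eq_inv_of_mul_eq_one_left ?_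
    exact mul_right_cancel (b := y) (by rw [one_mul, ← e2])
  have hd2 : p ∣ p.choose 2 := hp.dvd_choose_self two_ne_zero (by omega)
  have hep1 : e ^ p = 1 := by
    obtain ⟨c, hc⟩ := hd2
    rw [hep, hc, Nat.cast_mul, ← mul_assoc, zpow_neg, zpow_mul, hγp, one_zpow, inv_one]
  have hzδ : z ^ (δ * p) = 1 := by
    have e1 := h3 p
    rw [hep1, mul_one, one_mul] at e1
    exact mul_right_cancel (b := y) (by rw [one_mul, ← e1])
  have hd : ∀ k, (k = 2 ∨ k = 3) → p ∣ (p + 1).choose k := fun k hk => by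
    rcases hk with rfl | rfl
    · rw [Nat.choose_succ_succ' p 1, Nat.choose_one_right]; exact dvd_add dvd_rfl hd2
    · rw [Nat.choose_succ_succ' p 2]; exact dvd_add hd2 (hp.dvd_choose_self (by omega) (by omega))
  rw [h4 p, hyp]
  obtain ⟨c2, hc2⟩ := hd 2 (Or.inl rfl)
  obtain ⟨c3, hc3⟩ := hd 3 (Or.inr rfl)
  rw [hc2, hc3, pow_mul, hep1, one_pow, one_mul, Nat.cast_mul,
    show (γ + 2 * δ) * ((p : ℤ) * c3) = γ * p * c3 + δ * p * (2 * c3) by ring, zpow_add,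
    zpow_mul, zpow_mul z (δ * p), hγp, hzδ, one_zpow, one_zpow, one_mul, one_mul, inv_mul_cancel]

/-- Powers on the left of a central commutator. -/
theorem comm_zpow_left' {H : Type*} [Group H] {u v ζ : H} (h : u * v * u⁻¹ * v⁻¹ = ζ)
    (hc : Commute ζ u) (n : ℤ) : u ^ n * v * (u ^ n)⁻¹ = ζ ^ n * v := by
  have h1 : v * u * v⁻¹ = ζ⁻¹ * u := by rw [← h]; group
  have h2 : v * u ^ n * v⁻¹ = (ζ⁻¹) ^ n * u ^ n := by rw [← conj_zpow, h1, hc.inv_left.mul_zpow]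
  calc u ^ n * v * (u ^ n)⁻¹
      = ((ζ⁻¹) ^ n)⁻¹ * (v * u ^ n * v⁻¹) * v * (u ^ n)⁻¹ := by rw [h2]; group
    _ = ((ζ⁻¹) ^ n)⁻¹ * v := by group
    _ = ζ ^ n * v := by rw [inv_zpow, inv_inv]

variable {G : Type u} [Group G] [Finite G] {a b g : G} {p : ℕ} (C : Ctx G) (h : Mixed a b g p)

include C h

/-- Two elements of the `p`-core inverted by `b` which commute with a nontrivial fixed element are
powers of one another. -/
theorem Mixed.inverted_comparable {w : G} (hw : w ∈ fitP a p ⊓ cI b) (hw1 : w ≠ 1) {v v' : G}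
    (hv : v ∈ fitP a p) (hvb : b * v * b⁻¹ = v⁻¹) (hvw : Commute v w)
    (hv' : v' ∈ fitP a p) (hvb' : b * v' * b⁻¹ = v'⁻¹) (hvw' : Commute v' w) :
    v' ∈ zpowers v ∨ v ∈ zpowers v' := by
  haveI := Fact.mk h.hp
  have hwO : w ∈ coreC a := fitP_le_coreC a p hw.1
  have hwW := C.min.fixed_mem_core h.four.hb hwO hw.2
  have hwz : ∀ z ∈ zP a p, Commute w z := fun z hz => (hz.2.1 w hw.1).symm
  obtain ⟨l, hlw, hla⟩ := h.exists_rot C hwW hwz (h.rot_inv_mem C hwW hwz)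
  set M := cI w
  have haM : a ∈ M := mem_cI.2 (mem_cI.1 (coreC_le_cI a hwO)).symm
  have hbM : b ∈ M := mem_cI.2 (mem_cI.1 hw.2).symm
  have hlM : l ∈ M := mem_cI.2 hlw.eq
  have hZM : zP a p ≤ M := fun y hy => mem_cI.2 (hwz y hy).eq.symm
  obtain ⟨R, r, hrR, hRle, hcyc, hR⟩ := C.torus M (C.min.cI_ne_top hw1) a h.four.ha haM
  obtain ⟨hR1, -⟩ := hR b hbM h.four.hb h.four.comm.symm h.four.hab.symm
  haveI : (Cfsg.oddCore ↥M).Normal := CfsgLib.Solvable.pPrimeCore_normal 2 _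
  set π := QuotientGroup.mk' (Cfsg.oddCore ↥M) with hπ
  have hvM : v ∈ M := mem_cI.2 hvw.eq
  have hvM' : v' ∈ M := mem_cI.2 hvw'.eq
  have hmem : ∀ (y : G) (hyM : y ∈ M), y ∈ fitP a p → b * y * b⁻¹ = y⁻¹ →
      π ⟨y, hyM⟩ ∈ zpowers (π ⟨r, (hRle hrR).1⟩) := by
    intro y hyM hy hyb
    obtain ⟨i, t, ht, hte⟩ := hcyc y (hR1 y ⟨hyM, fitP_le_coreC a p hy⟩ hyb)
    refine ⟨i, ?_⟩
    show (π ⟨r, (hRle hrR).1⟩) ^ (i : ℤ) = π ⟨y, hyM⟩
    rw [zpow_natCast, ← map_pow]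
    refine QuotientGroup.eq.2 ?_
    have e : (⟨r, (hRle hrR).1⟩ ^ i)⁻¹ * ⟨y, hyM⟩ = t :=
      Subtype.ext (hte.symm : (r ^ i)⁻¹ * y = M.subtype t)
    exact e.symm ▸ ht
  -- equal images give equal elements
  have hlift : ∀ (x y : G) (hxM : x ∈ M) (hyM : y ∈ M), x ∈ fitP a p → y ∈ fitP a p →
      b * x * b⁻¹ = x⁻¹ → b * y * b⁻¹ = y⁻¹ → π ⟨y, hyM⟩ ∈ zpowers (π ⟨x, hxM⟩) →
      y ∈ zpowers x := by
    intro x y hxM hyM hx hy hxb hyb hπy
    obtain ⟨i, hi⟩ := mem_zpowers_iff.1 hπy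
    rw [← map_zpow] at hi
    obtain ⟨t, ht, hte⟩ : (x ^ i)⁻¹ * y ∈ coreK M := by
      refine ⟨((⟨x, hxM⟩ : M) ^ i)⁻¹ * ⟨y, hyM⟩, ?_, rfl⟩
      refine QuotientGroup.eq.1 ?_
      exact hi
    set n := (x ^ i)⁻¹ * y with hn
    have hnU : n ∈ fitP a p := mul_mem (inv_mem (zpow_mem hx i)) hy
    have hbn : b * n * b⁻¹ = x ^ i * y⁻¹ := by
      rw [show b * n * b⁻¹ = (b * x ^ i * b⁻¹)⁻¹ * (b * y * b⁻¹) by rw [hn]; group, ← conj_zpow,
        hxb, hyb, inv_zpow, inv_inv]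
    have hKn : n⁻¹ * (b * n * b⁻¹) ∈ coreK M := by
      refine ⟨t⁻¹ * (⟨b, hbM⟩ * t * (⟨b, hbM⟩ : M)⁻¹), mul_mem (inv_mem ht)
        ((inferInstance : (Cfsg.oddCore ↥M).Normal).conj_mem t ht _), ?_⟩
      show (t : G)⁻¹ * (b * (t : G) * b⁻¹) = _
      rw [show (t : G) = n from hte]
    obtain ⟨s, hs1, hs2, hs3, hs4⟩ :=
      exists_sqrt_inverted h.four.hb (mem_cI.2 h.four.comm.symm) (fitP_le_coreC a p hnU)
    have hs : s = 1 := h.eq_one_of_coreK C haM hbM hlM hla hZM (isPGroup_fitP a p)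
      ((zpowers_le.2 (mul_mem (inv_mem hnU) (conj_mem_fitP (mem_cI.2 h.four.comm.symm) hnU))) hs1)
      hs2 ((zpowers_le.2 hKn) hs1) hs3
    rw [hs, mul_one] at hs4
    have hsq : (x ^ i) ^ 2 = y ^ 2 := by
      have e1 : b * n * b⁻¹ = n := by
        rw [(mem_cI.1 hs4).symm, mul_inv_cancel_right]
      rw [hbn, hn] at e1
      rw [pow_two, pow_two]
      calc x ^ i * x ^ i = x ^ i * (x ^ i * y⁻¹) * y := by group
        _ = x ^ i * ((x ^ i)⁻¹ * y) * y := by rw [e1]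
        _ = y * y := by group
    obtain ⟨k, hk⟩ := isPGroup_fitP a p ⟨y, hy⟩
    have hodd : Odd (p ^ k) := (h.hp.odd_of_ne_two h.ne_two).pow
    obtain ⟨m, hm⟩ := hodd
    have hyk : y ^ p ^ k = 1 := congrArg Subtype.val hk
    refine ⟨i * (2 * (m + 1 : ℕ)), ?_⟩
    show x ^ (i * (2 * (m + 1 : ℕ))) = y
    rw [zpow_mul, show (2 * ((m + 1 : ℕ) : ℤ)) = ((2 * (m + 1) : ℕ) : ℤ) by push_cast; ring,
      zpow_natCast, pow_mul, hsq, ← pow_mul, show 2 * (m + 1) = p ^ k + 1 by omega, pow_succ, hyk,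
      one_mul]
  obtain ⟨k, hk⟩ := isPGroup_fitP a p ⟨v, hv⟩
  obtain ⟨k', hk'⟩ := isPGroup_fitP a p ⟨v', hv'⟩
  obtain ⟨i1, -, hi1⟩ := (Nat.dvd_prime_pow h.hp).1 (orderOf_dvd_of_pow_eq_one
    (by rw [← map_pow, show (⟨v, hvM⟩ : M) ^ p ^ k = 1 from
      Subtype.ext (congrArg Subtype.val hk :), map_one] : π ⟨v, hvM⟩ ^ p ^ k = 1))
  obtain ⟨i2, -, hi2⟩ := (Nat.dvd_prime_pow h.hp).1 (orderOf_dvd_of_pow_eq_one
    (by rw [← map_pow, show (⟨v', hvM'⟩ : M) ^ p ^ k' = 1 from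
      Subtype.ext (congrArg Subtype.val hk' :), map_one] : π ⟨v', hvM'⟩ ^ p ^ k' = 1))
  rcases le_total i2 i1 with hle | hle
  · refine Or.inl (hlift v v' hvM hvM' hv hv' hvb hvb' (mem_zpowers_of_pow_eq_one
      (hmem v hvM hv hvb) (hmem v' hvM' hv' hvb') (orderOf_dvd_iff_pow_eq_one.1 ?_)))
    rw [hi1, hi2]; exact pow_dvd_pow p hle
  · refine Or.inr (hlift v' v hvM' hvM hv' hv hvb' hvb (mem_zpowers_of_pow_eq_one
      (hmem v' hvM' hv' hvb') (hmem v hvM hv hvb) (orderOf_dvd_iff_pow_eq_one.1 ?_)))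
    rw [hi1, hi2]; exact pow_dvd_pow p hle


/-- Elements fixed by `b` in `eP a p` centralise the fixed part of the `p`-core. -/
theorem Mixed.fixed_commute {r x : G} (hr : r ∈ eP a p ⊓ cI b) (hx : x ∈ fitP a p ⊓ cI b) :
    Commute r x := by
  have hz := comm_mem_of_eP hr.1 hx.1
  have hfix : b * (r * x * r⁻¹ * x⁻¹) * b⁻¹ = r * x * r⁻¹ * x⁻¹ := conj_eq_self (a := r * x * r⁻¹ * x⁻¹) (x := b) (mem_cI.2 (mem_cI.1
    (mul_mem (mul_mem (mul_mem hr.2 hx.2) (inv_mem hr.2)) (inv_mem hx.2) :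
      r * x * r⁻¹ * x⁻¹ ∈ cI b)).symm)
  rw [h.b_inverts C hz] at hfix
  exact mul_inv_eq_iff_eq_mul.1 (mul_inv_eq_one.1 (eq_one_of_inverse_self (zP_le_coreC a p hz) hfix.symm))

/-- The commutator with an element of `eP a p` of a power. -/
theorem Mixed.comm_zpow {r w : G} (hr : r ∈ eP a p) (hw : w ∈ fitP a p) (i : ℤ) :
    r * w ^ i * r⁻¹ = (r * w * r⁻¹ * w⁻¹) ^ i * w ^ i := by
  rw [← ((comm_mem_of_eP hr hw).2.1 w hw).mul_zpow, inv_mul_cancel_right, conj_zpow]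

/-- Two commutators with `eP a p` are powers of one another. -/
theorem Mixed.exists_zP_pow {ζ η : G} (hζ : ζ ∈ zP a p) (hζ1 : ζ ≠ 1) (hη : η ∈ zP a p) :
    ∃ i : ℤ, ζ ^ i = η := by
  obtain ⟨z, ho, hall⟩ := h.exists_generator C
  rw [hall] at hζ hη
  rw [← zpowers_eq_of_prime h.hp (ho ▸ pow_orderOf_eq_one z) hζ hζ1] at hη
  exact mem_zpowers_iff.1 hη

/-- For independent fixed elements some inverted element commutes with the first only. -/
theorem Mixed.exists_inverted {r s : G} (hr : r ∈ eP a p ⊓ cI b) (hr1 : r ≠ 1)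
    (hs : s ∈ eP a p ⊓ cI b) (hsr : s ∉ zpowers r) :
    ∃ v ∈ fitP a p, b * v * b⁻¹ = v⁻¹ ∧ Commute v r ∧ ¬ Commute v s := by
  have hbc : b ∈ cI a := mem_cI.2 h.four.comm.symm
  have hrU := eP_le_fitP a p hr.1
  have hsU := eP_le_fitP a p hs.1
  have hnz : ∀ t ∈ eP a p ⊓ cI b, (∀ w ∈ fitP a p, Commute t w) → t = 1 := by
    intro t ht htc
    have hz : t ∈ zP a p := ⟨eP_le_fitP a p ht.1, htc, pow_eq_one_of_eP ht.1⟩
    have h1 := h.b_inverts C hz
    rw [(mem_cI.1 ht.2).symm, mul_inv_cancel_right] at h1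
    exact eq_one_of_inverse_self (zP_le_coreC a p hz) h1
  obtain ⟨w, hw, hwr, hws⟩ : ∃ w ∈ fitP a p, Commute w r ∧ ¬ Commute w s := by
    by_contra hcon
    push Not at hcon
    obtain ⟨w₀, hw₀, hw₀r⟩ : ∃ w₀ ∈ fitP a p, ¬ Commute r w₀ := by
      by_contra hc
      push Not at hc
      exact hr1 (hnz r hr hc)
    have hζ := comm_mem_of_eP hr.1 hw₀
    have hζ1 : r * w₀ * r⁻¹ * w₀⁻¹ ≠ 1 := fun e =>
      hw₀r (mul_inv_eq_iff_eq_mul.1 (mul_inv_eq_one.1 e))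
    obtain ⟨l, hl⟩ := h.exists_zP_pow C hζ hζ1 (comm_mem_of_eP hs.1 hw₀)
    have hrl : r ^ l * w₀ * (r ^ l)⁻¹ = (r * w₀ * r⁻¹ * w₀⁻¹) ^ l * w₀ :=
      comm_zpow_left' rfl (hζ.2.1 r hrU) l
    have hd : s * (r ^ l)⁻¹ ∈ eP a p ⊓ cI b := mul_mem hs (inv_mem (zpow_mem hr l))
    have hd0 : Commute (s * (r ^ l)⁻¹) w₀ := by
      rw [hl] at hrl
      refine mul_inv_eq_iff_eq_mul.1 ?_
      have e1 : (r ^ l)⁻¹ * w₀ * r ^ l = (s * w₀ * s⁻¹ * w₀⁻¹)⁻¹ * w₀ := by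
        calc (r ^ l)⁻¹ * w₀ * r ^ l
            = (r ^ l)⁻¹ * ((s * w₀ * s⁻¹ * w₀⁻¹)⁻¹ * (r ^ l * w₀ * (r ^ l)⁻¹)) * r ^ l := by
              rw [hrl]; group
          _ = ((r ^ l)⁻¹ * (s * w₀ * s⁻¹ * w₀⁻¹)⁻¹ * r ^ l) * w₀ := by group
          _ = _ := by
            rw [mul_assoc (r ^ l)⁻¹, ((comm_mem_of_eP hs.1 hw₀).2.1 _ (zpow_mem hrU l)).inv_left.eq,
              inv_mul_cancel_left]
      calc s * (r ^ l)⁻¹ * w₀ * (s * (r ^ l)⁻¹)⁻¹
          = s * ((r ^ l)⁻¹ * w₀ * r ^ l) * s⁻¹ := by group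
        _ = (s * (s * w₀ * s⁻¹ * w₀⁻¹)⁻¹ * s⁻¹) * (s * w₀ * s⁻¹) := by rw [e1]; group
        _ = w₀ := by
          rw [((comm_mem_of_eP hs.1 hw₀).2.1 s hsU).inv_left.symm.eq, mul_inv_cancel_right]
          group
    refine hsr (mem_zpowers_iff.2 ⟨l, (mul_inv_eq_one.1 (hnz _ hd fun w hw => ?_)).symm⟩)
    obtain ⟨i, hi⟩ := h.exists_zP_pow C hζ hζ1 (comm_mem_of_eP hr.1 hw)
    have hw' : w * (w₀ ^ i)⁻¹ ∈ fitP a p := mul_mem hw (inv_mem (zpow_mem hw₀ i))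
    have hcr : Commute (w * (w₀ ^ i)⁻¹) r := by
      refine (mul_inv_eq_iff_eq_mul.1 (?_ : r * (w * (w₀ ^ i)⁻¹) * r⁻¹ = w * (w₀ ^ i)⁻¹)).symm
      calc r * (w * (w₀ ^ i)⁻¹) * r⁻¹ = (r * w * r⁻¹) * (r * w₀ ^ i * r⁻¹)⁻¹ := by group
        _ = ((r * w * r⁻¹ * w⁻¹) * w) * ((r * w₀ * r⁻¹ * w₀⁻¹) ^ i * w₀ ^ i)⁻¹ := by
          rw [h.comm_zpow C hr.1 hw₀]; group
        _ = (r * w * r⁻¹ * w⁻¹) * (w * (w₀ ^ i)⁻¹) * (r * w * r⁻¹ * w⁻¹)⁻¹ := by
          rw [hi]; group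
        _ = w * (w₀ ^ i)⁻¹ := by
          rw [((comm_mem_of_eP hr.1 hw).2.1 _ hw').eq, mul_inv_cancel_right]
    have hd1 : Commute (s * (r ^ l)⁻¹) (w * (w₀ ^ i)⁻¹) :=
      ((hcon _ hw' hcr).symm).mul_left (hcr.symm.zpow_left l).inv_left
    have := hd1.mul_right (hd0.zpow_right i)
    rwa [inv_mul_cancel_right] at this
  obtain ⟨t, ht1, ht2, ht3, ht4⟩ :=
    exists_sqrt_inverted h.four.hb hbc (fitP_le_coreC a p hw)
  have htU : t ∈ fitP a p :=
    (zpowers_le.2 (mul_mem (inv_mem hw) (conj_mem_fitP hbc hw))) ht1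
  have hX : w * t ∈ fitP a p ⊓ cI b := ⟨mul_mem hw htU, ht4⟩
  refine ⟨t, htU, ht3, ?_, fun hc => hws ?_⟩
  · have := hwr.inv_left.mul_left (h.fixed_commute C hr hX).symm
    rwa [inv_mul_cancel_left] at this
  · have := (h.fixed_commute C hs hX).symm.mul_left hc.inv_left
    rwa [mul_inv_cancel_right] at this

/-- The elements fixed by `b` in `eP a p` are spanned by any two independent ones. -/
theorem Mixed.fixed_span {r s t : G} (hr : r ∈ eP a p ⊓ cI b) (hr1 : r ≠ 1)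
    (hs : s ∈ eP a p ⊓ cI b) (hsr : s ∉ zpowers r) (ht : t ∈ eP a p ⊓ cI b) :
    t ∈ zpowers r ⊔ zpowers s := by
  by_contra hts
  obtain ⟨u, hu, hub, hur, hus⟩ := h.exists_inverted C hr hr1 hs hsr
  have hsU := eP_le_fitP a p hs.1
  have hζ1 : s * u * s⁻¹ * u⁻¹ ≠ 1 := fun e =>
    hus (mul_inv_eq_iff_eq_mul.1 (mul_inv_eq_one.1 e)).symm
  obtain ⟨l, hl⟩ := h.exists_zP_pow C (comm_mem_of_eP hs.1 hu) hζ1 (comm_mem_of_eP ht.1 hu)
  have hd : (s ^ l)⁻¹ * t ∈ eP a p ⊓ cI b := mul_mem (inv_mem (zpow_mem hs l)) ht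
  have hdu : Commute ((s ^ l)⁻¹ * t) u := by
    refine mul_inv_eq_iff_eq_mul.1 ?_
    have e1 := comm_zpow_left' (u := s) (v := u) rfl ((comm_mem_of_eP hs.1 hu).2.1 s hsU) l
    rw [hl] at e1
    calc (s ^ l)⁻¹ * t * u * ((s ^ l)⁻¹ * t)⁻¹
        = (s ^ l)⁻¹ * ((t * u * t⁻¹ * u⁻¹) * u) * s ^ l := by group
      _ = (s ^ l)⁻¹ * (s ^ l * u * (s ^ l)⁻¹) * s ^ l := by rw [e1]
      _ = u := by group
  have hdr : (s ^ l)⁻¹ * t ∉ zpowers r := fun hm => hts (by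
    rw [show t = s ^ l * ((s ^ l)⁻¹ * t) by group]
    exact mul_mem (mem_sup_right (zpow_mem (mem_zpowers s) l)) (mem_sup_left hm))
  obtain ⟨v, hv, hvb, hvr, hvd⟩ := h.exists_inverted C hr hr1 hd hdr
  rcases h.inverted_comparable C (mem_inf.2 ⟨eP_le_fitP a p hr.1, hr.2⟩) hr1 hu hub hur hv hvb hvr
    with hc | hc
  · obtain ⟨i, rfl⟩ := mem_zpowers_iff.1 hc
    exact hvd (hdu.symm.zpow_left i)
  · obtain ⟨i, rfl⟩ := mem_zpowers_iff.1 hc
    have hη := comm_mem_of_eP hd.1 hv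
    set η := (s ^ l)⁻¹ * t * v * ((s ^ l)⁻¹ * t)⁻¹ * v⁻¹ with hηdef
    have e1 := h.comm_zpow C hd.1 hv i
    rw [← hηdef, hdu.eq, mul_inv_cancel_right] at e1
    have hpi : (p : ℤ) ∣ i := by
      have h1 : η ^ i = 1 := mul_right_cancel (b := v ^ i) (by rw [one_mul, ← e1])
      haveI := Fact.mk h.hp
      have h2 := orderOf_dvd_iff_zpow_eq_one.2 h1
      rwa [orderOf_eq_prime hη.2.2 fun e => hvd (mul_inv_eq_iff_eq_mul.1
        (mul_inv_eq_one.1 e)).symm] at h2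
    obtain ⟨c, rfl⟩ := hpi
    refine hus ((mul_inv_eq_iff_eq_mul.1 ?_).symm)
    rw [h.comm_zpow C hs.1 hv, zpow_mul, zpow_natCast, (comm_mem_of_eP hs.1 hv).2.2, one_zpow,
      one_mul]

/-- For `p ≥ 5` there are no two independent fixed elements with comparable powers. -/
theorem Mixed.fixed_pair_false (h5 : 5 ≤ p) {r s u y : G} (hr : r ∈ eP a p ⊓ cI b) (hr1 : r ≠ 1)
    (hs : s ∈ eP a p ⊓ cI b) (hs1 : s ≠ 1) (hrs : r ∉ zpowers s)
    (hu : u ∈ fitP a p) (hub : b * u * b⁻¹ = u⁻¹) (hur : Commute u r)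
    (hy : y ∈ fitP a p) (hyb : b * y * b⁻¹ = y⁻¹) (hys : Commute y s) (hyr : ¬ Commute y r)
    (hpow : y ^ p = (u ^ p)⁻¹) : False := by
  classical
  haveI := Fact.mk h.hp
  have hbc : b ∈ cI a := mem_cI.2 h.four.comm.symm
  have hrX : r ∈ fitP a p ⊓ cI b := ⟨eP_le_fitP a p hr.1, hr.2⟩
  have hsX : s ∈ fitP a p ⊓ cI b := ⟨eP_le_fitP a p hs.1, hs.2⟩
  -- the inverted elements centralising both
  set S : Finset G := (Set.toFinite {c : G | c ∈ fitP a p ∧ b * c * b⁻¹ = c⁻¹ ∧ Commute c r ∧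
    Commute c s}).toFinset
  have hS1 : (1 : G) ∈ S := by simp [S]
  obtain ⟨z, hz, hzmax⟩ := S.exists_max_image orderOf ⟨1, hS1⟩
  simp only [S, Set.Finite.mem_toFinset, Set.mem_ofPred_eq] at hz hzmax
  obtain ⟨hzU, hzb, hzr, hzs⟩ := hz
  have hmem : ∀ c, c ∈ fitP a p → b * c * b⁻¹ = c⁻¹ → Commute c r → Commute c s →
      c ∈ zpowers z := fun c hc hcb hcr hcs => by
    rcases h.inverted_comparable C hrX hr1 hzU hzb hzr hc hcb hcr with e | e
    · exact e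
    · have he : zpowers z = zpowers c := eq_of_le_of_card_ge (zpowers_le.2 e) (by
        rw [Nat.card_zpowers, Nat.card_zpowers]
        exact hzmax c ⟨hc, hcb, hcr, hcs⟩)
      exact he.symm ▸ mem_zpowers c
  have hcommz : ∀ t, t ∈ fitP a p → b * t * b⁻¹ = t⁻¹ → (Commute t r ∨ Commute t s) →
      Commute z t := by
    intro t ht htb hc
    have hh : t ∈ zpowers z ∨ z ∈ zpowers t := hc.elim
      (fun hc => h.inverted_comparable C hrX hr1 hzU hzb hzr ht htb hc)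
      (fun hc => h.inverted_comparable C hsX hs1 hzU hzb hzs ht htb hc)
    rcases hh with e | e <;> obtain ⟨i, rfl⟩ := mem_zpowers_iff.1 e
    · exact (Commute.refl z).zpow_right i
    · exact (Commute.refl t).zpow_left i
  -- conjugation by an inverted element is trivial modulo `z`
  have hconjB : ∀ t ∈ fitP a p, ∀ x ∈ fitP a p, ∀ q ∈ eP a p, Commute x q →
      Commute (t * x * t⁻¹) q := by
    intro t ht x hx q hq hxq
    refine (mul_inv_eq_iff_eq_mul.1 ?_).symm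
    have hη := comm_mem_of_eP hq ht
    calc q * (t * x * t⁻¹) * q⁻¹
        = (q * t * q⁻¹ * t⁻¹) * t * (q * x * q⁻¹) * t⁻¹ * (q * t * q⁻¹ * t⁻¹)⁻¹ := by group
      _ = (q * t * q⁻¹ * t⁻¹) * (t * x * t⁻¹) * (q * t * q⁻¹ * t⁻¹)⁻¹ := by
        rw [hxq.symm.eq, mul_inv_cancel_right]; group
      _ = t * x * t⁻¹ := by
        rw [(hη.2.1 _ (mul_mem (mul_mem ht hx) (inv_mem ht))).eq, mul_inv_cancel_right]
  have hdecomp : ∀ x ∈ fitP a p, Commute x r → Commute x s →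
      ∃ c : ℤ, x * z ^ c ∈ cI b := by
    intro x hx hxr hxs
    obtain ⟨t, ht1, -, ht3, ht4⟩ := exists_sqrt_inverted h.four.hb hbc (fitP_le_coreC a p hx)
    have hb' : ∀ q ∈ eP a p ⊓ cI b, Commute x q → Commute t q := fun q hq hxq => by
      obtain ⟨i, rfl⟩ := mem_zpowers_iff.1 ht1
      have hbq : b * q * b⁻¹ = q := by rw [(mem_cI.1 hq.2).symm, mul_inv_cancel_right]
      have h2 := hxq.map (MulAut.conj b).toMonoidHom
      simp only [MulEquiv.coe_toMonoidHom, MulAut.conj_apply, hbq] at h2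
      exact (hxq.inv_left.mul_left h2).zpow_left i
    obtain ⟨c, hc⟩ := mem_zpowers_iff.1 (hmem t
      ((zpowers_le.2 (mul_mem (inv_mem hx) (conj_mem_fitP hbc hx))) ht1) ht3 (hb' r hr hxr)
      (hb' s hs hxs))
    exact ⟨c, hc ▸ ht4⟩
  have hact : ∀ t, t ∈ fitP a p → b * t * b⁻¹ = t⁻¹ → (Commute t r ∨ Commute t s) →
      ∀ x ∈ fitP a p, Commute x r → Commute x s → ∃ n : ℤ, t * x * t⁻¹ = x * z ^ n := by
    intro t ht htb hc
    have hzt := hcommz t ht htb hc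
    -- fixed elements first
    have hfix : ∀ x ∈ fitP a p, x ∈ cI b → Commute x r → Commute x s →
        ∃ n : ℤ, t * x * t⁻¹ = x * z ^ n := by
      intro x hx hxb hxr hxs
      obtain ⟨c, hcf⟩ := hdecomp (t * x * t⁻¹) (mul_mem (mul_mem ht hx) (inv_mem ht))
        (hconjB t ht x hx r hr.1 hxr) (hconjB t ht x hx s hs.1 hxs)
      have hbx : b * x * b⁻¹ = x := by rw [(mem_cI.1 hxb).symm, mul_inv_cancel_right]
      have e1 : t⁻¹ * x * t = t * x * t⁻¹ * z ^ (2 * c) := by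
        have e0 : b * (t * x * t⁻¹ * z ^ c) * b⁻¹ = t * x * t⁻¹ * z ^ c := by
          rw [(mem_cI.1 hcf).symm, mul_inv_cancel_right]
        calc t⁻¹ * x * t = (b * t * b⁻¹) * (b * x * b⁻¹) * (b * t * b⁻¹)⁻¹ := by
              rw [htb, hbx, inv_inv]
          _ = b * (t * x * t⁻¹ * z ^ c) * b⁻¹ * (b * z ^ c * b⁻¹)⁻¹ := by group
          _ = t * x * t⁻¹ * (z ^ c * z ^ c) := by rw [e0, ← conj_zpow, hzb, inv_zpow, inv_inv]; group
          _ = _ := by rw [← zpow_add]; congr 2; ring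
      have e2 : t ^ 2 * x * (t ^ 2)⁻¹ = x * z ^ (-(2 * c)) := by
        calc t ^ 2 * x * (t ^ 2)⁻¹
            = t * (t * x * t⁻¹ * z ^ (2 * c) * z ^ (-(2 * c))) * t⁻¹ := by
              rw [pow_two, mul_inv_rev, zpow_neg]; group
          _ = t * (t⁻¹ * x * t) * (z ^ (-(2 * c)) * t⁻¹) := by rw [e1]; group
          _ = _ := by rw [((hzt.inv_right).zpow_left _).eq]; group
      have e3 : ∀ n : ℕ, (t ^ 2) ^ n * x * ((t ^ 2) ^ n)⁻¹ = x * z ^ (-(2 * c) * n) := fun n => by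
        induction n with
        | zero => simp
        | succ n ih =>
          calc (t ^ 2) ^ (n + 1) * x * ((t ^ 2) ^ (n + 1))⁻¹
              = t ^ 2 * ((t ^ 2) ^ n * x * ((t ^ 2) ^ n)⁻¹) * (t ^ 2)⁻¹ := by rw [pow_succ']; group
            _ = (t ^ 2 * x * (t ^ 2)⁻¹) * (t ^ 2 * z ^ (-(2 * c) * n) * (t ^ 2)⁻¹) := by
              rw [ih]; group
            _ = _ := by
              rw [e2, ((hzt.zpow_left _).pow_right 2).symm.eq, mul_inv_cancel_right, mul_assoc,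
                ← zpow_add]
              congr 2; push_cast; ring
      obtain ⟨m, hm⟩ := odd_orderOf_mem_coreC (fitP_le_coreC a p ht)
      have e4 := e3 (m + 1)
      rw [← pow_mul, show 2 * (m + 1) = orderOf t + 1 by omega, pow_succ, pow_orderOf_eq_one,
        one_mul] at e4
      exact ⟨_, e4⟩
    intro x hx hxr hxs
    obtain ⟨c, hcf⟩ := hdecomp x hx hxr hxs
    obtain ⟨n, hn⟩ := hfix (x * z ^ c) (mul_mem hx (zpow_mem hzU c)) hcf
      (hxr.mul_left (hzr.zpow_left c)) (hxs.mul_left (hzs.zpow_left c))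
    refine ⟨n, ?_⟩
    calc t * x * t⁻¹ = t * (x * z ^ c) * t⁻¹ * (t * z ^ c * t⁻¹)⁻¹ := by group
      _ = x * (z ^ c * z ^ n * (z ^ c)⁻¹) := by
        rw [hn, (hzt.zpow_left c).symm.eq, mul_inv_cancel_right]; group
      _ = x * z ^ n := by
        rw [((Commute.refl z).zpow_zpow c n).eq, mul_inv_cancel_right]
  -- the commutator
  set e := u * y * u⁻¹ * y⁻¹ with hedef
  have heU : e ∈ fitP a p := mul_mem (mul_mem (mul_mem hu hy) (inv_mem hu)) (inv_mem hy)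
  have her : Commute e r := by
    refine (mul_inv_eq_iff_eq_mul.1 ?_).symm
    have hη := comm_mem_of_eP hr.1 hy
    calc r * e * r⁻¹ = (r * u * r⁻¹) * (r * y * r⁻¹) * (r * u * r⁻¹)⁻¹ * (r * y * r⁻¹)⁻¹ := by
          rw [hedef]; group
      _ = u * ((r * y * r⁻¹ * y⁻¹) * (y * u⁻¹ * y⁻¹)) * (r * y * r⁻¹ * y⁻¹)⁻¹ := by
        rw [show r * u * r⁻¹ = u by rw [hur.symm.eq, mul_inv_cancel_right]]; group
      _ = e := by
        rw [(hη.2.1 _ (mul_mem (mul_mem hy (inv_mem hu)) (inv_mem hy))).eq, hedef]; group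
  have hes : Commute e s := by
    refine (mul_inv_eq_iff_eq_mul.1 ?_).symm
    have hη := comm_mem_of_eP hs.1 hu
    calc s * e * s⁻¹ = (s * u * s⁻¹) * (s * y * s⁻¹) * (s * u * s⁻¹)⁻¹ * (s * y * s⁻¹)⁻¹ := by
          rw [hedef]; group
      _ = (s * u * s⁻¹ * u⁻¹) * (u * y * u⁻¹) * (s * u * s⁻¹ * u⁻¹)⁻¹ * y⁻¹ := by
        rw [show s * y * s⁻¹ = y by rw [hys.symm.eq, mul_inv_cancel_right]]; group
      _ = e := by
        rw [(hη.2.1 _ (mul_mem (mul_mem hu hy) (inv_mem hu))).eq, mul_inv_cancel_right, hedef]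
  obtain ⟨γ, hγ⟩ := hact u hu hub (Or.inl hur) e heU her hes
  obtain ⟨δ, hδ⟩ := hact y hy hyb (Or.inr hys) e heU her hes
  have hzu := hcommz u hu hub (Or.inl hur)
  have hzy := hcommz y hy hyb (Or.inr hys)
  have hus' : Commute (u ^ p) s := by
    refine (mul_inv_eq_iff_eq_mul.1 ?_).symm
    have := h.comm_zpow C hs.1 hu (p : ℤ)
    rwa [zpow_natCast, zpow_natCast, (comm_mem_of_eP hs.1 hu).2.2, one_mul] at this
  have hupz : u ^ p ∈ zpowers z := hmem _ (pow_mem hu p) (by rw [← conj_pow, hub, inv_pow])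
    (hur.pow_left p) hus'
  have hone : (u * y) ^ p = 1 := mul_pow_prime_eq_one h.hp h5 (e := e) (z := z)
    (by rw [hedef]; group) hγ hδ hzu hzy
    (((hzu.mul_right hzy).mul_right hzu.inv_right).mul_right hzy.inv_right) hupz hpow
  -- the inverted conjugate of the product
  obtain ⟨m, hm⟩ := odd_orderOf_mem_coreC (fitP_le_coreC a p hu)
  set k := u ^ (m + 1) with hkdef
  have hkk : k * k = u := by
    rw [hkdef, ← pow_add, show m + 1 + (m + 1) = orderOf u + 1 by omega, pow_succ,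
      pow_orderOf_eq_one, one_mul]
  have hkU : k ∈ fitP a p := pow_mem hu _
  have hwU : k * y * k ∈ fitP a p := mul_mem (mul_mem hkU hy) hkU
  have hwb : b * (k * y * k) * b⁻¹ = (k * y * k)⁻¹ := by
    rw [show b * (k * y * k) * b⁻¹ = (b * k * b⁻¹) * (b * y * b⁻¹) * (b * k * b⁻¹) by group,
      hkdef, ← conj_pow, hub, hyb, inv_pow]
    group
  have hwp : (k * y * k) ^ p = 1 := by
    rw [show k * y * k = k⁻¹ * (u * y) * k⁻¹⁻¹ by rw [← hkk]; group, conj_pow, hone, mul_one,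
      mul_inv_cancel]
  have hkr : r * k * r⁻¹ = k := by rw [(hur.pow_left _).symm.eq, mul_inv_cancel_right]
  have hrw : r * (k * y * k) * r⁻¹ = (r * y * r⁻¹ * y⁻¹) * (k * y * k) := by
    calc r * (k * y * k) * r⁻¹ = (r * k * r⁻¹) * (r * y * r⁻¹ * y⁻¹) * y * (r * k * r⁻¹) := by group
      _ = _ := by rw [hkr, ← ((comm_mem_of_eP hr.1 hy).2.1 k hkU).eq]; group
  -- it commutes with a nontrivial fixed element
  obtain ⟨q, hq, hq1, hqc⟩ : ∃ q ∈ fitP a p ⊓ cI b, q ≠ 1 ∧ Commute q (k * y * k) := by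
    by_cases hsc : Commute s (k * y * k)
    · exact ⟨s, hsX, hs1, hsc⟩
    obtain ⟨l, hl⟩ := h.exists_zP_pow C (comm_mem_of_eP hs.1 hwU)
      (fun e' => hsc (mul_inv_eq_iff_eq_mul.1 (mul_inv_eq_one.1 e')))
      (comm_mem_of_eP hr.1 hwU)
    refine ⟨(s ^ l)⁻¹ * r, mul_mem (inv_mem (zpow_mem hsX l)) hrX,
      fun e' => hrs (mem_zpowers_iff.2 ⟨l, inv_mul_eq_one.1 e'⟩), mul_inv_eq_iff_eq_mul.1 ?_⟩
    have e1 := comm_zpow_left' (u := s) (v := k * y * k) rfl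
      ((comm_mem_of_eP hs.1 hwU).2.1 s hsX.1) l
    rw [hl] at e1
    calc (s ^ l)⁻¹ * r * (k * y * k) * ((s ^ l)⁻¹ * r)⁻¹
        = (s ^ l)⁻¹ * ((r * (k * y * k) * r⁻¹ * (k * y * k)⁻¹) * (k * y * k)) * s ^ l := by group
      _ = (s ^ l)⁻¹ * (s ^ l * (k * y * k) * (s ^ l)⁻¹) * s ^ l := by rw [e1]
      _ = k * y * k := by group
  have hwz : k * y * k ∈ zP a p :=
    h.mem_zP_of_inverted0 C (fun x hx => (hx.2.1 q hq.1).symm)
      (C.min.fixed_mem_core h.four.hb (fitP_le_coreC a p hq.1) hq.2) hq1 hwU hwb hwp hqc.symm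
  rw [((hwz.2.1 r hrX.1).symm).eq, mul_inv_cancel_right] at hrw
  exact hyr (mul_inv_eq_iff_eq_mul.1 (mul_inv_eq_one.1
    (mul_right_cancel (b := k * y * k) (by rw [one_mul]; exact hrw.symm)))).symm

/-- The fixed part of `eP a p` is cyclic, or `p = 3` and it has at most nine elements. -/
theorem Mixed.fixed_rank :
    IsCyclic (eP a p ⊓ cI b : Subgroup G) ∨
      p = 3 ∧ Nat.card (eP a p ⊓ cI b : Subgroup G) ≤ 9 := by
  classical
  haveI := Fact.mk h.hp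
  by_cases hall : ∀ r ∈ eP a p ⊓ cI b, r ≠ 1 → ∀ s ∈ eP a p ⊓ cI b, s ∈ zpowers r
  · left
    by_cases hbot : eP a p ⊓ cI b = ⊥
    · rw [hbot]; infer_instance
    obtain ⟨r, hr, hr1⟩ := (bot_or_exists_ne_one (eP a p ⊓ cI b)).resolve_left hbot
    rw [show eP a p ⊓ cI b = zpowers r from le_antisymm (hall r hr hr1) (zpowers_le.2 hr)]
    exact Subgroup.isCyclic_zpowers r
  push Not at hall
  obtain ⟨r, hr, hr1, s, hs, hsr⟩ := hall
  right
  have hs1 : s ≠ 1 := fun e => hsr (e ▸ one_mem _)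
  have hor : orderOf r = p := orderOf_eq_prime (pow_eq_one_of_eP hr.1) hr1
  have hos : orderOf s = p := orderOf_eq_prime (pow_eq_one_of_eP hs.1) hs1
  have hrs : r ∉ zpowers s := fun hm => hsr (by
    rw [zpowers_eq_of_prime h.hp (hos ▸ pow_orderOf_eq_one s) hm hr1]
    exact mem_zpowers s)
  have hp3 : p = 3 := by
    by_contra hne
    have h5 : 5 ≤ p := by
      have h2 := h.hp.two_le
      have h2' := h.ne_two
      by_contra hlt
      have h4 : p = 4 := by omega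
      exact absurd (h4 ▸ h.hp : Nat.Prime 4) (by norm_num)
    obtain ⟨u, hu, hub, hur, hus⟩ := h.exists_inverted C hr hr1 hs hsr
    obtain ⟨y, hy, hyb, hys, hyr⟩ := h.exists_inverted C hs hs1 hr hrs
    have hpc : ∀ w ∈ fitP a p, ∀ t ∈ eP a p, Commute (w ^ p) t := fun w hw t ht => by
      refine (mul_inv_eq_iff_eq_mul.1 ?_).symm
      have := h.comm_zpow C ht hw (p : ℤ)
      rwa [zpow_natCast, zpow_natCast, (comm_mem_of_eP ht hw).2.2, one_mul] at this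
    rcases h.inverted_comparable C (mem_inf.2 ⟨eP_le_fitP a p hr.1, hr.2⟩) hr1 (pow_mem hu p)
      (by rw [← conj_pow, hub, inv_pow]) (hpc u hu r hr.1) (pow_mem hy p)
      (by rw [← conj_pow, hyb, inv_pow]) (hpc y hy r hr.1) with hc | hc
    · obtain ⟨k, hk⟩ := mem_zpowers_iff.1 hc
      refine h.fixed_pair_false C h5 hr hr1 hs hs1 hrs (u := u ^ (-k)) (zpow_mem hu _)
        (by rw [← conj_zpow, hub, inv_zpow]) (hur.zpow_left _) hy hyb hys hyr ?_
      rw [← hk, zpow_neg, inv_pow, inv_inv, ← zpow_natCast, ← zpow_natCast, ← zpow_mul, ← zpow_mul,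
        mul_comm]
    · obtain ⟨k, hk⟩ := mem_zpowers_iff.1 hc
      refine h.fixed_pair_false C h5 hs hs1 hr hr1 hsr (u := y ^ (-k)) (zpow_mem hy _)
        (by rw [← conj_zpow, hyb, inv_zpow]) (hys.zpow_left _) hu hub hur hus ?_
      rw [← hk, zpow_neg, inv_pow, inv_inv, ← zpow_natCast, ← zpow_natCast, ← zpow_mul, ← zpow_mul,
        mul_comm]
  refine ⟨hp3, ?_⟩
  have hle : eP a p ⊓ cI b ≤ zpowers r ⊔ zpowers s := fun t ht => h.fixed_span C hr hr1 hs hsr ht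
  have hsc : Commute r s := h.fixed_commute C hr ⟨eP_le_fitP a p hs.1, hs.2⟩
  have h1 := CfsgLib.Comp.card_sup_dvd_mul (H := zpowers r) (K := zpowers s) fun v hv => by
    refine mem_normalizer_iff_of_finite fun w hw => ?_
    obtain ⟨i, rfl⟩ := mem_zpowers_iff.1 hv
    obtain ⟨j, rfl⟩ := mem_zpowers_iff.1 hw
    rw [((hsc.zpow_zpow j i).symm).eq, mul_inv_cancel_right]
    exact zpow_mem (mem_zpowers r) j
  rw [Nat.card_zpowers, Nat.card_zpowers, hor, hos] at h1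
  refine (card_le_of_le hle).trans ((Nat.le_of_dvd (by positivity [h.hp.pos]) h1).trans ?_)
  rw [hp3]

end CfsgLib.GW
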