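import Cfsg.Agent.Lib.GW.Component.ScalarLine
import Cfsg.Agent.Lib.GW.Component.ScalarRank2

/-!
The scalar leg is complete.
-/

set_option autoImplicit false

namespace CfsgLib.GW

universe u

/-- `ScalarStmt` from maximality and the absence of layers. -/
theorem scalar_of_max (hm : MaximalStmt.{u}) (hC : NoLayerStmt.{u}) : ScalarStmt.{u} :=
  scalar_of_rank (fun _ _ _ C _ _ _ _ h _ => h.fixed_rank C) hm hC

end CfsgLib.GW
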