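import Cfsg.Agent.Lib.GW.Component.OrbitFour
import Cfsg.Agent.Lib.Coprime.InvariantMaximalOrbit

/-!
Orders in the shape case of the component leg: the stabiliser of the fixed part of `b`, the number
of its conjugates, and subgroups centralising two involutions.
-/

set_option autoImplicit false
set_option linter.unusedSectionVars false
set_option linter.style.haveILetI false

namespace CfsgLib.GW.Component

open Subgroup CfsgLib.Invol

universe u

variable {G : Type u} [Group G] [Finite G]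

/-- A `2`-subgroup centralising two of its involutions has order at most four. -/
theorem Min.card_le_four (M : Min G) {R : Subgroup G} (hR : IsPGroup 2 R) {a t : G}
    (ha : orderOf a = 2) (ht : orderOf t = 2) (hne : a ≠ t) (haR : a ∈ R) (htR : t ∈ R)
    (hca : ∀ w ∈ R, Commute w a) (hct : ∀ w ∈ R, Commute w t) : Nat.card R ≤ 4 := by
  haveI : Fact (Nat.Prime 2) := ⟨Nat.prime_two⟩
  obtain ⟨T, hT⟩ := hR.exists_le_sylow
  obtain ⟨D⟩ := M.dih T
  -- one of the two involutions is a reflection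
  obtain ⟨w, hwR, hwc, i, hwi⟩ : ∃ w : G, ∃ hw : w ∈ R, (∀ u ∈ R, Commute u w) ∧
      ∃ i : ℤ, (⟨w, hT hw⟩ : (T : Subgroup G)) = D.r ^ i * D.s := by
    rcases D.invol_cases (u := ⟨a, hT haR⟩) (by rw [orderOf_mk, ha]) with e | ⟨i, e⟩
    · rcases D.invol_cases (u := ⟨t, hT htR⟩) (by rw [orderOf_mk, ht]) with e' | ⟨i, e'⟩
      · exact absurd (congrArg Subtype.val (e.trans e'.symm)) hne
      · exact ⟨t, htR, hct, i, e'⟩
    · exact ⟨a, haR, hca, i, e⟩
  have hrot : ∀ (u : G) (hu : u ∈ R) (l : ℤ), (⟨u, hT hu⟩ : (T : Subgroup G)) = D.r ^ l →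
      (⟨u, hT hu⟩ : (T : Subgroup G)) ∈ zpowers D.z := by
    intro u hu l e
    have h1 : (⟨u, hT hu⟩ : (T : Subgroup G)) * ⟨w, hT hwR⟩ = ⟨w, hT hwR⟩ * ⟨u, hT hu⟩ :=
      Subtype.ext (hwc u hu).eq
    rw [e, hwi, D.zy_mul_z, ← mul_assoc, ← zpow_add, mul_left_inj, D.zpow_eq_iff] at h1
    obtain ⟨m, hm⟩ := h1
    rw [e, DihData.z, mem_zpowers_iff]
    exact ⟨-m, by rw [← zpow_mul]; congr 1; linarith⟩
  have hmem : ∀ u ∈ R.subgroupOf (T : Subgroup G),
      u ∈ zpowers D.z ⊔ zpowers (⟨w, hT hwR⟩ : (T : Subgroup G)) := by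
    rintro ⟨u, huT⟩ hu
    have huR : u ∈ R := mem_subgroupOf.1 hu
    rcases D.cases ⟨u, huT⟩ with ⟨l, e⟩ | ⟨l, e⟩
    · exact mem_sup_left (hrot u huR l e)
    · have h2 := hrot (u * w) (mul_mem huR hwR) (l - i) (by
        have : (⟨u * w, hT (mul_mem huR hwR)⟩ : (T : Subgroup G)) = ⟨u, huT⟩ * ⟨w, hT hwR⟩ := rfl
        rw [this, e, hwi, D.zy_mul_zy])
      have e3 : (⟨u, huT⟩ : (T : Subgroup G)) =
          ⟨u * w, hT (mul_mem huR hwR)⟩ * (⟨w, hT hwR⟩ : (T : Subgroup G))⁻¹ :=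
        Subtype.ext (by simp)
      rw [e3]
      exact mul_mem (mem_sup_left h2) (inv_mem (mem_sup_right (mem_zpowers _)))
  have h4 := CfsgLib.Comp.card_sup_dvd_mul (H := zpowers D.z)
    (K := zpowers (⟨w, hT hwR⟩ : (T : Subgroup G))) (zpowers_le.2
      (mem_normalizer_iff_of_finite fun x hx => by
        obtain ⟨m, rfl⟩ := mem_zpowers_iff.1 hx
        rw [← ((D.commute_z ⟨w, hT hwR⟩).zpow_left m).eq, mul_inv_cancel_right]
        exact zpow_mem (mem_zpowers _) m))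
  have ho : orderOf (⟨w, hT hwR⟩ : (T : Subgroup G)) = 2 := by rw [hwi, D.orderOf_zy]
  rw [Nat.card_zpowers, Nat.card_zpowers, D.orderOf_z, ho] at h4
  have h5 := (card_le_of_le hmem).trans (Nat.le_of_dvd (by norm_num) h4)
  rwa [Nat.card_congr (subgroupOfEquivOfLe hT).toEquiv] at h5

/-- Orders in `C(a)`. -/
theorem Min.exists_card_cI (M : Min G) {a : G} (ha : orderOf a = 2) :
    ∃ n, 2 ≤ n ∧ Nat.card (cI a) = 2 ^ n * Nat.card (coreC a) ∧
      (∀ T : Sylow 2 G, Nat.card (T : Subgroup G) = 2 ^ n) ∧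
      ∀ H : Subgroup G, H ≤ cI a → ∃ m, m ≤ n ∧
        Nat.card H = 2 ^ m * Nat.card (H ⊓ coreC a : Subgroup G) := by
  haveI : Fact (Nat.Prime 2) := ⟨Nat.prime_two⟩
  obtain ⟨T, haT, hTc⟩ := M.exists_sylow ha
  obtain ⟨D⟩ := M.dih T
  obtain ⟨e⟩ := dihEquiv D
  obtain ⟨N, hN, hNo, k, hk⟩ :=
    Cfsg.Agent.S0514.result T (2 * D.h) (by have := D.h_pos; omega) ⟨e⟩ a ha
  set O0 := (coreC a).subgroupOf (cI a) with hO0
  haveI hO0n : O0.Normal := normal_subgroupOf_of_le_normalizer (cI_le_normalizer_coreC a)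
  have hNO : N ≤ O0 := fun y hy => mem_subgroupOf.2 (M.mem_coreC ha y.2
    (by rw [Subgroup.orderOf_coe]; exact hNo.of_dvd_nat (Subgroup.orderOf_dvd_natCard N hy)))
  obtain ⟨n, -, hn⟩ := (Nat.dvd_prime_pow Nat.prime_two).1 (hk ▸ index_dvd_of_le hNO : O0.index ∣ 2 ^ k)
  have hOcard : Nat.card O0 = Nat.card (coreC a) :=
    Nat.card_congr (subgroupOfEquivOfLe (coreC_le_cI a)).toEquiv
  have hcard : Nat.card (cI a) = 2 ^ n * Nat.card (coreC a) := by
    rw [← O0.card_mul_index, hn, hOcard, mul_comm]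
  obtain ⟨hT1, hT2⟩ : 2 ^ n ∣ Nat.card (T : Subgroup G) ∧ Nat.card (T : Subgroup G) ∣ 2 ^ n := by
    refine ⟨T.pow_dvd_card_of_pow_dvd_card
      ((dvd_mul_right _ _).trans (hcard ▸ card_subgroup_dvd_card (cI a))), ?_⟩
    obtain ⟨l, hl⟩ := IsPGroup.iff_card.1 T.2
    have h := card_dvd_of_le hTc
    rw [hcard, hl] at h
    rw [hl]
    exact (Nat.Coprime.pow_left _ (Nat.coprime_two_left.2 (odd_coreC a))).dvd_of_dvd_mul_right h
  have hTn : Nat.card (T : Subgroup G) = 2 ^ n := Nat.dvd_antisymm hT2 hT1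
  have hn2 : 2 ≤ n := by
    by_contra hlt
    have h := D.card_eq
    rw [hTn] at h
    have := D.h_pos
    interval_cases n <;> omega
  refine ⟨n, hn2, hcard, fun T' => ?_, fun H hH => ?_⟩
  · rw [← hTn, Sylow.card_eq_multiplicity, Sylow.card_eq_multiplicity]
  · have hd : O0.relIndex (H.subgroupOf (cI a)) ∣ 2 ^ n := hn ▸ relIndex_dvd_index_of_normal _ _
    obtain ⟨m, hmn, hm⟩ := (Nat.dvd_prime_pow Nat.prime_two).1 hd
    refine ⟨m, hmn, ?_⟩
    rw [hO0, relIndex_subgroupOf hH, ← inf_relIndex_right] at hm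
    rw [← hm, inf_comm H, ← relIndex_bot_left, ← relIndex_bot_left (coreC a ⊓ H), mul_comm,
      relIndex_mul_relIndex ⊥ _ _ bot_le inf_le_right]

namespace ShapeData

variable {a b z : G} {E C0 : Subgroup G} {p c : ℕ} (d : ShapeData a b z (coreC a) E C0 p c)
include d

theorem z_ne_one : z ≠ 1 := fun e => d.hp.ne_one (by rw [← d.hzp, e, orderOf_one])

theorem odd_C0 : Odd (Nat.card C0) := d.hOodd.of_dvd_nat (card_dvd_of_le d.C0_le)

/-- `E ∩ C₀` has order `p`. -/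
theorem card_E_inf_C0 : Nat.card (E ⊓ C0 : Subgroup G) = p := by
  have hnc : ∃ u v : E, u * v ≠ v * u := by
    by_contra hcon
    push Not at hcon
    exact d.hEab fun x hx y hy => congrArg Subtype.val (hcon ⟨x, hx⟩ ⟨y, hy⟩)
  have hc := heis_card_center d.hp d.hE hnc
  have hle : E ⊓ C0 ≤ (center E).map E.subtype := fun x hx =>
    ⟨⟨x, hx.1⟩, mem_center_iff.2 fun y => Subtype.ext (d.C0_comm hx.2 y.2), rfl⟩
  have h1 := card_dvd_of_le hle
  rw [card_map_of_injective (subtype_injective _), hc] at h1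
  refine ((Nat.dvd_prime d.hp).1 h1).resolve_left fun e => d.z_ne_one ?_
  exact mem_bot.1 (card_eq_one.1 e ▸ (⟨d.hzE, d.hzC0⟩ : z ∈ E ⊓ C0))

/-- The order of `O(C(a))`. -/
theorem card_core : Nat.card (coreC a) = c * (p ^ 2 * Nat.card C0) := by
  have h1 := CfsgLib.Coprime.InvMax.card_sup_mul_inf_of_le_normalizer (K := E) (A := C0)
    (d.C0_le.trans d.hOE)
  rw [d.card_E_inf_C0, d.hE] at h1
  have h2 : Nat.card (E ⊔ C0 : Subgroup G) = p ^ 2 * Nat.card C0 :=
    Nat.eq_of_mul_eq_mul_right d.hp.pos (h1.trans (by ring))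
  have h3 := relIndex_mul_relIndex ⊥ (E ⊔ C0) (coreC a) bot_le d.F_le
  rw [relIndex_bot_left, relIndex_bot_left, d.hc, h2] at h3
  rw [← h3]; ring

/-- The fixed part of `b` and `C₀`. -/
theorem exists_gen : ∃ x : G, orderOf x = p ∧ coreC a ⊓ cI b = zpowers x ∧ x ∈ E ∧
    ¬ ∀ o ∈ coreC a, o * x = x * o := by
  have hW : Nat.card (coreC a ⊓ cI b : Subgroup G) = p := d.hfix b d.hb d.hbc d.hba
  haveI := Fact.mk d.hp
  haveI : IsCyclic (coreC a ⊓ cI b : Subgroup G) := isCyclic_of_prime_card hW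
  obtain ⟨⟨x, hx⟩, hgen⟩ := IsCyclic.exists_generator (α := (coreC a ⊓ cI b : Subgroup G))
  have hxo : orderOf x = p := by
    rw [← Subgroup.orderOf_mk x hx, orderOf_eq_card_of_forall_mem_zpowers hgen, hW]
  refine ⟨x, hxo, le_antisymm (fun y hy => ?_) (zpowers_le.2 hx), d.hW hx, fun hcen => ?_⟩
  · obtain ⟨i, hi⟩ := mem_zpowers_iff.1 (hgen ⟨y, hy⟩)
    exact mem_zpowers_iff.2 ⟨i, congrArg Subtype.val hi⟩
  · have hxC : x ∈ C0 := by
      rw [d.hC0]; exact ⟨hx.1, mem_centralizer_iff.2 fun e he => hcen e (d.hEO he)⟩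
    have h1 := d.hbC0 x hxC
    rw [(mem_cI.1 hx.2).symm, mul_inv_cancel_right] at h1
    have h2 : orderOf x ∣ 2 := orderOf_dvd_of_pow_eq_one (by
      rw [pow_two]; nth_rw 1 [h1]; exact inv_mul_cancel x)
    rw [hxo] at h2
    exact d.hp2 (Nat.prime_dvd_prime_iff_eq d.hp Nat.prime_two |>.1 h2)

/-- The elements of `O(C(a))` centralising the fixed part of `b`. -/
theorem mem_of_commute {x y : G} (hW : coreC a ⊓ cI b = zpowers x) (hxo : orderOf x = p) (hxE : x ∈ E)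
    (hnc : ¬ ∀ o ∈ coreC a, o * x = x * o) (hy : y ∈ coreC a) (hyx : Commute y x) :
    ∃ w ∈ coreC a ⊓ cI b, ∃ v ∈ C0, w * v = y := by
  haveI := Fact.mk d.hp
  set W := coreC a ⊓ cI b with hWdef
  have hWC : ∀ w ∈ W, ∀ v ∈ C0, Commute w v := fun w hw v hv => d.C0_central hv hw.1
  have hnC : C0 ≤ normalizer (W : Set G) := fun v hv => mem_normalizer_iff_of_finite fun w hw => by
    rwa [← (hWC w hw v hv).eq, mul_inv_cancel_right]
  have key : ∀ u, u ∈ W ⊔ C0 → ∃ w ∈ W, ∃ v ∈ C0, w * v = u := fun u hu => by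
    have := (coe_mul_of_right_le_normalizer_left W C0 hnC) ▸ (SetLike.mem_coe.2 hu)
    exact Set.mem_mul.1 this
  refine key y ?_
  -- the centralizer of `x` in `E`
  have hxz : x ∉ zpowers z := fun hx => hnc fun o ho => by
    obtain ⟨i, rfl⟩ := mem_zpowers_iff.1 hx
    exact (Commute.zpow_right (d.hzc o ho) i).eq
  have hEx : E ⊓ cI x ≤ W ⊔ C0 := by
    obtain ⟨k, hk3, hk⟩ := (Nat.dvd_prime_pow d.hp).1
      (d.hE ▸ card_dvd_of_le (inf_le_left : E ⊓ cI x ≤ E))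
    have hne3 : k ≠ 3 := by
      rintro rfl
      have he : E ⊓ cI x = E := eq_of_le_of_card_ge inf_le_left (by rw [hk, d.hE])
      refine hnc fun o ho => ?_
      -- then `x` is central in `E`, so lies in `C₀`
      have hxC : x ∈ C0 := by
        rw [d.hC0]
        exact ⟨d.hEO hxE, mem_centralizer_iff.2 fun e hee => mem_cI.1 (he.ge hee).2⟩
      exact d.C0_central hxC ho
    have hle : zpowers z ⊔ zpowers x ≤ E ⊓ cI x := sup_le
      (zpowers_le.2 ⟨d.hzE, mem_cI.2 (d.hzc x (d.hEO hxE)).symm⟩)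
      (zpowers_le.2 ⟨hxE, mem_cI.2 rfl⟩)
    obtain ⟨l, hl3, hl⟩ := (Nat.dvd_prime_pow d.hp).1
      (d.hE ▸ card_dvd_of_le (hle.trans inf_le_left))
    have hl2 : 2 ≤ l := by
      by_contra hlt
      have h1 : zpowers z = zpowers z ⊔ zpowers x := eq_of_le_of_card_ge le_sup_left (by
        rw [hl, Nat.card_zpowers, d.hzp]
        calc p ^ l ≤ p ^ 1 := Nat.pow_le_pow_right d.hp.pos (by omega)
          _ = p := pow_one p)
      exact hxz (h1.symm ▸ mem_sup_right (mem_zpowers x))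
    have heq : zpowers z ⊔ zpowers x = E ⊓ cI x := eq_of_le_of_card_ge hle (by
      rw [hk, hl]; exact Nat.pow_le_pow_right d.hp.pos (by omega))
    rw [← heq]
    exact sup_le (zpowers_le.2 (mem_sup_right d.hzC0))
      ((le_of_eq hW.symm).trans le_sup_left)
  -- split `y`
  set a' := orderOf y with ha'
  obtain ⟨α, m, hm, hαm⟩ : ∃ α m, ¬ p ∣ m ∧ a' = p ^ α * m :=
    Nat.exists_eq_pow_mul_and_not_dvd (orderOf_pos y).ne' p d.hp.ne_one
  have hcop : (p ^ α).Coprime m := (d.hp.coprime_iff_not_dvd.2 hm).pow_left α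
  have hmpos : m ≠ 0 := fun e => (orderOf_pos y).ne' (by rw [← ha', hαm, e, mul_zero])
  have hp1 : y ^ m ∈ W ⊔ C0 := by
    have hP : IsPGroup p (zpowers (y ^ m)) := IsPGroup.of_card (n := α) (by
      rw [Nat.card_zpowers, orderOf_pow_of_dvd hmpos ⟨p ^ α, by rw [← ha', hαm, mul_comm]⟩, ← ha',
        hαm, Nat.mul_div_cancel _ (Nat.pos_of_ne_zero hmpos)])
    obtain ⟨e, he, t, ht, het⟩ := d.mem_F
      (d.mem_F_of_pgroup hP (zpowers_le.2 (pow_mem hy m)) (mem_zpowers _))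
    rw [← het]
    refine mul_mem (hEx ⟨he, mem_cI.2 ?_⟩) (mem_sup_right ht)
    have htx : Commute t x := (d.C0_comm ht hxE).symm
    have h1 := (hyx.pow_left m).mul_left htx.inv_left
    rwa [← het, mul_inv_cancel_right] at h1
  have hp2 : y ^ p ^ α ∈ W ⊔ C0 := by
    refine mem_sup_right (by_contra fun hC => ?_)
    have hord : (orderOf (y ^ p ^ α)).Coprime p := by
      rw [orderOf_pow_of_dvd (pow_ne_zero α d.hp.ne_zero) ⟨m, by rw [← ha', hαm]⟩, ← ha', hαm,
        Nat.mul_div_cancel_left _ (pow_pos d.hp.pos α)]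
      exact (d.hp.coprime_iff_not_dvd.2 hm).symm
    exact hxz (d.fixed_le (pow_mem hy _) hord hC ⟨hxE, mem_cI.2 (hyx.pow_left _).eq.symm⟩)
  obtain ⟨u, v, huv⟩ := Nat.isCoprime_iff_coprime.2 hcop
  have : y = (y ^ p ^ α) ^ u * (y ^ m) ^ v := by
    rw [← zpow_natCast y (p ^ α), ← zpow_natCast y m, ← zpow_mul, ← zpow_mul, ← zpow_add,
      mul_comm _ u, mul_comm _ v, huv, zpow_one]
  rw [this]
  exact mul_mem (zpow_mem hp2 u) (zpow_mem hp1 v)

/-- The stabiliser of the fixed part of `b` in `O(C(a))`. -/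
theorem stabilizer : (cI a ⊓ normalizer ((coreC a ⊓ cI b : Subgroup G) : Set G)) ⊓ coreC a =
    (coreC a ⊓ cI b) ⊔ C0 := by
  obtain ⟨x, hxo, hW, hxE, hnc⟩ := d.exists_gen
  refine le_antisymm (fun y hy => ?_) (sup_le (fun w hw =>
    ⟨⟨coreC_le_cI a hw.1, le_normalizer hw⟩, hw.1⟩) fun v hv =>
      ⟨⟨coreC_le_cI a (d.C0_le hv), mem_normalizer_iff_of_finite fun w hw => by
        rwa [← d.C0_central hv hw.1, mul_inv_cancel_right]⟩, d.C0_le hv⟩)
  obtain ⟨⟨-, hyN⟩, hyO⟩ := hy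
  have hbO : ∀ o ∈ coreC a, b * o * b⁻¹ ∈ coreC a := fun o ho =>
    (mem_normalizer_iff.1 d.hbO o).1 ho
  have hbx : b * x * b⁻¹ = x := by
    have h1 : x ∈ coreC a ⊓ cI b := hW ▸ mem_zpowers x
    rw [(mem_cI.1 h1.2).symm, mul_inv_cancel_right]
  have hbinv : b⁻¹ * x * b⁻¹⁻¹ = x := by
    calc b⁻¹ * x * b⁻¹⁻¹ = b⁻¹ * (b * x * b⁻¹) * b := by rw [hbx]; group
      _ = x := by group
  obtain ⟨i, hi⟩ : y * x * y⁻¹ ∈ zpowers x := by
    have h1 : x ∈ coreC a ⊓ cI b := hW ▸ mem_zpowers x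
    exact hW ▸ (mem_normalizer_iff.1 hyN x).1 h1
  set u := y⁻¹ * (b * y * b⁻¹) with hu
  have hux : Commute u x := by
    refine mul_inv_eq_iff_eq_mul.1 ?_
    calc u * x * u⁻¹ = y⁻¹ * (b * (y * (b⁻¹ * x * b⁻¹⁻¹) * y⁻¹) * b⁻¹) * y := by rw [hu]; group
      _ = y⁻¹ * (b * x ^ i * b⁻¹) * y := by rw [hbinv]; exact congrArg (fun t => y⁻¹ * (b * t * b⁻¹) * y) hi.symm
      _ = y⁻¹ * (y * x * y⁻¹) * y := by
        rw [← conj_zpow, hbx]; exact congrArg (fun t => y⁻¹ * t * y) hi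
      _ = x := by group
  have huO : u ∈ coreC a := mul_mem (inv_mem hyO) (hbO y hyO)
  have huinv : b * u * b⁻¹ = u⁻¹ := by
    have hbb : b * b = 1 := invol_mul_self d.hb
    calc b * u * b⁻¹ = (b * y * b⁻¹)⁻¹ * ((b * b) * y * (b * b)⁻¹) := by rw [hu]; group
      _ = u⁻¹ := by rw [hbb, hu]; group
  obtain ⟨r, hr⟩ := odd_orderOf_mem_coreC huO
  set s := u ^ (r + 1) with hs
  have hss : s * s = u := by
    rw [hs, ← pow_add, show r + 1 + (r + 1) = (2 * r + 1) + 1 by omega, ← hr, pow_succ,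
      pow_orderOf_eq_one, one_mul]
  have hys : y * s ∈ coreC a ⊓ cI b := by
    refine ⟨mul_mem hyO (pow_mem huO _), mem_cI.2 ?_⟩
    have h2 : b * (y * s) * b⁻¹ = y * s := by
      calc b * (y * s) * b⁻¹ = (b * y * b⁻¹) * (b * u ^ (r + 1) * b⁻¹) := by rw [hs]; group
        _ = y * u * s⁻¹ := by rw [← conj_pow, huinv, inv_pow, ← hs, hu]; group
        _ = y * s := by nth_rw 1 [← hss]; group
    exact (mul_inv_eq_iff_eq_mul.1 h2).symm
  have hwx : Commute (y * s) x := by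
    obtain ⟨l, hl⟩ : y * s ∈ zpowers x := hW ▸ hys
    have hl' : x ^ l = y * s := hl
    rw [← hl']; exact (Commute.refl x).zpow_left l
  have hyx : Commute y x := by
    have := hwx.mul_left ((hux.pow_left (r + 1)).inv_left)
    rwa [← hs, mul_inv_cancel_right] at this
  obtain ⟨w, hw, v, hv, e⟩ := d.mem_of_commute hW hxo hxE hnc hyO hyx
  exact e ▸ mul_mem (mem_sup_left hw) (mem_sup_right hv)

/-- The order of that stabiliser. -/
theorem card_stabilizer :
    Nat.card ((cI a ⊓ normalizer ((coreC a ⊓ cI b : Subgroup G) : Set G)) ⊓ coreC a : Subgroup G) =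
      p * Nat.card C0 := by
  rw [d.stabilizer]
  have hdisj : (coreC a ⊓ cI b) ⊓ C0 = ⊥ := (eq_bot_iff_forall _).2 fun y hy => by
    have h1 := d.hbC0 y hy.2
    rw [(mem_cI.1 hy.1.2).symm, mul_inv_cancel_right] at h1
    exact orderOf_eq_one_iff.1 (Nat.eq_one_of_dvd_coprimes (Nat.coprime_two_left.2
      (d.hOodd.of_dvd_nat (orderOf_dvd_natCard _ hy.1.1))).symm dvd_rfl
      (orderOf_dvd_of_pow_eq_one (by rw [pow_two]; nth_rw 1 [h1]; exact inv_mul_cancel y)))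
  have h1 := CfsgLib.Coprime.InvMax.card_sup_mul_inf_of_le_normalizer (K := coreC a ⊓ cI b) (A := C0)
    (fun v hv => mem_normalizer_iff_of_finite fun w hw => by
      rwa [← d.C0_central hv hw.1, mul_inv_cancel_right])
  rw [hdisj, card_bot, mul_one, d.hfix b d.hb d.hbc d.hba] at h1
  rw [h1, mul_comm]

/-- The fixed part of `b` has at most `p (p + 1)` conjugates in `C(a)`. -/
theorem index_le (hEn : cI a ≤ normalizer (E : Set G)) :
    (cI a ⊓ normalizer ((coreC a ⊓ cI b : Subgroup G) : Set G)).relIndex (cI a) ≤ p * (p + 1) := by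
  classical
  haveI := Fact.mk d.hp
  obtain ⟨x, hxo, hW, hxE, hnc⟩ := d.exists_gen
  set W := coreC a ⊓ cI b with hWdef
  set H := (cI a ⊓ normalizer (W : Set G)).subgroupOf (cI a) with hH
  have hZ : ∀ (h : G), h ∈ cI a → ∀ y ∈ W, h * y * h⁻¹ ∈ zpowers z → y = 1 := by
    intro h hh y hy hyz
    by_contra hy1
    refine hnc fun o ho => ?_
    have hyc : Commute o y := by
      obtain ⟨l, hl⟩ := mem_zpowers_iff.1 hyz
      have hc : Commute (h * o * h⁻¹) (h * y * h⁻¹) :=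
        hl ▸ Commute.zpow_right (d.hzc _ (conj_mem_coreC hh ho)) l
      have := hc.map (MulAut.conj h⁻¹).toMonoidHom
      simpa [MulAut.conj_apply, mul_assoc] using this
    obtain ⟨i, rfl⟩ : y ∈ zpowers x := hW ▸ hy
    -- `x` is a power of `y`
    haveI : IsCyclic W := isCyclic_of_prime_card (d.hfix b d.hb d.hbc d.hba)
    obtain ⟨l, hl⟩ : x ∈ zpowers (x ^ i) := by
      have h2 : orderOf (x ^ i) = p :=
        ((Nat.dvd_prime d.hp).1 (hxo ▸ orderOf_dvd_of_mem_zpowers (zpow_mem (mem_zpowers x) i))).resolve_left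
          fun e => hy1 (orderOf_eq_one_iff.1 e)
      have h3 : zpowers (x ^ i) = zpowers x := eq_of_le_of_card_ge
        (zpowers_le.2 (zpow_mem (mem_zpowers x) i)) (by rw [Nat.card_zpowers, Nat.card_zpowers, h2, hxo])
      exact h3.symm ▸ mem_zpowers x
    have hl' : (x ^ i) ^ l = x := hl
    rw [← hl']; exact (hyc.zpow_right l).eq
  have hker : ∀ h h' : cI a, ∀ y y' : W, (y : G) ≠ 1 →
      (h : G) * y * (h : G)⁻¹ = (h' : G) * y' * (h' : G)⁻¹ → h⁻¹ * h' ∈ H := by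
    intro h h' y y' hy1 he
    have hcard : Nat.card W = p := d.hfix b d.hb d.hbc d.hba
    have hgen : ∀ u : W, (u : G) ≠ 1 → ∀ w ∈ W, w ∈ zpowers (u : G) := by
      intro u hu w hw
      have h2 : orderOf (u : G) = p := ((Nat.dvd_prime d.hp).1
        (hcard ▸ orderOf_dvd_natCard W u.2)).resolve_left fun e => hu (orderOf_eq_one_iff.1 e)
      exact (eq_of_le_of_card_ge (zpowers_le.2 u.2) (by rw [Nat.card_zpowers, h2, hcard])).ge hw
    have hy'1 : (y' : G) ≠ 1 := fun e => hy1 (by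
      rw [e, mul_one, mul_inv_cancel] at he
      exact (conj_eq_one_iff.1 he))
    set k : cI a := h⁻¹ * h' with hk
    have hky : (k : G) * y' * (k : G)⁻¹ = y := by
      calc (k : G) * y' * (k : G)⁻¹ = (h : G)⁻¹ * ((h' : G) * y' * (h' : G)⁻¹) * h := by
            simp only [hk, Subgroup.coe_mul, InvMemClass.coe_inv]; group
        _ = y := by rw [← he]; group
    refine mem_subgroupOf.2 ⟨k.2, mem_normalizer_iff_of_finite fun w hw => ?_⟩
    obtain ⟨l, rfl⟩ := mem_zpowers_iff.1 (hgen y' hy'1 w hw)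
    rw [← conj_zpow, hky]
    exact zpow_mem y.2 l
  let f : (↥(cI a) ⧸ H) × {y : W // y ≠ 1} → {e : E // (e : G) ∉ zpowers z} := fun q =>
    ⟨⟨(q.1.out : G) * (q.2.1 : G) * (q.1.out : G)⁻¹,
      (mem_normalizer_iff.1 (hEn q.1.out.2) _).1 (d.hW q.2.1.2)⟩,
      fun hz => q.2.2 (Subtype.ext (hZ _ q.1.out.2 _ q.2.1.2 hz))⟩
  have hf : Function.Injective f := by
    rintro ⟨q, y⟩ ⟨q', y'⟩ he
    have he' : (q.out : G) * (y.1 : G) * (q.out : G)⁻¹ = (q'.out : G) * (y'.1 : G) * (q'.out : G)⁻¹ :=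
      congrArg (fun e : {e : E // (e : G) ∉ zpowers z} => ((e.1 : E) : G)) he
    have hm := hker _ _ y.1 y'.1 (fun e => y.2 (Subtype.ext e)) he'
    have hq : q = q' := by
      rw [← QuotientGroup.out_eq' q, ← QuotientGroup.out_eq' q']
      exact QuotientGroup.eq.2 hm
    subst hq
    refine Prod.ext rfl (Subtype.ext (Subtype.ext ?_))
    exact (MulAut.conj (q.out : G)).injective he'
  have hle := Nat.card_le_card_of_injective f hf
  haveI := Fintype.ofFinite W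
  haveI := Fintype.ofFinite E
  have h1 : Nat.card {y : W // y ≠ 1} = p - 1 := by
    rw [Nat.card_eq_fintype_card, Fintype.card_subtype_compl, Fintype.card_subtype_eq,
      ← Nat.card_eq_fintype_card, d.hfix b d.hb d.hbc d.hba]
  have h2 : Nat.card {e : E // (e : G) ∉ zpowers z} = p ^ 3 - p := by
    rw [Nat.card_eq_fintype_card, Fintype.card_subtype_compl, ← Nat.card_eq_fintype_card, d.hE,
      ← Nat.card_eq_fintype_card,
      show Nat.card {e : E // (e : G) ∈ zpowers z} = Nat.card (zpowers z) from Nat.card_congr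
        (subgroupOfEquivOfLe (zpowers_le.2 d.hzE)).toEquiv, Nat.card_zpowers, d.hzp]
  rw [Nat.card_prod, h1, h2] at hle
  have hidx : Nat.card (↥(cI a) ⧸ H) = (cI a ⊓ normalizer (W : Set G)).relIndex (cI a) :=
    (index_eq_card H).symm
  rw [← hidx]
  have hp2 := d.hp.two_le
  refine Nat.le_of_mul_le_mul_right (hle.trans (le_of_eq ?_)) (show 0 < p - 1 by omega)
  obtain ⟨s, rfl⟩ : ∃ s, p = s + 1 := ⟨p - 1, by omega⟩
  rw [Nat.add_sub_cancel]
  refine Nat.sub_eq_of_eq_add ?_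
  ring

end ShapeData

end CfsgLib.GW.Component
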