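import Cfsg.Agent.Lib.GW.IdentityI
import Cfsg.Agent.Lib.GW.Basic
import Cfsg.Agent.Lib.GW.TwoClassArith

/-!
In a minimal counterexample with Sylow 2-subgroups of order at least 16 the odd parts of the
centralizers of the two classes of four-groups are less than three times apart.
-/

set_option autoImplicit false
set_option linter.unusedSectionVars false
set_option linter.style.haveILetI false

namespace CfsgLib.GW

open Subgroup CfsgLib.Invol CfsgLib.BlockA.DihedralBlock

universe u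

variable {G : Type u} [Group G] [Finite G] (T : Sylow 2 G) (D : DihData (T : Subgroup G))

theorem cI_inf_eq (a b : G) : cI a ⊓ cI b = centralizer ({a, b} : Set G) := by
  ext x
  simp only [mem_inf, mem_centralizer_iff, Set.mem_insert_iff, Set.mem_singleton_iff,
    forall_eq_or_imp, forall_eq]

/-- The centralizer of the central involution and a reflection is a four-group extended by the
common part of the core. -/
theorem Min.card_pair (M : Min G) (j : ℤ) :
    Nat.card (cI (dz T D) ⊓ cI (dt T D j) : Subgroup G) =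
      4 * Nat.card (coreC (dz T D) ⊓ cI (dt T D j) : Subgroup G) := by
  obtain ⟨π, hid, hker⟩ := exists_retraction T D
  set H : Subgroup G := cI (dz T D) ⊓ cI (dt T D j) with hH
  set φ : H →* (T : Subgroup G) := π.comp (Subgroup.inclusion inf_le_left) with hφ
  have hT : ∀ u : (T : Subgroup G), (u : G) ∈ cI (dz T D) := fun u =>
    sylow_le_centralizer_dz T D u.2
  have hfix : ∀ (u : (T : Subgroup G)) (hu : (u : G) ∈ H), φ ⟨u, hu⟩ = u := fun u hu =>
    hid ⟨u, hu.1⟩ u.2
  have hrange : φ.range = D.klein j := by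
    ext u
    constructor
    · rintro ⟨x, rfl⟩
      have hc : Commute (φ x) (D.r ^ j * D.s) := by
        have h1 : Commute (Subgroup.inclusion inf_le_left x : cI (dz T D))
            ⟨dt T D j, hT _⟩ := Subtype.ext (mem_cI.1 x.2.2)
        have h2 := h1.map π
        rw [show π ⟨dt T D j, hT _⟩ = D.r ^ j * D.s from hid ⟨_, hT _⟩ (SetLike.coe_mem _)] at h2
        exact h2
      show φ x = 1 ∨ φ x = D.z ∨ φ x = D.r ^ j * D.s ∨ φ x = D.z * (D.r ^ j * D.s)
      have hcase : ∀ i : ℤ, (D.h : ℤ) ∣ i → D.r ^ i = 1 ∨ D.r ^ i = D.z := by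
        rintro i ⟨c, rfl⟩
        rcases Int.even_or_odd' c with ⟨d, rfl | rfl⟩
        · exact Or.inl (D.zpow_eq_one_iff.2 ⟨d, by ring⟩)
        · exact Or.inr (D.zpow_eq_iff.2 ⟨-d, by ring⟩)
      rcases D.cases (φ x) with ⟨i, hi⟩ | ⟨i, hi⟩ <;> rw [hi] at hc ⊢
      · have h' := hc.eq
        rw [← mul_assoc, ← zpow_add, D.zy_mul_z, mul_left_inj, D.zpow_eq_iff] at h'
        obtain ⟨c, hc'⟩ := h'
        rcases hcase i ⟨-c, by linarith⟩ with e | e <;> rw [e] <;> simp
      · have h' := hc.eq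
        rw [D.zy_mul_zy, D.zy_mul_zy, D.zpow_eq_iff] at h'
        obtain ⟨c, hc'⟩ := h'
        have e0 : D.r ^ i * D.s = D.r ^ (i - j) * (D.r ^ j * D.s) := by
          rw [← mul_assoc, ← zpow_add, sub_add_cancel]
        rcases hcase (i - j) ⟨-c, by linarith⟩ with e | e <;> rw [e0, e] <;> simp
    · intro hu
      have hmem : (u : G) ∈ H := by
        refine ⟨hT u, mem_cI.2 ?_⟩
        have ht : Commute u (D.r ^ j * D.s) := by
          rcases hu with rfl | rfl | rfl | rfl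
          · exact Commute.one_left _
          · exact D.commute_z _
          · exact Commute.refl _
          · exact (D.commute_z _).mul_left (Commute.refl _)
        exact congrArg Subtype.val ht.eq
      exact ⟨⟨u, hmem⟩, hfix u hmem⟩
  have hkerφ : φ.ker = (coreC (dz T D) ⊓ cI (dt T D j)).subgroupOf H := by
    ext x
    rw [MonoidHom.mem_ker, mem_subgroupOf]
    show π _ = 1 ↔ _
    rw [hker]
    constructor
    · intro hx
      exact ⟨M.mem_coreC ((Subgroup.orderOf_coe _).trans D.orderOf_z) x.2.1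
        (Nat.not_even_iff_odd.1 fun h => hx (even_iff_two_dvd.1 h)), x.2.2⟩
    · intro hx h2
      exact Nat.not_even_iff_odd.2 (odd_orderOf_mem_coreC hx.1) (even_iff_two_dvd.2 h2)
  have hle : coreC (dz T D) ⊓ cI (dt T D j) ≤ H := inf_le_inf_right _ (coreC_le_cI _)
  rw [← Subgroup.card_mul_index φ.ker, Subgroup.index_ker, hrange, hkerφ,
    Nat.card_congr (Subgroup.subgroupOfEquivOfLe hle).toEquiv]
  haveI := D.klein_isKleinFour j
  rw [show Nat.card (D.klein j) = 4 from IsKleinFour.card_four, mul_comm]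

theorem card_pair_period {i j : ℤ} (h : Even (j - i)) :
    Nat.card (centralizer ({dz T D, dt T D j} : Set G)) =
      Nat.card (centralizer ({dz T D, dt T D i} : Set G)) := by
  obtain ⟨a, ha⟩ := h
  have e : ((D.r ^ a : (T : Subgroup G)) : G) * dt T D i * ((D.r ^ a : (T : Subgroup G)) : G)⁻¹ =
      dt T D j := congrArg Subtype.val
    (show D.r ^ a * (D.r ^ i * D.s) * (D.r ^ a)⁻¹ = D.r ^ j * D.s by
      rw [D.conj_refl]; congr 2; linarith)
  have ez : ((D.r ^ a : (T : Subgroup G)) : G) * dz T D * ((D.r ^ a : (T : Subgroup G)) : G)⁻¹ =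
      dz T D := by
    rw [(dz_commute T D (D.r ^ a : (T : Subgroup G)).2).symm.eq, mul_inv_cancel_right]
  have h := IdentityI.card_pair_conj ((D.r ^ a : (T : Subgroup G)) : G) (dz T D) (dt T D i)
  rwa [e, ez] at h

/-- The odd parts of the two classes of four-groups. -/
theorem Min.core_ratio_odd (M : Min G) (hh : 4 ≤ D.h) (j : ℤ) :
    Nat.card (coreC (dz T D) ⊓ cI (dt T D j) : Subgroup G) <
      3 * Nat.card (coreC (dz T D) ⊓ cI (dt T D (j + 1)) : Subgroup G) := by
  classical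
  by_contra hle
  push Not at hle
  have := Fintype.ofFinite G
  obtain ⟨MI, hM⟩ := CfsgLib.BlockB.exists_isPModular Nat.prime_two (p := 2)
  haveI := hM.2.1.isPrime
  have h2h : 2 ≤ D.h := by omega
  obtain ⟨ζ, hζ⟩ : ∃ ζ : ℂ, IsPrimitiveRoot ζ (2 * D.h) :=
    ⟨_, Complex.isPrimitiveRoot_exp _ (by omega)⟩
  obtain ⟨χ₁, χ₂, χ₃, χ', δ₁, δ₂, δ₃, S⟩ := exists_shape hM T D h2h hζ
  have hone : ∀ s t : G, orderOf s = 2 → orderOf t = 2 → IsConj s t := fun s t => M.one_class
  obtain ⟨huv, hxodd, hdvd, hid⟩ := identity_I hM T D h2h hζ S hone j _ _ _ rfl rfl rfl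
  obtain ⟨-, hord⟩ := order_formula hM T D h2h hζ S hone
  set x := Cfsg.charDegree (χ₁ : G → ℂ) with hx
  set u := -δ₁ * δ₂ * (Cfsg.charDegree (χ₂ : G → ℂ) : ℤ) with hu
  set v := -δ₁ * δ₃ * (Cfsg.charDegree (χ₃ : G → ℂ) : ℤ) with hv
  set A := Nat.card (coreC (dz T D) ⊓ cI (dt T D j) : Subgroup G) with hA
  set B := Nat.card (coreC (dz T D) ⊓ cI (dt T D (j + 1)) : Subgroup G) with hB
  have hAo : Odd A := (odd_coreC (dz T D)).of_dvd_nat (card_dvd_of_le inf_le_left)
  have hBo : Odd B := (odd_coreC (dz T D)).of_dvd_nat (card_dvd_of_le inf_le_left)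
  have hcA : Nat.card (centralizer ({dz T D, dt T D j} : Set G)) = 4 * A := by
    rw [← cI_inf_eq, M.card_pair T D j]
  have hcB : Nat.card (centralizer ({dz T D, dt T D (j + 1)} : Set G)) = 4 * B := by
    rw [← cI_inf_eq, M.card_pair T D (j + 1)]
  rw [hcA, hcB] at hid
  have hAQ : (A : ℚ) ≠ 0 := by exact_mod_cast hAo.pos.ne'
  have hBQ : (B : ℚ) ≠ 0 := by exact_mod_cast hBo.pos.ne'
  have hI : ((A : ℤ) - B) ^ 2 * u * v * ((x : ℤ) - δ₁) ^ 2 =
      δ₁ * x * (u - v) ^ 2 * ((A : ℤ) + B) ^ 2 := by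
    apply Int.cast_injective (α := ℚ)
    push_cast at hid ⊢
    field_simp at hid
    linear_combination hid
  -- the two parts are those of `0` and `1`
  have hsum : (1 / (Nat.card (centralizer ({dz T D, dt T D 0} : Set G)) : ℚ) +
      1 / (Nat.card (centralizer ({dz T D, dt T D 1} : Set G)) : ℚ)) =
      1 / (4 * A : ℚ) + 1 / (4 * B : ℚ) := by
    rcases Int.even_or_odd j with hj | hj
    · rw [← card_pair_period T D (show Even (j - 0) by simpa using hj),
        ← card_pair_period T D (show Even (j + 1 - 1) by simpa using hj), hcA, hcB]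
      push_cast; rfl
    · rw [← card_pair_period T D (show Even (j + 1 - 0) by simpa using hj.add_one),
        ← card_pair_period T D (show Even (j - 1) from hj.sub_odd odd_one), hcA, hcB]
      push_cast; ring
  rw [hsum] at hord
  obtain ⟨k, hk⟩ := D.h_pow
  -- the odd parts of the group and of the centralizer
  have hPC : (T : Subgroup G) ≤ cI (dz T D) := sylow_le_centralizer_dz T D
  have hidx : Odd ((T : Subgroup G).index) :=
    Nat.not_even_iff_odd.1 fun h => T.not_dvd_index (even_iff_two_dvd.1 h)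
  have hG := (T : Subgroup G).card_mul_index
  have hC := ((T : Subgroup G).subgroupOf (cI (dz T D))).card_mul_index
  rw [Nat.card_congr (Subgroup.subgroupOfEquivOfLe hPC).toEquiv] at hC
  have hCo : Odd (((T : Subgroup G).subgroupOf (cI (dz T D))).index) :=
    hidx.of_dvd_nat (Subgroup.relIndex_dvd_index_of_le hPC)
  rw [D.card_eq] at hG hC
  set g := (T : Subgroup G).index with hg
  set o := ((T : Subgroup G).subgroupOf (cI (dz T D))).index with ho
  rw [← hG, ← hC] at hord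
  obtain ⟨c, hc⟩ : (4 : ℤ) ∣ (x : ℤ) - δ₁ := dvd_trans (by
    rcases k with _ | k
    · simp at hk; omega
    · exact ⟨2 ^ k, by rw [hk]; push_cast; ring⟩) hdvd
  obtain ⟨e, he, heo⟩ : ∃ e : ℤ, (x : ℤ) + δ₁ = 2 * e ∧ Odd e :=
    ⟨2 * c + δ₁, by linarith, by
      rcases S.sgn₁ with e | e <;> rw [e] <;> [exact ⟨c, by ring⟩; exact ⟨c - 1, by ring⟩]⟩
  have hsq : ((x : ℤ) - δ₁) ^ 2 * (g * A ^ 2 * B ^ 2) =
      (2 * (D.h : ℤ) * ((A : ℤ) + B)) ^ 2 * (x * e * o ^ 3) := by
    apply Int.cast_injective (α := ℚ)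
    have he' : (x : ℚ) + δ₁ = 2 * e := by exact_mod_cast he
    have hh0 : (D.h : ℚ) ≠ 0 := by exact_mod_cast D.h_pos.ne'
    push_cast at hord ⊢
    rw [he'] at hord
    field_simp at hord
    linear_combination hord
  obtain ⟨b, s, hs, hbs⟩ := Nat.exists_eq_two_pow_mul_odd (n := A + B) (by have := hAo.pos; omega)
  have hbs' : (A : ℤ) + B = 2 ^ b * (s : ℤ) := by exact_mod_cast hbs
  have h2k : 2 * (D.h : ℤ) = 2 ^ (k + 1) := by rw [hk]; push_cast; ring
  rw [h2k, hbs', show (2 : ℤ) ^ (k + 1) * (2 ^ b * s) = 2 ^ (k + 1 + b) * s by ring] at hsq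
  have hgo : Odd ((g : ℤ) * A ^ 2 * B ^ 2) :=
    Int.odd_mul.2 ⟨Int.odd_mul.2 ⟨(Int.odd_coe_nat _).2 hidx, ((Int.odd_coe_nat _).2 hAo).pow⟩,
      ((Int.odd_coe_nat _).2 hBo).pow⟩
  obtain ⟨t, ht⟩ : (2 : ℤ) ^ (k + 1 + b) ∣ (x : ℤ) - δ₁ := by
    refine (Int.pow_dvd_pow_iff two_ne_zero).1 ?_
    refine IsCoprime.dvd_of_dvd_mul_right (z := (g : ℤ) * A ^ 2 * B ^ 2) ?_
      (?_ : _ ∣ ((x : ℤ) - δ₁) ^ 2 * _)
    swap
    · exact ⟨s ^ 2 * (x * e * o ^ 3), by linear_combination hsq⟩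
    exact (Int.isCoprime_two_left.2 hgo).pow_left.pow_left
  have hto : Odd t := by
    rw [ht] at hsq
    have h := mul_left_cancel₀ (pow_ne_zero 2 (pow_ne_zero (k + 1 + b) (two_ne_zero (α := ℤ))))
      (show ((2 : ℤ) ^ (k + 1 + b)) ^ 2 * (t ^ 2 * (g * A ^ 2 * B ^ 2)) =
        ((2 : ℤ) ^ (k + 1 + b)) ^ 2 * ((s : ℤ) ^ 2 * (x * e * o ^ 3)) by linear_combination hsq)
    have : Odd (t ^ 2 * ((g : ℤ) * A ^ 2 * B ^ 2)) := by
      rw [h]
      exact Int.odd_mul.2 ⟨((Int.odd_coe_nat _).2 hs).pow, Int.odd_mul.2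
        ⟨Int.odd_mul.2 ⟨hxodd, heo⟩, ((Int.odd_coe_nat _).2 hCo).pow⟩⟩
    exact (Int.odd_pow' two_ne_zero).1 (Int.odd_mul.1 this).1
  refine twoClass_ratio (k + 2) x A B δ₁ u v ?_ S.sgn₁ hAo hBo hle huv
    ⟨s, t, hto, (Int.odd_coe_nat _).2 hs, b, hbs', by
      rw [ht, show k + 2 - 1 + b = k + 1 + b by omega]⟩ hI
  by_contra hk'
  have h4 : D.h ≤ 2 := by
    rw [hk]
    calc 2 ^ k ≤ 2 ^ 1 := Nat.pow_le_pow_right two_pos (by omega)
      _ = 2 := pow_one 2
  omega

/-- The centralizers of the two classes of four-groups are less than three times apart. -/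
theorem Min.core_ratio (M : Min G) (hh : 4 ≤ D.h) (j : ℤ) :
    Nat.card (cI (dz T D) ⊓ cI (dt T D j) : Subgroup G) <
      3 * Nat.card (cI (dz T D) ⊓ cI (dt T D (j + 1)) : Subgroup G) := by
  rw [M.card_pair T D j, M.card_pair T D (j + 1)]
  have := M.core_ratio_odd T D hh j
  omega

/-- The same for the other order. -/
theorem Min.core_ratio_odd' (M : Min G) (hh : 4 ≤ D.h) (j : ℤ) :
    Nat.card (coreC (dz T D) ⊓ cI (dt T D (j + 1)) : Subgroup G) <
      3 * Nat.card (coreC (dz T D) ⊓ cI (dt T D j) : Subgroup G) := by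
  have h := M.core_ratio T D hh (j + 1)
  rw [cI_inf_eq, cI_inf_eq, card_pair_period T D (show Even (j + 1 + 1 - j) from ⟨1, by ring⟩),
    ← cI_inf_eq, ← cI_inf_eq, M.card_pair T D j, M.card_pair T D (j + 1)] at h
  omega

end CfsgLib.GW
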