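import Cfsg.Agent.Lib.GW.Component.Cases

/-!
The action of `C(a)` on the elements of order `p` central modulo `zP a p`, taken modulo `zP a p`.
-/

set_option autoImplicit false
set_option linter.unusedSectionVars false

namespace CfsgLib.GW

open Subgroup CfsgLib.Invol

universe u

variable {G : Type u} [Group G] [Finite G] (a : G) (p : ℕ)

/-- `zP a p` inside `eP a p`. -/
abbrev zE : Subgroup ↥(eP a p) := (zP a p).subgroupOf (eP a p)

instance zE_normal : (zE a p).Normal := ⟨fun y hy x => mem_subgroupOf.2 <| by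
  have h := (mem_subgroupOf.1 hy).2.1 (x : G) (eP_le_fitP a p x.2)
  show (x : G) * y * (x : G)⁻¹ ∈ zP a p
  rw [← h.eq, mul_inv_cancel_right]
  exact mem_subgroupOf.1 hy⟩

/-- `eP a p` modulo `zP a p`. -/
abbrev EBar := ↥(eP a p) ⧸ zE a p

theorem eBar_comm (x y : EBar a p) : x * y = y * x := by
  obtain ⟨x, rfl⟩ := QuotientGroup.mk'_surjective (zE a p) x
  obtain ⟨y, rfl⟩ := QuotientGroup.mk'_surjective (zE a p) y
  rw [← map_mul, ← map_mul]
  refine QuotientGroup.eq.2 (mem_subgroupOf.2 ?_)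
  show ((x : G) * y)⁻¹ * ((y : G) * x) ∈ zP a p
  have h := comm_mem_of_eP (inv_mem y.2) (inv_mem (eP_le_fitP a p x.2))
  rw [show ((x : G) * y)⁻¹ * ((y : G) * x) = (y : G)⁻¹ * (x : G)⁻¹ * (y : G)⁻¹⁻¹ * (x : G)⁻¹⁻¹ by
    group]
  exact h

/-- Conjugation in `C(a)` on `eP a p`. -/
def conjE : ↥(cI a) →* MulAut ↥(eP a p) :=
  (eP a p).normalizerMonoidHom.comp
    (inclusion (fun x hx => mem_normalizer_iff_of_finite fun _ he => conj_mem_eP hx he :
      cI a ≤ normalizer (eP a p : Set G)))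

theorem conjE_apply (x : ↥(cI a)) (e : ↥(eP a p)) :
    ((conjE a p x e : ↥(eP a p)) : G) = (x : G) * e * (x : G)⁻¹ := rfl

theorem zE_map (x : ↥(cI a)) : (zE a p).map (conjE a p x).toMonoidHom = zE a p := by
  refine le_antisymm ?_ fun e he => ?_
  · rintro _ ⟨e, he, rfl⟩
    exact mem_subgroupOf.2 (conj_mem_zP x.2 (mem_subgroupOf.1 he))
  · exact ⟨conjE a p x⁻¹ e, mem_subgroupOf.2 (conj_mem_zP (inv_mem x.2) (mem_subgroupOf.1 he)),
      Subtype.ext (by
        show (x : G) * ((x : G)⁻¹ * e * (x : G)⁻¹⁻¹) * (x : G)⁻¹ = e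
        group)⟩

/-- The action of `C(a)` on `eP a p` modulo `zP a p`. -/
def act : ↥(cI a) →* MulAut (EBar a p) where
  toFun x := QuotientGroup.congr (zE a p) (zE a p) (conjE a p x) (zE_map a p x)
  map_one' := by
    ext q
    obtain ⟨e, rfl⟩ := QuotientGroup.mk'_surjective (zE a p) q
    show QuotientGroup.mk (conjE a p 1 e) = QuotientGroup.mk e
    rw [map_one]; rfl
  map_mul' x y := by
    ext q
    obtain ⟨e, rfl⟩ := QuotientGroup.mk'_surjective (zE a p) q
    show QuotientGroup.mk (conjE a p (x * y) e) = QuotientGroup.mk (conjE a p x (conjE a p y e))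
    rw [map_mul]; rfl

variable {a p}

theorem act_mk (x : ↥(cI a)) (e : ↥(eP a p)) :
    act a p x (QuotientGroup.mk e) = QuotientGroup.mk (conjE a p x e) := rfl

theorem mk_eq_mk {e f : ↥(eP a p)} :
    (QuotientGroup.mk e : EBar a p) = QuotientGroup.mk f ↔ (e : G)⁻¹ * f ∈ zP a p :=
  QuotientGroup.eq.trans mem_subgroupOf

theorem mk_eq_one {e : ↥(eP a p)} :
    (QuotientGroup.mk e : EBar a p) = 1 ↔ (e : G) ∈ zP a p :=
  (QuotientGroup.eq_one_iff e).trans mem_subgroupOf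

/-- Triviality of the action. -/
theorem act_eq_one_iff {x : ↥(cI a)} :
    act a p x = 1 ↔ ∀ e ∈ eP a p, (x : G) * e * (x : G)⁻¹ * e⁻¹ ∈ zP a p := by
  refine ⟨fun h e he => ?_, fun h => ?_⟩
  · have h1 := (DFunLike.congr_fun h (QuotientGroup.mk (⟨e, he⟩ : ↥(eP a p))) :)
    rw [act_mk, MulAut.one_apply, eq_comm, mk_eq_mk] at h1
    rw [show (x : G) * e * (x : G)⁻¹ * e⁻¹ =
      e * ((e : G)⁻¹ * ((x : G) * e * (x : G)⁻¹)) * e⁻¹ by group]
    exact conj_mem_zP (fitP_le_cI a p (eP_le_fitP a p he)) h1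
  · ext q
    obtain ⟨e, rfl⟩ := QuotientGroup.mk'_surjective (zE a p) q
    show act a p x (QuotientGroup.mk e) = QuotientGroup.mk e
    rw [act_mk, mk_eq_mk, conjE_apply]
    rw [show ((x : G) * (e : G) * (x : G)⁻¹)⁻¹ * (e : G) =
      (e : G)⁻¹ * ((x : G) * e * (x : G)⁻¹ * (e : G)⁻¹)⁻¹ * (e : G)⁻¹⁻¹ by group]
    exact conj_mem_zP (inv_mem (fitP_le_cI a p (eP_le_fitP a p e.2))) (inv_mem (h e e.2))

end CfsgLib.GW
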