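import Cfsg.Agent.Lib.GW.Scalar
import Cfsg.Agent.Lib.GW.NoLayer
import Cfsg.Agent.Lib.Coprime.Sylow
import Cfsg.Agent.Lib.Comp.Components
import Cfsg.Agent.Lib.EqOrder.Tools

/-!
The component leg: local facts for a prime `p` for which `b` neither centralises nor avoids the
`p`-core of `O(C(a))`, when `b` inverts the elements of order `p` of its centre.
-/

set_option autoImplicit false
set_option linter.unusedSectionVars false
set_option linter.style.haveILetI false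

namespace CfsgLib.GW

open Subgroup CfsgLib.Invol

universe u

variable {G : Type u} [Group G]

/-- `b` neither centralises nor avoids the `p`-core of `O(C(a))`. -/
structure Mixed (a b g : G) (p : ℕ) : Prop where
  four : Four a b g
  hp : p.Prime
  meets : fitP a p ⊓ cI b ≠ ⊥
  moves : ¬ fitP a p ≤ cI b

/-- The elements of order dividing `p` in the centre of `fitP a p`. -/
def zP (a : G) (p : ℕ) : Subgroup G where
  carrier := {x | x ∈ fitP a p ∧ (∀ u ∈ fitP a p, Commute x u) ∧ x ^ p = 1}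
  one_mem' := ⟨one_mem _, fun u _ => Commute.one_left u, one_pow p⟩
  mul_mem' := fun {x y} hx hy => ⟨mul_mem hx.1 hy.1, fun u hu => (hx.2.1 u hu).mul_left (hy.2.1 u hu),
    by rw [(hx.2.1 y hy.1).mul_pow, hx.2.2, hy.2.2, one_mul]⟩
  inv_mem' := fun {x} hx => ⟨inv_mem hx.1, fun u hu => (hx.2.1 u hu).inv_left,
    by rw [inv_pow, hx.2.2, inv_one]⟩

theorem mem_zP {a x : G} {p : ℕ} :
    x ∈ zP a p ↔ x ∈ fitP a p ∧ (∀ u ∈ fitP a p, Commute x u) ∧ x ^ p = 1 := Iff.rfl

theorem zP_le_fitP (a : G) (p : ℕ) : zP a p ≤ fitP a p := fun _ hx => hx.1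

theorem zP_le_coreC (a : G) (p : ℕ) : zP a p ≤ coreC a :=
  (zP_le_fitP a p).trans (fitP_le_coreC a p)

variable [Finite G]

theorem conj_mem_zP {a x z : G} {p : ℕ} (hx : x ∈ cI a) (hz : z ∈ zP a p) :
    x * z * x⁻¹ ∈ zP a p := by
  refine ⟨conj_mem_fitP hx hz.1, fun u hu => ?_, by rw [conj_pow, hz.2.2, mul_one, mul_inv_cancel]⟩
  have hu' : x⁻¹ * u * x ∈ fitP a p := by
    simpa using conj_mem_fitP (inv_mem hx) hu
  have h := (hz.2.1 _ hu').map (MulAut.conj x).toMonoidHom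
  simpa [MulAut.conj_apply, mul_assoc] using h

theorem cI_le_normalizer_zP (a : G) (p : ℕ) : cI a ≤ normalizer (zP a p : Set G) :=
  fun _ hx => mem_normalizer_iff_of_finite fun _ hz => conj_mem_zP hx hz

theorem zP_ne_bot {a b g : G} {p : ℕ} (h : Mixed a b g p) : zP a p ≠ ⊥ := by
  haveI := Fact.mk h.hp
  haveI : Nontrivial ↥(fitP a p) := (Subgroup.nontrivial_iff_ne_bot _).2 fun e => by
    have := h.meets; rw [e, bot_inf_eq] at this; exact this rfl
  haveI : Nontrivial (center ↥(fitP a p)) := (isPGroup_fitP a p).center_nontrivial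
  obtain ⟨k, hk⟩ := IsPGroup.iff_card.1 ((isPGroup_fitP a p).to_subgroup (center ↥(fitP a p)))
  have hk0 : k ≠ 0 := fun e => by
    rw [e, pow_zero] at hk
    exact (Finite.one_lt_card (α := center ↥(fitP a p))).ne' hk
  obtain ⟨z, hz⟩ := exists_prime_orderOf_dvd_card' (G := center ↥(fitP a p)) p
    (by rw [hk]; exact dvd_pow_self p hk0)
  intro e
  have hmem : ((z : ↥(fitP a p)) : G) ∈ zP a p := by
    refine ⟨(z : ↥(fitP a p)).2, fun u hu => ?_, ?_⟩
    · exact (congrArg Subtype.val (mem_center_iff.1 z.2 ⟨u, hu⟩) : u * _ = _ * u).symm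
    · have := pow_orderOf_eq_one z
      rw [hz] at this
      exact congrArg (fun w : center ↥(fitP a p) => ((w : ↥(fitP a p)) : G)) this
  rw [e, mem_bot] at hmem
  have : z = 1 := Subtype.ext (Subtype.ext hmem)
  rw [this, orderOf_one] at hz
  exact h.hp.ne_one hz.symm

/-- An element of `C(a)` of `p`-power order lies in `O(C(a))` for odd `p`. -/
theorem Min.pgroup_mem_coreC (M : Min G) {a x : G} (ha : orderOf a = 2) {p : ℕ} [Fact p.Prime]
    (hp : p ≠ 2) {Q : Subgroup G} (hQ : IsPGroup p Q) (hxQ : x ∈ Q) (hx : x ∈ cI a) :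
    x ∈ coreC a := by
  refine M.mem_coreC ha hx ?_
  obtain ⟨k, hk⟩ := hQ ⟨x, hxQ⟩
  exact (((Fact.out : p.Prime).odd_of_ne_two hp).pow).of_dvd_nat
    (orderOf_dvd_of_pow_eq_one (congrArg Subtype.val hk :))

theorem Mixed.ne_two {a b g : G} {p : ℕ} (h : Mixed a b g p) : p ≠ 2 := fun e => by
  haveI := Fact.mk h.hp
  obtain ⟨z, hz, hz1⟩ := (bot_or_exists_ne_one (zP a p)).resolve_left (zP_ne_bot h)
  have h2 := (odd_orderOf_mem_coreC (zP_le_coreC a p hz))
  have h3 := orderOf_dvd_of_pow_eq_one hz.2.2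
  rw [e] at h3
  rcases (Nat.dvd_prime Nat.prime_two).1 h3 with h4 | h4
  · exact hz1 (orderOf_eq_one_iff.1 h4)
  · rw [h4] at h2; exact absurd h2 (by decide)

/-- An involution of `C(a)` other than `a` has a rotation. -/
theorem Min.four_of_invol (M : Min G) {a j : G} (ha : orderOf a = 2) (hj : orderOf j = 2)
    (hjc : j ∈ cI a) (hne : j ≠ a) : ∃ g, Four a j g := by
  obtain ⟨T, haT, hTc⟩ := M.exists_sylow ha
  obtain ⟨c, hc⟩ := exists_conj_invol_mem_sylow (T.subtype hTc)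
    (x := (⟨j, hjc⟩ : cI a)) (by rw [orderOf_mk, hj])
  have hcT : (c : G) * j * (c : G)⁻¹ ∈ (T : Subgroup G) := mem_subgroupOf.1 hc
  have hca : (c : G) * a * (c : G)⁻¹ = a := conj_eq_self c.2
  obtain ⟨g, hg⟩ := M.exists_four T ha haT hTc (by rw [orderOf_conj_eq, hj]) hcT
    fun e => hne ((MulAut.conj (c : G)).injective (e.trans hca.symm :))
  refine ⟨(c : G)⁻¹ * g * c, ha, hj, Ne.symm hne, (mem_cI.1 hjc).symm, ?_, ?_, ?_⟩
  · calc (c : G)⁻¹ * g * c * a * ((c : G)⁻¹ * g * c)⁻¹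
        = (c : G)⁻¹ * (g * ((c : G) * a * (c : G)⁻¹) * g⁻¹) * c := by group
      _ = j := by rw [hca, hg.ga]; group
  · calc (c : G)⁻¹ * g * c * j * ((c : G)⁻¹ * g * c)⁻¹
        = (c : G)⁻¹ * (g * ((c : G) * j * (c : G)⁻¹) * g⁻¹) * c := by group
      _ = (c : G)⁻¹ * (a * ((c : G) * j * (c : G)⁻¹)) * c := by rw [hg.gb]
      _ = ((c : G)⁻¹ * a * c) * j := by group
      _ = a * j := by rw [show (c : G)⁻¹ * a * c = a by
            calc (c : G)⁻¹ * a * c = (c : G)⁻¹ * ((c : G) * a * (c : G)⁻¹) * c := by rw [hca]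
              _ = a := by group]
  · calc (c : G)⁻¹ * g * c * (a * j) * ((c : G)⁻¹ * g * c)⁻¹
        = (c : G)⁻¹ * (g * (((c : G) * a * (c : G)⁻¹) * ((c : G) * j * (c : G)⁻¹)) * g⁻¹) * c := by
          group
      _ = (c : G)⁻¹ * a * c := by rw [hca, hg.gab]
      _ = a := by
          calc (c : G)⁻¹ * a * c = (c : G)⁻¹ * ((c : G) * a * (c : G)⁻¹) * c := by rw [hca]
            _ = a := by group

/-- The image in `G` of the core of a subgroup. -/
abbrev coreK (K : Subgroup G) : Subgroup G := (Cfsg.oddCore ↥K).map K.subtype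

/-- The shape fact used: modulo `O(K)` the inverted odd elements of `C_K(a)` form a cyclic group,
inverted by every involution other than `a`. -/
def Torus (G : Type u) [Group G] [Finite G] : Prop :=
  ∀ (K : Subgroup G), K ≠ ⊤ → ∀ a : G, orderOf a = 2 → a ∈ K →
    ∃ (R : Subgroup G) (r : G), r ∈ R ∧ R ≤ K ⊓ coreC a ∧
      (∀ x ∈ R, ∃ i : ℕ, (r ^ i)⁻¹ * x ∈ coreK K) ∧
      ∀ j ∈ K, orderOf j = 2 → j * a = a * j → j ≠ a →
        (∀ x ∈ K ⊓ coreC a, j * x * j⁻¹ = x⁻¹ → x ∈ R) ∧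
        ((∀ x ∈ R, j * x * j⁻¹ * x ∈ coreK K) ∨ ∀ x ∈ R, x ^ 3 ∈ coreK K)

/-- The hypotheses of the component leg. -/
structure Ctx (G : Type u) [Group G] [Finite G] : Prop where
  min : Min G
  max : ∀ x : G, orderOf x = 2 → IsCoatom (cI x)
  noLayer : NoLayerStmt.{u}
  torus : Torus G
  alpha : ∀ (a b g : G) (p : ℕ), Mixed a b g p → zP a p ⊓ cI b = ⊥
  seven : ∀ (a b g : G) (p : ℕ), Mixed a b g p → p = 3 → ∀ j : G, orderOf j = 2 →
    (∀ z ∈ zP a p, Commute j z) → j = a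

variable (C : Ctx G) {a b g : G} {p : ℕ} (h : Mixed a b g p)

include C h

theorem Mixed.le_cI_a : zP a p ≤ cI a := (zP_le_coreC a p).trans (coreC_le_cI a)

theorem Mixed.normalizer_zP : normalizer (zP a p : Set G) = cI a := by
  have hne : zP a p ≠ ⊤ := fun e =>
    C.min.cI_ne_top (invol_ne_one h.four.ha) (top_le_iff.1 (e ▸ h.le_cI_a C))
  exact ((C.max a h.four.ha).le_iff.1 (cI_le_normalizer_zP a p)).resolve_left
    (C.min.normalizer_ne_top (zP_ne_bot h) hne)

theorem Mixed.cent_zP_le {x : G} (hx : ∀ z ∈ zP a p, Commute x z) : x ∈ cI a := by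
  rw [← h.normalizer_zP C]
  exact mem_normalizer_iff_of_finite fun z hz => by
    rwa [(hx z hz).eq, mul_inv_cancel_right]

theorem Mixed.b_inverts {z : G} (hz : z ∈ zP a p) : b * z * b⁻¹ = z⁻¹ :=
  inverts_of_inf_eq_bot h.four.hb
    (fun _ hx => conj_mem_zP (mem_cI.2 h.four.comm.symm) hx) (C.alpha a b g p h) z hz

/-- Normalizers of invariant subgroups of the fixed part lie in subgroups with a layer. -/
theorem Mixed.exists_layer {Q : Subgroup G} (hQ : Q ≠ ⊥) (hQle : Q ≤ fitP a p ⊓ cI b)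
    (hW : coreC a ⊓ coreC b ≤ normalizer (Q : Set G)) :
    ∃ N : Subgroup G, IsCoatom N ∧ normalizer (Q : Set G) ≤ N ∧ Cfsg.layer ↥N ≠ ⊥ := by
  haveI := Fact.mk h.hp
  by_contra hcon
  push_neg at hcon
  have hQc : Q ≤ cI a := (hQle.trans inf_le_left).trans (fitP_le_cI a p)
  have hQtop : Q ≠ ⊤ := fun e => C.min.cI_ne_top (invol_ne_one h.four.ha) (top_le_iff.1 (e ▸ hQc))
  obtain ⟨N, hN, hle⟩ := (eq_top_or_exists_le_coatom (normalizer (Q : Set G))).resolve_left
    (C.min.normalizer_ne_top hQ hQtop)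
  have hNa : normalizer (Q : Set G) ≤ cI a := hle.trans_eq (C.noLayer G C.min C.max a b g h.four Q N
    hQ (hQle.trans (inf_le_inf_right _ (fitP_le_fitC a p))) hW hN hle (hcon N hN hle))
  have hcop : (orderOf a).Coprime p := by
    rw [h.four.ha]; exact (Nat.coprime_primes Nat.prime_two h.hp).2 h.ne_two.symm
  have main : ∀ u ∈ fitP b p, Commute a u :=
    axb_subgroup (isPGroup_fitP b p) ((isPGroup_fitP a p).to_le (hQle.trans inf_le_left))
      ((hQle.trans inf_le_right).trans (cI_le_normalizer_fitP b p))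
      (cI_le_normalizer_fitP b p (mem_cI.2 h.four.comm)) hcop
      (fun x hx => mem_cI.1 (hQc hx))
      fun u _ hu => (mem_cI.1 (hNa (mem_normalizer_iff_of_finite fun x hx => by
        rwa [(hu x hx).eq.symm, mul_inv_cancel_right]))).symm
  refine h.moves fun u hu => ?_
  have hu' : g * u * g⁻¹ ∈ fitP b p := by
    rw [← h.four.ga, ← fitP_conj]; exact ⟨u, hu, rfl⟩
  have h1 : Commute (g⁻¹ * a * g) u := by
    have := (main _ hu').map (MulAut.conj g⁻¹).toMonoidHom
    simpa [MulAut.conj_apply, mul_assoc] using this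
  have hgab : g⁻¹ * a * g = a * b := by
    calc g⁻¹ * a * g = g⁻¹ * (g * (a * b) * g⁻¹) * g := by rw [h.four.gab]
      _ = a * b := by group
  rw [hgab] at h1
  have h2 : Commute a u := (mem_cI.1 (fitP_le_cI a p hu)).symm
  have h4 := h2.inv_left.mul_left h1
  rw [inv_mul_cancel_left] at h4
  exact mem_cI.2 h4.eq.symm

theorem Mixed.inf_normal_W : coreC a ⊓ coreC b ≤ normalizer ((fitP a p ⊓ cI b : Subgroup G) : Set G) :=
  fun w hw => mem_normalizer_iff_of_finite fun x hx =>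
    ⟨conj_mem_fitP (coreC_le_cI a hw.1) hx.1,
      (cI b).mul_mem ((cI b).mul_mem (coreC_le_cI b hw.2) hx.2) ((cI b).inv_mem (coreC_le_cI b hw.2))⟩

omit C h in
theorem layer_le_cent_coreK {N : Subgroup G} {x : G} (hx : x ∈ coreK N) {y : G}
    (hy : y ∈ (Cfsg.layer ↥N).map N.subtype) : Commute y x := by
  obtain ⟨y', hy', rfl⟩ := hy
  obtain ⟨x', hx', rfl⟩ := hx
  haveI : Group.IsSolvable (Cfsg.oddCore ↥N) := CfsgLib.FT.odd_order_solvable
    (Nat.coprime_two_right.1 (CfsgLib.Solvable.pPrimeCore_coprime 2))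
  exact congrArg Subtype.val (mem_centralizer_iff.1 (CfsgLib.Comp.layer_le_centralizer_of_isSolvable
    (CfsgLib.Solvable.pPrimeCore_normal 2 ↥N).isSubnormal inferInstance hy') x' hx').symm

omit C h in
theorem not_layer_le_solvable {N K : Subgroup G} (hK : Group.IsSolvable K)
    (hle : (Cfsg.layer ↥N).map N.subtype ≤ K) : Cfsg.layer ↥N = ⊥ := by
  by_contra hne
  haveI := CfsgLib.Comp.isPerfect_layer ↥N
  haveI : Nontrivial (Cfsg.layer ↥N) := (Subgroup.nontrivial_iff_ne_bot _).2 hne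
  refine Group.IsPerfect.not_isSolvable (Cfsg.layer ↥N) ?_
  have hi : Function.Injective
      ((inclusion hle).comp ((Cfsg.layer ↥N).equivMapOfInjective _ N.subtype_injective).toMonoidHom) :=
    (inclusion_injective hle).comp (MulEquiv.injective _)
  exact Group.isSolvable_of_isSolvable_injective hi

omit h in
/-- A layer contains an involution other than `a` commuting with `a`. -/
theorem exists_invol_layer {N : Subgroup G} {a : G} (ha : orderOf a = 2) (haN : a ∈ N)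
    (hL : Cfsg.layer ↥N ≠ ⊥) :
    ∃ j ∈ (Cfsg.layer ↥N).map N.subtype, orderOf j = 2 ∧ j * a = a * j ∧ j ≠ a := by
  haveI : Fact (Nat.Prime 2) := ⟨Nat.prime_two⟩
  haveI := CfsgLib.Comp.layer_normal ↥N
  have hp : IsPGroup 2 (zpowers (⟨a, haN⟩ : N)) :=
    IsPGroup.of_card (n := 1) (by rw [Nat.card_zpowers, orderOf_mk, ha, pow_one])
  obtain ⟨T', hT'⟩ := hp.exists_le_sylow
  set S' : Subgroup N := (T' : Subgroup N) ⊓ Cfsg.layer ↥N
  obtain ⟨T, hT⟩ := (T'.isPGroup'.map N.subtype).exists_le_sylow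
  obtain ⟨D⟩ := C.min.dih T
  have hS : ∀ w ∈ S', (w : G) ∈ (T : Subgroup G) := fun w hw => hT ⟨w, hw.1, rfl⟩
  have haT : a ∈ (T : Subgroup G) := hT ⟨_, hT' (mem_zpowers _), rfl⟩
  -- the trace of the layer is not cyclic
  have hnc : ¬ IsCyclic S' := fun hc => by
    haveI : Group.IsPerfect (Cfsg.layer ↥N) := CfsgLib.Comp.isPerfect_layer ↥N
    obtain ⟨P, hP⟩ := CfsgLib.Transfer.exists_sylow_eq_subgroupOf T' (Cfsg.layer ↥N)
    haveI : IsCyclic P := by
      have h1 : IsCyclic ((P : Subgroup (Cfsg.layer ↥N)).map (Cfsg.layer ↥N).subtype : Subgroup N) := by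
        rw [hP, subgroupOf_map_subtype]; exact hc
      let e := (P : Subgroup (Cfsg.layer ↥N)).equivMapOfInjective _ (subtype_injective _)
      exact isCyclic_of_injective e.toMonoidHom e.injective
    obtain ⟨W, hW, hWo, hWi⟩ := CfsgLib.EqOrder.exists_compl_of_cyclic_two P
    haveI : Group.IsSolvable W := CfsgLib.FT.odd_order_solvable hWo
    obtain ⟨k, hk⟩ := P.isPGroup'.exists_card_eq
    haveI : Group.IsNilpotent (Cfsg.layer ↥N ⧸ W) :=
      (IsPGroup.of_card (p := 2) (n := k) (by rw [← Subgroup.index_eq_card, hWi, hk])).isNilpotent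
    haveI : Nontrivial (Cfsg.layer ↥N) := (Subgroup.nontrivial_iff_ne_bot _).2 hL
    exact Group.IsPerfect.not_isSolvable (Cfsg.layer ↥N)
      (Group.isSolvable_of_ker_le_range W.subtype (QuotientGroup.mk' W)
        (by rw [QuotientGroup.ker_mk', range_subtype]))
  -- there is a rotation or there are two reflections
  let f : S' → (T : Subgroup G) := fun w => ⟨((w : N) : G), hS w.1 w.2⟩
  have hf : Function.Injective f := fun x y e =>
    Subtype.ext (Subtype.ext (show ((x : N) : G) = ((y : N) : G) from congrArg (fun t : (T : Subgroup G) => (t : G)) e))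
  let φ : S' →* (T : Subgroup G) := MonoidHom.mk' f fun _ _ => rfl
  have hrefl : ∃ w : S', ∃ i : ℤ, φ w = D.r ^ i * D.s := by
    by_contra hno
    push_neg at hno
    have hle : φ.range ≤ zpowers D.r := by
      rintro _ ⟨w, rfl⟩
      rcases D.cases (φ w) with ⟨i, e⟩ | ⟨i, e⟩
      · exact e ▸ zpow_mem (mem_zpowers _) i
      · exact absurd e (hno w i)
    haveI : IsCyclic φ.range := isCyclic_of_injective (inclusion hle) (inclusion_injective hle)
    exact hnc (isCyclic_of_injective φ.rangeRestrict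
      fun x y e => hf (congrArg Subtype.val e : φ x = φ y))
  obtain ⟨w₀, i₀, hw₀⟩ := hrefl
  have hz : ∃ w : S', φ w = D.z := by
    by_contra hno
    push_neg at hno
    have hcyc : ∀ w : S', ∀ i : ℤ, φ w = D.r ^ i → w = 1 := by
      intro w i e
      by_contra hw
      have hne1 : D.r ^ i ≠ 1 := fun e1 => hw (hf (by
        show φ w = φ 1
        rw [map_one, e, e1]))
      obtain ⟨k, -, hk⟩ := (Nat.dvd_prime_pow Nat.prime_two).1
        (show orderOf (D.r ^ i) ∣ 2 ^ (D.h_pow.choose + 1) by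
          rw [pow_succ', ← D.h_pow.choose_spec, ← D.orderOf_r]
          exact orderOf_dvd_of_mem_zpowers (zpow_mem (mem_zpowers _) i))
      rcases k with _ | k
      · exact hne1 (orderOf_eq_one_iff.1 (hk.trans (pow_zero 2)))
      · refine hno (w ^ (2 ^ k)) ?_
        rw [map_pow, e, ← zpow_natCast (D.r ^ i), ← zpow_mul]
        refine D.eq_z_of_zpow ?_
        rw [zpow_mul, zpow_natCast,
          orderOf_pow_of_dvd (pow_ne_zero k two_ne_zero) (hk ▸ pow_dvd_pow 2 k.le_succ), hk,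
          pow_succ', Nat.mul_div_cancel _ (by positivity)]
    refine hnc ⟨w₀, fun w => (?_ : w ∈ zpowers w₀)⟩
    rcases D.cases (φ w) with ⟨i, e⟩ | ⟨i, e⟩
    · rw [hcyc w i e]; exact one_mem _
    · have h1 : w * w₀ = 1 := hcyc _ (i - i₀) (by rw [map_mul, e, hw₀, D.zy_mul_zy])
      rw [eq_inv_of_mul_eq_one_left h1]
      exact inv_mem (mem_zpowers _)
  obtain ⟨wz, hwz⟩ := hz
  have hout : ∀ w : S', orderOf (φ w) = 2 → Commute (φ w) ⟨a, haT⟩ → φ w ≠ ⟨a, haT⟩ →
      ∃ j ∈ (Cfsg.layer ↥N).map N.subtype, orderOf j = 2 ∧ j * a = a * j ∧ j ≠ a := by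
    intro w h2 hc hne
    refine ⟨((w : N) : G), ⟨w.1, w.2.2, rfl⟩, ?_, congrArg Subtype.val hc.eq, fun e => hne (Subtype.ext e)⟩
    rwa [← Subgroup.orderOf_coe] at h2
  by_cases e : D.z = ⟨a, haT⟩
  · refine hout w₀ (hw₀ ▸ D.orderOf_zy i₀) (e ▸ (D.commute_z _).symm) ?_
    rw [hw₀, ← e]
    exact D.ne_zpow _ _
  · exact hout wz (hwz ▸ D.orderOf_z) (hwz ▸ D.commute_z _) (hwz.trans_ne e)

/-- An involution of `C(a)` centralising the central elements of order `p` is `a`. -/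
theorem Mixed.eq_of_cent {j : G} (hj : orderOf j = 2) (hjz : ∀ z ∈ zP a p, Commute j z) : j = a := by
  by_cases h3p : p = 3
  · exact C.seven a b g p h h3p j hj hjz
  by_contra hne
  haveI := Fact.mk h.hp
  have hjc : j ∈ cI a := h.cent_zP_le C hjz
  obtain ⟨g', hg'⟩ := C.min.four_of_invol h.four.ha hj hjc hne
  have hUj : fitP a p ≤ cI j := by
    by_contra hUj
    refine zP_ne_bot h (le_bot_iff.1 ((le_inf le_rfl fun z hz => mem_cI.2 (hjz z hz).eq.symm).trans_eq
      (C.alpha a j g' p ⟨hg', h.hp, fun e => zP_ne_bot h (le_bot_iff.1 ((le_inf (zP_le_fitP a p)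
        fun z hz => mem_cI.2 (hjz z hz).eq.symm).trans_eq e)), hUj⟩)))
  obtain ⟨N, hN, hle, hlay⟩ := h.exists_layer C h.meets le_rfl (h.inf_normal_W C)
  have hcN : ∀ c : G, (∀ x ∈ fitP a p ⊓ cI b, Commute c x) → c ∈ N := fun c hc => hle
    (mem_normalizer_iff_of_finite fun x hx => by rwa [(hc x hx).eq, mul_inv_cancel_right])
  have haN : a ∈ N := hcN a fun x hx => (mem_cI.1 (fitP_le_cI a p hx.1)).symm
  have hbN : b ∈ N := hcN b fun x hx => (mem_cI.1 hx.2).symm
  have hjN : j ∈ N := hcN j fun x hx => (mem_cI.1 (hUj hx.1)).symm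
  obtain ⟨R, r, -, -, -, hR⟩ := C.torus N hN.1 a h.four.ha haN
  refine hlay (not_layer_le_solvable (C.min.isSolvable_cI h.four.ha) fun y hy =>
    h.cent_zP_le C fun z hz => layer_le_cent_coreK ?_ hy)
  have hzN : z ∈ N := hcN z fun x hx => hz.2.1 x hx.1
  have hzR : z ∈ R := (hR b hbN h.four.hb h.four.comm.symm h.four.hab.symm).1 z
    ⟨hzN, zP_le_coreC a p hz⟩ (h.b_inverts C hz)
  rcases (hR j hjN hj (mem_cI.1 hjc) hne).2 with h2' | h2'
  swap
  · have h3 := h2' z hzR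
    obtain ⟨i, hi⟩ := exists_pow_eq_self_of_coprime (x := z) (n := 3)
      (Nat.Coprime.coprime_dvd_right (orderOf_dvd_of_pow_eq_one hz.2.2)
        ((Nat.coprime_primes Nat.prime_three h.hp).2 (Ne.symm h3p)))
    rw [← hi]
    exact pow_mem h3 i
  have h2 := h2' z hzR
  rw [(hjz z hz).eq, mul_inv_cancel_right] at h2
  obtain ⟨k, hk⟩ := h.hp.odd_of_ne_two h.ne_two
  have h3 : z = ((z * z) ^ (k + 1)) := by
    rw [← pow_two, ← pow_mul, show 2 * (k + 1) = p + 1 by omega, pow_succ, hz.2.2, one_mul]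
  rw [h3]
  exact pow_mem h2 _

/-- Every involution of `C(a)` other than `a` inverts the central elements of order `p`. -/
theorem Mixed.inverts {j : G} (hj : orderOf j = 2) (hjc : j ∈ cI a) (hne : j ≠ a) {z : G}
    (hz : z ∈ zP a p) : j * z * j⁻¹ = z⁻¹ := by
  haveI := Fact.mk h.hp
  obtain ⟨g', hg'⟩ := C.min.four_of_invol h.four.ha hj hjc hne
  have hUj : ¬ fitP a p ≤ cI j := fun hle => hne (h.eq_of_cent C hj fun z hz =>
    (mem_cI.1 (hle (zP_le_fitP a p hz))).symm)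
  refine inverts_of_inf_eq_bot hj (fun _ hx => conj_mem_zP hjc hx) ?_ z hz
  by_cases hX : fitP a p ⊓ cI j = ⊥
  · exact le_bot_iff.1 ((inf_le_inf_right _ (zP_le_fitP a p)).trans_eq hX)
  · exact C.alpha a j g' p ⟨hg', h.hp, hX, hUj⟩

/-- Fusion: an element moving `zP a p` into `O(C(a))` lies in `C(a)`. -/
theorem Mixed.mem_of_conj_zP {m : G} (hm : ∀ z ∈ zP a p, m * z * m⁻¹ ∈ coreC a) : m ∈ cI a := by
  have e : m⁻¹ * a * m = a := by
    refine h.eq_of_cent C ?_ fun z hz => ?_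
    · simpa using (orderOf_conj_eq m⁻¹ a).trans h.four.ha
    · have h1 : Commute a (m * z * m⁻¹) := (mem_cI.1 (coreC_le_cI a (hm z hz))).symm
      have := h1.map (MulAut.conj m⁻¹).toMonoidHom
      simpa [MulAut.conj_apply, mul_assoc] using this
  refine mem_cI.2 ?_
  calc m * a = m * (m⁻¹ * a * m) := by rw [e]
    _ = a * m := by group


/-- The central elements of order `p` meet the core of a subgroup with a layer trivially and form a
group of order `p`. -/
theorem Mixed.exists_generator : ∃ z : G, orderOf z = p ∧ zP a p = zpowers z := by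
  haveI := Fact.mk h.hp
  obtain ⟨N, hN, hle, hlay⟩ := h.exists_layer C h.meets le_rfl (h.inf_normal_W C)
  have hcN : ∀ c : G, (∀ x ∈ fitP a p ⊓ cI b, Commute c x) → c ∈ N := fun c hc => hle
    (mem_normalizer_iff_of_finite fun x hx => by rwa [(hc x hx).eq, mul_inv_cancel_right])
  have haN : a ∈ N := hcN a fun x hx => (mem_cI.1 (fitP_le_cI a p hx.1)).symm
  have hbN : b ∈ N := hcN b fun x hx => (mem_cI.1 hx.2).symm
  obtain ⟨j, hjL, hj, hja, hjne⟩ := exists_invol_layer C h.four.ha haN hlay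
  have htriv : ∀ z ∈ zP a p, z ∈ coreK N → z = 1 := by
    intro z hz hzc
    have h1 := h.inverts C hj (mem_cI.2 hja) hjne hz
    rw [(layer_le_cent_coreK hzc hjL).eq, mul_inv_cancel_right] at h1
    have h2 : z ^ 2 = 1 := by rw [pow_two]; nth_rw 1 [h1]; exact inv_mul_cancel z
    exact orderOf_eq_one_iff.1 (Nat.eq_one_of_dvd_coprimes
      ((Nat.coprime_primes h.hp Nat.prime_two).2 h.ne_two)
      (orderOf_dvd_of_pow_eq_one hz.2.2) (orderOf_dvd_of_pow_eq_one h2))
  obtain ⟨R, r, hrR, hRle, hcyc, hR⟩ := C.torus N hN.1 a h.four.ha haN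
  have hzN : ∀ z ∈ zP a p, z ∈ N := fun z hz => hcN z fun x hx => hz.2.1 x hx.1
  haveI : (Cfsg.oddCore ↥N).Normal := CfsgLib.Solvable.pPrimeCore_normal 2 _
  let ψ : zP a p →* ↥N ⧸ Cfsg.oddCore ↥N :=
    (QuotientGroup.mk' _).comp (inclusion (fun z hz => hzN z hz : zP a p ≤ N))
  have hψ : Function.Injective ψ := (injective_iff_map_eq_one ψ).2 fun z hz =>
    Subtype.ext (htriv z z.2 ⟨⟨z, hzN z z.2⟩, (QuotientGroup.eq_one_iff _).1 hz, rfl⟩)
  have hrange : ψ.range ≤ zpowers (QuotientGroup.mk' (Cfsg.oddCore ↥N) ⟨r, (hRle hrR).1⟩) := by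
    rintro _ ⟨z, rfl⟩
    have hzR : (z : G) ∈ R := (hR b hbN h.four.hb h.four.comm.symm h.four.hab.symm).1 z
      ⟨hzN z z.2, zP_le_coreC a p z.2⟩ (h.b_inverts C z.2)
    obtain ⟨i, w, hw, hwe⟩ := hcyc z hzR
    refine ⟨i, ?_⟩
    show (QuotientGroup.mk' (Cfsg.oddCore ↥N) ⟨r, (hRle hrR).1⟩) ^ (i : ℤ) = _
    rw [zpow_natCast, ← map_pow]
    refine QuotientGroup.eq.2 ?_
    have e : (⟨r, (hRle hrR).1⟩ ^ i)⁻¹ * (inclusion (fun z hz => hzN z hz : zP a p ≤ N) z) = w :=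
      Subtype.ext (hwe.symm : (r ^ i)⁻¹ * (z : G) = N.subtype w)
    exact e.symm ▸ hw
  haveI : IsCyclic ψ.range := isCyclic_of_injective (inclusion hrange) (inclusion_injective hrange)
  haveI : IsCyclic (zP a p) := isCyclic_of_injective ψ.rangeRestrict
    fun x y e => hψ (congrArg Subtype.val e)
  obtain ⟨⟨z, hz⟩, hgen⟩ := IsCyclic.exists_generator (α := zP a p)
  have hall : zP a p = zpowers z := by
    refine le_antisymm (fun x hx => ?_) (zpowers_le.2 hz)
    obtain ⟨i, hi⟩ := hgen ⟨x, hx⟩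
    exact ⟨i, congrArg Subtype.val hi⟩
  refine ⟨z, ?_, hall⟩
  rcases (Nat.dvd_prime h.hp).1 (orderOf_dvd_of_pow_eq_one hz.2.2) with h1 | h1
  · exact absurd (by rw [hall, orderOf_eq_one_iff.1 h1, zpowers_one_eq_bot]) (zP_ne_bot h)
  · exact h1

/-- Elements of `p`-power order of `C(a)` centralise the central elements of order `p`. -/
theorem Mixed.commute_zP {Q : Subgroup G} (hQ : IsPGroup p Q) {x : G} (hxQ : x ∈ Q) (hx : x ∈ cI a)
    {z : G} (hz : z ∈ zP a p) : Commute x z := by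
  haveI := Fact.mk h.hp
  obtain ⟨z₀, ho, hall⟩ := h.exists_generator C
  obtain ⟨i, hi⟩ : x * z₀ * x⁻¹ ∈ zpowers z₀ := hall ▸ conj_mem_zP hx (hall.symm ▸ mem_zpowers z₀)
  have hi' : x * z₀ * x⁻¹ = z₀ ^ i := hi.symm
  have hiter : ∀ n : ℕ, x ^ n * z₀ * (x ^ n)⁻¹ = z₀ ^ (i ^ n) := by
    intro n
    induction n with
    | zero => simp
    | succ n ih =>
      calc x ^ (n + 1) * z₀ * (x ^ (n + 1))⁻¹ = x ^ n * (x * z₀ * x⁻¹) * (x ^ n)⁻¹ := by
            rw [pow_succ]; group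
        _ = (x ^ n * z₀ * (x ^ n)⁻¹) ^ i := by rw [hi', conj_zpow]
        _ = z₀ ^ (i ^ (n + 1)) := by rw [ih, ← zpow_mul, pow_succ]
  obtain ⟨k, hk⟩ := hQ ⟨x, hxQ⟩
  have hk' : x ^ p ^ k = 1 := congrArg Subtype.val hk
  have h1 : z₀ ^ (i ^ (p ^ k)) = z₀ ^ (1 : ℤ) := by
    rw [← hiter, hk', one_mul, inv_one, mul_one, zpow_one]
  rw [zpow_eq_zpow_iff_modEq, ho, ← ZMod.intCast_eq_intCast_iff, Int.cast_pow, Int.cast_one,
    ZMod.pow_card_pow] at h1
  have h2 : z₀ ^ i = z₀ ^ (1 : ℤ) := by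
    rw [zpow_eq_zpow_iff_modEq, ho, ← ZMod.intCast_eq_intCast_iff, h1, Int.cast_one]
  rw [zpow_one, ← hi'] at h2
  obtain ⟨l, rfl⟩ : z ∈ zpowers z₀ := hall ▸ hz
  have h3 : Commute x z₀ := mul_inv_eq_iff_eq_mul.1 h2
  exact h3.zpow_right l

/-- A Sylow `p`-subgroup of the centralizer of a `p`-element of `O(C(a))` lies in `O(C(a))` and
contains the central elements of order `p`. -/
theorem Mixed.exists_sylow_cent {x : G} (hzx : zP a p ≤ cI x) :
    ∃ P : Sylow p (cI x), zP a p ≤ (P : Subgroup (cI x)).map (cI x).subtype ∧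
      (P : Subgroup (cI x)).map (cI x).subtype ≤ coreC a := by
  haveI := Fact.mk h.hp
  let S : Set (Subgroup G) := {V | zP a p ≤ V ∧ V ≤ coreC a ⊓ cI x ∧ IsPGroup p V}
  obtain ⟨V, hV⟩ := (Set.toFinite S).exists_maximal
    ⟨zP a p, le_rfl, le_inf (zP_le_coreC a p) hzx, (isPGroup_fitP a p).to_le (zP_le_fitP a p)⟩
  obtain ⟨hZV, hVle, hVp⟩ := hV.prop
  obtain ⟨P, hP⟩ := (hVp.comap_of_injective (cI x).subtype (cI x).subtype_injective).exists_le_sylow
  set P' := (P : Subgroup (cI x)).map (cI x).subtype with hP'def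
  have hVP : V ≤ P' := by
    rw [← inf_eq_left.2 (hVle.trans inf_le_right), ← subgroupOf_map_subtype]
    exact map_mono hP
  have hP'p : IsPGroup p P' := P.isPGroup'.map _
  refine ⟨P, hZV.trans hVP, ?_⟩
  suffices hPV : P' ≤ V from hPV.trans (hVle.trans inf_le_left)
  by_contra hne
  haveI := hP'p.isNilpotent
  have hlt : V.subgroupOf P' < ⊤ := lt_top_iff_ne_top.2 fun e => hne (subgroupOf_eq_top.1 e)
  obtain ⟨⟨m, hm⟩, hmN, hmV⟩ :=
    SetLike.exists_of_lt (Group.normalizerCondition_of_isNilpotent _ hlt)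
  rw [← subgroupOf_normalizer_eq hVP, mem_subgroupOf] at hmN
  have hma : m ∈ cI a := h.mem_of_conj_zP C fun z hz =>
    (hVle ((mem_normalizer_iff.1 hmN z).1 (hZV hz))).1
  refine hmV (mem_subgroupOf.2 (hV.2
    ⟨hZV.trans (le_inf hVP (hVle.trans inf_le_left)), le_inf inf_le_right
      (inf_le_left.trans (map_subtype_le _)), hP'p.to_le inf_le_left⟩
    (le_inf hVP (hVle.trans inf_le_left))
    (mem_inf.2 ⟨hm, C.min.pgroup_mem_coreC h.four.ha h.ne_two hP'p hm hma⟩)))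

/-- Conjugate elements centralising the central elements of order `p` are conjugate in `C(a)`. -/
theorem Mixed.fusion {x m : G} (hzx : zP a p ≤ cI x) (hzy : zP a p ≤ cI (m * x * m⁻¹)) :
    ∃ c ∈ cI a, c * x * c⁻¹ = m * x * m⁻¹ := by
  haveI := Fact.mk h.hp
  set y := m * x * m⁻¹ with hydef
  obtain ⟨Px, hzPx, -⟩ := h.exists_sylow_cent C hzx
  obtain ⟨Py, -, hPy⟩ := h.exists_sylow_cent C hzy
  set Q' := ((Px : Subgroup (cI x)).map (cI x).subtype).map (MulAut.conj m).toMonoidHom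
  have hQ' : Q' ≤ cI y := by
    rw [← cI_conj x m]
    exact map_mono (map_subtype_le _)
  obtain ⟨P2, hP2⟩ := (((Px.isPGroup'.map (cI x).subtype).map (MulAut.conj m).toMonoidHom
    ).comap_of_injective (cI y).subtype (cI y).subtype_injective).exists_le_sylow
  obtain ⟨c, hc⟩ := MulAction.exists_smul_eq (cI y) P2 Py
  refine ⟨(c : G) * m, h.mem_of_conj_zP C fun z hz => hPy ?_, ?_⟩
  · have h1 : (⟨m * z * m⁻¹, hQ' ⟨z, hzPx hz, rfl⟩⟩ : cI y) ∈ (P2 : Subgroup (cI y)) :=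
      hP2 ⟨z, hzPx hz, rfl⟩
    have h2 : c * (⟨m * z * m⁻¹, hQ' ⟨z, hzPx hz, rfl⟩⟩ : cI y) * c⁻¹ ∈ (Py : Subgroup (cI y)) :=
      hc ▸ ⟨_, h1, rfl⟩
    refine ⟨_, h2, ?_⟩
    show (c : G) * (m * z * m⁻¹) * (c : G)⁻¹ = _
    group
  · calc (c : G) * m * x * ((c : G) * m)⁻¹ = (c : G) * y * (c : G)⁻¹ := by simp only [y]; group
      _ = y := conj_eq_self c.2

/-- The fixed part of a normal subgroup of `C(a)` inside the `p`-core is invariant under the
rotation. -/
theorem Mixed.conj_fixed_mem {K : Subgroup G} (hK : K ≤ fitP a p)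
    (hKn : cI a ≤ normalizer (K : Set G)) {x : G} (hx : x ∈ K ⊓ cI b) :
    g * x * g⁻¹ ∈ K ⊓ cI b := by
  haveI := Fact.mk h.hp
  have hxO : x ∈ coreC a := fitP_le_coreC a p (hK hx.1)
  have hy := h.four.rot_core C.min ⟨hxO, C.min.mem_coreC h.four.hb hx.2 (odd_orderOf_mem_coreC hxO)⟩
  obtain ⟨c, hc, e⟩ := h.fusion C (x := x) (m := g)
    (fun z hz => mem_cI.2 (h.commute_zP C (isPGroup_fitP a p) (hK hx.1) (coreC_le_cI a hxO) hz).eq.symm)
    (fun z hz => mem_cI.2 (h.commute_zP C ((isPGroup_fitP a p).map (MulAut.conj g).toMonoidHom)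
      (x := g * x * g⁻¹) ⟨x, hK hx.1, rfl⟩ (coreC_le_cI a hy.1) hz).eq.symm)
  exact ⟨e ▸ (mem_normalizer_iff.1 (hKn hc) x).1 hx.1, coreC_le_cI b hy.2⟩

end CfsgLib.GW
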