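import Cfsg.Agent.Lib.GW.Component.Local
import Cfsg.Agent.Lib.Transfer.UniqueOrderP
import Cfsg.Agent.Lib.Solvable.Nilpotent

/-!
The component leg: the possible shapes of the `p`-core of `O(C(a))`.
-/

set_option autoImplicit false
set_option linter.unusedSectionVars false
set_option linter.style.haveILetI false

namespace CfsgLib.GW

open Subgroup CfsgLib.Invol
open scoped commutatorElement

universe u

variable {G : Type u} [Group G] [Finite G]

/-- `O(C(a))` has a proper quotient on which `C(a)` acts trivially, with the central elements of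
order `p` in the kernel. -/
def CentQuot (a : G) (p : ℕ) : Prop :=
  ∃ K : Subgroup G, K < coreC a ∧ zP a p ≤ K ∧ ⁅coreC a, cI a⁆ ≤ K

/-- The elements of order dividing `p` of `fitP a p` that are central modulo `zP a p`. -/
def eP (a : G) (p : ℕ) : Subgroup G where
  carrier := {x | x ∈ fitP a p ∧ (∀ u ∈ fitP a p, x * u * x⁻¹ * u⁻¹ ∈ zP a p) ∧ x ^ p = 1 ∧ Odd p}
    ∪ {1}
  one_mem' := Or.inr rfl
  mul_mem' := fun {x y} hx hy => by
    rcases hx with hx | rfl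
    swap; · rwa [one_mul]
    rcases hy with hy | rfl
    swap; · rw [mul_one]; exact Or.inl hx
    obtain ⟨hxU, hxc, hxp, k, hk⟩ := hx
    obtain ⟨hyU, hyc, hyp, -⟩ := hy
    refine Or.inl ⟨mul_mem hxU hyU, fun u hu => ?_, ?_, k, hk⟩
    · have h2 := (hyc u hu).2.1 x hxU
      rw [show x * y * u * (x * y)⁻¹ * u⁻¹ = x * (y * u * y⁻¹ * u⁻¹) * x⁻¹ * (x * u * x⁻¹ * u⁻¹) by
        group, ← h2.eq, mul_inv_cancel_right]
      exact mul_mem (hyc u hu) (hxc u hu)
    · have hc : y * x * y⁻¹ * x⁻¹ ∈ zP a p := hyc x hxU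
      obtain ⟨c, hcdef⟩ : ∃ c, c = y * x * y⁻¹ * x⁻¹ := ⟨_, rfl⟩
      rw [← hcdef] at hc
      have hcx : Commute c x := hc.2.1 x hxU
      have hcy : Commute c y := hc.2.1 y hyU
      have hyn : ∀ n : ℕ, y ^ n * x = c ^ n * x * y ^ n := by
        intro n
        induction n with
        | zero => simp
        | succ n ih =>
          calc y ^ (n + 1) * x = y * (y ^ n * x) := by rw [pow_succ', mul_assoc]
            _ = y * c ^ n * x * y ^ n := by rw [ih]; group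
            _ = c ^ n * (y * x) * y ^ n := by rw [(hcy.pow_left n).eq.symm]; group
            _ = c ^ n * (c * x * y) * y ^ n := by rw [hcdef]; group
            _ = c ^ (n + 1) * x * y ^ (n + 1) := by rw [pow_succ c, pow_succ' y]; group
      have hmul : ∀ n : ℕ, (x * y) ^ n = c ^ n.choose 2 * x ^ n * y ^ n := by
        intro n
        induction n with
        | zero => simp
        | succ n ih =>
          calc (x * y) ^ (n + 1) = c ^ n.choose 2 * x ^ n * (y ^ n * x) * y := by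
                rw [pow_succ, ih]; group
            _ = c ^ n.choose 2 * (x ^ n * c ^ n) * x * y ^ n * y := by rw [hyn]; group
            _ = c ^ n.choose 2 * c ^ n * x ^ (n + 1) * y ^ (n + 1) := by
                rw [((hcx.pow_pow n n).symm).eq, pow_succ x, pow_succ y]; group
            _ = c ^ (n + 1).choose 2 * x ^ (n + 1) * y ^ (n + 1) := by
                rw [Nat.choose_succ_succ' n 1, Nat.choose_one_right, ← pow_add,
                  add_comm (n.choose (1 + 1))]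
      rw [hmul, hxp, hyp, mul_one, mul_one, Nat.choose_two_right,
        show p * (p - 1) / 2 = p * k by
          rw [hk, show 2 * k + 1 - 1 = 2 * k by omega,
            show (2 * k + 1) * (2 * k) = (2 * k + 1) * k * 2 by ring,
            Nat.mul_div_cancel _ two_pos],
        pow_mul, hc.2.2, one_pow]
  inv_mem' := fun {x} hx => by
    rcases hx with ⟨hxU, hxc, hxp, hodd⟩ | rfl
    swap; · exact Or.inr inv_one
    refine Or.inl ⟨inv_mem hxU, fun u hu => ?_, by rw [inv_pow, hxp, inv_one], hodd⟩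
    have h1 := hxc u hu
    have h2 := h1.2.1 x hxU
    rw [show x⁻¹ * u * x⁻¹⁻¹ * u⁻¹ = x⁻¹ * (x * u * x⁻¹ * u⁻¹)⁻¹ * x by group,
      mul_assoc, h2.inv_left.eq, ← mul_assoc, inv_mul_cancel, one_mul]
    exact inv_mem h1

theorem eP_le_fitP (a : G) (p : ℕ) : eP a p ≤ fitP a p := fun x hx => by
  rcases hx with hx | rfl
  · exact hx.1
  · exact one_mem _

theorem comm_mem_of_eP {a x u : G} {p : ℕ} (hx : x ∈ eP a p) (hu : u ∈ fitP a p) :
    x * u * x⁻¹ * u⁻¹ ∈ zP a p := by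
  rcases hx with hx | rfl
  · exact hx.2.1 u hu
  · simp

theorem pow_eq_one_of_eP {a x : G} {p : ℕ} (hx : x ∈ eP a p) : x ^ p = 1 := by
  rcases hx with hx | rfl
  · exact hx.2.2.1
  · exact one_pow p

theorem conj_mem_eP {a x e : G} {p : ℕ} (hx : x ∈ cI a) (he : e ∈ eP a p) :
    x * e * x⁻¹ ∈ eP a p := by
  rcases he with he | rfl
  swap; · exact Or.inr (by simp)
  refine Or.inl ⟨conj_mem_fitP hx he.1, fun u hu => ?_,
    by rw [conj_pow, he.2.2.1, mul_one, mul_inv_cancel], he.2.2.2⟩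
  have hu' : x⁻¹ * u * x ∈ fitP a p := by simpa using conj_mem_fitP (inv_mem hx) hu
  rw [show x * e * x⁻¹ * u * (x * e * x⁻¹)⁻¹ * u⁻¹ =
    x * (e * (x⁻¹ * u * x) * e⁻¹ * (x⁻¹ * u * x)⁻¹) * x⁻¹ by group]
  exact conj_mem_zP hx (he.2.1 _ hu')

/-- `C(a)` is generated by its core and its involutions. -/
theorem Min.cI_le_closure (M : Min G) {a : G} (ha : orderOf a = 2) :
    cI a ≤ coreC a ⊔ closure {j | orderOf j = 2 ∧ j ∈ cI a} := by
  haveI : Fact (Nat.Prime 2) := ⟨Nat.prime_two⟩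
  set J := coreC a ⊔ closure {j | orderOf j = 2 ∧ j ∈ cI a}
  obtain ⟨T, haT, hTc⟩ := M.exists_sylow ha
  obtain ⟨D⟩ := M.dih T
  have hTJ : (T : Subgroup G) ≤ J := by
    intro w hw
    have hs : ∀ i : ℤ, ((D.r ^ i * D.s : (T : Subgroup G)) : G) ∈ J := fun i => mem_sup_right
      (subset_closure ⟨by rw [Subgroup.orderOf_coe, D.orderOf_zy], hTc (SetLike.coe_mem _)⟩)
    rcases D.cases ⟨w, hw⟩ with ⟨i, e⟩ | ⟨i, e⟩
    · have h1 := mul_mem (hs i) (inv_mem (hs 0))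
      rw [← Subgroup.coe_inv, ← Subgroup.coe_mul] at h1
      have h2 : D.r ^ i * D.s * (D.r ^ (0 : ℤ) * D.s)⁻¹ = D.r ^ i := by group
      rw [h2, ← e] at h1
      exact h1
    · have h1 := hs i
      rw [← e] at h1
      exact h1
  obtain ⟨e⟩ := dihEquiv D
  obtain ⟨N, hN, hNo, k, hk⟩ :=
    Cfsg.Agent.S0514.result T (2 * D.h) (by have := D.h_pos; omega) ⟨e⟩ a ha
  have hNJ : N ≤ J.subgroupOf (cI a) := fun y hy => mem_subgroupOf.2 (mem_sup_left (M.mem_coreC ha y.2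
    (by rw [Subgroup.orderOf_coe]; exact hNo.of_dvd_nat (Subgroup.orderOf_dvd_natCard N hy))))
  rw [← subgroupOf_eq_top, ← index_eq_one]
  obtain ⟨l, -, hl⟩ := (Nat.dvd_prime_pow Nat.prime_two).1
    (hk ▸ index_dvd_of_le hNJ : (J.subgroupOf (cI a)).index ∣ 2 ^ k)
  rcases l with _ | l
  · rw [hl, pow_zero]
  exfalso
  refine (T.subtype hTc).not_dvd_index ((hl ▸ dvd_pow_self 2 l.succ_ne_zero).trans (index_dvd_of_le ?_))
  exact fun y hy => mem_subgroupOf.2 (hTJ (mem_subgroupOf.1 hy))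

/-- An invariant proper subgroup of `O(C(a))` modulo which the involutions act trivially gives a
central quotient. -/
theorem Min.centQuot_of_scalar' (M : Min G) {a : G} {p : ℕ} (ha : orderOf a = 2) {R0 : Subgroup G}
    (hle : R0 ≤ coreC a) (hn : ∀ x ∈ cI a, ∀ r ∈ R0, x * r * x⁻¹ ∈ R0) (hz : zP a p ≤ R0)
    (hne : R0 ≠ coreC a)
    (hinv : ∀ j, orderOf j = 2 → j ∈ cI a → ∀ x ∈ coreC a, ⁅x, j⁆ ∈ R0) :
    ∃ K : Subgroup G, R0 ≤ K ∧ K < coreC a ∧ zP a p ≤ K ∧ ⁅coreC a, cI a⁆ ≤ K := by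
  set D := ⁅coreC a, coreC a⁆
  have hDn : ∀ x ∈ cI a, ∀ r ∈ D, x * r * x⁻¹ ∈ D := fun x hx r hr => by
    have h1 : coreC a ≤ (coreC a).map (MulAut.conj x).toMonoidHom := fun y hy =>
      ⟨x⁻¹ * y * x, by simpa using conj_mem_coreC (inv_mem hx) hy, by simp [mul_assoc]⟩
    have h2 : (coreC a).map (MulAut.conj x).toMonoidHom ≤ coreC a := by
      rintro _ ⟨y, hy, rfl⟩; exact conj_mem_coreC hx hy
    have h3 : D.map (MulAut.conj x).toMonoidHom = D := by
      rw [map_commutator, le_antisymm h2 h1]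
    exact h3.le ⟨r, hr, rfl⟩
  set K := R0 ⊔ D with hK
  have hKn : ∀ x ∈ cI a, ∀ r ∈ K, x * r * x⁻¹ ∈ K := fun x hx r hr => by
    refine (Subgroup.map_sup R0 D (MulAut.conj x).toMonoidHom).trans_le (sup_le_sup ?_ ?_)
      (⟨r, hr, rfl⟩ : x * r * x⁻¹ ∈ K.map (MulAut.conj x).toMonoidHom)
    · rintro _ ⟨y, hy, rfl⟩; exact hn x hx y hy
    · rintro _ ⟨y, hy, rfl⟩; exact hDn x hx y hy
  refine ⟨K, le_sup_left, lt_of_le_of_ne (sup_le hle (commutator_le.2 fun x hx y hy => by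
    rw [commutatorElement_def]; exact mul_mem (mul_mem (mul_mem hx hy) (inv_mem hx)) (inv_mem hy)))
    fun e => hne ?_, hz.trans le_sup_left, commutator_le.2 fun x hx y hy => ?_⟩
  · set O := coreC a
    set R' := R0.subgroupOf O
    haveI : R'.Normal := ⟨fun y hy x => mem_subgroupOf.2
      (hn x (coreC_le_cI a x.2) y (mem_subgroupOf.1 hy))⟩
    haveI : Group.IsSolvable O := CfsgLib.FT.odd_order_solvable (odd_coreC a)
    have htop : commutator (↥O ⧸ R') = ⊤ := by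
      refine top_le_iff.1 fun q _ => ?_
      obtain ⟨x, rfl⟩ := QuotientGroup.mk'_surjective R' q
      have hx : (x : G) ∈ R0 ⊔ D := hK ▸ e.ge x.2
      have hmap : ((R' ⊔ commutator O).map O.subtype) = R0 ⊔ D := by
        rw [Subgroup.map_sup, map_subgroupOf_eq_of_le hle, _root_.commutator_def, map_commutator,
          ← MonoidHom.range_eq_map, range_subtype]
      obtain ⟨y, hy, hye⟩ := hmap.ge hx
      obtain rfl : y = x := Subtype.ext hye
      have h1 := mem_map_of_mem (QuotientGroup.mk' R') hy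
      rwa [Subgroup.map_sup, show R'.map (QuotientGroup.mk' R') = ⊥ from
        (Subgroup.map_eq_bot_iff _).2 (QuotientGroup.ker_mk' R').ge, bot_sup_eq, _root_.commutator_def, map_commutator,
        map_top_of_surjective _ (QuotientGroup.mk'_surjective R')] at h1
    by_contra hne'
    haveI : Nontrivial (↥O ⧸ R') := QuotientGroup.nontrivial_iff.2 fun e' =>
      hne' (le_antisymm hle (subgroupOf_eq_top.1 e'))
    exact absurd htop (ne_of_lt (Group.IsSolvable.commutator_lt_top_of_nontrivial _))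
  · let S : Subgroup G :=
      { carrier := {y | y ∈ cI a ∧ ∀ x ∈ coreC a, ⁅x, y⁆ ∈ K}
        one_mem' := ⟨one_mem _, fun x _ => by rw [commutatorElement_one_right]; exact one_mem _⟩
        mul_mem' := fun {u v} hu hv => ⟨mul_mem hu.1 hv.1, fun x hx => by
          rw [show ⁅x, u * v⁆ = ⁅x, u⁆ * (u * ⁅x, v⁆ * u⁻¹) by simp only [commutatorElement_def]; group]
          exact mul_mem (hu.2 x hx) (hKn u hu.1 _ (hv.2 x hx))⟩
        inv_mem' := fun {u} hu => ⟨inv_mem hu.1, fun x hx => by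
          rw [show ⁅x, u⁻¹⁆ = u⁻¹ * ⁅x, u⁆⁻¹ * u⁻¹⁻¹ by simp only [commutatorElement_def]; group]
          exact hKn _ (inv_mem hu.1) _ (inv_mem (hu.2 x hx))⟩ }
    have hS : coreC a ⊔ closure {j | orderOf j = 2 ∧ j ∈ cI a} ≤ S := sup_le
      (fun y hy => ⟨coreC_le_cI a hy, fun x hx => mem_sup_right (commutator_mem_commutator hx hy)⟩)
      ((closure_le S).2 fun j hj => ⟨hj.2, fun x hx => mem_sup_left (hinv j hj.1 hj.2 x hx)⟩)
    exact (hS (M.cI_le_closure ha hy)).2 x hx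

/-- The central quotient of `Min.centQuot_of_scalar'`. -/
theorem Min.centQuot_of_scalar (M : Min G) {a : G} {p : ℕ} (ha : orderOf a = 2) {R0 : Subgroup G}
    (hle : R0 ≤ coreC a) (hn : ∀ x ∈ cI a, ∀ r ∈ R0, x * r * x⁻¹ ∈ R0) (hz : zP a p ≤ R0)
    (hne : R0 ≠ coreC a)
    (hinv : ∀ j, orderOf j = 2 → j ∈ cI a → ∀ x ∈ coreC a, ⁅x, j⁆ ∈ R0) : CentQuot a p :=
  let ⟨K, _, hK⟩ := M.centQuot_of_scalar' ha hle hn hz hne hinv
  ⟨K, hK⟩

/-- The subgroup of `O(C(a))` acting trivially on `eP a p` modulo `zP a p`. -/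
def actsTriv (a : G) (p : ℕ) : Subgroup G where
  carrier := {x | x ∈ coreC a ∧ ∀ e ∈ eP a p, x * e * x⁻¹ * e⁻¹ ∈ zP a p}
  one_mem' := ⟨one_mem _, fun e _ => by simp⟩
  mul_mem' := fun {x y} hx hy => ⟨mul_mem hx.1 hy.1, fun e he => by
    rw [show x * y * e * (x * y)⁻¹ * e⁻¹ = x * (y * e * y⁻¹ * e⁻¹) * x⁻¹ * (x * e * x⁻¹ * e⁻¹) by
      group]
    exact mul_mem (conj_mem_zP (coreC_le_cI a hx.1) (hy.2 e he)) (hx.2 e he)⟩
  inv_mem' := fun {x} hx => ⟨inv_mem hx.1, fun e he => by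
    rw [show x⁻¹ * e * x⁻¹⁻¹ * e⁻¹ = x⁻¹ * (x * e * x⁻¹ * e⁻¹)⁻¹ * x⁻¹⁻¹ by group]
    exact conj_mem_zP (coreC_le_cI a (inv_mem hx.1)) (inv_mem (hx.2 e he))⟩

/-- The hypothesis of the twist lemma without scalar action: an abelian normal subgroup of
`O(C(a))` inverted by every involution of `C(a)` other than `a`, supplemented by the fixed points
of `b`, which do not centralise it. -/
def TwistShape (a b : G) : Prop :=
  ∃ F : Subgroup G, F ≤ coreC a ∧ (∀ x ∈ cI a, ∀ f ∈ F, x * f * x⁻¹ ∈ F) ∧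
    (∀ x ∈ F, ∀ y ∈ F, x * y = y * x) ∧
    (∀ j, orderOf j = 2 → j ∈ cI a → j ≠ a → ∀ x ∈ F, j * x * j⁻¹ = x⁻¹) ∧
    coreC a = F ⊔ (coreC a ⊓ cI b) ∧ ¬ coreC a ⊓ cI b ≤ centralizer (F : Set G) ∧
    coreC a ⊓ centralizer (F : Set G) ≤ F

variable (C : Ctx G) {a b g : G} {p : ℕ} (h : Mixed a b g p)

include C h

/-- Either `O(C(a))` centralises the central elements of order `p` or it has a central quotient. -/
theorem Mixed.cent_or_quot :
    (∀ x ∈ coreC a, ∀ z ∈ zP a p, Commute x z) ∨ CentQuot a p := by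
  classical
  refine or_iff_not_imp_left.2 fun hno => ⟨coreC a ⊓ centralizer (zP a p : Set G), ?_, ?_, ?_⟩
  · refine lt_of_le_of_ne inf_le_left fun e => hno fun x hx z hz => ?_
    exact (mem_centralizer_iff.1 (e.symm.le hx).2 z hz).symm
  · exact fun z hz => ⟨zP_le_coreC a p hz, mem_centralizer_iff.2 fun w hw =>
      hw.2.1 z (zP_le_fitP a p hz)⟩
  · obtain ⟨z₀, -, hall⟩ := h.exists_generator C
    have hact : ∀ x ∈ cI a, ∃ i : ℤ, ∀ z ∈ zP a p, x * z * x⁻¹ = z ^ i := by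
      intro x hx
      obtain ⟨i, hi⟩ : x * z₀ * x⁻¹ ∈ zpowers z₀ := hall ▸ conj_mem_zP hx (hall.symm ▸ mem_zpowers z₀)
      refine ⟨i, fun z hz => ?_⟩
      obtain ⟨j, rfl⟩ : z ∈ zpowers z₀ := hall ▸ hz
      show x * z₀ ^ j * x⁻¹ = (z₀ ^ j) ^ i
      rw [← conj_zpow, ← hi, ← zpow_mul, ← zpow_mul, mul_comm]
    refine commutator_le.2 fun x hx y hy => ⟨?_, mem_centralizer_iff.2 fun z hz => ?_⟩
    · rw [commutatorElement_def, show x * y * x⁻¹ * y⁻¹ = x * (y * x⁻¹ * y⁻¹) by group]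
      exact mul_mem hx (conj_mem_coreC hy (inv_mem hx))
    · have hcomm : ∀ w, w ∈ zP a p → ⁅x, y⁆ * w * ⁅x, y⁆⁻¹ = w := by
        intro w hw
        have hw' : (y * x)⁻¹ * w * (y * x) ∈ zP a p := by
          simpa using conj_mem_zP (inv_mem (mul_mem hy (coreC_le_cI a hx))) hw
        obtain ⟨i', hi'⟩ := hact x (coreC_le_cI a hx)
        obtain ⟨j', hj'⟩ := hact y hy
        have e1 : x * y * ((y * x)⁻¹ * w * (y * x)) * (x * y)⁻¹ =
            y * x * ((y * x)⁻¹ * w * (y * x)) * (y * x)⁻¹ := by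
          calc x * y * ((y * x)⁻¹ * w * (y * x)) * (x * y)⁻¹
              = x * (y * ((y * x)⁻¹ * w * (y * x)) * y⁻¹) * x⁻¹ := by group
            _ = (((y * x)⁻¹ * w * (y * x)) ^ j') ^ i' := by rw [hj' _ hw', hi' _ (zpow_mem hw' j')]
            _ = (((y * x)⁻¹ * w * (y * x)) ^ i') ^ j' := by rw [← zpow_mul, ← zpow_mul, mul_comm]
            _ = y * (x * ((y * x)⁻¹ * w * (y * x)) * x⁻¹) * y⁻¹ := by
              rw [hi' _ hw', hj' _ (zpow_mem hw' i')]
            _ = _ := by group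
        calc ⁅x, y⁆ * w * ⁅x, y⁆⁻¹ = x * y * ((y * x)⁻¹ * w * (y * x)) * (x * y)⁻¹ := by
              rw [commutatorElement_def]; group
          _ = w := by rw [e1]; group
      exact (mul_inv_eq_iff_eq_mul.1 (hcomm z hz)).symm

/-- For an element of the common core centralising, with its conjugate by the rotation, the central
elements of order `p`, some element of its centralizer moves `a` to `b`. -/
theorem Mixed.exists_rot {w : G} (hw : w ∈ coreC a ⊓ coreC b) (hwz : ∀ z ∈ zP a p, Commute w z)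
    (hw0z : ∀ z ∈ zP a p, Commute (g⁻¹ * w * g) z) : ∃ l : G, Commute l w ∧ l * a * l⁻¹ = b := by
  have hwe : g * (g⁻¹ * w * g) * g⁻¹ = w := by group
  obtain ⟨c, hc, e⟩ := h.fusion C (x := g⁻¹ * w * g) (m := g)
    (fun z hz => mem_cI.2 (hw0z z hz).eq.symm)
    (fun z hz => mem_cI.2 (hwe.symm ▸ (hwz z hz).eq.symm))
  rw [hwe] at e
  refine ⟨g * c⁻¹, mul_inv_eq_iff_eq_mul.1 ?_, ?_⟩
  · calc g * c⁻¹ * w * (g * c⁻¹)⁻¹ = g * (c⁻¹ * w * c) * g⁻¹ := by group
      _ = g * (g⁻¹ * w * g) * g⁻¹ := by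
        rw [show c⁻¹ * w * c = g⁻¹ * w * g by
          calc c⁻¹ * w * c = c⁻¹ * (c * (g⁻¹ * w * g) * c⁻¹) * c := by rw [e]
            _ = g⁻¹ * w * g := by group]
      _ = w := hwe
  · calc g * c⁻¹ * a * (g * c⁻¹)⁻¹ = g * (c⁻¹ * a * c⁻¹⁻¹) * g⁻¹ := by group
      _ = b := by rw [conj_eq_self (inv_mem hc), h.four.ga]


/-- When `O(C(a))` centralises the central elements of order `p`, every element of the common core
has such a conjugating element in its centralizer. -/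
theorem Mixed.exists_rot_of_cent (hcent : ∀ x ∈ coreC a, ∀ z ∈ zP a p, Commute x z) {w : G}
    (hw : w ∈ coreC a ⊓ coreC b) : ∃ l : G, Commute l w ∧ l * a * l⁻¹ = b := by
  have hgN : g ∈ normalizer ((coreC a ⊓ coreC b : Subgroup G) : Set G) :=
    mem_normalizer_iff_of_finite fun x hx => h.four.rot_core C.min hx
  have hw0 : g⁻¹ * w * g ∈ coreC a ⊓ coreC b := by
    have := (mem_normalizer_iff.1 (inv_mem hgN) w).1 hw
    simpa using this
  exact h.exists_rot C hw (hcent _ hw.1) (hcent _ hw0.1)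

/-- In a subgroup moving `a` to `b` and containing the central elements of order `p`, an element of
`p`-power order of the core lying in `O(C(a))` and inverted by `b` is trivial. -/
theorem Mixed.eq_one_of_coreK {M : Subgroup G} (haM : a ∈ M) (hbM : b ∈ M) {l : G} (hl : l ∈ M)
    (hla : l * a * l⁻¹ = b) (hZM : zP a p ≤ M) {Q : Subgroup G} (hQ : IsPGroup p Q) {v : G}
    (hvQ : v ∈ Q) (hv : v ∈ coreC a) (hvK : v ∈ coreK M) (hinv : b * v * b⁻¹ = v⁻¹) : v = 1 := by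
  haveI := Fact.mk h.hp
  obtain ⟨K0, hK0def⟩ : ∃ K0 : Subgroup G, K0 = coreK M := ⟨_, rfl⟩
  rw [← hK0def] at hvK
  have hK0odd : Odd (Nat.card K0) := by
    rw [hK0def, card_map_of_injective (subtype_injective _)]
    exact Nat.coprime_two_right.1 (CfsgLib.Solvable.pPrimeCore_coprime 2)
  have hMK : M ≤ normalizer (K0 : Set G) := by
    rw [hK0def]
    refine fun x hx => mem_normalizer_iff_of_finite fun y hy => ?_
    obtain ⟨y', hy', rfl⟩ := hy
    exact ⟨⟨x, hx⟩ * y' * (⟨x, hx⟩ : M)⁻¹,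
      (CfsgLib.Solvable.pPrimeCore_normal 2 ↥M).conj_mem y' hy' ⟨x, hx⟩, rfl⟩
  set J : Subgroup G := K0 ⊔ zP a p with hJ
  have hZp : IsPGroup p (zP a p) := (isPGroup_fitP a p).to_le (zP_le_fitP a p)
  have hvZ : ∀ z ∈ zP a p, Commute v z := fun z hz =>
    h.commute_zP C hQ hvQ (coreC_le_cI a hv) hz
  have hV0 : IsPGroup p (zpowers v ⊔ zP a p : Subgroup G) :=
    (hQ.to_le (zpowers_le.2 hvQ)).to_sup_of_normal_left' hZp fun z hz =>
      mem_normalizer_iff_of_finite fun y hy => by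
        obtain ⟨i, rfl⟩ := hy
        rw [((hvZ z hz).zpow_left i).eq.symm, mul_inv_cancel_right]
        exact zpow_mem (mem_zpowers v) i
  let S : Set (Subgroup G) := {V | zpowers v ⊔ zP a p ≤ V ∧ V ≤ coreC a ⊓ J ∧ IsPGroup p V}
  obtain ⟨V, hV⟩ := (Set.toFinite S).exists_maximal
    ⟨zpowers v ⊔ zP a p, le_rfl, sup_le (zpowers_le.2 ⟨hv, mem_sup_left hvK⟩)
      (le_inf (zP_le_coreC a p) le_sup_right), hV0⟩
  obtain ⟨hV0V, hVle, hVp⟩ := hV.prop
  obtain ⟨P, hP⟩ := (hVp.comap_of_injective J.subtype J.subtype_injective).exists_le_sylow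
  set P' := (P : Subgroup J).map J.subtype
  have hVP : V ≤ P' := by
    rw [← inf_eq_left.2 (hVle.trans inf_le_right), ← subgroupOf_map_subtype]
    exact map_mono hP
  have hP'p : IsPGroup p P' := P.isPGroup'.map _
  have hP'V : P' ≤ V := by
    by_contra hne
    haveI := hP'p.isNilpotent
    have hlt : V.subgroupOf P' < ⊤ := lt_top_iff_ne_top.2 fun e => hne (subgroupOf_eq_top.1 e)
    obtain ⟨⟨m, hm⟩, hmN, hmV⟩ :=
      SetLike.exists_of_lt (Group.normalizerCondition_of_isNilpotent _ hlt)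
    rw [← subgroupOf_normalizer_eq hVP, mem_subgroupOf] at hmN
    have hma : m ∈ cI a := h.mem_of_conj_zP C fun z hz =>
      (hVle ((mem_normalizer_iff.1 hmN z).1 (hV0V (mem_sup_right hz)))).1
    refine hmV (mem_subgroupOf.2 (hV.2
      ⟨hV0V.trans (le_inf hVP (hVle.trans inf_le_left)), le_inf inf_le_right
        (inf_le_left.trans (map_subtype_le _)), hP'p.to_le inf_le_left⟩
      (le_inf hVP (hVle.trans inf_le_left))
      (mem_inf.2 ⟨hm, C.min.pgroup_mem_coreC h.four.ha h.ne_two hP'p hm hma⟩)))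
  -- the trace on the core is a Sylow subgroup of the core centralised by `a`
  haveI : (K0.subgroupOf J).Normal :=
    normal_subgroupOf_of_le_normalizer (sup_le le_normalizer (hZM.trans hMK))
  obtain ⟨Qs, hQs⟩ := CfsgLib.Transfer.exists_sylow_eq_subgroupOf P (K0.subgroupOf J)
  set Qa : Subgroup G := P' ⊓ K0 with hQa
  have hQacI : ∀ y ∈ Qa, Commute a y := fun y hy =>
    (mem_cI.1 (coreC_le_cI a (hVle (hP'V hy.1)).1)).symm
  have hcard : ∀ R : Sylow p K0, Nat.card R = Nat.card Qa := by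
    intro R
    have e1 : Nat.card (Qs : Subgroup (K0.subgroupOf J)) = Nat.card Qa := by
      rw [← card_map_of_injective (f := (K0.subgroupOf J).subtype) (subtype_injective _), hQs,
        subgroupOf_map_subtype, ← card_map_of_injective (f := J.subtype) (subtype_injective _),
        map_inf _ _ _ J.subtype_injective, subgroupOf_map_subtype, hQa,
        inf_eq_left.2 (le_sup_left : K0 ≤ J)]
    rw [← e1, Sylow.card_eq_multiplicity, Sylow.card_eq_multiplicity,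
      Nat.card_congr (subgroupOfEquivOfLe (le_sup_left : K0 ≤ J)).toEquiv]
  set Qb : Subgroup G := Qa.map (MulAut.conj l).toMonoidHom with hQb
  have hQbK : Qb ≤ K0 := by
    rintro _ ⟨y, hy, rfl⟩
    exact (mem_normalizer_iff.1 (hMK hl) y).1 hy.2
  have hQbb : ∀ y ∈ Qb, Commute b y := by
    rintro _ ⟨y, hy, rfl⟩
    have := (hQacI y hy).map (MulAut.conj l).toMonoidHom
    simpa [MulAut.conj_apply, hla] using this
  have hA : zpowers b ≤ normalizer (K0 : Set G) := zpowers_le.2 (hMK hbM)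
  have hcop : (Nat.card (zpowers b)).Coprime (Nat.card K0) := by
    rw [Nat.card_zpowers, h.four.hb]; exact Nat.coprime_two_left.2 hK0odd
  have hs : Group.IsSolvable (zpowers b) ∨ Group.IsSolvable K0 :=
    Or.inr (CfsgLib.FT.odd_order_solvable hK0odd)
  obtain ⟨P1, hvP1, hP1b⟩ := CfsgLib.Coprime.exists_invariant_sylow_ge hA hcop hs
    (hQ.to_le (zpowers_le.2 hvQ)) (zpowers_le.2 hvK) (zpowers_le.2
      (mem_normalizer_iff_of_finite fun y hy => by
        obtain ⟨i, rfl⟩ := hy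
        rw [← conj_zpow, hinv]
        exact zpow_mem (inv_mem (mem_zpowers v)) i))
  let S2 : Sylow p K0 := Sylow.ofCard (Qb.subgroupOf K0) (by
    rw [Nat.card_congr (subgroupOfEquivOfLe hQbK).toEquiv, hQb, card_map_of_injective (MulEquiv.injective _), ← hcard P1]
    exact P1.card_eq_multiplicity)
  have hS2 : (S2 : Subgroup K0).map K0.subtype = Qb := by
    show (Qb.subgroupOf K0).map K0.subtype = Qb
    exact map_subgroupOf_eq_of_le hQbK
  obtain ⟨c, hc, hce⟩ := CfsgLib.Coprime.exists_conj_invariant_sylow hA hcop hs S2 P1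
    (zpowers_le.2 (mem_normalizer_iff_of_finite fun y hy => by
      rw [hS2] at hy ⊢
      rwa [(hQbb y hy).eq, mul_inv_cancel_right])) hP1b
  obtain ⟨y, hy, hye⟩ : v ∈ Qb.map (MulAut.conj c).toMonoidHom := by
    rw [← hS2, hce]; exact hvP1 (mem_zpowers v)
  have hcb : Commute b c := mem_centralizer_iff.1 hc.2 b (mem_zpowers b)
  have hbv : Commute b v := by
    rw [← hye]
    exact (hcb.mul_right (hQbb y hy)).mul_right hcb.inv_right
  rw [hbv.eq, mul_inv_cancel_right] at hinv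
  have h2 : v ^ 2 = 1 := by rw [pow_two]; nth_rw 1 [hinv]; exact inv_mul_cancel v
  obtain ⟨k, hk⟩ := hQ ⟨v, hvQ⟩
  exact orderOf_eq_one_iff.1 (Nat.eq_one_of_dvd_coprimes
    (((Nat.coprime_primes h.hp Nat.prime_two).2 h.ne_two).pow_left k)
    (orderOf_dvd_of_pow_eq_one (congrArg Subtype.val hk :)) (orderOf_dvd_of_pow_eq_one h2))

/-- The key fact: elements of order `p` inverted by `b` which commute with a nontrivial element of
the common core are central. -/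
theorem Mixed.mem_zP_of_inverted {w : G} (hwz : ∀ z ∈ zP a p, Commute w z)
    (hw0z : ∀ z ∈ zP a p, Commute (g⁻¹ * w * g) z)
    (hw : w ∈ coreC a ⊓ coreC b) (hw1 : w ≠ 1) {u : G} (hu : u ∈ fitP a p)
    (hinv : b * u * b⁻¹ = u⁻¹) (hup : u ^ p = 1) (huw : Commute u w) : u ∈ zP a p := by
  haveI := Fact.mk h.hp
  obtain ⟨l, hlw, hla⟩ := h.exists_rot C hw hwz hw0z
  obtain ⟨z, hzo, hall⟩ := h.exists_generator C
  have hz : z ∈ zP a p := hall.symm ▸ mem_zpowers z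
  set M := cI w
  have haM : a ∈ M := mem_cI.2 (mem_cI.1 (coreC_le_cI a hw.1)).symm
  have hbM : b ∈ M := mem_cI.2 (mem_cI.1 (coreC_le_cI b hw.2)).symm
  have hlM : l ∈ M := mem_cI.2 hlw.eq
  have hZM : zP a p ≤ M := fun y hy => mem_cI.2 (hwz y hy).eq.symm
  obtain ⟨R, r, hrR, hRle, hcyc, hR⟩ := C.torus M (C.min.cI_ne_top hw1) a h.four.ha haM
  obtain ⟨hR1, -⟩ := hR b hbM h.four.hb h.four.comm.symm h.four.hab.symm
  have huM : u ∈ M := mem_cI.2 huw.eq
  have hzR : z ∈ R := hR1 z ⟨hZM hz, zP_le_coreC a p hz⟩ (h.b_inverts C hz)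
  have huR : u ∈ R := hR1 u ⟨huM, fitP_le_coreC a p hu⟩ hinv
  haveI : (Cfsg.oddCore ↥M).Normal := CfsgLib.Solvable.pPrimeCore_normal 2 _
  set π := QuotientGroup.mk' (Cfsg.oddCore ↥M) with hπ
  have hmem : ∀ y : M, (y : G) ∈ R → π y ∈ zpowers (π ⟨r, (hRle hrR).1⟩) := by
    intro y hy
    obtain ⟨i, t, ht, hte⟩ := hcyc y hy
    refine ⟨i, ?_⟩
    show (π ⟨r, (hRle hrR).1⟩) ^ (i : ℤ) = π y
    rw [zpow_natCast, ← map_pow]
    refine QuotientGroup.eq.2 ?_
    have e : (⟨r, (hRle hrR).1⟩ ^ i)⁻¹ * y = t := Subtype.ext (hte.symm : (r ^ i)⁻¹ * (y : G) = M.subtype t)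
    exact e.symm ▸ ht
  have key : ∀ y : M, π y = 1 → (y : G) ∈ coreK M := fun y hy =>
    ⟨y, (QuotientGroup.eq_one_iff y).1 hy, rfl⟩
  have hz1 : z ≠ 1 := fun e => h.hp.ne_one (by rw [← hzo, e, orderOf_one])
  have hπz : orderOf (π ⟨z, hZM hz⟩) = p := by
    refine orderOf_eq_prime ?_ fun e => hz1 ?_
    · rw [← map_pow, show (⟨z, hZM hz⟩ : M) ^ p = 1 from Subtype.ext hz.2.2, map_one]
    · exact h.eq_one_of_coreK C haM hbM hlM hla hZM (isPGroup_fitP a p) (zP_le_fitP a p hz)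
        (zP_le_coreC a p hz) (key _ e) (h.b_inverts C hz)
  set Y : Subgroup (↥M ⧸ Cfsg.oddCore ↥M) := zpowers (π ⟨z, hZM hz⟩) ⊔ zpowers (π ⟨u, huM⟩)
  have hY : Y ≤ zpowers (π ⟨r, (hRle hrR).1⟩) :=
    sup_le (zpowers_le.2 (hmem _ hzR)) (zpowers_le.2 (hmem _ huR))
  haveI : IsCyclic Y := isCyclic_of_injective (inclusion hY) (inclusion_injective hY)
  obtain ⟨⟨y0, hy0⟩, hgen⟩ := IsCyclic.exists_generator (α := Y)
  have hy0p : y0 ^ p = 1 := by
    have hcom : Commute (π ⟨z, hZM hz⟩) (π ⟨u, huM⟩) :=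
      (show Commute (⟨z, hZM hz⟩ : M) ⟨u, huM⟩ from Subtype.ext (hz.2.1 u hu)).map π
    obtain ⟨s, hs, t, ht, hst⟩ := (CfsgLib.Coprime.mem_sup_of_le_normalizer
      (A := zpowers (π ⟨u, huM⟩)) (zpowers_le.2 (mem_normalizer_iff_of_finite fun s hs => by
        obtain ⟨i, rfl⟩ := hs
        rw [(hcom.zpow_left i).eq.symm, mul_inv_cancel_right]
        exact zpow_mem (mem_zpowers _) i))).1 hy0
    obtain ⟨i, rfl⟩ := hs
    obtain ⟨j, rfl⟩ := ht
    rw [← hst, ((hcom.zpow_left i).zpow_right j).mul_pow, ← zpow_natCast, ← zpow_mul, mul_comm,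
      zpow_mul, zpow_natCast, ← map_pow, show (⟨z, hZM hz⟩ : M) ^ p = 1 from Subtype.ext hz.2.2,
      map_one, one_zpow, one_mul, ← zpow_natCast, ← zpow_mul, mul_comm, zpow_mul, zpow_natCast,
      ← map_pow, show (⟨u, huM⟩ : M) ^ p = 1 from Subtype.ext hup, map_one, one_zpow]
  have hYeq : zpowers (π ⟨z, hZM hz⟩) = Y := by
    refine eq_of_le_of_card_ge le_sup_left ?_
    rw [Nat.card_zpowers, hπz, ← orderOf_eq_card_of_forall_mem_zpowers hgen, orderOf_mk]
    exact Nat.le_of_dvd h.hp.pos (orderOf_dvd_of_pow_eq_one hy0p)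
  obtain ⟨i, hi⟩ : π ⟨u, huM⟩ ∈ zpowers (π ⟨z, hZM hz⟩) :=
    hYeq.symm ▸ mem_sup_right (mem_zpowers _)
  replace hi : π ⟨z, hZM hz⟩ ^ i = π ⟨u, huM⟩ := hi
  have hv : (z ^ i)⁻¹ * u = 1 := by
    refine h.eq_one_of_coreK C haM hbM hlM hla hZM (isPGroup_fitP a p)
      (mul_mem (inv_mem (zpow_mem hz.1 i)) hu)
      (fitP_le_coreC a p (mul_mem (inv_mem (zpow_mem hz.1 i)) hu))
      (key ((⟨z, hZM hz⟩ ^ i)⁻¹ * ⟨u, huM⟩) ?_) ?_
    · rw [map_mul, map_inv, map_zpow, hi, inv_mul_cancel]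
    · have h1 : b * z ^ i * b⁻¹ = (z ^ i)⁻¹ := by rw [← conj_zpow, h.b_inverts C hz, inv_zpow]
      rw [show b * ((z ^ i)⁻¹ * u) * b⁻¹ = (b * z ^ i * b⁻¹)⁻¹ * (b * u * b⁻¹) by group, h1, hinv,
        inv_inv, mul_inv_rev, inv_inv]
      exact ((hz.2.1 u hu).zpow_left i).inv_right.eq
  exact inv_mul_eq_one.1 hv ▸ zpow_mem hz i

theorem Mixed.zP_le_eP : zP a p ≤ eP a p := fun z hz => Or.inl
  ⟨hz.1, fun u hu => by rw [(hz.2.1 u hu).eq, mul_inv_cancel_right, mul_inv_cancel]; exact one_mem _,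
    hz.2.2, h.hp.odd_of_ne_two h.ne_two⟩

/-- An element of order `p` of `fitP a p` central modulo `zP a p` and not central. -/
theorem Mixed.exists_eP : ∃ e ∈ eP a p, e ∉ zP a p := by
  haveI := Fact.mk h.hp
  obtain ⟨z, hzo, hall⟩ := h.exists_generator C
  have hU := isPGroup_fitP a p
  have hnc : ¬ IsCyclic (fitP a p) := fun hc => by
    obtain ⟨x, hx, hx1⟩ := (bot_or_exists_ne_one (fitP a p ⊓ cI b)).resolve_left h.meets
    obtain ⟨k, hk⟩ := hU ⟨x, hx.1⟩
    obtain ⟨i, -, hi⟩ := (Nat.dvd_prime_pow h.hp).1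
      (orderOf_dvd_of_pow_eq_one (congrArg Subtype.val hk :) : orderOf x ∣ p ^ k)
    rcases i with _ | i
    · exact hx1 (orderOf_eq_one_iff.1 (by rw [hi, pow_zero]))
    set y := x ^ (p ^ i)
    have hy : orderOf y = p := by
      rw [orderOf_pow_of_dvd (pow_ne_zero i h.hp.ne_zero) (hi ▸ pow_dvd_pow p i.le_succ), hi,
        pow_succ', Nat.mul_div_cancel _ (pow_pos h.hp.pos i)]
    have hyU : y ∈ fitP a p := pow_mem hx.1 _
    have hyz : y ∈ zP a p := by
      refine ⟨hyU, fun u hu => ?_, hy ▸ pow_orderOf_eq_one y⟩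
      obtain ⟨⟨r, hr⟩, hgen⟩ := IsCyclic.exists_generator (α := fitP a p)
      obtain ⟨i₁, h₁⟩ := hgen ⟨y, hyU⟩
      obtain ⟨i₂, h₂⟩ := hgen ⟨u, hu⟩
      have e₁ : r ^ i₁ = y := congrArg Subtype.val h₁
      have e₂ : r ^ i₂ = u := congrArg Subtype.val h₂
      rw [← e₁, ← e₂]
      exact (Commute.refl r).zpow_zpow _ _
    have h1 := h.b_inverts C hyz
    rw [show b * y * b⁻¹ = y from conj_eq_self (a := y) (x := b)
      (mem_cI.2 (mem_cI.1 (pow_mem hx.2 _ : y ∈ cI b)).symm)] at h1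
    have h2 : orderOf y ∣ 2 := orderOf_dvd_of_pow_eq_one (by rw [pow_two]; nth_rw 1 [h1]; group)
    rw [hy] at h2
    exact h.ne_two ((Nat.prime_dvd_prime_iff_eq h.hp Nat.prime_two).1 h2)
  obtain ⟨A, hAn, hAc, hAe, hA⟩ :=
    CfsgLib.Transfer.exists_normal_elementary_sq h.ne_two hU hnc
  haveI := hU.isNilpotent
  -- `zP` lies in `A`
  have hAne : A ≠ ⊥ := fun e => by
    rw [e, card_bot] at hA
    exact (Nat.one_lt_pow two_ne_zero h.hp.one_lt).ne hA
  obtain ⟨w, hwm, hw1⟩ := (bot_or_exists_ne_one (A ⊓ center (fitP a p))).resolve_left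
    (CfsgLib.Solvable.normal_inf_center_ne_bot A hAne)
  have hwz : (w : G) ∈ zP a p := ⟨w.property, fun u hu =>
    (congrArg Subtype.val (mem_center_iff.1 hwm.2 ⟨u, hu⟩) : u * (w : G) = (w : G) * u).symm,
    congrArg Subtype.val (hAe w hwm.1)⟩
  have hzA : ∀ y ∈ zP a p, ∃ y' ∈ A, (y' : G) = y := by
    intro y hy
    have hw : orderOf (w : G) = p := orderOf_eq_prime hwz.2.2 fun e => hw1 (Subtype.ext e)
    have : zP a p = zpowers (w : G) := (eq_of_le_of_card_ge (zpowers_le.2 hwz) (by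
      rw [hall, Nat.card_zpowers, Nat.card_zpowers, hzo, hw])).symm
    obtain ⟨i, rfl⟩ : y ∈ zpowers (w : G) := this ▸ hy
    exact ⟨w ^ i, A.zpow_mem hwm.1 i, by simp⟩
  set Z' : Subgroup (fitP a p) := (zP a p).subgroupOf (fitP a p) with hZ'
  haveI : Z'.Normal := ⟨fun y hy u => by
    rw [hZ', mem_subgroupOf] at hy ⊢
    show (u : G) * y * (u : G)⁻¹ ∈ zP a p
    rwa [← (hy.2.1 u u.2).eq, mul_inv_cancel_right]⟩
  have hZA : Z' ≤ A := fun y hy => by
    obtain ⟨y', hy', e⟩ := hzA y hy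
    rwa [← Subtype.ext e]
  have hZc : Nat.card Z' = p := by
    rw [Nat.card_congr (subgroupOfEquivOfLe (zP_le_fitP a p)).toEquiv, hall, Nat.card_zpowers, hzo]
  obtain ⟨e, heA, heZ⟩ : ∃ e ∈ A, e ∉ Z' := by
    by_contra hcon
    push_neg at hcon
    have := card_le_of_le (hcon : A ≤ Z')
    rw [hA, hZc] at this
    exact absurd this (by nlinarith [h.hp.two_le])
  refine ⟨e, Or.inl ⟨e.2, fun u hu => ?_, congrArg Subtype.val (hAe e heA),
    h.hp.odd_of_ne_two h.ne_two⟩, fun he => heZ (mem_subgroupOf.2 he)⟩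
  -- the image of `A` modulo `zP` is central
  set Ab : Subgroup (fitP a p ⧸ Z') := A.map (QuotientGroup.mk' Z')
  haveI : Ab.Normal := hAn.map _ (QuotientGroup.mk'_surjective Z')
  have hAbc : Nat.card Ab ≤ p := by
    have h1 := Subgroup.card_map_dvd (H := A) (QuotientGroup.mk' Z')
    have h2 : Nat.card Ab * p = p ^ 2 := by
      have h3 := (Z'.subgroupOf A).card_mul_index
      rw [Nat.card_congr (subgroupOfEquivOfLe hZA).toEquiv, hZc, hA, mul_comm] at h3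
      rw [← h3]
      congr 1
      rw [show Ab = A.map (QuotientGroup.mk' Z') from rfl, ← relIndex_ker, QuotientGroup.ker_mk']
      rfl
    nlinarith [h.hp.two_le]
  have hQ : IsPGroup p (fitP a p ⧸ Z') := hU.to_quotient Z'
  haveI := hQ.isNilpotent
  have hcent : Ab ≤ center _ := by
    by_cases hb : Ab = ⊥
    · rw [hb]; exact bot_le
    have h1 := CfsgLib.Solvable.normal_inf_center_ne_bot Ab hb
    refine inf_eq_left.1 (eq_of_le_of_card_ge inf_le_left (hAbc.trans ?_))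
    obtain ⟨k, hk⟩ := IsPGroup.iff_card.1 (hQ.to_subgroup (Ab ⊓ center _))
    rw [hk]
    rcases k with _ | k
    · exact absurd (Subgroup.card_eq_one.1 (by rw [hk, pow_zero])) h1
    · exact Nat.le_self_pow k.succ_ne_zero p
  have h4 := mem_center_iff.1 (hcent ⟨e, heA, rfl⟩) (QuotientGroup.mk' Z' ⟨u, hu⟩)
  have h5 : (QuotientGroup.mk' Z') (e * ⟨u, hu⟩ * e⁻¹ * (⟨u, hu⟩ : fitP a p)⁻¹) = 1 := by
    rw [map_mul, map_mul, map_mul, map_inv, map_inv, ← h4, mul_inv_cancel_right, mul_inv_cancel]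
  exact mem_subgroupOf.1 ((QuotientGroup.eq_one_iff _).1 h5)

/-- The key fact when `O(C(a))` centralises the central elements of order `p`. -/
theorem Mixed.mem_zP_of_inverted' (hcent : ∀ x ∈ coreC a, ∀ z ∈ zP a p, Commute x z) {w : G}
    (hw : w ∈ coreC a ⊓ coreC b) (hw1 : w ≠ 1) {u : G} (hu : u ∈ fitP a p)
    (hinv : b * u * b⁻¹ = u⁻¹) (hup : u ^ p = 1) (huw : Commute u w) : u ∈ zP a p := by
  have hgN : g ∈ normalizer ((coreC a ⊓ coreC b : Subgroup G) : Set G) :=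
    mem_normalizer_iff_of_finite fun x hx => h.four.rot_core C.min hx
  have hw0 : g⁻¹ * w * g ∈ coreC a ⊓ coreC b := by
    have := (mem_normalizer_iff.1 (inv_mem hgN) w).1 hw
    simpa using this
  exact h.mem_zP_of_inverted C (hcent _ hw.1) (hcent _ hw0.1) hw hw1 hu hinv hup huw

omit C h in
/-- The fixed part lies in the common core. -/
theorem Min.fixed_mem_core (M : Min G) {a b x : G} (hb : orderOf b = 2) (hx : x ∈ coreC a)
    (hxb : x ∈ cI b) : x ∈ coreC a ⊓ coreC b :=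
  (M.inf_cI_eq hb).le ⟨hx, hxb⟩

/-- An involution of `C(a)` fixing a nontrivial element of `eP a p` is again mixed. -/
theorem Mixed.mixed_of_fixed {j : G} (hj : orderOf j = 2) (hjc : j ∈ cI a) (hne : j ≠ a)
    (hfix : eP a p ⊓ cI j ≠ ⊥) : ∃ g', Mixed a j g' p := by
  obtain ⟨g', hg'⟩ := C.min.four_of_invol h.four.ha hj hjc hne
  exact ⟨g', hg', h.hp, fun e => hfix (le_bot_iff.1 ((inf_le_inf_right _ (eP_le_fitP a p)).trans_eq e)),
    fun hle => hne (h.eq_of_cent C hj fun z hz => (mem_cI.1 (hle hz.1)).symm)⟩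

/-- When every involution inverts `eP a p` we are in the shape of the twist lemma. -/
theorem Mixed.twistShape_of_invert (hcent : ∀ x ∈ coreC a, ∀ z ∈ zP a p, Commute x z)
    (hC : ∀ j, orderOf j = 2 → j ∈ cI a → j ≠ a → eP a p ⊓ cI j = ⊥) : TwistShape a b := by
  have hbc : b ∈ cI a := mem_cI.2 h.four.comm.symm
  have hba : b ≠ a := h.four.hab.symm
  obtain ⟨u, hu, huz⟩ := h.exists_eP C
  have hinvE : ∀ j, orderOf j = 2 → j ∈ cI a → j ≠ a → ∀ e ∈ eP a p, j * e * j⁻¹ = e⁻¹ :=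
    fun j hj hjc hne => inverts_of_inf_eq_bot hj (fun _ hx => conj_mem_eP hjc hx) (hC j hj hjc hne)
  obtain ⟨F, hFdef⟩ : ∃ F, F = coreC a ⊓ centralizer (eP a p : Set G) := ⟨_, rfl⟩
  have hFn : ∀ x ∈ cI a, ∀ f ∈ F, x * f * x⁻¹ ∈ F := by
    intro x hx r hr
    rw [hFdef] at hr ⊢
    refine ⟨conj_mem_coreC hx hr.1, mem_centralizer_iff.2 fun e he => ?_⟩
    have he' : x⁻¹ * e * x ∈ eP a p := by simpa using conj_mem_eP (inv_mem hx) he
    calc e * (x * r * x⁻¹) = x * ((x⁻¹ * e * x) * r) * x⁻¹ := by group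
      _ = x * (r * (x⁻¹ * e * x)) * x⁻¹ := by rw [mem_centralizer_iff.1 hr.2 _ he']
      _ = x * r * x⁻¹ * e := by group
  have hmeets : ∀ j, orderOf j = 2 → j ∈ cI a → j ≠ a → F ⊓ cI j = ⊥ := by
    intro j hj hjc hne
    rw [eq_bot_iff_forall]
    rintro w ⟨hwF, hwj⟩
    by_contra hw1
    rw [hFdef] at hwF
    obtain ⟨g', hg'⟩ := C.min.four_of_invol h.four.ha hj hjc hne
    have huU := eP_le_fitP a p hu
    have hUj : ¬ fitP a p ≤ cI j := fun hle => hne (h.eq_of_cent C hj fun z hz =>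
      (mem_cI.1 (hle hz.1)).symm)
    by_cases hX : fitP a p ⊓ cI j = ⊥
    · -- then the inverted `p`-core is abelian, against `u`
      have hUinv := inverts_of_inf_eq_bot hj (fun _ hx => conj_mem_fitP hjc hx) hX
      refine huz ⟨huU, fun v hv => ?_, pow_eq_one_of_eP hu⟩
      have h1 := hUinv _ (mul_mem huU hv)
      calc u * v = ((u * v)⁻¹)⁻¹ := (inv_inv _).symm
        _ = (j * u * j⁻¹ * (j * v * j⁻¹))⁻¹ := by rw [← h1]; group
        _ = v * u := by rw [hUinv u huU, hUinv v hv, mul_inv_rev, inv_inv, inv_inv]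
    have hm : Mixed a j g' p := ⟨hg', h.hp, hX, hUj⟩
    exact huz (hm.mem_zP_of_inverted' C hcent (C.min.fixed_mem_core hj hwF.1 hwj) hw1 huU
      (hinvE j hj hjc hne u hu) (pow_eq_one_of_eP hu) (mem_centralizer_iff.1 hwF.2 u hu))
  have hFinv : ∀ j, orderOf j = 2 → j ∈ cI a → j ≠ a → ∀ x ∈ F, j * x * j⁻¹ = x⁻¹ :=
    fun j hj hjc hne => inverts_of_inf_eq_bot hj (hFn j hjc) (hmeets j hj hjc hne)
  refine ⟨F, hFdef ▸ inf_le_left, hFn, fun x hx y hy => ?_, hFinv, le_antisymm (fun x hx => ?_)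
    (sup_le (hFdef ▸ inf_le_left) inf_le_left), fun hle => ?_, fun x hx => ?_⟩
  · have h1 := hFinv b h.four.hb hbc hba _ (mul_mem hx hy)
    calc x * y = ((x * y)⁻¹)⁻¹ := (inv_inv _).symm
      _ = (b * x * b⁻¹ * (b * y * b⁻¹))⁻¹ := by rw [← h1]; group
      _ = y * x := by
        rw [hFinv b h.four.hb hbc hba x hx, hFinv b h.four.hb hbc hba y hy, mul_inv_rev, inv_inv,
          inv_inv]
  · -- a square root of the commutator with `b`
    set y := x⁻¹ * (b * x * b⁻¹) with hy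
    have hyF : y ∈ F := by
      rw [hFdef]
      refine ⟨(coreC a).mul_mem ((coreC a).inv_mem hx) (conj_mem_coreC hbc hx), mem_centralizer_iff.2 fun e he => ?_⟩
      have hxc := coreC_le_cI a hx
      have he' : x * e * x⁻¹ ∈ eP a p := conj_mem_eP hxc he
      have h1 : b * e * b⁻¹ = e⁻¹ := hinvE b h.four.hb hbc hba e he
      have h2 : b * (x * e * x⁻¹) * b⁻¹ = (x * e * x⁻¹)⁻¹ := hinvE b h.four.hb hbc hba _ he'
      have h3 : b * x * b⁻¹ * e * (b * x * b⁻¹)⁻¹ = x * e * x⁻¹ := by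
        calc b * x * b⁻¹ * e * (b * x * b⁻¹)⁻¹ = b * (x * (b⁻¹ * e * b) * x⁻¹) * b⁻¹ := by group
          _ = b * (x * e⁻¹ * x⁻¹) * b⁻¹ := by
            rw [← h1, invol_inv h.four.hb]
          _ = (b * (x * e * x⁻¹) * b⁻¹)⁻¹ := by group
          _ = x * e * x⁻¹ := by rw [h2, inv_inv]
      calc e * y = y * e := by
            have h4 : y * e * y⁻¹ = e := by
              calc y * e * y⁻¹ = x⁻¹ * (b * x * b⁻¹ * e * (b * x * b⁻¹)⁻¹) * x := by rw [hy]; group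
                _ = e := by rw [h3]; group
            exact (mul_inv_eq_iff_eq_mul.1 h4).symm
        _ = y * e := rfl
    obtain ⟨k, hk⟩ := (odd_coreC a).of_dvd_nat
      (orderOf_dvd_natCard (coreC a) ((hFdef ▸ hyF : y ∈ coreC a ⊓ _).1))
    set r := y ^ (k + 1) with hr
    have hrr : r * r = y := by
      rw [hr, ← pow_add, show k + 1 + (k + 1) = orderOf y + 1 by omega, pow_succ, pow_orderOf_eq_one,
        one_mul]
    have hrF : r ∈ F := pow_mem hyF _
    have hfix : x * r ∈ coreC a ⊓ cI b := by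
      refine ⟨mul_mem hx ((hFdef ▸ hrF : r ∈ coreC a ⊓ _).1), mem_cI.2 ?_⟩
      have e : b * (x * r) * b⁻¹ = x * r := by
        calc b * (x * r) * b⁻¹ = (b * x * b⁻¹) * (b * r * b⁻¹) := by group
          _ = x * (r * r) * r⁻¹ := by rw [hrr, hFinv b h.four.hb hbc hba r hrF, hy]; group
          _ = x * r := by group
      exact (mul_inv_eq_iff_eq_mul.1 e).symm
    rw [show x = x * r * r⁻¹ by group]
    exact mul_mem (mem_sup_right hfix) (mem_sup_left (inv_mem hrF))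
  · obtain ⟨d, hd, hd1⟩ := (bot_or_exists_ne_one (fitP a p ⊓ cI b)).resolve_left h.meets
    have hdO := fitP_le_coreC a p hd.1
    have huF : u ∈ F := by
      rw [hFdef]
      refine ⟨fitP_le_coreC a p (eP_le_fitP a p hu), mem_centralizer_iff.2 fun e he => ?_⟩
      have h1 := hinvE b h.four.hb hbc hba _ (mul_mem he hu)
      calc e * u = ((e * u)⁻¹)⁻¹ := (inv_inv _).symm
        _ = (b * e * b⁻¹ * (b * u * b⁻¹))⁻¹ := by rw [← h1]; group
        _ = u * e := by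
          rw [hinvE b h.four.hb hbc hba e he, hinvE b h.four.hb hbc hba u hu, mul_inv_rev, inv_inv,
            inv_inv]
    refine huz (h.mem_zP_of_inverted' C hcent (C.min.fixed_mem_core h.four.hb hdO hd.2) hd1
      (eP_le_fitP a p hu) (hinvE b h.four.hb hbc hba u hu) (pow_eq_one_of_eP hu) ?_)
    exact mem_centralizer_iff.1 (hle ⟨hdO, hd.2⟩) u huF
  · have hEF : eP a p ≤ F := fun e he => by
      rw [hFdef]
      refine ⟨fitP_le_coreC a p (eP_le_fitP a p he), mem_centralizer_iff.2 fun e' he' => ?_⟩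
      have h1 := hinvE b h.four.hb hbc hba _ (mul_mem he' he)
      calc e' * e = ((e' * e)⁻¹)⁻¹ := (inv_inv _).symm
        _ = (b * e' * b⁻¹ * (b * e * b⁻¹))⁻¹ := by rw [← h1]; group
        _ = e * e' := by
          rw [hinvE b h.four.hb hbc hba e' he', hinvE b h.four.hb hbc hba e he, mul_inv_rev,
            inv_inv, inv_inv]
    rw [hFdef]
    exact ⟨hx.1, centralizer_le hEF hx.2⟩

/-- The three shapes: a central quotient; a non-central element fixed by an involution and moved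
only inside `zP a p` by `O(C(a))`; an involution which fixes and inverts such elements. -/
theorem Mixed.cases (hcent : ∀ x ∈ coreC a, ∀ z ∈ zP a p, Commute x z) :
    TwistShape a b ∨ CentQuot a p ∨
      (∃ j g' x₀ : G, Mixed a j g' p ∧ x₀ ∈ eP a p ∧ x₀ ∈ cI j ∧ x₀ ∉ zP a p ∧
        ∀ x ∈ coreC a, x * x₀ * x⁻¹ * x₀⁻¹ ∈ zP a p) ∨
      ∃ j g' u x₀ : G, Mixed a j g' p ∧ u ∈ eP a p ∧ u ∉ zP a p ∧ j * u * j⁻¹ = u⁻¹ ∧
        x₀ ∈ eP a p ∧ x₀ ∈ cI j ∧ x₀ ≠ 1 := by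
  classical
  by_cases hA : ∃ j : G, orderOf j = 2 ∧ j ∈ cI a ∧ j ≠ a ∧ eP a p ⊓ cI j ≠ ⊥ ∧
      ∃ u ∈ eP a p, u ∉ zP a p ∧ j * u * j⁻¹ = u⁻¹
  · obtain ⟨j, hj, hjc, hne, hfix, u, hu, huz, hinv⟩ := hA
    obtain ⟨g', hg'⟩ := h.mixed_of_fixed C hj hjc hne hfix
    obtain ⟨x₀, hx₀, hx1⟩ := (bot_or_exists_ne_one (eP a p ⊓ cI j)).resolve_left hfix
    exact Or.inr (Or.inr (Or.inr ⟨j, g', u, x₀, hg', hu, huz, hinv, hx₀.1, hx₀.2, hx1⟩))
  push_neg at hA
  have hscal : ∀ j, orderOf j = 2 → j ∈ cI a → j ≠ a →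
      (∀ e ∈ eP a p, j * e * j⁻¹ * e⁻¹ ∈ zP a p) ∨ ∀ e ∈ eP a p, j * e * j⁻¹ = e⁻¹ := by
    intro j hj hjc hne
    by_cases hfix : eP a p ⊓ cI j = ⊥
    · exact Or.inr (inverts_of_inf_eq_bot hj (fun _ hx => conj_mem_eP hjc hx) hfix)
    refine Or.inl fun e he => ?_
    by_contra hnz
    refine hA j hj hjc hne hfix (j * e * j⁻¹ * e⁻¹) (mul_mem (conj_mem_eP hjc he) (inv_mem he)) hnz ?_
    calc j * (j * e * j⁻¹ * e⁻¹) * j⁻¹ = (j * j) * e * (j⁻¹ * e⁻¹ * j⁻¹) := by group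
      _ = e * (j * e⁻¹ * j⁻¹) := by rw [invol_mul_self hj, invol_inv hj]; group
      _ = (j * e * j⁻¹ * e⁻¹)⁻¹ := by group
  by_cases hC : ∀ j, orderOf j = 2 → j ∈ cI a → j ≠ a → eP a p ⊓ cI j = ⊥
  · exact Or.inl (h.twistShape_of_invert C hcent hC)
  push_neg at hC
  obtain ⟨j₀, hj₀, hj₀c, hj₀a, hfix⟩ := hC
  have hRn : ∀ x ∈ cI a, ∀ r ∈ actsTriv a p, x * r * x⁻¹ ∈ actsTriv a p := fun x hx r hr => by
    refine ⟨conj_mem_coreC hx hr.1, fun e he => ?_⟩
    have he' : x⁻¹ * e * x ∈ eP a p := by simpa using conj_mem_eP (inv_mem hx) he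
    rw [show x * r * x⁻¹ * e * (x * r * x⁻¹)⁻¹ * e⁻¹ =
      x * (r * (x⁻¹ * e * x) * r⁻¹ * (x⁻¹ * e * x)⁻¹) * x⁻¹ by group]
    exact conj_mem_zP hx (hr.2 _ he')
  by_cases hR : actsTriv a p = coreC a
  · obtain ⟨g', hg'⟩ := h.mixed_of_fixed C hj₀ hj₀c hj₀a hfix
    obtain ⟨x₀, hx₀, hx1⟩ := (bot_or_exists_ne_one (eP a p ⊓ cI j₀)).resolve_left hfix
    refine Or.inr (Or.inr (Or.inl ⟨j₀, g', x₀, hg', hx₀.1, hx₀.2, fun hz => hx1 ?_,
      fun x hx => (hR.ge hx).2 x₀ hx₀.1⟩))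
    have h1 := h.inverts C hj₀ hj₀c hj₀a hz
    rw [(mem_cI.1 hx₀.2).symm, mul_inv_cancel_right] at h1
    exact orderOf_eq_one_iff.1 (Nat.eq_one_of_dvd_coprimes (Nat.coprime_two_left.2
      (odd_orderOf_mem_coreC (zP_le_coreC a p hz))).symm dvd_rfl
      (orderOf_dvd_of_pow_eq_one (by rw [pow_two]; nth_rw 1 [h1]; exact inv_mul_cancel x₀)))
  refine Or.inr (Or.inl (C.min.centQuot_of_scalar h.four.ha (R0 := actsTriv a p) (fun x hx => hx.1)
    hRn (fun z hz => ⟨zP_le_coreC a p hz, fun e he => ?_⟩) hR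
    fun j hj hjc x hx => ⟨?_, fun e he => ?_⟩))
  · rw [(hz.2.1 e (eP_le_fitP a p he)).eq, mul_inv_cancel_right, mul_inv_cancel]; exact one_mem _
  · rw [commutatorElement_def, show x * j * x⁻¹ * j⁻¹ = x * (j * x⁻¹ * j⁻¹) by group]
    exact mul_mem hx (conj_mem_coreC hjc (inv_mem hx))
  rw [commutatorElement_def]
  by_cases hne : j = a
  · rw [hne, conj_eq_self (coreC_le_cI a hx), mul_inv_cancel, one_mul, inv_one, mul_one,
      mul_inv_cancel]
    exact one_mem _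
  have hje : j * e * j⁻¹ ∈ eP a p := conj_mem_eP hjc he
  have hf : x⁻¹ * (j * e * j⁻¹) * x⁻¹⁻¹ ∈ eP a p :=
    conj_mem_eP (inv_mem (coreC_le_cI a hx)) hje
  obtain ⟨f, hfdef⟩ : ∃ f, f = x⁻¹ * (j * e * j⁻¹) * x⁻¹⁻¹ := ⟨_, rfl⟩
  rw [← hfdef] at hf
  have e1 : x * j * x⁻¹ * j⁻¹ * e * (x * j * x⁻¹ * j⁻¹)⁻¹ * e⁻¹ = x * (j * f * j⁻¹) * x⁻¹ * e⁻¹ := by
    rw [hfdef, invol_inv hj]; simp only [mul_assoc, mul_inv_rev, invol_inv hj, inv_inv]
  rw [e1]
  rcases hscal j hj hjc hne with hs | hs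
  · rw [show x * (j * f * j⁻¹) * x⁻¹ * e⁻¹ =
      x * (j * f * j⁻¹ * f⁻¹) * x⁻¹ * (x * f * x⁻¹ * e⁻¹) by group]
    refine mul_mem (conj_mem_zP (coreC_le_cI a hx) (hs f hf)) ?_
    rw [hfdef, show x * (x⁻¹ * (j * e * j⁻¹) * x⁻¹⁻¹) * x⁻¹ * e⁻¹ = j * e * j⁻¹ * e⁻¹ by group]
    exact hs e he
  · rw [hs f hf, hfdef, hs e he]
    group
    exact one_mem _

end CfsgLib.GW
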