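import Cfsg.Agent.Lib.Recog.NonCA.KleinChar.Coset

/-!
The central character of a class modulo the lengths of the orbits of a subgroup on that class.
-/

set_option autoImplicit false
set_option linter.unusedSectionVars false

namespace CfsgLib.GW.Component

open Subgroup CfsgLib.Char CfsgLib.Recog.NonCA

universe u

/-- `x` is `m` times an algebraic integer. -/
def Mult (m : ℕ) (x : ℂ) : Prop := ∃ z : ℂ, IsIntegral ℤ z ∧ x = (m : ℂ) * z

theorem Mult.zero (m : ℕ) : Mult m 0 := ⟨0, isIntegral_zero, (mul_zero _).symm⟩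

theorem Mult.add {m : ℕ} {a b : ℂ} (ha : Mult m a) (hb : Mult m b) : Mult m (a + b) := by
  obtain ⟨x, hx, rfl⟩ := ha
  obtain ⟨y, hy, rfl⟩ := hb
  exact ⟨x + y, hx.add hy, by ring⟩

theorem Mult.neg {m : ℕ} {a : ℂ} (ha : Mult m a) : Mult m (-a) := by
  obtain ⟨x, hx, rfl⟩ := ha
  exact ⟨-x, hx.neg, by ring⟩

theorem Mult.sub {m : ℕ} {a b : ℂ} (ha : Mult m a) (hb : Mult m b) : Mult m (a - b) := by
  rw [sub_eq_add_neg]; exact ha.add hb.neg

theorem Mult.mul_left {m : ℕ} {a c : ℂ} (hc : IsIntegral ℤ c) (ha : Mult m a) : Mult m (c * a) := by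
  obtain ⟨x, hx, rfl⟩ := ha
  exact ⟨c * x, hc.mul hx, by ring⟩

theorem Mult.dvd_of_int {m : ℕ} {a : ℤ} (h : Mult m (a : ℂ)) : (m : ℤ) ∣ a := by
  rcases Nat.eq_zero_or_pos m with rfl | hm
  · obtain ⟨z, -, e⟩ := h
    simp only [Nat.cast_zero, zero_mul, Int.cast_eq_zero] at e
    simp [e]
  · obtain ⟨z, hz, e⟩ := h
    have hm' : (m : ℂ) ≠ 0 := by exact_mod_cast hm.ne'
    have hq : IsIntegral ℤ (((a : ℚ) / (m : ℚ) : ℚ) : ℂ) := by
      have e' : (((a : ℚ) / (m : ℚ) : ℚ) : ℂ) = z := by push_cast; rw [e]; field_simp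
      rw [e']; exact hz
    obtain ⟨k, hk⟩ := exists_int_of_isIntegral_rat hq
    refine ⟨k, ?_⟩
    have hmq : (m : ℚ) ≠ 0 := by exact_mod_cast hm.ne'
    have : (a : ℚ) = ((m * k : ℤ) : ℚ) := by
      push_cast
      field_simp at hk
      linarith
    exact_mod_cast this

variable {G : Type u} [Group G] [Fintype G]

open scoped Classical in
/-- A sum over a set stable under conjugation by `H`. -/
theorem mult_sum_orbits (H : Subgroup G) (m : ℕ) (s : Finset G) (f : G → ℂ)
    (hs : ∀ h ∈ H, ∀ c ∈ s, h * c * h⁻¹ ∈ s)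
    (hf : ∀ h ∈ H, ∀ c ∈ s, f (h * c * h⁻¹) = f c) (hint : ∀ c ∈ s, IsIntegral ℤ (f c))
    (hm : ∀ c ∈ s, m ∣ (centralizer ({c} : Set G)).relIndex H) : Mult m (∑ c ∈ s, f c) := by
  induction s using Finset.strongInduction with
  | H s ih =>
    rcases s.eq_empty_or_nonempty with rfl | ⟨a, ha⟩
    · simpa using Mult.zero m
    · set o : Finset G := s.filter fun c => ∃ h ∈ H, h * a * h⁻¹ = c with ho
      rw [← Finset.sum_filter_add_sum_filter_not s (fun c => ∃ h ∈ H, h * a * h⁻¹ = c), ← ho]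
      refine Mult.add ?_ (ih _ (Finset.filter_ssubset.2 ⟨a, ha, not_not.2 ⟨1, one_mem H, by simp⟩⟩)
        ?_ ?_ ?_ ?_)
      · have hconst : ∀ c ∈ o, f c = f a := by
          intro c hc
          obtain ⟨h, hh, rfl⟩ := (Finset.mem_filter.1 hc).2
          exact hf h hh a ha
        rw [Finset.sum_congr rfl hconst, Finset.sum_const, nsmul_eq_mul]
        let K := (centralizer ({a} : Set G)).subgroupOf H
        have key : ∀ x y : H, (x : G) * a * (x : G)⁻¹ = (y : G) * a * (y : G)⁻¹ ↔ x⁻¹ * y ∈ K := by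
          intro x y
          rw [mem_subgroupOf, mem_centralizer_singleton_iff]
          simp only [Subgroup.coe_mul, InvMemClass.coe_inv]
          constructor
          · intro h
            calc (x : G)⁻¹ * y * a = (x : G)⁻¹ * ((y : G) * a * (y : G)⁻¹) * y := by group
              _ = (x : G)⁻¹ * ((x : G) * a * (x : G)⁻¹) * y := by rw [h]
              _ = _ := by group
          · intro h
            calc (x : G) * a * (x : G)⁻¹ = (x : G) * (a * ((x : G)⁻¹ * y)) * (y : G)⁻¹ := by group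
              _ = (x : G) * (((x : G)⁻¹ * y) * a) * (y : G)⁻¹ := by rw [h]
              _ = _ := by group
        have hco : o.card = (centralizer ({a} : Set G)).relIndex H := by
          rw [← Nat.card_eq_finsetCard]
          refine (Nat.card_congr (Equiv.ofBijective (fun q : H ⧸ K => Quotient.liftOn' q
            (fun x => (⟨(x : G) * a * (x : G)⁻¹, Finset.mem_filter.2
              ⟨hs x x.2 a ha, x, x.2, rfl⟩⟩ : o))
            fun x y h => Subtype.ext ((key x y).2 (QuotientGroup.leftRel_apply.1 h))) ⟨?_, ?_⟩)).symm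
          · intro p q
            induction p using Quotient.inductionOn' with
            | _ x =>
            induction q using Quotient.inductionOn' with
            | _ y =>
              exact fun h => Quotient.sound'
                (QuotientGroup.leftRel_apply.2 ((key x y).1 (congrArg Subtype.val h)))
          · rintro ⟨c, hc⟩
            obtain ⟨h, hh, rfl⟩ := (Finset.mem_filter.1 hc).2
            exact ⟨QuotientGroup.mk ⟨h, hh⟩, rfl⟩
        obtain ⟨k, hk⟩ := hm a ha
        rw [hco, hk]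
        exact ⟨(k : ℂ) * f a, (isIntegral_natCast k).mul (hint a ha), by push_cast; ring⟩
      · intro h hh c hc
        rw [Finset.mem_filter] at hc ⊢
        refine ⟨hs h hh c hc.1, fun ⟨k, hk, e⟩ => hc.2 ⟨h⁻¹ * k, mul_mem (inv_mem hh) hk, ?_⟩⟩
        calc h⁻¹ * k * a * (h⁻¹ * k)⁻¹ = h⁻¹ * (k * a * k⁻¹) * h := by group
          _ = c := by rw [e]; group
      · exact fun h hh c hc => hf h hh c (Finset.mem_filter.1 hc).1
      · exact fun c hc => hint c (Finset.mem_filter.1 hc).1
      · exact fun c hc => hm c (Finset.mem_filter.1 hc).1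

/-- `ω_χ(t^G) χ(y) = χ(y t)` modulo the lengths of the orbits of `H` on the class of `t`, `t` left
out, for `y` and `t` centralised by `H`. -/
theorem centralChar_mul_congr (χ : Cfsg.IrrCharacter G) (H : Subgroup G) {t y : G} (m : ℕ)
    (ht : ∀ h ∈ H, h * t = t * h) (hy : ∀ h ∈ H, h * y = y * h)
    (hm : ∀ c, IsConj t c → c ≠ t → m ∣ (centralizer ({c} : Set G)).relIndex H) :
    Mult m ((χ : G → ℂ) y * Cfsg.centralChar (χ : G → ℂ) t - (χ : G → ℂ) (y * t)) := by
  classical
  rw [← class_sum χ y t]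
  have htm : t ∈ Finset.univ.filter (IsConj t) :=
    Finset.mem_filter.2 ⟨Finset.mem_univ _, IsConj.refl t⟩
  rw [← Finset.add_sum_erase _ _ htm, add_sub_cancel_left]
  refine mult_sum_orbits H m _ _ ?_ ?_ ?_ ?_
  · intro h hh c hc
    simp only [Finset.mem_erase, Finset.mem_filter, Finset.mem_univ, true_and] at hc ⊢
    refine ⟨fun e => hc.1 ?_, hc.2.trans (isConj_iff.2 ⟨h, rfl⟩)⟩
    calc c = h⁻¹ * (h * c * h⁻¹) * h := by group
      _ = h⁻¹ * (t * h) := by rw [e, mul_assoc]
      _ = t := by rw [← ht h hh, inv_mul_cancel_left]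
  · intro h hh c _
    have e : y * (h * c * h⁻¹) = h * (y * c) * h⁻¹ := by
      simp only [← mul_assoc]
      rw [← hy h hh]
    show (χ : G → ℂ) (y * (h * c * h⁻¹)) = (χ : G → ℂ) (y * c)
    rw [e, irr_isClassFunction χ.2]
  · exact fun c _ => CfsgLib.BlockB.irr_isIntegral χ _
  · intro c hc
    simp only [Finset.mem_erase, Finset.mem_filter, Finset.mem_univ, true_and] at hc
    exact hm c hc.2 hc.1

end CfsgLib.GW.Component
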