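import Cfsg.Agent.Lib.GW.Component.Congr
import Cfsg.Agent.Lib.Char.Inner
import Cfsg.Agent.Lib.Recog.NonCA.KleinChar.Coeff
import Cfsg.Agent.Lib.Invol.FusionBasics

/-!
The degree bound from a fused element `d ~ d zⁱ` centralising a subgroup `L`, and the number of
conjugates of an involution modulo `p` and `p²`.
-/

set_option autoImplicit false
set_option linter.unusedSectionVars false
set_option linter.style.haveILetI false

namespace CfsgLib.GW.Component

open Subgroup CfsgLib.Char CfsgLib.Recog.NonCA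
open scoped ComplexConjugate commutatorElement

universe u

variable {G : Type u} [Group G] [Finite G]

/-- A character which is not constant on `{1, z}` has degree at least `m`, if the irreducible
characters with this property have. -/
theorem degree_ge_of_ne {L : Type u} [Group L] [Finite L] {f : L → ℂ} (hf : Cfsg.IsCharacter L f)
    {z : L} (hne : f z ≠ f 1) {m : ℕ}
    (hm : ∀ ψ : L → ℂ, Cfsg.IsIrrCharacter L ψ → ψ z ≠ ψ 1 → ∀ k : ℕ, ψ 1 = k → m ≤ k)
    {n : ℕ} (hn : f 1 = n) : m ≤ n := by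
  classical
  haveI := Fintype.ofFinite L
  haveI := Fintype.ofFinite (Cfsg.IrrCharacter L)
  have hcl := isCharacter_isClassFunction hf
  choose k hk using fun ψ : Cfsg.IrrCharacter L =>
    classInner_isCharacter_nat hf (irr_isCharacter ψ.2)
  choose e he using fun ψ : Cfsg.IrrCharacter L =>
    char_apply_one_eq_nat (irr_isCharacter ψ.2)
  have hval : ∀ g, f g = ∑ ψ : Cfsg.IrrCharacter L, (k ψ : ℂ) * (ψ : L → ℂ) g := fun g => by
    rw [classFunction_apply_eq_sum hcl]
    exact Finset.sum_congr rfl fun ψ _ => by rw [hk]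
  obtain ⟨ψ, hψ, hψz⟩ : ∃ ψ : Cfsg.IrrCharacter L, k ψ ≠ 0 ∧ (ψ : L → ℂ) z ≠ (ψ : L → ℂ) 1 := by
    by_contra h
    push Not at h
    apply hne
    rw [hval, hval]
    refine Finset.sum_congr rfl fun ψ _ => ?_
    by_cases h0 : k ψ = 0
    · simp [h0]
    · rw [h ψ h0]
  refine (hm _ ψ.2 hψz _ (he ψ)).trans ?_
  have hsum : n = ∑ φ : Cfsg.IrrCharacter L, k φ * e φ := by
    have h : (n : ℂ) = ((∑ φ : Cfsg.IrrCharacter L, k φ * e φ : ℕ) : ℂ) := by
      rw [← hn, hval 1]
      push_cast
      exact Finset.sum_congr rfl fun φ _ => by rw [he]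
    exact_mod_cast h
  rw [hsum]
  exact (Nat.le_mul_of_pos_left _ (Nat.pos_of_ne_zero hψ)).trans
    (Finset.single_le_sum (f := fun φ => k φ * e φ) (fun _ _ => Nat.zero_le _) (Finset.mem_univ ψ))

/-- If `d` of order `p` centralises `L`, `z ∈ L` has order `p` and `d` is conjugate to `d zⁱ` for
all `i`, then a character of `G` not constant on `{1, z}` has degree at least `p m`. -/
theorem degree_ge_of_fused {p : ℕ} [Fact p.Prime] {χ : G → ℂ} (hχ : Cfsg.IsCharacter G χ)
    (L : Subgroup G) {d z : G} (hd : orderOf d = p) (hdL : ∀ x ∈ L, d * x = x * d) (hz : z ∈ L)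
    (hzp : orderOf z = p) (hfus : ∀ i : ℕ, IsConj d (d * z ^ i)) (hne : χ z ≠ χ 1) {m : ℕ}
    (hm : ∀ ψ : L → ℂ, Cfsg.IsIrrCharacter L ψ → ψ ⟨z, hz⟩ ≠ ψ 1 → ∀ k : ℕ, ψ 1 = k → m ≤ k)
    {n : ℕ} (hn : χ 1 = n) : p * m ≤ n := by
  classical
  haveI := Fintype.ofFinite G
  haveI := Fintype.ofFinite L
  let D : Subgroup G := zpowers d
  haveI := Fintype.ofFinite D
  haveI := Fintype.ofFinite (D →* ℂˣ)
  have hDL : ∀ δ ∈ D, ∀ x ∈ L, δ * x = x * δ := by
    intro δ hδ x hx
    obtain ⟨i, rfl⟩ := mem_zpowers_iff.1 hδ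
    exact Commute.zpow_left (hdL x hx) i
  let ι : D × L →* G :=
    { toFun := fun q => (q.1 : G) * (q.2 : G)
      map_one' := by simp
      map_mul' := fun q r => by
        simp only [Prod.fst_mul, Prod.snd_mul, Subgroup.coe_mul]
        rw [mul_assoc, mul_assoc, ← mul_assoc (r.1 : G), hDL _ r.1.2 _ q.2.2, mul_assoc] }
  let f : (D →* ℂˣ) → L → ℂ := fun l x =>
    (Nat.card D : ℂ)⁻¹ * ∑ δ : D, conj (l δ : ℂ) * χ ((δ : G) * (x : G))
  -- each `f l` is a character
  have hf : ∀ l, Cfsg.IsCharacter L (f l) := by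
    intro l
    refine isCharacter_of_nat ?_ fun ψ hψ => ?_
    · intro g h
      simp only [f]
      refine congrArg (fun y : ℂ => (Nat.card D : ℂ)⁻¹ * y) (Finset.sum_congr rfl fun δ _ => congrArg (fun y : ℂ => conj (l δ : ℂ) * y) ?_)
      simp only [Subgroup.coe_mul, InvMemClass.coe_inv]
      rw [show (δ : G) * ((h : G) * g * (h : G)⁻¹) = (h : G) * ((δ : G) * g) * (h : G)⁻¹ from by
        simp only [← mul_assoc]; rw [hDL _ δ.2 _ h.2]]
      exact isCharacter_isClassFunction hχ _ _
    · have hc : Cfsg.IsCharacter (D × L)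
          (((fun δ : D => (l δ : ℂ)) ∘ MonoidHom.fst D L) * (ψ ∘ MonoidHom.snd D L)) :=
        isCharacter_mul (isCharacter_comp (irr_isCharacter (isIrrCharacter_linear l)) _)
          (isCharacter_comp (irr_isCharacter hψ) _)
      obtain ⟨k, hk⟩ := classInner_isCharacter_nat (isCharacter_comp hχ ι) hc
      refine ⟨k, ?_⟩
      rw [← hk, classInner_def, classInner_def, Nat.card_prod, Nat.cast_mul, mul_inv,
        Fintype.sum_prod_type]
      simp only [f, Finset.mul_sum, Finset.sum_mul]
      rw [Finset.sum_comm]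
      refine Finset.sum_congr rfl fun δ _ => Finset.sum_congr rfl fun x _ => ?_
      simp only [Function.comp_apply, Pi.mul_apply, map_mul, MonoidHom.coe_fst, MonoidHom.coe_snd,
        ι, MonoidHom.coe_mk, OneHom.coe_mk]
      ring
  have hDcomm : ∀ a b : D, a * b = b * a := fun a b => by
    obtain ⟨i, hi⟩ := mem_zpowers_iff.1 a.2
    obtain ⟨j, hj⟩ := mem_zpowers_iff.1 b.2
    exact Subtype.ext (by simp only [Subgroup.coe_mul, ← hi, ← hj]; exact zpow_mul_comm d i j)
  have hDcard : Nat.card D = p := (Nat.card_zpowers d).trans hd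
  have hsum : ∀ x : L, ∑ l, f l x = χ (x : G) := by
    intro x
    simp only [f, ← Finset.mul_sum]
    rw [Finset.sum_comm]
    simp only [← Finset.sum_mul, sum_all_hom hDcomm, ite_mul, zero_mul, Finset.sum_ite_eq',
      Finset.mem_univ, if_true, Subgroup.coe_one, one_mul]
    rw [← mul_assoc, inv_mul_cancel₀ (by exact_mod_cast Nat.card_pos.ne'), one_mul]
  -- `z` does not act trivially on any part
  have hdiff : ∀ l, f l ⟨z, hz⟩ - f l 1 = (Nat.card D : ℂ)⁻¹ * (χ z - χ 1) := by
    intro l
    simp only [f, ← mul_sub, ← Finset.sum_sub_distrib]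
    rw [Finset.sum_eq_single (1 : D)]
    · simp
    · intro δ _ hδ
      suffices h : χ ((δ : G) * z) = χ (δ : G) by simp [h]
      obtain ⟨j, -, hj⟩ := Finset.mem_image.1
        ((IsOfFinOrder.mem_zpowers_iff_mem_range_orderOf (isOfFinOrder_of_finite d)).1 δ.2)
      have hpj : j.Coprime p := by
        refine ((Fact.out : p.Prime).coprime_iff_not_dvd.2 fun h => hδ (Subtype.ext ?_)).symm
        rw [Subgroup.coe_one, ← hj]
        exact orderOf_dvd_iff_pow_eq_one.1 (hd ▸ h)
      obtain ⟨i, hi⟩ := exists_pow_eq_self_of_coprime (x := z) (n := j) (by rwa [hzp])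
      rw [← pow_mul] at hi
      obtain ⟨g, hg⟩ := isConj_iff.1 (hfus i)
      have hc : IsConj (d ^ j) (d ^ j * z) := isConj_iff.2 ⟨g, by
        rw [← conj_pow, hg, (Commute.pow_right (hdL z hz) i).mul_pow, ← pow_mul, mul_comm i j, hi]⟩
      rw [← hj]
      exact (isClassFunction_isConj (isCharacter_isClassFunction hχ) hc).symm
    · simp
  choose k hk using fun l => char_apply_one_eq_nat (hf l)
  have hle : ∀ l, m ≤ k l := by
    intro l
    refine degree_ge_of_ne (hf l) (z := ⟨z, hz⟩) (fun e => hne ?_) hm (hk l)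
    have := hdiff l
    rw [e, sub_self, eq_comm, mul_eq_zero] at this
    exact sub_eq_zero.1 (this.resolve_left (by simp))
  have hn' : n = ∑ l, k l := by
    have h : (n : ℂ) = ((∑ l, k l : ℕ) : ℂ) := by
      rw [← hn, ← Subgroup.coe_one L, ← hsum 1]
      push_cast
      exact Finset.sum_congr rfl fun l _ => hk l
    exact_mod_cast h
  have hcard : Fintype.card (D →* ℂˣ) = p := by
    have hcb : commutator D = ⊥ := by
      rw [_root_.commutator_def, Subgroup.commutator_eq_bot_iff_le_centralizer]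
      exact fun x _ => Subgroup.mem_centralizer_iff.2 fun y _ => hDcomm y x
    rw [← Nat.card_eq_fintype_card, natCard_linear, hcb, Subgroup.index_bot, hDcard]
  calc p * m = Fintype.card (D →* ℂˣ) * m := by rw [hcard]
    _ ≤ ∑ l, k l := by
        simpa using Finset.card_nsmul_le_sum Finset.univ k m fun l _ => hle l
    _ = n := hn'.symm

/-- A `p`-group `P ∋ z` centralising the involution `a`, where `a` is the only conjugate of `a`
commuting with `z`: the orbits on the other conjugates have length divisible by `p`, and by `p²`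
if `z ∈ P'`. -/
theorem dvd_relIndex_conj {p : ℕ} [Fact p.Prime] {P : Subgroup G} (hP : IsPGroup p P) {a z : G}
    (hz : z ∈ P) (huniq : ∀ c, IsConj a c → c * z = z * c → c = a) {c : G} (hc : IsConj a c)
    (hca : c ≠ a) :
    p ∣ (centralizer ({c} : Set G)).relIndex P ∧
      (z ∈ ⁅P, P⁆ → p ^ 2 ∣ (centralizer ({c} : Set G)).relIndex P) := by
  classical
  set K := (centralizer ({c} : Set G)).subgroupOf P with hK
  have hzK : ⟨z, hz⟩ ∉ K := fun h => hca (huniq c hc
    (mem_centralizer_singleton_iff.1 (mem_subgroupOf.1 h)).symm)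
  obtain ⟨k, hk⟩ := hP.index K
  have hk0 : k ≠ 0 := by
    rintro rfl
    rw [pow_zero, index_eq_one] at hk
    exact hzK (hk ▸ mem_top _)
  have hri : (centralizer ({c} : Set G)).relIndex P = p ^ k := hk
  refine ⟨hri ▸ dvd_pow_self p hk0, fun hcz => ?_⟩
  rw [hri]
  refine pow_dvd_pow p ?_
  by_contra hk2
  have hk1 : K.index = p := by rw [hk, show k = 1 by omega, pow_one]
  haveI hn : K.Normal := by
    obtain ⟨n, hn⟩ := IsPGroup.iff_card.1 hP
    have hn0 : n ≠ 0 := fun h => hzK (by
      haveI : Subsingleton P := (Nat.card_eq_one_iff_unique.1 (by rw [hn, h, pow_zero])).1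
      rw [Subsingleton.elim (⟨z, hz⟩ : P) 1]; exact one_mem K)
    exact normal_of_index_eq_minFac_card (by
      rw [hk1, hn, Nat.pow_minFac hn0, Nat.Prime.minFac_eq Fact.out])
  haveI : IsCyclic (P ⧸ K) := isCyclic_of_prime_card (p := p) (by rw [← index_eq_card, hk1])
  have hle : ⁅P, P⁆ ≤ K.map P.subtype := by
    rw [commutator_le]
    intro x hx y hy
    refine ⟨⁅(⟨x, hx⟩ : P), ⟨y, hy⟩⁆, ?_, map_commutatorElement P.subtype _ _⟩
    rw [SetLike.mem_coe, ← QuotientGroup.eq_one_iff, ← QuotientGroup.mk'_apply,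
      map_commutatorElement]
    letI := IsCyclic.commGroup (α := P ⧸ K)
    rw [commutatorElement_eq_one_iff_mul_comm]
    exact mul_comm _ _
  obtain ⟨w, hw, e⟩ := hle hcz
  exact hzK (by rwa [show (⟨z, hz⟩ : P) = w from Subtype.ext e.symm])

/-- The number of conjugates of `a` is one modulo the lengths of the orbits on the others. -/
theorem index_modEq_one (H : Subgroup G) {a : G} (ha : H ≤ centralizer ({a} : Set G)) (m : ℕ)
    (hm : ∀ c, IsConj a c → c ≠ a → m ∣ (centralizer ({c} : Set G)).relIndex H) :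
    (centralizer ({a} : Set G)).index ≡ 1 [MOD m] := by
  classical
  haveI := Fintype.ofFinite G
  set s : Finset G := Finset.univ.filter (IsConj a) with hs
  have hcard : s.card = (centralizer ({a} : Set G)).index := by
    rw [← Nat.card_eq_finsetCard, index_eq_card]
    refine (Nat.card_congr (Equiv.ofBijective (fun q : G ⧸ centralizer ({a} : Set G) =>
      Quotient.liftOn' q (fun g => (⟨g * a * g⁻¹, Finset.mem_filter.2
        ⟨Finset.mem_univ _, isConj_iff.2 ⟨g, rfl⟩⟩⟩ : s)) fun x y h => Subtype.ext ?_) ⟨?_, ?_⟩)).symm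
    · have h' := mem_centralizer_singleton_iff.1 (QuotientGroup.leftRel_apply.1 h)
      calc x * a * x⁻¹ = x * (a * (x⁻¹ * y)) * y⁻¹ := by group
        _ = x * ((x⁻¹ * y) * a) * y⁻¹ := by rw [h']
        _ = y * a * y⁻¹ := by group
    · intro q r
      induction q using Quotient.inductionOn' with
      | _ x =>
      induction r using Quotient.inductionOn' with
      | _ y =>
        intro h
        have h' : x * a * x⁻¹ = y * a * y⁻¹ := congrArg Subtype.val h
        refine Quotient.sound' (QuotientGroup.leftRel_apply.2 (mem_centralizer_singleton_iff.2 ?_))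
        calc x⁻¹ * y * a = x⁻¹ * (y * a * y⁻¹) * y := by group
          _ = a * (x⁻¹ * y) := by rw [← h']; group
    · rintro ⟨c, hc⟩
      obtain ⟨g, rfl⟩ := isConj_iff.1 (Finset.mem_filter.1 hc).2
      exact ⟨QuotientGroup.mk g, rfl⟩
  have has : a ∈ s := Finset.mem_filter.2 ⟨Finset.mem_univ _, IsConj.refl a⟩
  have hmult := mult_sum_orbits H m (s.erase a) (fun _ => (1 : ℂ)) (fun h hh c hc => ?_)
    (fun _ _ _ _ => rfl) (fun _ _ => isIntegral_one) (fun c hc => ?_)
  · rw [Finset.sum_const, nsmul_eq_mul, mul_one] at hmult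
    have hd : (m : ℤ) ∣ ((s.erase a).card : ℤ) :=
      Mult.dvd_of_int (by exact_mod_cast hmult)
    rw [← hcard, ← Finset.card_erase_add_one has]
    exact (Nat.modEq_iff_dvd' (Nat.le_add_left 1 _)).2 (by
      rw [Nat.add_sub_cancel]; exact_mod_cast hd) |>.symm
  · simp only [hs, Finset.mem_erase, Finset.mem_filter, Finset.mem_univ, true_and] at hc ⊢
    refine ⟨fun e => hc.1 ?_, hc.2.trans (isConj_iff.2 ⟨h, rfl⟩)⟩
    calc c = h⁻¹ * (h * c * h⁻¹) * h := by group
      _ = h⁻¹ * (a * h) := by rw [e, mul_assoc]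
      _ = a := by rw [← mem_centralizer_singleton_iff.1 (ha hh), inv_mul_cancel_left]
  · simp only [hs, Finset.mem_erase, Finset.mem_filter, Finset.mem_univ, true_and] at hc
    exact hm c hc.2 hc.1

end CfsgLib.GW.Component
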