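import Cfsg.Agent.Lib.GW.Component.EndArith
import Cfsg.Agent.Lib.GW.Component.Degree
import Cfsg.Agent.Lib.BlockA.KleinOrder
import Cfsg.Agent.Lib.BlockA.RegularSeparation
import Cfsg.Agent.Lib.BlockB.GaloisAvg
import Cfsg.Agent.Lib.BlockB.PairProducts
import Cfsg.Agent.Lib.Char.RootsAverage
import Cfsg.Agent.Lib.Recog.GenDihedral.OneClass

/-!
The index of the centralizer of an involution in a simple group with Klein four Sylow subgroups,
when the odd core of that centralizer moves the other involutions in orbits of full length and has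
a central element with a small centralizer.
-/

set_option autoImplicit false
set_option linter.unusedSectionVars false

namespace CfsgLib.GW.Component

open Polynomial Subgroup CfsgLib.Invol CfsgLib.BlockB
open scoped ComplexConjugate

universe u

/-- A cyclotomic sequence all whose values are small and which is a multiple of `m` at `1`
vanishes at `1`. -/
theorem cyclo_eq_zero {n m : ℕ} (hn : n ≠ 0) {f : ℕ → ℂ} (hf : IsCyclo n f)
    (hm : Mult m (f 1)) (hb : ∀ k : ℕ, k.Coprime n → ‖f k‖ < m) : f 1 = 0 := by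
  classical
  have hm0 : (m : ℂ) ≠ 0 := by
    intro e
    have h := hb 1 (Nat.coprime_one_left n)
    rw [show (m : ℝ) = 0 by exact_mod_cast e] at h
    exact absurd h (not_lt.2 (norm_nonneg _))
  obtain ⟨P, hP⟩ := hf
  obtain ⟨w, hw, hfw⟩ := hm
  have hζ := zetaN_isPrimitiveRoot hn
  let K := algebraicClosure ℚ ℂ
  have : Algebra.IsAlgebraic ℚ K := algebraicClosure.isAlgebraic ℚ ℂ
  let z : K := ⟨zetaN n, mem_algebraicClosure_iff.2
    ((hζ.isIntegral (Nat.pos_of_ne_zero hn)).tower_top (A := ℚ)).isAlgebraic⟩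
  have hz : IsPrimitiveRoot z n := IsPrimitiveRoot.of_map_of_injective
    (f := algebraMap K ℂ) (show IsPrimitiveRoot (algebraMap K ℂ z) n from hζ)
    (algebraMap K ℂ).injective
  have key : ∀ ψ : K →ₐ[ℚ] ℂ, ∃ k : ℕ, k.Coprime n ∧ ψ (aeval z P) = f k := fun ψ => by
    have hψ : IsPrimitiveRoot (ψ z) n := hz.map_of_injective ψ.toRingHom.injective
    have : NeZero n := ⟨hn⟩
    obtain ⟨k, -, hk⟩ := hζ.eq_pow_of_pow_eq_one hψ.pow_eq_one
    refine ⟨k, (hζ.pow_iff_coprime (Nat.pos_of_ne_zero hn) k).1 (hk ▸ hψ), ?_⟩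
    rw [hP, hk]
    exact (Polynomial.aeval_algHom_apply (ψ.restrictScalars ℤ) z P).symm
  let x : K := aeval z P / (m : K)
  have hx1 : (algebraMap K ℂ).toRatAlgHom (aeval z P) = f 1 := by
    rw [hP, pow_one]
    exact (Polynomial.aeval_algHom_apply ((algebraMap K ℂ).toRatAlgHom.restrictScalars ℤ) z P).symm
  have hxv : algebraMap K ℂ x = w := by
    show algebraMap K ℂ (aeval z P / (m : K)) = w
    rw [map_div₀, map_natCast, show algebraMap K ℂ (aeval z P) = f 1 from hx1, hfw,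
      mul_div_cancel_left₀ _ hm0]
  have hxi : IsIntegral ℤ x := by
    rw [← isIntegral_algebraMap_iff (A := K) (B := ℂ) (algebraMap K ℂ).injective, hxv]
    exact hw
  have hlt : ∀ ψ : K →ₐ[ℚ] ℂ, ‖ψ x‖ < 1 := fun ψ => by
    obtain ⟨k, hk, e⟩ := key ψ
    show ‖ψ (aeval z P / (m : K))‖ < 1
    rw [map_div₀, map_natCast, e, norm_div, Complex.norm_natCast, div_lt_one
      (lt_of_le_of_lt (norm_nonneg _) (hb k hk))]
    exact hb k hk
  have hx0 := CfsgLib.Char.algebraicInteger_conj_bound_zero x hxi (fun ψ => (hlt ψ).le)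
    (algebraMap K ℂ).toRatAlgHom (hlt _)
  rw [hfw, ← hxv, hx0, map_zero, mul_zero]

variable {G : Type u} [Group G]

/-- A character value sequence along the powers of one element. -/
theorem isCyclo_char_orderOf [Finite G] {χ : G → ℂ} (hχ : Cfsg.IsCharacter G χ) (g : G) :
    IsCyclo (orderOf g) (fun k => χ (g ^ k)) := by
  obtain ⟨d, ρ, rfl⟩ := hχ
  obtain ⟨ι, hι, b, μ, -, h2, h3, -⟩ := CfsgLib.Char.exists_char_eigen ρ g
  have hn : orderOf g ≠ 0 := (orderOf_pos g).ne'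
  have : NeZero (orderOf g) := ⟨hn⟩
  have hj : ∀ i, ∃ j, zetaN (orderOf g) ^ j = μ i := fun i => by
    obtain ⟨j, -, hj⟩ := (zetaN_isPrimitiveRoot hn).eq_pow_of_pow_eq_one
      (show μ i ^ orderOf g = 1 from h2 i)
    exact ⟨j, hj⟩
  choose j hj using hj
  refine ⟨∑ i, X ^ j i, fun k => ?_⟩
  show ρ.character (g ^ k) = _
  rw [h3, map_sum]
  refine Finset.sum_congr rfl fun i _ => ?_
  rw [map_pow, aeval_X, ← pow_mul, mul_comm, pow_mul, hj]

/-- A Klein four group: the index of the centralizer of an involution. -/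
theorem klein_index [Finite G] [IsSimpleGroup G] (hG : ¬ IsMulCommutative G) (P : Sylow 2 G)
    (hP : IsKleinFour (P : Subgroup G)) {a : G} (haP : a ∈ (P : Subgroup G)) (ha : a ≠ 1)
    (hone : ∀ s t : G, orderOf s = 2 → orderOf t = 2 → IsConj s t) (O : Subgroup G)
    (hOa : O ≤ centralizer ({a} : Set G)) {k : ℕ} (hk : Odd k)
    (hc : Nat.card (centralizer ({a} : Set G)) =
      k * Nat.card (centralizer ((P : Subgroup G) : Set G)))
    (hfree : ∀ c, IsConj a c → c ≠ a → k ∣ (centralizer ({c} : Set G)).relIndex O)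
    {z : G} (hz1 : z ≠ 1) (hzodd : Odd (orderOf z)) (hzO : ∀ h ∈ O, h * z = z * h)
    (hza : Commute z a) {B : ℕ} (hBk : 4 * B + 9 < 2 * k)
    (hzc : Nat.card (centralizer ({z} : Set G)) ≤ B ^ 2) :
    ∃ δ : ℤ, (δ = 1 ∨ δ = -1) ∧
      ((centralizer ({a} : Set G)).index : ℤ) = (4 * k + δ) * (2 * k + δ) := by
  classical
  have := Fintype.ofFinite G
  have := Fintype.ofFinite (Cfsg.IrrCharacter G)
  obtain ⟨M, hM⟩ := CfsgLib.BlockB.exists_isPModular Nat.prime_two (p := 2)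
  have := hM.2.1.isPrime
  have ha2 := CfsgLib.Invol.klein_orderOf hP haP ha
  obtain ⟨hcard4, hvals⟩ := CfsgLib.BlockA.klein_principal_card hM P hP hone haP ha
  set Bl := Cfsg.principalBlock M G with hBl
  have htriv : CfsgLib.Block.trivIrr ∈ Bl := CfsgLib.Block.one_mem_principalBlock
  have h3 : (Bl \ {CfsgLib.Block.trivIrr}).ncard = 3 := by
    rw [Set.ncard_sdiff_singleton_of_mem htriv, ← Nat.card_coe_set_eq, hcard4]
  obtain ⟨χ₁, χ₂, χ₃, h12, h13, h23, he⟩ := Set.ncard_eq_three.1 h3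
  let χ : Fin 3 → Cfsg.IrrCharacter G := ![χ₁, χ₂, χ₃]
  have hmem : ∀ j, χ j ∈ Bl ∧ χ j ≠ CfsgLib.Block.trivIrr := by
    intro j
    have : χ j ∈ Bl \ {CfsgLib.Block.trivIrr} := by rw [he]; fin_cases j <;> simp [χ]
    simpa using this
  have hBset : Cfsg.principalBlock M G = {ψ : Cfsg.IrrCharacter G |
      (ψ : G → ℂ) = (fun _ => 1) ∨ ψ = χ₁ ∨ ψ = χ₂ ∨ ψ = χ₃} := by
    ext ψ
    constructor
    · intro hψ
      by_cases e : ψ = CfsgLib.Block.trivIrr
      · exact Or.inl (by rw [e]; rfl)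
      · exact Or.inr (by
          have : ψ ∈ Bl \ {CfsgLib.Block.trivIrr} := ⟨hψ, e⟩
          rw [he] at this
          simpa using this)
    · rintro (e | e | e | e)
      · rw [show ψ = CfsgLib.Block.trivIrr from Subtype.ext e]; exact htriv
      · exact e ▸ (hmem 0).1
      · exact e ▸ (hmem 1).1
      · exact e ▸ (hmem 2).1
  have hdist : (χ₁ : G → ℂ) ≠ (fun _ => 1) ∧ (χ₂ : G → ℂ) ≠ (fun _ => 1) ∧
      (χ₃ : G → ℂ) ≠ (fun _ => 1) ∧ χ₁ ≠ χ₂ ∧ χ₁ ≠ χ₃ ∧ χ₂ ≠ χ₃ :=
    ⟨fun e => (hmem 0).2 (Subtype.ext e), fun e => (hmem 1).2 (Subtype.ext e),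
      fun e => (hmem 2).2 (Subtype.ext e), h12, h13, h23⟩
  have haa : a * a = 1 := invol_mul_self ha2
  have hsgn : ∀ j, ∃ e : ℤ, (e = 1 ∨ e = -1) ∧ (χ j : G → ℂ) a = e := fun j => by
    rcases hvals (χ j) (hmem j).1 with e | e
    · exact ⟨1, Or.inl rfl, by simpa using e⟩
    · exact ⟨-1, Or.inr rfl, by simpa using e⟩
  choose ε hε hεv using hsgn
  have hεε : ∀ j, ε j * ε j = 1 := fun j => by rcases hε j with e | e <;> rw [e] <;> norm_num
  set H := centralizer ({a} : Set G) with hH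
  set N : ℕ := H.index with hN
  have hrel := CfsgLib.BlockA.klein_degree_relation hM hP hone haP ha hBset hdist
    ⟨hεv 0, hεv 1, hεv 2⟩
  have hord := CfsgLib.BlockA.klein_order_formula hM hP hone haP ha hBset hdist
    ⟨hεv 0, hεv 1, hεv 2⟩ ⟨hε 0, hε 1, hε 2⟩
  -- the central characters
  have hdeg : ∀ j, (χ j : G → ℂ) 1 = (Cfsg.charDegree (χ j : G → ℂ) : ℂ) := fun j =>
    (CfsgLib.BlockB.irr_degree_cast (χ j)).symm
  set x : Fin 3 → ℤ := fun j => ε j * Cfsg.charDegree (χ j : G → ℂ) with hx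
  have hx0 : ∀ j, x j ≠ 0 := fun j => mul_ne_zero
    (fun e => by simpa [e] using hεε j) (by exact_mod_cast CfsgLib.BlockB.irr_degree_ne_zero (χ j))
  have hcc : ∀ j, Cfsg.centralChar (χ j : G → ℂ) a = (N : ℂ) / (x j : ℂ) := fun j => by
    have hd : (Cfsg.charDegree (χ j : G → ℂ) : ℂ) ≠ 0 := by
      exact_mod_cast CfsgLib.BlockB.irr_degree_ne_zero (χ j)
    rw [Cfsg.centralChar, hεv j, hdeg j, ← hH, ← hN, hx]
    push_cast
    rcases hε j with e | e <;> rw [e] <;> field_simp <;> push_cast <;> ring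
  have hwex : ∀ j, ∃ w : ℤ, w * x j = N := fun j => by
    have h1 := CfsgLib.BlockB.irr_centralChar_isIntegral (χ j) a
    rw [hcc j] at h1
    have h2 : ((((N : ℤ) : ℚ) / (x j : ℚ) : ℚ) : ℂ) = (N : ℂ) / (x j : ℂ) := by push_cast; ring
    obtain ⟨w, hw⟩ := CfsgLib.Char.exists_int_of_isIntegral_rat (h2 ▸ h1)
    refine ⟨w, ?_⟩
    rw [eq_comm, eq_div_iff (by exact_mod_cast hx0 j)] at hw
    exact_mod_cast hw
  choose w hw using hwex
  have hwc : ∀ j, Cfsg.centralChar (χ j : G → ℂ) a = (w j : ℂ) := fun j => by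
    rw [hcc j, div_eq_iff (by exact_mod_cast hx0 j)]
    exact_mod_cast (hw j).symm
  -- congruences
  have hOc : ∀ h ∈ O, h * a = a * h := fun h hh => mem_centralizer_singleton_iff.1 (hOa hh)
  have hN1 : (N : ℤ) ≡ 1 [ZMOD k] := by
    exact_mod_cast Int.natCast_modEq_iff.2 (index_modEq_one O hOa k hfree)
  have hwx : ∀ j, w j ≡ x j [ZMOD k] := fun j => by
    have h1 := centralChar_mul_congr (χ j) O (y := a) k hOc hOc hfree
    rw [hwc j, hεv j, haa, hdeg j] at h1
    have h2 : (k : ℤ) ∣ ε j * w j - Cfsg.charDegree (χ j : G → ℂ) :=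
      Mult.dvd_of_int (by push_cast; exact h1)
    refine (Int.modEq_iff_dvd.2 ?_).symm
    have h3 := h2.mul_left (ε j)
    rwa [mul_sub, ← mul_assoc, hεε j, one_mul] at h3
  have hNodd : Odd (N : ℤ) := by
    have hle : (P : Subgroup G) ≤ H := fun y hy =>
      mem_centralizer_singleton_iff.2 (CfsgLib.BlockA.klein_commute hP hy haP)
    have : ¬ 2 ∣ H.index := fun h =>
      P.not_dvd_index (h.trans (Subgroup.index_dvd_of_le hle))
    exact_mod_cast Nat.odd_iff.2 (by omega : N % 2 = 1)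
  have hwodd : ∀ j, Odd (w j) ∧ Odd (x j) := fun j => Int.odd_mul.1 ((hw j).symm ▸ hNodd)
  -- the values at the powers of `z`
  have hN0 : 0 < (N : ℤ) := by exact_mod_cast Nat.pos_of_ne_zero H.index_ne_zero_of_finite
  have hzg : ∀ i : ℕ, i.Coprime (orderOf z) →
      ∀ g, g * z ^ i = z ^ i * g ↔ g * z = z * g := fun i hi g => by
    refine ⟨fun h => ?_, fun h => (Commute.pow_right h i).eq⟩
    obtain ⟨r, hr⟩ := exists_pow_eq_self_of_coprime hi
    rw [← hr]
    exact (Commute.pow_right h r).eq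
  have hcz : ∀ i : ℕ, i.Coprime (orderOf z) → ∀ j, ‖(χ j : G → ℂ) (z ^ i)‖ ≤ B := by
    intro i hi j
    have hcen : centralizer ({z ^ i} : Set G) = centralizer ({z} : Set G) := by
      ext g
      rw [mem_centralizer_singleton_iff, mem_centralizer_singleton_iff]
      exact hzg i hi g
    have h1 := CfsgLib.Char.column_orthogonality (z ^ i) (z ^ i)
    rw [if_pos (IsConj.refl _), hcen] at h1
    simp only [Complex.mul_conj'] at h1
    have h2 : ∑ ψ : Cfsg.IrrCharacter G, ‖(ψ : G → ℂ) (z ^ i)‖ ^ 2 =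
        (Nat.card (centralizer ({z} : Set G)) : ℝ) := by exact_mod_cast h1
    have h4 : ‖(χ j : G → ℂ) (z ^ i)‖ ^ 2 ≤ ((B : ℝ)) ^ 2 := by
      refine ((Finset.single_le_sum (f := fun ψ : Cfsg.IrrCharacter G =>
        ‖(ψ : G → ℂ) (z ^ i)‖ ^ 2) (fun ψ _ => sq_nonneg _) (Finset.mem_univ (χ j))).trans
          h2.le).trans ?_
      exact_mod_cast hzc
    exact (pow_le_pow_iff_left₀ (norm_nonneg _) (Nat.cast_nonneg _) two_ne_zero).1 h4
  have hval : ∀ i : ℕ, ∀ j, (χ j : G → ℂ) (z ^ i * a) = (ε j : ℂ) := fun i j => by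
    rw [CfsgLib.BlockA.klein_principal_singular hM P hP hone haP ha (hmem j).1 ?_, hεv j]
    have hco : (orderOf (z ^ i)).Coprime (orderOf a) := by
      rw [ha2]
      exact Nat.coprime_two_right.2 (hzodd.of_dvd_nat (orderOf_pow_dvd i))
    rw [(hza.pow_left i).orderOf_mul_eq_mul_orderOf_of_coprime hco, ha2]
    exact dvd_mul_left 2 _
  -- modulo `k`
  have hcong : ∀ i : ℕ, ∀ j, Mult k ((w j : ℂ) * (χ j : G → ℂ) (z ^ i) - (ε j : ℂ)) := fun i j => by
    have h1 := centralChar_mul_congr (χ j) O (y := z ^ i) k hOc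
      (fun h hh => (Commute.pow_right (hzO h hh) i).eq) hfree
    rwa [hwc j, hval i j, mul_comm] at h1
  have hx1 : ∀ j, x j * w j ≡ 1 [ZMOD k] := fun j => by rw [mul_comm, hw j]; exact hN1
  have hdiff : ∀ i l : ℕ, ∀ j, Mult k ((χ j : G → ℂ) (z ^ i) - (χ j : G → ℂ) (z ^ l)) := by
    intro i l j
    obtain ⟨v, hv⟩ := (Int.modEq_iff_dvd.1 (hx1 j))
    have h1 := ((hcong i j).sub (hcong l j)).mul_left (isIntegral_intCast (x j))
    have h2 : Mult k (((k : ℂ) * v) * ((χ j : G → ℂ) (z ^ i) - (χ j : G → ℂ) (z ^ l))) :=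
      ⟨(v : ℂ) * ((χ j : G → ℂ) (z ^ i) - (χ j : G → ℂ) (z ^ l)), (isIntegral_intCast v).mul
        ((CfsgLib.BlockB.irr_isIntegral _ _).sub (CfsgLib.BlockB.irr_isIntegral _ _)), by ring⟩
    have h3 := h1.add h2
    have hv' : (x j : ℂ) * (w j : ℂ) = 1 - (k : ℂ) * v := by
      have := congrArg (fun t : ℤ => (t : ℂ)) hv
      push_cast at this
      linear_combination -this
    convert h3 using 1
    linear_combination ((χ j : G → ℂ) (z ^ l) - (χ j : G → ℂ) (z ^ i)) * hv'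
  have hint : ∀ j, ∃ X : ℤ, (χ j : G → ℂ) z = X := fun j => by
    obtain ⟨Xv, hX⟩ := (isCyclo_char_orderOf (CfsgLib.Char.irr_isCharacter (χ j).2) z).exists_int
      (orderOf_pos z).ne' (fun i hi => by
        obtain ⟨P', hP'⟩ := isCyclo_char_orderOf (CfsgLib.Char.irr_isCharacter (χ j).2) z
        have hd : IsCyclo (orderOf z)
            (fun l => (χ j : G → ℂ) (z ^ (l * i)) - (χ j : G → ℂ) (z ^ l)) :=
          ⟨P'.comp (X ^ i) - P', fun l => by
            rw [map_sub, aeval_comp, map_pow, aeval_X, ← pow_mul, ← hP', ← hP']⟩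
        have h0 := cyclo_eq_zero (m := k) (orderOf_pos z).ne' hd (hdiff _ _ j) (fun l hl => by
          refine lt_of_le_of_lt (norm_sub_le _ _) ?_
          have h1 := hcz _ (Nat.Coprime.mul_left hl hi) j
          have h2 := hcz _ hl j
          have h3 : (2 * B : ℝ) < k := by exact_mod_cast (by omega : 2 * B < k)
          linarith)
        simp only [one_mul, pow_one, sub_eq_zero] at h0
        simpa using h0)
    exact ⟨Xv, by simpa using hX⟩
  choose Xv hXv using hint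
  set X' : Fin 3 → ℤ := fun j => ε j * Xv j with hX'
  have hwX : ∀ j, w j * X' j ≡ 1 [ZMOD k] := fun j => by
    have h1 := hcong 1 j
    rw [pow_one, hXv j] at h1
    have h2 : (k : ℤ) ∣ w j * Xv j - ε j := Mult.dvd_of_int (by push_cast; exact h1)
    have h3 := h2.mul_left (ε j)
    rw [mul_sub, hεε j] at h3
    refine (Int.modEq_iff_dvd.2 ?_).symm
    rwa [show w j * X' j = ε j * (w j * Xv j) by rw [hX']; ring]
  have hxX : ∀ j, X' j ≡ x j [ZMOD k] := fun j => by
    calc X' j = 1 * X' j := (one_mul _).symm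
      _ ≡ x j * w j * X' j [ZMOD k] := ((hx1 j).symm.mul_right _)
      _ = x j * (w j * X' j) := mul_assoc _ _ _
      _ ≡ x j * 1 [ZMOD k] := (hwX j).mul_left _
      _ = x j := mul_one _
  have hX2 : ∀ j, X' j ^ 2 ≡ 1 [ZMOD k] := fun j => by
    calc X' j ^ 2 = X' j * X' j := pow_two _
      _ ≡ x j * X' j [ZMOD k] := (hxX j).mul_right _
      _ ≡ w j * X' j [ZMOD k] := ((hwx j).symm.mul_right _)
      _ ≡ 1 [ZMOD k] := hwX j
  have hXodd : ∀ j, Odd (X' j) := fun j => by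
    obtain ⟨γ, hγ⟩ := CfsgLib.BlockA.char_pow_sub_apply_pow Nat.prime_two
      (CfsgLib.Char.irr_isCharacter (χ j).2) (z * a) 1
    have hsq : (z * a) ^ 2 ^ 1 = z ^ 2 := by
      rw [pow_one, hza.mul_pow, pow_two a, haa, mul_one]
    have hv1 := hval 1 j
    rw [pow_one] at hv1
    have hz2 : (χ j : G → ℂ) (z ^ 2) = Xv j := by
      have hco : (2 : ℕ).Coprime (orderOf z) := Nat.coprime_two_left.2 hzodd
      have h0 := cyclo_eq_zero (m := k) (orderOf_pos z).ne'
        (f := fun l => (χ j : G → ℂ) (z ^ (l * 2)) - (χ j : G → ℂ) (z ^ l)) (by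
          obtain ⟨P', hP'⟩ := isCyclo_char_orderOf (CfsgLib.Char.irr_isCharacter (χ j).2) z
          exact ⟨P'.comp (X ^ 2) - P', fun l => by
            rw [map_sub, aeval_comp, map_pow, aeval_X, ← pow_mul, ← hP', ← hP']⟩)
        (hdiff _ _ j) (fun l hl => by
          refine lt_of_le_of_lt (norm_sub_le _ _) ?_
          have h1 := hcz _ (Nat.Coprime.mul_left hl hco) j
          have h2 := hcz _ hl j
          have h3 : (2 * B : ℝ) < k := by exact_mod_cast (by omega : 2 * B < k)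
          linarith)
      simp only [one_mul, pow_one, sub_eq_zero] at h0
      rw [h0, hXv j]
    rw [pow_one, hv1, ← pow_one (2 : ℕ), hsq, hz2] at hγ
    have h2 : (2 : ℤ) ∣ ε j ^ 2 - Xv j := by
      have : Mult 2 (((ε j ^ 2 - Xv j : ℤ) : ℂ)) := ⟨γ, γ.2, by push_cast; simpa using hγ⟩
      exact_mod_cast this.dvd_of_int
    rw [show ε j ^ 2 = 1 by rw [pow_two, hεε j]] at h2
    refine Int.odd_mul.2 ⟨?_, ?_⟩
    · rcases hε j with e | e <;> rw [e] <;> decide
    · rw [Int.odd_iff]; omega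
  have h2kd : ∀ j, 2 * (k : ℤ) ∣ x j - X' j := fun j =>
    (Int.isCoprime_iff_gcd_eq_one.2 (by
      have : Nat.Coprime 2 k := Nat.coprime_two_left.2 hk
      exact_mod_cast this)).mul_dvd
      (even_iff_two_dvd.1 ((hwodd j).2.sub_odd (hXodd j))) (Int.modEq_iff_dvd.1 (hxX j))
  have hne : ∀ j, x j ≠ X' j := fun j e => by
    refine (hmem j).2 (CfsgLib.BlockB.PairProd.eq_triv_of_apply_eq hG (χ j) hz1 ?_)
    have h1 : (Cfsg.charDegree (χ j : G → ℂ) : ℤ) = Xv j :=
      mul_left_cancel₀ (fun e => by simpa [e] using hεε j) e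
    rw [hXv j, hdeg j, ← h1]
    push_cast; rfl
  have hXB : ∀ j, |X' j| ≤ (B : ℤ) := fun j => by
    have h1 := hcz 1 (Nat.coprime_one_left _) j
    rw [pow_one, hXv j, Complex.norm_intCast] at h1
    rw [hX', abs_mul, show |ε j| = 1 by rcases hε j with e | e <;> rw [e] <;> norm_num, one_mul]
    exact_mod_cast h1
  -- the two sums
  have hsumX : 1 + X' 0 + X' 1 + X' 2 = 0 := by
    have := Fintype.ofFinite Bl
    have h := CfsgLib.BlockA.klein_relation hM P hP hone haP ha (g := z)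
      (fun h => Nat.not_even_iff_odd.2 hzodd (even_iff_two_dvd.2 h))
    rw [← finsum_eq_sum_of_fintype, finsum_set_coe_eq_finsum_mem (Cfsg.principalBlock M G)
      (f := fun ψ : Cfsg.IrrCharacter G => (ψ : G → ℂ) a * (ψ : G → ℂ) z),
      CfsgLib.BlockA.finsum_block_four hBset hdist] at h
    rw [show (χ₁ : G → ℂ) a = ε 0 from hεv 0, show (χ₂ : G → ℂ) a = ε 1 from hεv 1,
      show (χ₃ : G → ℂ) a = ε 2 from hεv 2, show (χ₁ : G → ℂ) z = Xv 0 from hXv 0,
      show (χ₂ : G → ℂ) z = Xv 1 from hXv 1, show (χ₃ : G → ℂ) z = Xv 2 from hXv 2] at h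
    simp only [CfsgLib.Block.trivIrr, mul_one] at h
    exact_mod_cast h
  have hsumx : 1 + x 0 + x 1 + x 2 = 0 := hrel
  have hord' : (N : ℤ) + (w 0 + w 1 + w 2) = 8 * (k : ℤ) ^ 2 := by
    set cP : ℕ := Nat.card (centralizer ((P : Subgroup G) : Set G))
    have hGc : (Nat.card G : ℤ) = (k : ℤ) * cP * N := by
      rw [← Subgroup.card_mul_index H, hH, hc]; push_cast; rfl
    have hc' : (Nat.card (centralizer ({a} : Set G)) : ℤ) = (k : ℤ) * cP := by
      rw [hc]; push_cast; rfl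
    rw [hGc, hc'] at hord
    have e : ∀ j, (Cfsg.charDegree (χ j : G → ℂ) : ℤ) = ε j * x j := fun j => by
      rw [hx]; simp only [← mul_assoc, hεε j, one_mul]
    rw [show (Cfsg.charDegree (χ₁ : G → ℂ) : ℤ) = ε 0 * x 0 from e 0,
      show (Cfsg.charDegree (χ₂ : G → ℂ) : ℤ) = ε 1 * x 1 from e 1,
      show (Cfsg.charDegree (χ₃ : G → ℂ) : ℤ) = ε 2 * x 2 from e 2] at hord
    refine mul_left_cancel₀ (show ε 0 * ε 1 * ε 2 * ((k : ℤ) * cP ^ 3) * (x 0 * x 1 * x 2) ≠ 0 from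
      mul_ne_zero (mul_ne_zero (mul_ne_zero (mul_ne_zero (fun e => by simpa [e] using hεε 0)
        (fun e => by simpa [e] using hεε 1)) (fun e => by simpa [e] using hεε 2))
        (mul_ne_zero (by have := hk.pos; positivity) (pow_ne_zero 3 (by
          exact_mod_cast Nat.card_pos.ne'))))
        (mul_ne_zero (mul_ne_zero (hx0 0) (hx0 1)) (hx0 2))) ?_
    linear_combination hord +
      (ε 0 * ε 1 * ε 2 * (k : ℤ) * cP ^ 3 * x 1 * x 2) * hw 0 +
      (ε 0 * ε 1 * ε 2 * (k : ℤ) * cP ^ 3 * x 0 * x 2) * hw 1 +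
      (ε 0 * ε 1 * ε 2 * (k : ℤ) * cP ^ 3 * x 0 * x 1) * hw 2 -
      (ε 0 * ε 1 * ε 2 * (k : ℤ) * cP ^ 3 * N) * hsumx
  exact klein_degree x X' w (by exact_mod_cast hk) (by exact_mod_cast hBk) hN0 hord' hw
    (fun j => (hwodd j).1) hsumX hsumx h2kd hne hwX hX2 hXodd hXB

end CfsgLib.GW.Component
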