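import Cfsg.Agent.Lib.GW.Component.EndArith
import Cfsg.Agent.Lib.GW.Component.Degree
import Cfsg.Agent.Lib.Recog.GenDihedral.OneClass

/-!
The index of the centralizer of a central involution when the dihedral Sylow subgroups have order
at least eight and the index is congruent to one modulo the index `k` of the common core.
-/

set_option autoImplicit false
set_option linter.unusedSectionVars false

namespace CfsgLib.GW.Component

open Subgroup CfsgLib.Invol CfsgLib.BlockA.DihedralBlock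

universe u

variable {G : Type u} [Group G] [Finite G]

/-- The index, from the order formula. -/
theorem dihedral_index (P : Sylow 2 G) (D : DihData (P : Subgroup G)) {n : ℕ} (hn : 3 ≤ n)
    (hh : D.h = 2 ^ (n - 2))
    (hone : ∀ s t : G, orderOf s = 2 → orderOf t = 2 → IsConj s t) (O : Subgroup G)
    (hOa : O ≤ centralizer ({dz P D} : Set G)) {k : ℕ} (hk : Odd k)
    (hfree : ∀ c, IsConj (dz P D) c → c ≠ dz P D → k ∣ (centralizer ({c} : Set G)).relIndex O)
    (h0 : Nat.card (centralizer ({dz P D} : Set G)) =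
      Nat.card (centralizer ({dz P D, dt P D 0} : Set G)) * (2 ^ (n - 2) * k))
    (h1 : Nat.card (centralizer ({dz P D} : Set G)) =
      Nat.card (centralizer ({dz P D, dt P D 1} : Set G)) * (2 ^ (n - 2) * k)) :
    ∃ δ : ℤ, (δ = 1 ∨ δ = -1) ∧
      ((centralizer ({dz P D} : Set G)).index : ℤ) =
        (2 ^ n * k + δ) * (2 ^ (n - 1) * k + δ) := by
  classical
  have := Fintype.ofFinite G
  obtain ⟨M, hM⟩ := CfsgLib.BlockB.exists_isPModular Nat.prime_two (p := 2)
  have := hM.2.1.isPrime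
  have h2h : 2 ≤ D.h := hh ▸ Nat.le_self_pow (by omega) 2
  obtain ⟨ζ, hζ⟩ : ∃ ζ : ℂ, IsPrimitiveRoot ζ (2 * D.h) :=
    ⟨_, Complex.isPrimitiveRoot_exp _ (by omega)⟩
  obtain ⟨χ₁, χ₂, χ₃, χ', δ₁, δ₂, δ₃, S⟩ := exists_shape hM P D h2h hζ
  obtain ⟨hne, hord⟩ := order_formula hM P D h2h hζ S hone
  set x := Cfsg.charDegree (χ₁ : G → ℂ) with hx
  set H := centralizer ({dz P D} : Set G) with hH
  set N := H.index with hN
  refine ⟨δ₁, S.sgn₁, dihedral_degree (x := (x : ℤ)) (by omega) (by exact_mod_cast hk)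
    (by exact_mod_cast hk.pos) ?_ ?_ S.sgn₁
    (by exact_mod_cast CfsgLib.BlockB.irr_degree_pos χ₁) hne ?_⟩
  · have hle : (P : Subgroup G) ≤ H := fun w hw =>
      mem_centralizer_singleton_iff.2 ((dz_commute P D hw).eq.symm)
    have : ¬ 2 ∣ N := fun h => P.not_dvd_index (h.trans (Subgroup.index_dvd_of_le hle))
    exact_mod_cast Nat.odd_iff.2 (by omega : N % 2 = 1)
  · exact_mod_cast Int.natCast_modEq_iff.2 (index_modEq_one O hOa k hfree)
  · have hGN : (Nat.card G : ℚ) = (Nat.card H : ℚ) * N := by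
      exact_mod_cast (H.card_mul_index).symm
    have hHpos : (Nat.card H : ℚ) ≠ 0 := by exact_mod_cast Nat.card_pos.ne'
    have hm : ((2 ^ (n - 2) * k : ℕ) : ℚ) ≠ 0 := by
      exact_mod_cast (Nat.mul_pos (Nat.two_pow_pos _) hk.pos).ne'
    have hq : ∀ {c : ℕ}, Nat.card H = c * (2 ^ (n - 2) * k) →
        (1 : ℚ) / c = ((2 ^ (n - 2) * k : ℕ) : ℚ) / Nat.card H := by
      intro c hc
      rw [hc, Nat.cast_mul c (2 ^ (n - 2) * k), div_mul_cancel_right₀ hm, one_div]
    rw [hGN, hq h0, hq h1] at hord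
    have key : (N : ℚ) * ((x : ℚ) - δ₁) ^ 2 =
        2 ^ (2 * n - 1) * (k : ℚ) ^ 2 * x * ((x : ℚ) + δ₁) := by
      have h2 : (2 : ℚ) ^ (2 * n - 1) = 2 * (2 * 2 ^ (n - 2)) ^ 2 := by
        rw [← pow_succ', ← pow_mul, ← pow_succ']
        congr 1; omega
      rw [h2]
      push_cast at hord
      field_simp at hord
      linear_combination hord
    exact_mod_cast key

end CfsgLib.GW.Component
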