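import Cfsg.Agent.Lib.GW.Shape
import Cfsg.Agent.Lib.GW.Scalar
import Cfsg.Agent.Lib.Coprime.Sylow
import Cfsg.Agent.Lib.Comp.Local
import Cfsg.Agent.Lib.Recog.SuborbitThree.PSLFacts

/-!
The component in the normalizer of the fixed part of `O(C(a))`: the inverted part is the whole odd
part of a torus.
-/

set_option autoImplicit false
set_option linter.unusedSectionVars false
set_option linter.style.haveILetI false

namespace CfsgLib.GW.Component

open Subgroup CfsgLib.Invol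
open scoped MatrixGroups

universe u

variable {G : Type u} [Group G] [Finite G]

/-- The core of a subgroup does not meet the part inverted by `b`, if no involution other than `a`
centralises a nontrivial element of it and some element of the subgroup moves `a` to `b`. -/
theorem eq_one_of_unique {a b g : G} {K : Subgroup G} (ha : orderOf a = 2) (hb : orderOf b = 2)
    (haK : a ∈ K) (hbK : b ∈ K) (hgK : g ∈ K) (hga : g * a * g⁻¹ = b) {v : G}
    (huniq : ∀ w ∈ zpowers v, w ≠ 1 → ∀ j, orderOf j = 2 → Commute j w → j = a)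
    (hvK : v ∈ (Cfsg.oddCore ↥K).map K.subtype) (hva : Commute a v)
    (hinv : b * v * b⁻¹ = v⁻¹) : v = 1 := by
  set K0 : Subgroup G := (Cfsg.oddCore ↥K).map K.subtype with hK0
  have hK0odd : Odd (Nat.card K0) := by
    rw [hK0, card_map_of_injective (subtype_injective _)]
    exact Nat.coprime_two_right.1 (CfsgLib.Solvable.pPrimeCore_coprime 2)
  have hKK : K ≤ normalizer (K0 : Set G) := by
    refine fun x hx => mem_normalizer_iff_of_finite fun y hy => ?_
    obtain ⟨y', hy', rfl⟩ := hy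
    exact ⟨⟨x, hx⟩ * y' * (⟨x, hx⟩ : K)⁻¹,
      (CfsgLib.Solvable.pPrimeCore_normal 2 ↥K).conj_mem y' hy' ⟨x, hx⟩, rfl⟩
  by_contra hv1
  have hne : orderOf v ≠ 1 := fun e => hv1 (orderOf_eq_one_iff.1 e)
  obtain ⟨ℓ, hℓ, hℓd⟩ := Nat.exists_prime_and_dvd hne
  haveI := Fact.mk hℓ
  set w := v ^ (orderOf v / ℓ) with hwdef
  have hwo : orderOf w = ℓ := orderOf_pow_orderOf_div (orderOf_pos v).ne' hℓd
  have hw1 : w ≠ 1 := fun e => hℓ.ne_one (by rw [← hwo, e, orderOf_one])
  have hwK : w ∈ K0 := pow_mem hvK _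
  have hwa : Commute a w := hva.pow_right _
  have hwinv : b * w * b⁻¹ = w⁻¹ := by rw [hwdef, ← conj_pow, hinv, inv_pow]
  have hw2 : ℓ ≠ 2 := fun e => by
    have h := hK0odd.of_dvd_nat (orderOf_dvd_natCard K0 hwK)
    rw [hwo, e] at h
    exact absurd h (by decide)
  have hU : IsPGroup ℓ (zpowers w) := IsPGroup.of_card (n := 1) (by rw [Nat.card_zpowers, hwo, pow_one])
  have hsol : Group.IsSolvable K0 := CfsgLib.FT.odd_order_solvable hK0odd
  have hcop : ∀ x : G, orderOf x = 2 → (Nat.card (zpowers x)).Coprime (Nat.card K0) := fun x hx => by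
    rw [Nat.card_zpowers, hx]; exact Nat.coprime_two_left.2 hK0odd
  have hnU : ∀ x : G, (x * w * x⁻¹ = w ∨ x * w * x⁻¹ = w⁻¹) →
      zpowers x ≤ normalizer (zpowers w : Set G) := fun x hx =>
    zpowers_le.2 (mem_normalizer_iff_of_finite fun y hy => by
      obtain ⟨i, rfl⟩ := mem_zpowers_iff.1 hy
      rw [← conj_zpow]
      rcases hx with e | e <;> rw [e]
      · exact zpow_mem (mem_zpowers w) i
      · exact zpow_mem (inv_mem (mem_zpowers w)) i)
  have hA : zpowers a ≤ normalizer (K0 : Set G) := zpowers_le.2 (hKK haK)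
  have hB : zpowers b ≤ normalizer (K0 : Set G) := zpowers_le.2 (hKK hbK)
  -- `a` centralises a Sylow subgroup over `w`
  obtain ⟨P, hwP, hPa⟩ := CfsgLib.Coprime.exists_invariant_sylow_ge hA (hcop a ha) (Or.inr hsol) hU
    (zpowers_le.2 hwK) (hnU a (Or.inl (by rw [hwa.eq, mul_inv_cancel_right])))
  set P' := (P : Subgroup K0).map K0.subtype with hP'
  have haP : ∀ x ∈ P', Commute a x := by
    refine axb_subgroup (P.isPGroup'.map _) hU (hwP.trans le_normalizer) (hPa (mem_zpowers a))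
      (by rw [ha]; exact (Nat.coprime_primes Nat.prime_two hℓ).2 hw2.symm) (fun x hx => ?_) fun x _ hx => ?_
    · obtain ⟨i, rfl⟩ := mem_zpowers_iff.1 hx
      exact (hwa.zpow_right i).symm
    · have hxw : Commute x w := (hx w (mem_zpowers w)).symm
      have hj : x * a * x⁻¹ = a := huniq w (pow_mem (mem_zpowers v) _) hw1 _
        (by rw [orderOf_conj_eq, ha]) ((hxw.mul_left hwa).mul_left hxw.inv_left)
      exact (mul_inv_eq_iff_eq_mul.1 hj).symm
  -- so `b` centralises one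
  obtain ⟨Q, hwQ, hQb⟩ := CfsgLib.Coprime.exists_invariant_sylow_ge hB (hcop b hb) (Or.inr hsol) hU
    (zpowers_le.2 hwK) (hnU b (Or.inr hwinv))
  have hle : P'.map (MulAut.conj g).toMonoidHom ≤ K0 := by
    rintro _ ⟨x, hx, rfl⟩
    exact (mem_normalizer_iff.1 (hKK hgK) x).1 ((map_subtype_le _ : P' ≤ K0) hx)
  let S : Sylow ℓ K0 := Sylow.ofCard ((P'.map (MulAut.conj g).toMonoidHom).subgroupOf K0) (by
    rw [Nat.card_congr (subgroupOfEquivOfLe hle).toEquiv,
      card_map_of_injective (MulEquiv.injective _), hP', card_map_of_injective (subtype_injective _)]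
    exact P.card_eq_multiplicity)
  have hS : (S : Subgroup K0).map K0.subtype = P'.map (MulAut.conj g).toMonoidHom :=
    map_subgroupOf_eq_of_le hle
  have hbS : ∀ x ∈ P'.map (MulAut.conj g).toMonoidHom, Commute b x := by
    rintro _ ⟨x, hx, rfl⟩
    have := (haP x hx).map (MulAut.conj g).toMonoidHom
    simpa [MulAut.conj_apply, hga] using this
  obtain ⟨c, hc, hce⟩ := CfsgLib.Coprime.exists_conj_invariant_sylow hB (hcop b hb) (Or.inr hsol) S Q
    (zpowers_le.2 (mem_normalizer_iff_of_finite fun x hx => by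
      rw [hS] at hx ⊢
      rwa [(hbS x hx).eq, mul_inv_cancel_right])) hQb
  obtain ⟨y, hy, hye⟩ : w ∈ (P'.map (MulAut.conj g).toMonoidHom).map (MulAut.conj c).toMonoidHom := by
    rw [← hS, hce]; exact hwQ (mem_zpowers w)
  have hcb : Commute b c := mem_centralizer_iff.1 hc.2 b (mem_zpowers b)
  have hbw : Commute b w := by
    rw [← hye]
    exact (hcb.mul_right (hbS y hy)).mul_right hcb.inv_right
  rw [hbw.eq, mul_inv_cancel_right] at hwinv
  have h2 : w ^ 2 = 1 := by rw [pow_two]; nth_rw 1 [hwinv]; exact inv_mul_cancel w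
  exact hw1 (orderOf_eq_one_iff.1 (Nat.eq_one_of_dvd_coprimes
    ((Nat.coprime_primes hℓ Nat.prime_two).2 hw2) hwo.dvd (orderOf_dvd_of_pow_eq_one h2)))

/-- What `N(W)` gives: the alternating group of degree seven or a linear component. -/
def NormalizerShape (G : Type u) [Group G] (N C0 : Subgroup G) : Prop :=
  (Nat.card C0 = 3 ∧ Nat.card N = 2520 * Nat.card (Cfsg.oddCore ↥N)) ∨
    ∃ (q j : ℕ) (e w : ℤ), IsPrimePow q ∧ 2 ≤ j ∧ (e = 1 ∨ e = -1) ∧
      (q : ℤ) - e = 2 ^ j * Nat.card C0 ∧ 2 * w = q + e ∧ (q : ℤ) ∣ Nat.card N ∧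
      w ∣ Nat.card N ∧ 2 ^ j ∣ Nat.card N ∧ ¬ 2 ^ (j + 2) ∣ Nat.card N

/-- The structure of the normalizer of `W`. -/
theorem normalizer_shape (M : Min G) {a b g : G} (h : Four a b g) {N W C0 : Subgroup G}
    (hN : N ≠ ⊤) (haN : a ∈ N) (hbN : b ∈ N) (hgN : g ∈ N) (hWN : W ≤ N)
    (hWn : N ≤ normalizer (W : Set G)) (hWodd : Odd (Nat.card W))
    (hC0N : C0 ≤ N) (hC0a : C0 ≤ coreC a) (hC01 : C0 ≠ ⊥)
    (hinv : ∀ x ∈ C0, b * x * b⁻¹ = x⁻¹)
    (huniq : ∀ w ∈ C0, w ≠ 1 → ∀ j, orderOf j = 2 → Commute j w → j = a)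
    (hdec : ∀ x ∈ N ⊓ coreC a, ∃ w ∈ W, ∃ v ∈ C0, w * v = x) :
    NormalizerShape G N C0 := by
  classical
  haveI : Fact (Nat.Prime 2) := ⟨Nat.prime_two⟩
  haveI hOn : (Cfsg.oddCore ↥N).Normal := CfsgLib.Solvable.pPrimeCore_normal 2 _
  set π := QuotientGroup.mk' (Cfsg.oddCore ↥N) with hπ
  have hker : ∀ v (hv : v ∈ C0), π ⟨v, hC0N hv⟩ = 1 → v = 1 := fun v hv h1 =>
    eq_one_of_unique h.ha h.hb haN hbN hgN h.ga
      (fun w hw => huniq w ((zpowers_le.2 hv) hw))
      ⟨⟨v, hC0N hv⟩, (QuotientGroup.eq_one_iff _).1 h1, rfl⟩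
      (mem_cI.1 (coreC_le_cI a (hC0a hv))).symm (hinv v hv)
  have hns : ¬ Group.IsSolvable N := fun hs => hC01 ((eq_bot_iff_forall _).2 fun v hv =>
    hker v hv ((QuotientGroup.eq_one_iff _).2 (OnePrime.mem_oddCore_of_commute M hs (v := ⟨a, haN⟩)
      h.ha (odd_orderOf_mem_coreC (hC0a hv)) (mem_cI.1 (coreC_le_cI a (hC0a hv))))))
  -- the image of `C₀`
  let f : C0 →* ↥N ⧸ Cfsg.oddCore ↥N := π.comp (inclusion hC0N)
  have hf : Function.Injective f := (injective_iff_map_eq_one f).2 fun v hv =>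
    Subtype.ext (hker v v.2 hv)
  have hfcard : Nat.card f.range = Nat.card C0 :=
    (Nat.card_congr (MonoidHom.ofInjective hf).toEquiv).symm
  have haN2 : orderOf (⟨a, haN⟩ : N) = 2 := by rw [orderOf_mk, h.ha]
  have hbN2 : orderOf (⟨b, hbN⟩ : N) = 2 := by rw [orderOf_mk, h.hb]
  have hfa : ∀ y ∈ f.range, Commute y (π ⟨a, haN⟩) := by
    rintro _ ⟨v, rfl⟩
    exact Commute.map (Subtype.ext (mem_cI.1 (coreC_le_cI a (hC0a v.2))) :
      Commute (inclusion hC0N v) (⟨a, haN⟩ : N)) π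
  have hfodd : Odd (Nat.card C0) := (odd_coreC a).of_dvd_nat (card_dvd_of_le hC0a)
  -- every element of odd order commuting with the image of `a` is in the image of `C₀`
  have hW0 : ∀ w (hw : w ∈ W), π ⟨w, hWN hw⟩ = 1 := fun w hw => by
    refine (QuotientGroup.eq_one_iff _).2 ?_
    haveI : (W.subgroupOf N).Normal := normal_subgroupOf_of_le_normalizer hWn
    exact CfsgLib.Solvable.le_pPrimeCore (inferInstance : (W.subgroupOf N).Normal)
      (Nat.coprime_two_right.2 (by rwa [Nat.card_congr (subgroupOfEquivOfLe hWN).toEquiv]))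
      (mem_subgroupOf.2 hw : (⟨w, hWN hw⟩ : N) ∈ W.subgroupOf N)
  have hlift : ∀ y, Commute y (π ⟨a, haN⟩) → Odd (orderOf y) → y ∈ f.range := by
    intro y hy hyo
    have hP : IsPGroup 2 (zpowers (⟨a, haN⟩ : N)) :=
      IsPGroup.of_card (n := 1) (by rw [Nat.card_zpowers, haN2, pow_one])
    have hy' : y ∈ (centralizer (zpowers (⟨a, haN⟩ : N) : Set N)).map π := by
      rw [CfsgLib.Comp.map_centralizer_eq (CfsgLib.Solvable.pPrimeCore_coprime 2) hP,
        MonoidHom.map_zpowers]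
      refine mem_centralizer_iff.2 fun u hu => ?_
      obtain ⟨i, rfl⟩ := mem_zpowers_iff.1 hu
      exact (hy.zpow_right i).eq.symm
    obtain ⟨x, hx, rfl⟩ := hy'
    obtain ⟨i, o, ho, hio⟩ := Nat.exists_eq_two_pow_mul_odd (orderOf_pos x).ne'
    have hc : (2 ^ i).Coprime (orderOf (π x)) :=
      Nat.Coprime.pow_left i (Nat.coprime_two_left.2 hyo)
    obtain ⟨m, hm⟩ := exists_pow_eq_self_of_coprime hc
    set x' := (x ^ 2 ^ i) ^ m with hx'
    have hxa : ((x' : N) : G) ∈ cI a := by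
      have h1 : Commute (⟨a, haN⟩ : N) x := mem_centralizer_iff.1 hx _ (mem_zpowers _)
      exact mem_cI.2 (congrArg Subtype.val ((h1.pow_right _).pow_right m).symm.eq)
    have hxo : Odd (orderOf ((x' : N) : G)) := by
      rw [Subgroup.orderOf_coe]
      refine ho.of_dvd_nat ((orderOf_pow_dvd m).trans ?_)
      rw [orderOf_pow_of_dvd (pow_ne_zero _ two_ne_zero) ⟨o, hio⟩, hio,
        Nat.mul_div_cancel_left _ (Nat.two_pow_pos i)]
    obtain ⟨w, hw, v, hv, hwv⟩ := hdec _ ⟨x'.2, M.mem_coreC h.ha hxa hxo⟩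
    refine ⟨⟨v, hv⟩, ?_⟩
    have e : x' = ⟨w, hWN hw⟩ * ⟨v, hC0N hv⟩ := Subtype.ext hwv.symm
    calc π ⟨v, hC0N hv⟩ = π x' := by rw [e, map_mul, hW0 w hw, one_mul]
      _ = π x := by rw [hx', map_pow, map_pow, hm]
  rcases M.shape_cases hN hns with ⟨⟨e⟩⟩ | ⟨T, E, L, hLn, F, iF, iFt, hodd, hq, hC, ⟨e⟩⟩
  · -- the alternating group
    refine Or.inl ⟨?_, ?_⟩
    · have h24 := card_centralizer_alt_seven (t := e (π ⟨a, haN⟩))
        (by rw [MulEquiv.orderOf_eq, orderOf_mk'_invol haN2])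
      have hle : f.range.map e.toMonoidHom ≤
          centralizer ({e (π ⟨a, haN⟩)} : Set (alternatingGroup (Fin 7))) := by
        rintro _ ⟨y, hy, rfl⟩
        exact mem_centralizer_singleton_iff.2 ((hfa y hy).map e.toMonoidHom).eq
      have hd : Nat.card C0 ∣ 24 := by
        rw [← h24, ← hfcard, ← card_map_of_injective (f := e.toMonoidHom) e.injective]
        exact card_dvd_of_le hle
      have h3 : Nat.card C0 ∣ 3 :=
        ((Nat.coprime_two_right.2 hfodd).pow_right 3).dvd_of_dvd_mul_left (show _ ∣ 2 ^ 3 * 3 from hd)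
      exact ((Nat.dvd_prime Nat.prime_three).1 h3).resolve_left fun h1 => hC01 (card_eq_one.1 h1)
    · rw [card_eq_card_quotient_mul_card_subgroup (Cfsg.oddCore ↥N), Nat.card_congr e.toEquiv,
        CfsgLib.Recog.GW.card_alt_seven]
  -- the linear component
  have h4 : 4 ≤ Fintype.card F := hq
  haveI := CfsgLib.Geom.Moebius.finite_pgl_two (F := F)
  obtain ⟨P, χ, hχ, hLP, hχL, hχL', hinvP, hrealP⟩ := exists_linear hodd T E L e hC
  set Q := ↥N ⧸ Cfsg.oddCore ↥N
  have hiff : ∀ x : P, χ x ∈ CfsgLib.Geom.Moebius.imL F ↔ (x : Q) ∈ L := fun x =>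
    ⟨fun hx => by
      obtain ⟨x', hx', e'⟩ := hχL' _ hx
      exact hχ e' ▸ hx', hχL x⟩
  have h2idx := CfsgLib.Geom.Moebius.imL_index (F := F) hodd
  set A := π ⟨a, haN⟩ with hA
  set B := π ⟨b, hbN⟩ with hB
  have hA2 : orderOf A = 2 := orderOf_mk'_invol haN2
  have hB2 : orderOf B = 2 := orderOf_mk'_invol hbN2
  -- all three involutions lie in the component
  set gg := π ⟨g, hgN⟩
  have hgA : gg * A * gg⁻¹ = B := by
    rw [hA, hB, ← map_inv, ← map_mul, ← map_mul]; exact congrArg π (Subtype.ext h.ga)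
  have hgB : gg * B * gg⁻¹ = A * B := by
    rw [hA, hB, ← map_inv, ← map_mul, ← map_mul, ← map_mul]; exact congrArg π (Subtype.ext h.gb)
  have hAL : A ∈ L := by
    by_contra hAL
    have hBL : B ∉ L := fun hBL => hAL (by
      have := hLn.conj_mem B hBL gg⁻¹
      rw [← hgA] at this
      simpa [mul_assoc] using this)
    have hABL : A * B ∉ L := fun hABL => hBL (by
      have := hLn.conj_mem (A * B) hABL gg⁻¹
      rw [← hgB] at this
      simpa [mul_assoc] using this)
    refine hABL ((hiff (⟨A, hinvP _ hA2⟩ * ⟨B, hinvP _ hB2⟩)).1 ?_)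
    rw [map_mul, Subgroup.mul_mem_iff_of_index_two h2idx, hiff, hiff]
    simp [hAL, hBL]
  have hBL : B ∈ L := hgA ▸ hLn.conj_mem A hAL gg
  set CA := centralizer ({A} : Set Q) ⊓ L with hCA
  have hCAcard : Nat.card CA = Fintype.card F - 1 ∨ Nat.card CA = Fintype.card F + 1 := by
    have hc : Nat.card CA = Nat.card (centralizer ({e ⟨A, hAL⟩} : Set _)) := by
      refine Nat.card_congr ⟨fun x => ⟨e ⟨x, x.2.2⟩, ?_⟩, fun x => ⟨(e.symm x : L), ?_, (e.symm _).2⟩,
        fun x => by simp, fun x => by simp⟩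
      · rw [mem_centralizer_singleton_iff, ← map_mul, ← map_mul]
        exact congrArg e (Subtype.ext (mem_centralizer_singleton_iff.1 x.2.1))
      · have h' := congrArg e.symm (mem_centralizer_singleton_iff.1 x.2)
        rw [map_mul, map_mul, e.symm_apply_apply] at h'
        exact mem_centralizer_singleton_iff.2 (congrArg Subtype.val h')
    rw [hc]
    exact CfsgLib.Recog.SuborbitThree.card_centralizer_involution_psl hodd h4
      (by rw [MulEquiv.orderOf_eq, orderOf_mk, hA2])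
  -- the image of `C₀` is the odd part
  have hfL : f.range ≤ CA := by
    rintro y ⟨v, rfl⟩
    refine ⟨mem_centralizer_singleton_iff.2 (hfa _ ⟨v, rfl⟩).eq, ?_⟩
    have hyo : Odd (orderOf (f v)) := hfodd.of_dvd_nat
      ((orderOf_map_dvd f v).trans (orderOf_dvd_natCard v))
    have hyP : f v ∈ P := hrealP _ B hyo (by
      rw [hB, ← map_inv f, show f v⁻¹ = π (inclusion hC0N v⁻¹) from rfl,
        show f v = π (inclusion hC0N v) from rfl, ← map_inv π, ← map_mul, ← map_mul]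
      exact congrArg π (Subtype.ext (by
        simpa using hinv (v : G) v.2)))
    obtain ⟨r, hr⟩ := hyo
    have h2 : (⟨f v, hyP⟩ : P) ^ (2 * r + 1) = 1 := by
      rw [← hr]
      exact Subtype.ext (pow_orderOf_eq_one (f v))
    have hsq : (χ ⟨f v, hyP⟩) ^ 2 ∈ CfsgLib.Geom.Moebius.imL F := by
      rw [pow_two]; exact Subgroup.mul_self_mem_of_index_two h2idx _
    have h3 : χ ⟨f v, hyP⟩ = ((χ ⟨f v, hyP⟩) ^ 2) ^ (r + 1) := by
      rw [← pow_mul, show 2 * (r + 1) = 2 * r + 1 + 1 by omega, pow_succ,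
        ← map_pow, h2, map_one, one_mul]
    refine (hiff ⟨f v, hyP⟩).1 ?_
    rw [h3]
    exact pow_mem hsq _
  have hoddCA : ∀ y ∈ CA, Odd (orderOf y) → y ∈ f.range := fun y hy ho =>
    hlift y (mem_centralizer_singleton_iff.1 hy.1) ho
  obtain ⟨j, hj⟩ : ∃ j, Nat.card CA = 2 ^ j * Nat.card C0 := by
    have hmul := (f.range.subgroupOf CA).card_mul_index
    rw [Nat.card_congr (subgroupOfEquivOfLe hfL).toEquiv, hfcard] at hmul
    obtain ⟨i, m, hm, him⟩ := Nat.exists_eq_two_pow_mul_odd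
      (Subgroup.FiniteIndex.index_ne_zero (H := f.range.subgroupOf CA))
    refine ⟨i, ?_⟩
    suffices hm1 : m = 1 by rw [← hmul, him, hm1, mul_one, mul_comm]
    by_contra hne
    obtain ⟨r, hr, hrm⟩ := Nat.exists_prime_and_dvd hne
    haveI := Fact.mk hr
    have hr2 : r ≠ 2 := by rintro rfl; exact Nat.not_even_iff_odd.2 hm (even_iff_two_dvd.2 hrm)
    obtain ⟨R⟩ := (inferInstance : Nonempty (Sylow r CA))
    have hle : (R : Subgroup CA) ≤ f.range.subgroupOf CA := fun y hy =>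
      mem_subgroupOf.2 (hoddCA y y.2 (by
        obtain ⟨k, hk⟩ := R.2 ⟨y, hy⟩
        rw [Subgroup.orderOf_coe]
        exact ((hr.odd_of_ne_two hr2).pow).of_dvd_nat
          (orderOf_dvd_of_pow_eq_one (congrArg Subtype.val hk :))))
    exact R.not_dvd_index ((hrm.trans (him ▸ dvd_mul_left m _)).trans (index_dvd_of_le hle))
  -- four divides it
  have hj2 : 2 ≤ j := by
    have h4d : 4 ∣ Nat.card CA := by
      have hne : A ≠ B := fun hAB => mk'_ne_of_commute haN2 hbN2 (Subtype.ext h.comm)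
        (fun e' => h.hab (congrArg Subtype.val e')) hAB
      have hcm : Commute A B := Commute.map (Subtype.ext h.comm : Commute (⟨a, haN⟩ : N) ⟨b, hbN⟩) π
      have hnA : zpowers B ≤ normalizer (zpowers A : Set Q) := zpowers_le.2
        (mem_normalizer_iff_of_finite fun x hx => by
          obtain ⟨i, rfl⟩ := mem_zpowers_iff.1 hx
          rw [← (hcm.zpow_left i).eq, mul_inv_cancel_right]; exact zpow_mem (mem_zpowers A) i)
      have hle : zpowers A ⊔ zpowers B ≤ CA := sup_le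
        (zpowers_le.2 ⟨mem_centralizer_singleton_iff.2 rfl, hAL⟩)
        (zpowers_le.2 ⟨mem_centralizer_singleton_iff.2 hcm.symm.eq, hBL⟩)
      have hd := CfsgLib.Comp.card_sup_dvd_mul hnA
      rw [Nat.card_zpowers, Nat.card_zpowers, hA2, hB2] at hd
      have h2 : 2 ∣ Nat.card ↥(zpowers A ⊔ zpowers B) := by
        refine (dvd_of_eq ?_).trans (card_dvd_of_le (le_sup_left : zpowers A ≤ _))
        rw [Nat.card_zpowers, hA2]
      have hne2 : Nat.card ↥(zpowers A ⊔ zpowers B) ≠ 2 := fun e2 => by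
        have he := eq_of_le_of_card_ge (le_sup_left : zpowers A ≤ zpowers A ⊔ zpowers B)
          (by rw [e2, Nat.card_zpowers, hA2])
        exact hne (CfsgLib.BlockA.DihedralBlock.invol_zpowers_unique (mem_zpowers A)
          (he.symm ▸ mem_sup_right (mem_zpowers B)) hA2 hB2)
      have h4' : Nat.card ↥(zpowers A ⊔ zpowers B) = 4 := by
        have hle4 := Nat.le_of_dvd (by norm_num) hd
        interval_cases hc : Nat.card ↥(zpowers A ⊔ zpowers B) <;> omega
      exact h4' ▸ card_dvd_of_le hle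
    by_contra hlt
    rw [hj] at h4d
    obtain ⟨r, hr⟩ := hfodd
    interval_cases j <;> omega
  set q := Fintype.card F with hqdef
  have hLcard : 2 * Nat.card L = q * (q * q - 1) := by
    rw [Nat.card_congr e.toEquiv]
    have h := CfsgLib.Classical.card_psl_two_mul (F := F)
    obtain ⟨k, hk⟩ := hodd
    rw [Nat.gcd_eq_left (show 2 ∣ Fintype.card F - 1 from ⟨k, by omega⟩), pow_two] at h
    linarith [h]
  have hLN : Nat.card L ∣ Nat.card N :=
    (card_subgroup_dvd_card L).trans (card_quotient_dvd_card _)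
  obtain ⟨ε, hε, hqe⟩ : ∃ ε : ℤ, (ε = 1 ∨ ε = -1) ∧ (q : ℤ) - ε = Nat.card CA := by
    rcases hCAcard with hc | hc
    · exact ⟨1, Or.inl rfl, by rw [hc]; omega⟩
    · exact ⟨-1, Or.inr rfl, by rw [hc]; omega⟩
  have hqe' : (q : ℤ) - ε = 2 ^ j * Nat.card C0 := by rw [hqe, hj]; push_cast; ring
  obtain ⟨r, hr⟩ : ∃ r : ℤ, (q : ℤ) + ε = 2 * r ∧ Odd r := by
    refine ⟨2 ^ (j - 1) * Nat.card C0 + ε, ?_, ?_⟩
    · have : (2 : ℤ) ^ j = 2 * 2 ^ (j - 1) := by rw [← pow_succ']; congr 1; omega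
      linear_combination hqe' + (Nat.card C0 : ℤ) * this
    · have hev : Even ((2 : ℤ) ^ (j - 1) * Nat.card C0) :=
        ((Int.even_pow).2 ⟨by norm_num, by omega⟩).mul_right _
      rcases hε with rfl | rfl
      · exact hev.add_one
      · exact hev.add_odd (by decide)
  obtain ⟨hr2, hrodd⟩ := hr
  have hq1 : 1 ≤ q * q := Nat.one_le_iff_ne_zero.2 (mul_ne_zero (by omega) (by omega))
  have hLz : (Nat.card L : ℤ) = q * (2 ^ j * Nat.card C0) * r := by
    have hz : (2 : ℤ) * Nat.card L = q * (((q : ℤ) - ε) * (q + ε)) := by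
      rw [show ((q : ℤ) - ε) * (q + ε) = (q * q - 1 : ℤ) by rcases hε with rfl | rfl <;> ring]
      have := congrArg (Nat.cast : ℕ → ℤ) hLcard
      push_cast [Nat.cast_sub hq1] at this
      exact this
    rw [hr2, hqe'] at hz
    linarith
  refine Or.inr ⟨q, j, ε, r, ?_, hj2, hε, hqe', hr2.symm, ?_, ?_, ?_, ?_⟩
  · exact FiniteField.isPrimePow_card F
  · refine dvd_trans ⟨2 ^ j * Nat.card C0 * r, ?_⟩ (Int.natCast_dvd_natCast.2 hLN)
    rw [hLz]; ring
  · refine dvd_trans ⟨q * (2 ^ j * Nat.card C0), ?_⟩ (Int.natCast_dvd_natCast.2 hLN)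
    rw [hLz]; ring
  · refine dvd_trans ?_ ((card_dvd_of_le (inf_le_right : CA ≤ L)).trans hLN)
    rw [hj]; exact dvd_mul_right _ _
  · -- the Sylow subgroups act linearly
    intro hdvd
    obtain ⟨R⟩ := (inferInstance : Nonempty (Sylow 2 N))
    set S := R.mapSurjective (QuotientGroup.mk'_surjective (Cfsg.oddCore ↥N)) with hSdef
    have hdvdQ : 2 ^ (j + 2) ∣ Nat.card Q := by
      rw [card_eq_card_quotient_mul_card_subgroup (Cfsg.oddCore ↥N)] at hdvd
      exact (Nat.Coprime.pow_left _ (CfsgLib.Solvable.pPrimeCore_coprime 2).symm).dvd_of_dvd_mul_right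
        hdvd
    have hTcard : 2 ^ (j + 2) ∣ Nat.card (T : Subgroup Q) := by
      rw [Sylow.card_eq_multiplicity]
      exact pow_dvd_pow 2 ((Nat.Prime.pow_dvd_iff_le_factorization Nat.prime_two
        Nat.card_pos.ne').1 hdvdQ)
    have hTP : (T : Subgroup Q) ≤ P := by
      intro t ht
      have hrefl : ∀ i : ℤ, ((E.r ^ i * E.s : (T : Subgroup Q)) : Q) ∈ P := fun i =>
        hinvP _ (by rw [Subgroup.orderOf_coe, E.orderOf_zy])
      rcases E.cases ⟨t, ht⟩ with ⟨i, hi⟩ | ⟨i, hi⟩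
      · have e1 : (⟨t, ht⟩ : (T : Subgroup Q)) = (E.r ^ i * E.s) * (E.r ^ (0 : ℤ) * E.s) := by
          rw [hi, E.zy_mul_zy, sub_zero]
        rw [show t = ((⟨t, ht⟩ : (T : Subgroup Q)) : Q) from rfl, e1, Subgroup.coe_mul]
        exact mul_mem (hrefl _) (hrefl _)
      · have e1 : t = ((E.r ^ i * E.s : (T : Subgroup Q)) : Q) := congrArg Subtype.val hi
        rw [e1]; exact hrefl i
    have hd2 : 2 ^ (j + 2) ∣ Nat.card PGL(2, F) :=
      (hTcard.trans (card_dvd_of_le hTP)).trans (Subgroup.card_dvd_of_injective χ hχ)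
    have hpgl : (Nat.card PGL(2, F) : ℤ) = 2 * (q * (2 ^ j * Nat.card C0) * r) := by
      rw [← (CfsgLib.Geom.Moebius.imL F).card_mul_index, h2idx, Nat.cast_mul, ← hLz,
        Nat.card_congr e.toEquiv,
        Nat.card_congr (MonoidHom.ofInjective
          Matrix.ProjectiveSpecialLinearGroup.toPGL_injective).toEquiv]
      push_cast
      ring_nf
    have h3 : (2 : ℤ) ^ (j + 1) * 2 ∣ 2 ^ (j + 1) * (q * Nat.card C0 * r) := by
      rw [← pow_succ, show (2 : ℤ) ^ (j + 1) * (q * Nat.card C0 * r) =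
        2 * (q * (2 ^ j * Nat.card C0) * r) by rw [pow_succ]; ring, ← hpgl]
      exact_mod_cast hd2
    have h4' := (mul_dvd_mul_iff_left (pow_ne_zero _ (two_ne_zero : (2 : ℤ) ≠ 0))).1 h3
    have hodd' : Odd ((q : ℤ) * Nat.card C0 * r) := by
      refine (Odd.mul ?_ ?_).mul hrodd
      · exact_mod_cast hodd
      · exact_mod_cast hfodd
    exact Int.not_even_iff_odd.2 hodd' (even_iff_two_dvd.2 h4')

end CfsgLib.GW.Component
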