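import Mathlib

/-!
No simple group of order `536760` has a subgroup of index `71`.
-/

set_option autoImplicit false
set_option linter.style.haveILetI false

namespace CfsgLib.GW.Component

open Subgroup

universe u

variable {G : Type u} [Group G]

/-- A Sylow `71`-subgroup would have a normalizer of order `71 * 34`. -/
theorem no_seventy_one [IsSimpleGroup G] (hG : Nat.card G = 536760) (K : Subgroup G)
    (hK : K.index = 71) : False := by
  haveI : Finite G := Nat.finite_of_card_ne_zero (by omega)
  haveI h71 : Fact (Nat.Prime 71) := ⟨by norm_num⟩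
  obtain ⟨P⟩ := (inferInstance : Nonempty (Sylow 71 G))
  have hP : Nat.card (P : Subgroup G) = 71 := by
    obtain ⟨k, hk⟩ := IsPGroup.iff_card.1 P.2
    have h1 : 71 ∣ Nat.card (P : Subgroup G) := P.dvd_card_of_dvd_card (by rw [hG]; norm_num)
    have h2 : 71 ^ k ∣ 536760 := by rw [← hk, ← hG]; exact card_subgroup_dvd_card _
    rcases k with _ | _ | k
    · rw [hk] at h1; exact absurd h1 (by norm_num)
    · rw [hk, pow_one]
    · exact absurd ((pow_dvd_pow 71 (show 2 ≤ k + 1 + 1 by omega)).trans h2) (by norm_num)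
  have hKc : Nat.card K = 7560 := by
    have h := K.card_mul_index
    rw [hK, hG] at h
    omega
  have hcompl : IsComplement' (P : Subgroup G) K :=
    isComplement'_of_coprime (by rw [hP, hKc, hG]) (by rw [hP, hKc]; norm_num)
  haveI : IsCyclic (P : Subgroup G) := isCyclic_of_prime_card hP
  have hPcomm : ∀ x ∈ (P : Subgroup G), ∀ y ∈ (P : Subgroup G), x * y = y * x := fun x hx y hy =>
    congrArg Subtype.val
      ((IsCyclic.isMulCommutative (α := (P : Subgroup G))).is_comm.comm ⟨x, hx⟩ ⟨y, hy⟩)
  have hcore : K.normalCore = ⊥ := by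
    refine (IsSimpleGroup.eq_bot_or_eq_top_of_normal K.normalCore inferInstance).resolve_right
      fun e => ?_
    have hle := K.normalCore_le
    rw [e, top_le_iff] at hle
    rw [hle, index_top] at hK
    omega
  have hC : centralizer ((P : Subgroup G) : Set G) ≤ (P : Subgroup G) := by
    intro x hx
    obtain ⟨⟨π, k⟩, hπk, -⟩ := hcompl.existsUnique x
    change (π : G) * (k : G) = x at hπk
    suffices (k : G) = 1 by rw [← hπk, this, mul_one]; exact π.2
    have hk : ∀ y ∈ (P : Subgroup G), y * (k : G) = (k : G) * y := by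
      intro y hy
      have h1 : y * x = x * y := mem_centralizer_iff.1 hx y hy
      have h2 : y * (π : G) = (π : G) * y := hPcomm y hy π π.2
      refine mul_left_cancel (a := (π : G)) ?_
      rw [← mul_assoc, ← h2, mul_assoc, hπk, h1, ← hπk, mul_assoc]
    rw [← mem_bot, ← hcore]
    intro g
    obtain ⟨⟨π', k'⟩, hg, -⟩ := hcompl.existsUnique g⁻¹
    change (π' : G) * (k' : G) = g⁻¹ at hg
    have e : g * (k : G) * g⁻¹ = (k' : G)⁻¹ * k * k' := by
      rw [← hg, show g = (k' : G)⁻¹ * (π' : G)⁻¹ by rw [← mul_inv_rev, hg, inv_inv]]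
      calc (k' : G)⁻¹ * (π' : G)⁻¹ * k * ((π' : G) * k')
          = (k' : G)⁻¹ * ((π' : G)⁻¹ * ((k : G) * π')) * k' := by group
        _ = _ := by rw [← hk π' π'.2, inv_mul_cancel_left]
    rw [e]
    exact mul_mem (mul_mem (inv_mem k'.2) k.2) k'.2
  have hCP : centralizer ((P : Subgroup G) : Set G) = (P : Subgroup G) :=
    le_antisymm hC fun x hx => mem_centralizer_iff.2 fun y hy => hPcomm y hy x hx
  set N := normalizer ((P : Subgroup G) : Set G) with hN
  obtain ⟨m, hm, hNm⟩ : ∃ m, m ∣ 70 ∧ Nat.card N = 71 * m := by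
    refine ⟨(P : Subgroup G).normalizerMonoidHom.ker.index, ?_, ?_⟩
    · rw [index_ker]
      have h := card_subgroup_dvd_card (P : Subgroup G).normalizerMonoidHom.range
      rwa [IsCyclic.card_mulAut, hP, Nat.totient_prime h71.out] at h
    · rw [← card_mul_index (P : Subgroup G).normalizerMonoidHom.ker, normalizerMonoidHom_ker, hCP,
        Nat.card_congr (subgroupOfEquivOfLe (Subgroup.le_normalizer (H := (P : Subgroup G)))).toEquiv,
        hP]
  have hn := card_sylow_modEq_one 71 G
  have hnm : Nat.card (Sylow 71 G) * m = 7560 := by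
    have h : Nat.card N * Nat.card (Sylow 71 G) = 536760 := by
      rw [P.card_eq_index_normalizer, ← hG]
      exact N.card_mul_index
    rw [hNm, mul_assoc, mul_comm m] at h
    omega
  have h34 : 7560 ≡ m [MOD 71] := hnm ▸ (by simpa using hn.mul_right m)
  have hle := Nat.le_of_dvd (by norm_num) hm
  have hm34 : m = 34 := by
    have : 7560 % 71 = m % 71 := h34
    omega
  subst hm34
  norm_num at hm

end CfsgLib.GW.Component
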