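import Cfsg.Agent.Lib.GW.Component.EndArith
import Cfsg.Agent.Lib.GW.Component.EndCount
import Cfsg.Agent.Lib.GW.Component.EndDegrees
import Cfsg.Agent.Lib.GW.Component.EndIndex
import Cfsg.Agent.Lib.GW.Component.EndShape
import Cfsg.Agent.Lib.GW.Component.SeventyOne

/-!
The end of the component leg: no minimal counterexample has the shape.
-/

set_option autoImplicit false
set_option linter.unusedSectionVars false
set_option linter.style.haveILetI false
set_option maxHeartbeats 800000

namespace CfsgLib.GW.Component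

open Subgroup CfsgLib.Invol CfsgLib.BlockA.DihedralBlock

universe u

variable {G : Type u} [Group G] [Finite G]

namespace ShapeData

variable {a b z : G} {E C0 : Subgroup G} {p c : ℕ}

/-- The inverted part is normal in `C(a)`. -/
theorem cI_le_normalizer_C0 (d : ShapeData a b z (coreC a) E C0 p c)
    (hEn : cI a ≤ normalizer (E : Set G)) : cI a ≤ normalizer (C0 : Set G) := by
  refine fun x hx => mem_normalizer_iff_of_finite fun v hv => ?_
  rw [d.hC0] at hv ⊢
  refine ⟨conj_mem_coreC hx hv.1, mem_centralizer_iff.2 fun e he => ?_⟩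
  have he' : x⁻¹ * e * x ∈ E := by
    simpa using (mem_normalizer_iff.1 (inv_mem (hEn hx)) e).1 he
  calc e * (x * v * x⁻¹) = x * ((x⁻¹ * e * x) * v) * x⁻¹ := by group
    _ = x * (v * (x⁻¹ * e * x)) * x⁻¹ := by rw [mem_centralizer_iff.1 hv.2 _ he']
    _ = x * v * x⁻¹ * e := by group

/-- No involution other than `a` centralises a nontrivial element of `C₀`. -/
theorem unique_C0 (d : ShapeData a b z (coreC a) E C0 p c) (F : FreeData a z (coreC a) p)
    {w : G} (hw : w ∈ C0) (hw1 : w ≠ 1) {j : G} (hj : orderOf j = 2) (hjw : Commute j w) : j = a := by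
  haveI := Fact.mk d.hp
  by_contra hja
  obtain ⟨ℓ, hℓ, hℓd⟩ := Nat.exists_prime_and_dvd
    (show orderOf w ≠ 1 from fun e => hw1 (orderOf_eq_one_iff.1 e))
  set u := w ^ (orderOf w / ℓ) with hu
  have huo : orderOf u = ℓ := orderOf_pow_orderOf_div (orderOf_pos w).ne' hℓd
  have hu1 : u ≠ 1 := fun e => hℓ.ne_one (by rw [← huo, e, orderOf_one])
  have huC : u ∈ C0 := pow_mem hw _
  have hju : Commute j u := hjw.pow_right _
  rcases eq_or_ne ℓ p with rfl | hne
  · haveI := d.hcyc
    haveI := Fintype.ofFinite C0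
    classical
    have h1 : zpowers (⟨z, d.hzC0⟩ : C0) = zpowers (⟨u, huC⟩ : C0) :=
      eq_of_le_of_card_ge (fun y hy => by
        have hsub : (Finset.univ.filter fun x : C0 => x ∈ zpowers (⟨u, huC⟩ : C0)) ⊆
            Finset.univ.filter fun x : C0 => x ^ ℓ = 1 := fun x hx => by
          simp only [Finset.mem_filter, Finset.mem_univ, true_and] at hx ⊢
          refine orderOf_dvd_iff_pow_eq_one.1 ?_
          have h := orderOf_dvd_of_mem_zpowers hx
          rwa [orderOf_mk u huC, huo] at h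
        have hcard : (Finset.univ.filter fun x : C0 => x ∈ zpowers (⟨u, huC⟩ : C0)).card = ℓ := by
          rw [← Fintype.card_subtype, ← Nat.card_eq_fintype_card]
          exact (Nat.card_zpowers _).trans ((orderOf_mk u huC).trans huo)
        have heq := Finset.eq_of_subset_of_card_le hsub
          ((IsCyclic.card_pow_eq_one_le (α := C0) hℓ.pos).trans hcard.ge)
        have hy' : y ∈ Finset.univ.filter fun x : C0 => x ^ ℓ = 1 := by
          refine Finset.mem_filter.2 ⟨Finset.mem_univ _, orderOf_dvd_iff_pow_eq_one.1 ?_⟩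
          have h := orderOf_dvd_of_mem_zpowers hy
          rwa [orderOf_mk z d.hzC0, d.hzp] at h
        rw [← heq] at hy'
        exact (Finset.mem_filter.1 hy').2)
        (by rw [Nat.card_zpowers, Nat.card_zpowers, orderOf_mk, orderOf_mk, huo, d.hzp])
    obtain ⟨l, hl⟩ : (⟨z, d.hzC0⟩ : C0) ∈ zpowers (⟨u, huC⟩ : C0) := h1 ▸ mem_zpowers _
    have hl' : u ^ l = z := congrArg Subtype.val hl
    exact hja (F.uniq j hj (hl' ▸ hju.zpow_right l).eq)
  · have hcop : (orderOf u).Coprime p := by rw [huo]; exact (Nat.coprime_primes hℓ d.hp).2 hne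
    have hjc : j ∈ centralizer ({a} : Set G) :=
      F.central u (d.C0_le huC) hu1 hcop (fun o ho => d.C0_central huC ho)
        (mem_centralizer_singleton_iff.2 hju.eq)
    have hmem : u ∈ coreC a ⊓ centralizer ({j} : Set G) :=
      ⟨d.C0_le huC, mem_centralizer_singleton_iff.2 hju.eq.symm⟩
    have h2 := orderOf_dvd_natCard _ hmem
    rw [d.hfix j hj hjc hja, huo] at h2
    exact hne ((Nat.prime_dvd_prime_iff_eq hℓ d.hp).1 h2)

/-- The order of the common centraliser of two commuting involutions. -/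
theorem card_two_invol (d : ShapeData a b z (coreC a) E C0 p c) (M : Min G) {t : G}
    (ht : orderOf t = 2) (hta : t ∈ cI a) (hne : t ≠ a) :
    Nat.card (cI a ⊓ cI t : Subgroup G) = 4 * p := by
  haveI : Fact (Nat.Prime 2) := ⟨Nat.prime_two⟩
  obtain ⟨n, -, -, -, hsub⟩ := Min.exists_card_cI M d.ha
  obtain ⟨m, -, hm⟩ := hsub (cI a ⊓ cI t) inf_le_left
  have hW : (cI a ⊓ cI t) ⊓ coreC a = coreC a ⊓ cI t :=
    le_antisymm (fun x hx => ⟨hx.2, hx.1.2⟩) (fun x hx => ⟨⟨coreC_le_cI a hx.1, hx.2⟩, hx.1⟩)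
  rw [hW, show Nat.card (coreC a ⊓ cI t : Subgroup G) = p from d.hfix t ht hta hne] at hm
  obtain ⟨R⟩ := (inferInstance : Nonempty (Sylow 2 (cI a ⊓ cI t : Subgroup G)))
  set R' := (R : Subgroup (cI a ⊓ cI t : Subgroup G)).map (cI a ⊓ cI t).subtype with hR'
  have hR'p : IsPGroup 2 R' := R.2.map _
  have hcom : ∀ w ∈ R', Commute w a ∧ Commute w t := fun w hw => by
    have hw' : w ∈ cI a ⊓ cI t := map_subtype_le _ hw
    exact ⟨mem_cI.1 hw'.1, mem_cI.1 hw'.2⟩
  -- both involutions are central, so lie in the Sylow subgroup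
  have hin : ∀ x : G, x ∈ cI a ⊓ cI t → orderOf x = 2 → (∀ w ∈ R', Commute w x) → x ∈ R' := by
    intro x hx hx2 hcx
    have hp : IsPGroup 2 (zpowers (⟨x, hx⟩ : (cI a ⊓ cI t : Subgroup G))) :=
      IsPGroup.of_card (n := 1) (by rw [Nat.card_zpowers, orderOf_mk, hx2, pow_one])
    have hle : (R : Subgroup (cI a ⊓ cI t : Subgroup G)) ⊔ zpowers ⟨x, hx⟩ = R :=
      R.3 (R.2.to_sup_of_normal_left' hp (zpowers_le.2 (mem_normalizer_iff_of_finite fun w hw => by
        have h : Commute (⟨x, hx⟩ : (cI a ⊓ cI t : Subgroup G)) w :=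
          Subtype.ext (hcx w (mem_map_of_mem _ hw)).eq.symm
        rwa [h.eq, mul_inv_cancel_right]))) le_sup_left
    exact ⟨⟨x, hx⟩, hle ▸ mem_sup_right (mem_zpowers _), rfl⟩
  have haR := hin a ⟨mem_cI.2 rfl, mem_cI.2 (mem_cI.1 hta).symm⟩ d.ha fun w hw => (hcom w hw).1
  have htR := hin t ⟨hta, mem_cI.2 rfl⟩ ht fun w hw => (hcom w hw).2
  have h4 := Min.card_le_four M hR'p d.ha ht (Ne.symm hne) haR htR (fun w hw => (hcom w hw).1)
    fun w hw => (hcom w hw).2
  have hRcard : Nat.card R' = 2 ^ m := by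
    rw [hR', card_map_of_injective (subtype_injective _), Sylow.card_eq_multiplicity, hm,
      Nat.factorization_mul (pow_ne_zero _ two_ne_zero) d.hp.ne_zero]
    simp [Nat.prime_two.factorization_pow, Nat.factorization_eq_zero_of_not_dvd
      (fun h => d.hp2 ((Nat.prime_dvd_prime_iff_eq Nat.prime_two d.hp).1 h).symm)]
  have hm2 : 2 ≤ m := by
    by_contra hlt
    have hle2 : Nat.card R' ≤ 2 := by
      rw [hRcard]
      exact (Nat.pow_le_pow_right two_pos (show m ≤ 1 by omega)).trans_eq (pow_one 2)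
    have heq : zpowers a = R' := eq_of_le_of_card_ge (zpowers_le.2 haR)
      (by rw [Nat.card_zpowers, d.ha]; exact hle2)
    exact hne (invol_zpowers_unique (heq.symm ▸ htR) (mem_zpowers a) ht d.ha)
  rw [hRcard] at h4
  have h5 : m = 2 := le_antisymm ((Nat.pow_le_pow_iff_right Nat.one_lt_two).1 (h4.trans (by norm_num))) hm2
  rw [hm, h5]; norm_num

end ShapeData

variable {a b g z : G} {E C0 : Subgroup G} {p c : ℕ}

/-- The index of `C(a)`. -/
theorem index_formula (M : Min G) (d : ShapeData a b z (coreC a) E C0 p c)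
    (F : FreeData a z (coreC a) p) {n : ℕ} (hn : 2 ≤ n) (hcard : Nat.card (cI a) = 2 ^ n * Nat.card (coreC a))
    (hT : ∀ T : Sylow 2 G, Nat.card (T : Subgroup G) = 2 ^ n)
    {k : ℕ} (hk : Nat.card (coreC a) = k * p)
    (hklein : n = 2 → ∃ B, 4 * B + 9 < 2 * k ∧ 2 * (k * p) ≤ B ^ 2) :
    ∃ δ : ℤ, (δ = 1 ∨ δ = -1) ∧
      ((cI a).index : ℤ) = (2 ^ n * k + δ) * (2 ^ (n - 1) * k + δ) := by
  haveI : Fact (Nat.Prime 2) := ⟨Nat.prime_two⟩
  haveI := M.simple
  have hkodd : Odd k := (odd_coreC a).of_dvd_nat (hk ▸ dvd_mul_right k p)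
  have hfree : ∀ c', IsConj a c' → c' ≠ a →
      k ∣ (centralizer ({c'} : Set G)).relIndex (coreC a) := fun c' hc' hne =>
    Nat.dvd_of_mul_dvd_mul_right d.hp.pos (hk ▸ F.card_dvd_relIndex_mul hc' hne)
  obtain ⟨T, haT, hTc⟩ := M.exists_sylow d.ha
  obtain ⟨D₀⟩ := M.dih T
  obtain ⟨D, hD⟩ := CfsgLib.InvChar.BSW.exists_dihData_central D₀ ⟨a, haT⟩
    (by rw [orderOf_mk, d.ha]) fun w => Subtype.ext (mem_cI.1 (hTc w.2))
  have hza : dz T D = a := congrArg Subtype.val hD
  have hh : 4 * D.h = 2 ^ n := by rw [← D.card_eq, hT T]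
  have h2n : (2 : ℕ) ^ n = 4 * 2 ^ (n - 2) := by
    rw [show (4 : ℕ) = 2 ^ 2 by norm_num, ← pow_add]; congr 1; omega
  have hDh : D.h = 2 ^ (n - 2) := by omega
  rcases (by omega : n = 2 ∨ 3 ≤ n) with rfl | hn3
  · obtain ⟨B, hB, hB2⟩ := hklein rfl
    have hK : IsKleinFour (T : Subgroup G) := by
      have hsup : D.klein 0 = ⊤ := eq_top_of_card_eq _ (by
        rw [(D.klein_isKleinFour 0).card_four, hT T]; norm_num)
      exact ⟨by rw [hT T]; norm_num, (Monoid.exponent_eq_of_mulEquiv
        ((MulEquiv.subgroupCongr hsup).trans Subgroup.topEquiv)).symm.trans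
          (D.klein_isKleinFour 0).exponent_two⟩
    -- a reflection
    obtain ⟨t, ht, htT, htne⟩ : ∃ t : G, orderOf t = 2 ∧ t ∈ (T : Subgroup G) ∧ t ≠ a :=
      ⟨((D.r ^ (0 : ℤ) * D.s : (T : Subgroup G)) : G), by rw [Subgroup.orderOf_coe, D.orderOf_zy],
        SetLike.coe_mem _, fun e => D.ne_zpow 0 _ (Subtype.ext (e.trans hza.symm))⟩
    have hCP : Nat.card (centralizer ((T : Subgroup G) : Set G)) = 4 * p := by
      rw [← d.card_two_invol M ht (hTc htT) htne]
      congr 2
      refine le_antisymm (le_inf (centralizer_le ?_) (centralizer_le ?_)) ?_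
      · exact Set.singleton_subset_iff.2 haT
      · exact Set.singleton_subset_iff.2 htT
      · intro x hx
        refine mem_centralizer_iff.2 fun w hw => ?_
        -- the Sylow subgroup is generated by the two involutions
        have hle : (T : Subgroup G) ≤ cI x := by
          have hsup : zpowers a ⊔ zpowers t ≤ (T : Subgroup G) :=
            sup_le (zpowers_le.2 haT) (zpowers_le.2 htT)
          have heq : zpowers a ⊔ zpowers t = (T : Subgroup G) := by
            refine eq_of_le_of_card_ge hsup ?_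
            rw [hT T]
            have h2 : 2 < Nat.card ↥(zpowers a ⊔ zpowers t) := by
              by_contra hle2
              have he := eq_of_le_of_card_ge (le_sup_left : zpowers a ≤ zpowers a ⊔ zpowers t)
                (by rw [Nat.card_zpowers, d.ha]; omega)
              exact htne (invol_zpowers_unique (he.symm ▸ mem_sup_right (mem_zpowers t))
                (mem_zpowers a) ht d.ha)
            have h4 : Nat.card ↥(zpowers a ⊔ zpowers t) ∣ 4 := by
              have := card_dvd_of_le hsup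
              rwa [hT T] at this
            have := Nat.le_of_dvd (by norm_num) h4
            interval_cases hc : Nat.card ↥(zpowers a ⊔ zpowers t) <;> omega
          rw [← heq]
          exact sup_le (zpowers_le.2 (mem_cI.2 (mem_cI.1 hx.1).symm))
            (zpowers_le.2 (mem_cI.2 (mem_cI.1 hx.2).symm))
        exact mem_cI.1 (hle hw)
    refine klein_index M.noncomm T hK haT (invol_ne_one d.ha) (fun s t hs ht => M.one_class hs ht)
      (coreC a) (coreC_le_cI a) hkodd ?_ hfree d.z_ne_one ?_ d.hzc ?_ hB ?_ |>.imp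
      fun δ hδ => ⟨hδ.1, by rw [hδ.2]; norm_num⟩
    · rw [hCP, ← show Nat.card (cI a) = Nat.card (centralizer ({a} : Set G)) from rfl, hcard, hk]; ring
    · rw [d.hzp]; exact d.hp.odd_of_ne_two d.hp2
    · exact F.z_mem_cent
    · -- the centraliser of `z`
      have hle : centralizer ({z} : Set G) ≤ cI a := fun x hx =>
        F.mem_cent_of_commute (mem_centralizer_singleton_iff.1 hx)
      obtain ⟨n', -, hcard', hT', hsub⟩ := Min.exists_card_cI M d.ha
      obtain rfl : n' = 2 := Nat.pow_right_injective le_rfl ((hT' T).symm.trans (hT T))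
      obtain ⟨m, hm, hmc⟩ := hsub _ hle
      have hcore : centralizer ({z} : Set G) ⊓ coreC a = coreC a := inf_eq_right.2 fun o ho =>
        mem_centralizer_singleton_iff.2 (d.hzc o ho)
      rw [hcore] at hmc
      have hm1 : m ≤ 1 := by
        by_contra hlt
        obtain rfl : m = 2 := by omega
        obtain ⟨P⟩ := (inferInstance : Nonempty (Sylow 2 (centralizer ({z} : Set G))))
        set P' := (P : Subgroup (centralizer ({z} : Set G))).map (centralizer ({z} : Set G)).subtype
        have hP4 : 4 ≤ Nat.card P' := by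
          rw [card_map_of_injective (subtype_injective _)]
          refine Nat.le_of_dvd Nat.card_pos (P.pow_dvd_card_of_pow_dvd_card (n := 2) ?_)
          rw [hmc]; exact dvd_mul_right _ _
        obtain ⟨T1, hT1⟩ := (P.2.map (centralizer ({z} : Set G)).subtype).exists_le_sylow
        have heq : P' = (T1 : Subgroup G) :=
          eq_of_le_of_card_ge hT1 (by rw [hT T1]; exact hP4)
        obtain ⟨D1⟩ := M.dih T1
        have hall : ∀ x : (T1 : Subgroup G), orderOf x = 2 → (x : G) = a := fun x hx =>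
          F.uniq _ (by rw [Subgroup.orderOf_coe, hx]) (mem_centralizer_singleton_iff.1
            ((map_subtype_le _ : P' ≤ _) (heq.ge x.2)))
        exact D1.ne_zpow 0 _ (Subtype.ext ((hall _ (D1.orderOf_zy 0)).trans (hall _ D1.orderOf_z).symm))
      rw [hmc, hk]
      refine le_trans (Nat.mul_le_mul_right _ ?_) hB2
      calc 2 ^ m ≤ 2 ^ 1 := Nat.pow_le_pow_right two_pos hm1
        _ = 2 := pow_one 2
  · have h01 : ∀ i : ℤ, Nat.card (centralizer ({dz T D} : Set G)) =
        Nat.card (centralizer ({dz T D, dt T D i} : Set G)) * (2 ^ (n - 2) * k) := by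
      intro i
      have hset : centralizer ({dz T D, dt T D i} : Set G) = cI (dz T D) ⊓ cI (dt T D i) := by
        ext x
        simp [mem_centralizer_iff, mem_inf]
      rw [hset, hza, d.card_two_invol M (t := dt T D i)
        ((Subgroup.orderOf_coe _).trans (D.orderOf_zy _)) (hTc (SetLike.coe_mem _))
        (fun e => D.ne_zpow i _ (Subtype.ext (e.trans hza.symm)))]
      rw [show Nat.card (centralizer ({a} : Set G)) = 2 ^ n * Nat.card (coreC a) from hcard, hk, h2n]
      ring
    have := dihedral_index T D hn3 hDh (fun s t hs ht => M.one_class hs ht) (coreC a)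
      (hza ▸ coreC_le_cI a) hkodd (by rw [hza]; exact hfree) (h01 0) (h01 1)
    rwa [hza] at this

/-- **The shape is impossible.** -/
theorem shape_false (M : Min G) (h : Four a b g) (d : ShapeData a b z (coreC a) E C0 p c)
    (hEn : cI a ≤ normalizer (E : Set G))
    (hinv : ∀ j, orderOf j = 2 → j ∈ centralizer ({a} : Set G) → j ≠ a → j * z * j⁻¹ = z⁻¹)
    (F : FreeData a z (coreC a) p)
    (hfocal : c = 1 → (∀ T : Sylow 2 G, Nat.card (T : Subgroup G) = 4) → False) : False := by
  haveI : Fact (Nat.Prime 2) := ⟨Nat.prime_two⟩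
  haveI := Fact.mk d.hp
  haveI := M.simple
  obtain ⟨n, hn2, hcard, hT, hsub⟩ := Min.exists_card_cI M d.ha
  set W := coreC a ⊓ cI b with hWdef
  set N := normalizer (W : Set G) with hNdef
  have hWcard : Nat.card W = p := d.hfix b d.hb d.hbc d.hba
  have hWne : W ≠ ⊥ := fun e => d.hp.ne_one (by rw [← hWcard, e, card_bot])
  have hWtop : W ≠ ⊤ := fun e => M.cI_ne_top (invol_ne_one d.ha)
    (top_le_iff.1 (e ▸ inf_le_left.trans (coreC_le_cI a)))
  have hN : N ≠ ⊤ := M.normalizer_ne_top hWne hWtop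
  have hcW : ∀ x : G, (∀ w ∈ W, Commute x w) → x ∈ N := fun x hx =>
    mem_normalizer_iff_of_finite fun w hw => by rwa [(hx w hw).eq, mul_inv_cancel_right]
  have haN : a ∈ N := hcW a fun w hw => (mem_cI.1 (coreC_le_cI a hw.1)).symm
  have hbN : b ∈ N := hcW b fun w hw => (mem_cI.1 hw.2).symm
  have hgN : g ∈ N := mem_normalizer_iff_of_finite fun w hw => by
    rw [hWdef, M.inf_cI_eq d.hb] at hw ⊢
    exact h.rot_core M hw
  have hC0N : C0 ≤ N := fun v hv => hcW v fun w hw => (d.C0_central hv hw.1).symm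
  have hC01 : C0 ≠ ⊥ := fun e => d.z_ne_one (mem_bot.1 (e ▸ d.hzC0))
  have hdec : ∀ x ∈ N ⊓ coreC a, ∃ w ∈ W, ∃ v ∈ C0, w * v = x := by
    intro x hx
    have hx' : x ∈ W ⊔ C0 := d.stabilizer ▸ (⟨⟨coreC_le_cI a hx.2, hx.1⟩, hx.2⟩ :
      x ∈ (cI a ⊓ N) ⊓ coreC a)
    have hnC : C0 ≤ normalizer (W : Set G) := hC0N
    have := (coe_mul_of_right_le_normalizer_left W C0 hnC) ▸ (SetLike.mem_coe.2 hx')
    exact Set.mem_mul.1 this
  have hshape := normalizer_shape M h hN haN hbN hgN le_normalizer le_rfl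
    (d.hOodd.of_dvd_nat (card_dvd_of_le inf_le_left)) hC0N d.C0_le hC01 d.hbC0
    (fun w hw hw1 j hj hjw => d.unique_C0 F hw hw1 hj hjw) hdec
  obtain ⟨t, ht⟩ : p ∣ Nat.card C0 := d.hzp ▸ orderOf_dvd_natCard C0 d.hzC0
  have htodd : Odd t := d.odd_C0.of_dvd_nat ⟨p, by rw [ht, mul_comm]⟩
  have hcodd : Odd c := d.hOodd.of_dvd_nat (d.hc ▸ relIndex_dvd_card _ _)
  set k := p * c * (p * t) with hkdef
  have hk : Nat.card (coreC a) = k * p := by rw [d.card_core, ht, hkdef]; ring
  -- the stabiliser in `C(a)`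
  obtain ⟨m, hmn, hm⟩ := hsub (cI a ⊓ N) inf_le_left
  rw [d.card_stabilizer] at hm
  have hrel : (cI a ⊓ N).relIndex (cI a) = 2 ^ (n - m) * (p * c) := by
    have h1 := relIndex_mul_relIndex ⊥ (cI a ⊓ N) (cI a) bot_le inf_le_left
    rw [relIndex_bot_left, relIndex_bot_left, hm, hcard, d.card_core] at h1
    refine Nat.eq_of_mul_eq_mul_left (show 0 < 2 ^ m * (p * Nat.card C0) from
      Nat.mul_pos (Nat.two_pow_pos m) (Nat.mul_pos d.hp.pos Nat.card_pos)) ?_
    rw [h1, show 2 ^ n = 2 ^ m * 2 ^ (n - m) by rw [← pow_add]; congr 1; omega]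
    ring
  have hbound : 2 ^ (n - m) * c ≤ p + 1 := by
    have h1 := d.index_le hEn
    rw [hrel] at h1
    refine Nat.le_of_mul_le_mul_left (le_trans (le_of_eq ?_) h1) d.hp.pos
    ring
  have hGcard : Nat.card G = 2 ^ n * (k * p) * (cI a).index := by
    rw [← (cI a).card_mul_index, hcard, hk]
  have hmN : 2 ^ m ∣ Nat.card N := (dvd_mul_right _ _).trans (hm ▸ card_dvd_of_le inf_le_right)
  -- the index, unless `c = 1` for a four-group
  obtain ⟨δ, hδ, hidx⟩ : ∃ δ : ℤ, (δ = 1 ∨ δ = -1) ∧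
      ((cI a).index : ℤ) = (2 ^ n * k + δ) * (2 ^ (n - 1) * k + δ) := by
    refine index_formula M d F hn2 hcard hT hk fun hn => ?_
    subst hn
    have hc1 : c ≠ 1 := fun e => hfocal e fun T => by rw [hT T]; norm_num
    obtain ⟨r, hr⟩ := hcodd
    have hp5 : 5 ≤ p := by
      have := d.hcp
      have := d.hp.two_le
      rcases (by omega : p = 4 ∨ 5 ≤ p) with h4 | h5
      · exact absurd (h4 ▸ d.hp) (by norm_num)
      · exact h5
    have hkbig : 3 * (p * p) ≤ k := by
      rw [hkdef]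
      have : 3 * (p * p) * 1 ≤ c * (p * p) * t :=
        Nat.mul_le_mul (Nat.mul_le_mul_right _ (show 3 ≤ c by omega)) htodd.pos
      linarith
    obtain ⟨B, hB⟩ : ∃ B, k = 2 * B + 5 := by
      have hkodd : Odd k := (odd_coreC a).of_dvd_nat (hk ▸ dvd_mul_right k p)
      obtain ⟨v, hv⟩ := hkodd
      have : 5 * 5 ≤ p * p := Nat.mul_le_mul hp5 hp5
      exact ⟨v - 2, by omega⟩
    refine ⟨B, by omega, ?_⟩
    zify at hkbig hB hp5 ⊢
    nlinarith
  have hNG : Nat.card N ∣ Nat.card G := card_subgroup_dvd_card N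
  rcases hshape with ⟨hC3, hN7⟩ | ⟨q, j, e, w, hq, hj, he, hqe, hw, hqN, hwN, hjN, hnj⟩
  · -- the alternating group of degree seven
    rw [ht] at hC3
    obtain rfl : p = 3 := (Nat.prime_dvd_prime_iff_eq d.hp Nat.prime_three).1 ⟨t, hC3.symm⟩
    obtain rfl : t = 1 := by omega
    obtain rfl : c = 1 := by
      have := d.hcp; obtain ⟨r, hr⟩ := hcodd; omega
    have hk9 : k = 9 := rfl
    have hOdd : Odd (Nat.card (Cfsg.oddCore ↥N)) :=
      Nat.coprime_two_right.1 (CfsgLib.Solvable.pPrimeCore_coprime 2)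
    have hm3 : m ≤ 3 := by
      by_contra hlt
      have h16 : 2 ^ 4 ∣ 2520 * Nat.card (Cfsg.oddCore ↥N) :=
        hN7 ▸ (pow_dvd_pow 2 (by omega)).trans hmN
      have := (Nat.Coprime.pow_left 4 (Nat.coprime_two_left.2 hOdd)).dvd_of_dvd_mul_right h16
      norm_num at this
    have hn5 : n ≤ 5 := by
      by_contra hlt
      have : 2 ^ 3 ≤ 2 ^ (n - m) := Nat.pow_le_pow_right two_pos (by omega)
      omega
    have h2520 : 2520 ∣ 2 ^ n * 27 * (cI a).index := by
      rw [show 2 ^ n * 27 = 2 ^ n * (k * 3) by rw [hk9], ← hGcard]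
      exact (hN7 ▸ dvd_mul_right 2520 _).trans hNG
    have hn3 : 3 ≤ n := by
      by_contra hlt
      obtain rfl : n = 2 := by omega
      exact hfocal rfl fun T => by rw [hT T]; norm_num
    have hidx' : (cI a).index = 2485 := by
      have h35 : (35 : ℤ) ∣ (cI a).index := by
        have h1 : 35 ∣ 2 ^ n * 27 * (cI a).index := (by norm_num : 35 ∣ 2520).trans h2520
        have hco : Nat.Coprime 35 (2 ^ n * 27) :=
          Nat.Coprime.mul_right (Nat.Coprime.pow_right n (by norm_num)) (by norm_num)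
        exact_mod_cast hco.dvd_of_dvd_mul_left h1
      rw [hk9] at hidx
      interval_cases n <;> rcases hδ with rfl | rfl <;> norm_num at hidx <;> omega
    have hn3' : n = 3 := by
      rw [hidx', hk9] at hidx
      interval_cases n <;> rcases hδ with rfl | rfl <;> first | rfl | (norm_num at hidx)
    have hG : Nat.card G = 536760 := by rw [hGcard, hidx', hk9, hn3']; norm_num
    -- the index of `N`
    obtain ⟨o, ho⟩ : 3 ∣ Nat.card (Cfsg.oddCore ↥N) := by
      haveI : (W.subgroupOf N).Normal := normal_subgroupOf_of_le_normalizer le_rfl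
      have hle : W.subgroupOf N ≤ Cfsg.oddCore ↥N := CfsgLib.Solvable.le_pPrimeCore
        (inferInstance : (W.subgroupOf N).Normal) (Nat.coprime_two_right.2 (by
          rw [Nat.card_congr (subgroupOfEquivOfLe le_normalizer).toEquiv, hWcard]; decide))
      have h1 := card_dvd_of_le hle
      rwa [Nat.card_congr (subgroupOfEquivOfLe le_normalizer).toEquiv, hWcard] at h1
    have hidxN : 7560 * (o * N.index) = 7560 * 71 := by
      rw [show 7560 * 71 = Nat.card G by rw [hG], ← N.card_mul_index, hN7, ho]; ring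
    have ho71 : o * N.index = 71 := Nat.eq_of_mul_eq_mul_left (by norm_num) hidxN
    rcases (Nat.dvd_prime (by norm_num : Nat.Prime 71)).1 (Dvd.intro_left o ho71) with h1 | h1
    · exact hN (index_eq_one.1 h1)
    · exact no_seventy_one hG N h1
  · -- the linear component
    have hm1 : m ≤ j + 1 := by
      by_contra hlt
      exact hnj ((pow_dvd_pow 2 (by omega)).trans hmN)
    have hjn : j ≤ n := by
      obtain ⟨T⟩ := (inferInstance : Nonempty (Sylow 2 G))
      have h1 := Nat.le_of_dvd Nat.card_pos (T.pow_dvd_card_of_pow_dvd_card (hjN.trans hNG))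
      rw [hT T] at h1
      exact (Nat.pow_le_pow_iff_right Nat.one_lt_two).1 h1
    have hic : 2 ^ (n - j) * c ≤ 2 * (p + 1) := by
      have h1 : 2 ^ (n - j) ≤ 2 ^ (n - m + 1) := Nat.pow_le_pow_right two_pos (by omega)
      calc 2 ^ (n - j) * c ≤ 2 ^ (n - m + 1) * c := Nat.mul_le_mul_right c h1
        _ = 2 * (2 ^ (n - m) * c) := by rw [pow_succ]; ring
        _ ≤ 2 * (p + 1) := Nat.mul_le_mul_left 2 hbound
    have hsq : 8 ≤ 2 ^ (n - j) → IsSquare (2 : ZMod p) := fun h8 => by
      have h3 : 3 ≤ n - j := by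
        by_contra hlt
        have : 2 ^ (n - j) ≤ 2 ^ 2 := Nat.pow_le_pow_right two_pos (by omega)
        omega
      refine d.isSquare_two M hEn hinv ?_
      rw [hrel]
      exact dvd_mul_of_dvd_left ((pow_dvd_pow 2 (show 2 ≤ n - m by omega))) _
    -- coprimality
    have hC0z : (Nat.card C0 : ℤ) = p * t := by rw [ht]; push_cast; rfl
    rw [hC0z] at hqe
    have hG : (Nat.card G : ℤ) = 2 ^ n * (p * (p * (p * t))) * ((c : ℤ) * (cI a).index) := by
      rw [hGcard, hkdef]; push_cast; ring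
    have hj' : (2 : ℤ) ^ j = 2 * 2 ^ (j - 1) := by rw [← pow_succ']; congr 1; omega
    have he2 : e * e = 1 := by rcases he with rfl | rfl <;> norm_num
    have hcopD : ∀ x : ℤ, IsCoprime x 2 → IsCoprime x ((p : ℤ) * t) →
        x ∣ (Nat.card G : ℤ) → x ∣ (c : ℤ) * (cI a).index := by
      intro x h2 hpt hx
      rw [hG] at hx
      have hxp : IsCoprime x (p : ℤ) := hpt.of_mul_right_left
      exact ((h2.pow_right).mul_right (hxp.mul_right (hxp.mul_right hpt))).dvd_of_dvd_mul_left hx
    have hqG : (q : ℤ) ∣ (Nat.card G : ℤ) := hqN.trans (Int.natCast_dvd_natCast.2 hNG)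
    have hwG : w ∣ (Nat.card G : ℤ) := hwN.trans (Int.natCast_dvd_natCast.2 hNG)
    have hwe : w = 2 ^ (j - 1) * (p * t) + e := by
      rw [hj'] at hqe
      linarith
    refine no_survivor (N := ((cI a).index : ℤ)) (k := (k : ℤ)) (c := c) (t := t) (j := j) (n := n)
      (i := 2 ^ (n - j)) (q := q) (w := w) (δ := δ) d.hp d.hp2 hcodd d.hcp htodd hj ?_ (by omega)
      ⟨_, rfl⟩ hic hsq (by rw [hkdef]; push_cast; ring) he hq hqe hδ hidx ?_ hw ?_
    · push_cast
      rw [← pow_add]; congr 1; omega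
    · refine hcopD _ ⟨e, -e * (2 ^ (j - 1) * (p * t)), ?_⟩ ⟨e, -e * 2 ^ j, ?_⟩ hqG
      · rw [hj'] at hqe; linear_combination e * hqe + he2
      · linear_combination e * hqe + he2
    · refine hcopD _ ?_ ⟨e, -e * 2 ^ (j - 1), ?_⟩ hwG
      · obtain ⟨v, hv⟩ : (2 : ℤ) ∣ 2 ^ (j - 1) * (p * t) :=
          dvd_mul_of_dvd_left (dvd_pow_self 2 (by omega)) _
        refine ⟨e, -e * v, ?_⟩
        rw [hwe, hv]; linear_combination he2
      · rw [hwe]; linear_combination he2

end CfsgLib.GW.Component
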