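import Mathlib

/-!
The arithmetic which ends the component leg of the theorem of Gorenstein and Walter: the degrees of
the principal block are determined by congruences, and the order of the group is then not divisible
by the order of the component.
-/

set_option autoImplicit false

namespace CfsgLib.GW.Component

/-- Odd multiples of different powers of two are different. -/
theorem two_pow_exp_eq {a b : ℤ} (ha : Odd a) (hb : Odd b) {i j : ℕ}
    (h : a * 2 ^ i = b * 2 ^ j) : i = j := by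
  wlog hle : i ≤ j generalizing a b i j
  · exact (this hb ha h.symm (by omega)).symm
  obtain ⟨d, rfl⟩ := Nat.exists_eq_add_of_le hle
  rcases Nat.eq_zero_or_pos d with rfl | hd
  · rfl
  exfalso
  have h2 : a = b * 2 ^ d := by
    rw [pow_add, ← mul_assoc, mul_right_comm] at h
    exact mul_right_cancel₀ (by positivity) h
  refine Int.not_even_iff_odd.2 ha (h2 ▸ ?_)
  exact ((even_two).pow_of_ne_zero (by omega)).mul_left b

/-- The degree in the order formula is determined once the index is prime to `k`. -/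
theorem dihedral_degree {N x δ k : ℤ} {n : ℕ} (hn : 2 ≤ n) (hk : Odd k) (hkpos : 0 < k)
    (hN : Odd N) (hNk : N ≡ 1 [ZMOD k]) (hδ : δ = 1 ∨ δ = -1) (hx : 1 ≤ x) (hxδ : x ≠ δ)
    (h : N * (x - δ) ^ 2 = 2 ^ (2 * n - 1) * k ^ 2 * x * (x + δ)) :
    N = (2 ^ n * k + δ) * (2 ^ (n - 1) * k + δ) := by
  have hδ2 : δ * δ = 1 := by rcases hδ with rfl | rfl <;> norm_num
  obtain ⟨l, hl⟩ := (Int.modEq_iff_dvd.1 hNk.symm)
  have hc : IsCoprime k N := ⟨-l, 1, by linarith⟩
  have hkd : k ∣ x - δ := by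
    have h1 : k ^ 2 ∣ N * (x - δ) ^ 2 := ⟨2 ^ (2 * n - 1) * x * (x + δ), by rw [h]; ring⟩
    exact (Int.pow_dvd_pow_iff two_ne_zero).1 ((hc.pow_left).dvd_of_dvd_mul_left h1)
  obtain ⟨e, he⟩ := hkd
  have hxe : x = k * e + δ := by linarith
  have he0 : e ≠ 0 := fun e0 => hxδ (by rw [hxe, e0]; ring)
  have h2 : N * e ^ 2 = 2 ^ (2 * n - 1) * (k * e + δ) * (k * e + 2 * δ) := by
    refine mul_left_cancel₀ (pow_ne_zero 2 hkpos.ne') ?_
    calc k ^ 2 * (N * e ^ 2) = N * (x - δ) ^ 2 := by rw [he]; ring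
      _ = _ := by rw [h, hxe]; ring
  have hdvd : e ∣ 2 ^ (2 * n) := by
    have : e ∣ 2 ^ (2 * n - 1) * (2 * (δ * δ)) := by
      refine ⟨N * e - 2 ^ (2 * n - 1) * (k * k * e + 3 * δ * k), ?_⟩
      linear_combination -h2
    rwa [hδ2, mul_one, ← pow_succ, show 2 * n - 1 + 1 = 2 * n by omega] at this
  obtain ⟨m, -, hm⟩ := (Nat.dvd_prime_pow Nat.prime_two).1
    (show e.natAbs ∣ 2 ^ (2 * n) by simpa [Int.natAbs_pow] using Int.natAbs_dvd_natAbs.2 hdvd)
  have hepos : 0 < e := by
    rcases lt_or_gt_of_ne he0 with hneg | hpos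
    · exfalso
      have : k * e ≤ -1 := by nlinarith
      rcases hδ with rfl | rfl <;> linarith
    · exact hpos
  have hem : e = 2 ^ m := by
    have : (e.natAbs : ℤ) = e := Int.natAbs_of_nonneg hepos.le
    rw [← this, hm]; push_cast; rfl
  subst hem
  have hδo : Odd δ := by rcases hδ with rfl | rfl <;> decide
  rcases (by omega : m = 0 ∨ m = 1 ∨ 2 ≤ m) with rfl | rfl | hm2
  · exfalso
    have : Even (N * ((2 : ℤ) ^ 0) ^ 2) := by
      rw [h2, mul_assoc]; exact ((even_two).pow_of_ne_zero (by omega)).mul_right _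
    norm_num at this
    exact Int.not_even_iff_odd.2 hN this
  · exfalso
    obtain ⟨u, hu⟩ := hk
    obtain ⟨v, hv⟩ := hδo
    have h3 : N * 2 ^ 2 = (k * 2 + δ) * (u + v + 1) * 2 ^ (2 * n + 1) := by
      rw [show 2 * n + 1 = (2 * n - 1) + 2 by omega, pow_add]
      calc N * 2 ^ 2 = 2 ^ (2 * n - 1) * (k * 2 + δ) * (k * 2 + 2 * δ) := by simpa using h2
        _ = _ := by rw [hu, hv]; ring
    obtain ⟨r, hr⟩ : (2 : ℤ) ^ (2 * n + 1 - 2) ∣ N := ⟨(k * 2 + δ) * (u + v + 1), by
      refine mul_right_cancel₀ (pow_ne_zero 2 (two_ne_zero (α := ℤ))) ?_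
      rw [h3, show 2 * n + 1 = (2 * n + 1 - 2) + 2 by omega, pow_add]
      simp only [show 2 * n + 1 - 2 + 2 - 2 = 2 * n + 1 - 2 by omega]
      ring⟩
    exact Int.not_even_iff_odd.2 hN (hr ▸ ((even_two).pow_of_ne_zero (by omega)).mul_right r)
  · obtain ⟨m', rfl⟩ : ∃ m', m = m' + 2 := ⟨m - 2, by omega⟩
    have ho : Odd ((k * 2 ^ (m' + 2) + δ) * (k * 2 ^ (m' + 1) + δ)) := by
      refine Odd.mul (Even.add_odd ?_ hδo) (Even.add_odd ?_ hδo) <;>
        exact ((even_two).pow_of_ne_zero (by omega)).mul_left k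
    have h3 : N * 2 ^ (2 * (m' + 2)) =
        ((k * 2 ^ (m' + 2) + δ) * (k * 2 ^ (m' + 1) + δ)) * 2 ^ (2 * n) := by
      conv_rhs => rw [show 2 * n = (2 * n - 1) + 1 by omega, pow_succ]
      calc N * 2 ^ (2 * (m' + 2)) = N * ((2 : ℤ) ^ (m' + 2)) ^ 2 := by rw [← pow_mul, mul_comm 2]
        _ = _ := by rw [h2]; ring
    obtain rfl : n = m' + 2 := by have := two_pow_exp_eq hN ho h3; omega
    refine mul_right_cancel₀ (pow_ne_zero (2 * (m' + 2)) (two_ne_zero (α := ℤ))) ?_
    rw [h3, show m' + 2 - 1 = m' + 1 from rfl]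
    ring

/-- One of the three congruence identities of the principal block of a Klein four group. -/
theorem klein_step {k μ i X E S : ℤ} {B : ℤ} (hB : |X| ≤ B) (hBk : 4 * B + 9 < 2 * k)
    (hE0 : 0 ≤ E) (hE : 4 * E ≤ |X|) (hπ : 0 < μ * i)
    (heq : 2 * k * (μ * i) + X * (μ + i) + E = 4 * k - S) (hS : |S| ≤ 3 * (μ * i)) :
    μ * i ≤ 2 := by
  have hX0 := abs_nonneg X
  have hsum : |μ + i| ≤ μ * i + 1 := by
    rcases mul_pos_iff.1 hπ with ⟨h1, h2⟩ | ⟨h1, h2⟩
    · rw [abs_of_pos (by linarith)]; nlinarith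
    · rw [abs_of_neg (by linarith)]; nlinarith
  have h1 : |X * (μ + i)| ≤ B * (μ * i + 1) := by
    rw [abs_mul]; exact mul_le_mul hB hsum (abs_nonneg _) (hX0.trans hB)
  have h2 := abs_le.1 h1
  have h3 := abs_le.1 hS
  by_contra hc
  nlinarith

/-- The index, from the congruences for the principal block of a Klein four group. -/
theorem klein_degree {N k B : ℤ} (x X w : Fin 3 → ℤ) (hk : Odd k) (hBk : 4 * B + 9 < 2 * k)
    (hN : 0 < N) (hord : N + (w 0 + w 1 + w 2) = 8 * k ^ 2) (hw : ∀ j, w j * x j = N)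
    (hwodd : ∀ j, Odd (w j)) (hX : 1 + X 0 + X 1 + X 2 = 0) (hx : 1 + x 0 + x 1 + x 2 = 0)
    (hxX : ∀ j, 2 * k ∣ x j - X j) (hne : ∀ j, x j ≠ X j) (hwX : ∀ j, w j * X j ≡ 1 [ZMOD k])
    (hX2 : ∀ j, X j ^ 2 ≡ 1 [ZMOD k]) (hXodd : ∀ j, Odd (X j)) (hXB : ∀ j, |X j| ≤ B) :
    ∃ δ : ℤ, (δ = 1 ∨ δ = -1) ∧ N = (4 * k + δ) * (2 * k + δ) := by
  have hB0 : 0 ≤ B := (abs_nonneg _).trans (hXB 0)
  have hkpos : 0 < k := by linarith
  have h2k : ∀ a : ℤ, Even a → k ∣ a → 2 * k ∣ a := fun a ha hd => by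
    obtain ⟨u, rfl⟩ := hd
    rcases Int.even_mul.1 ha with h | h
    · exact absurd h (Int.not_even_iff_odd.2 hk)
    · obtain ⟨v, rfl⟩ := h; exact ⟨v, by ring⟩
  choose μ hμ using hxX
  have hi : ∀ j, ∃ i, w j - X j = 2 * k * i := fun j => by
    refine h2k _ ((hwodd j).sub_odd (hXodd j)) ?_
    obtain ⟨u, hu⟩ := Int.modEq_iff_dvd.1 (hX2 j)
    obtain ⟨v, hv⟩ := Int.modEq_iff_dvd.1 (hwX j)
    exact ⟨w j * u - X j * v, by linear_combination (w j) * hu - (X j) * hv⟩
  choose i hi using hi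
  have hE : ∀ j, ∃ E, X j ^ 2 - 1 = 2 * k * E := fun j => by
    refine h2k _ ((hXodd j).pow.sub_odd odd_one) ?_
    obtain ⟨u, hu⟩ := Int.modEq_iff_dvd.1 (hX2 j)
    exact ⟨-u, by linarith⟩
  choose E hE using hE
  set S := i 0 + i 1 + i 2 with hS
  have hN' : N = 8 * k ^ 2 - 2 * k * S + 1 := by
    rw [hS]; linear_combination hord - hX - hi 0 - hi 1 - hi 2
  have hE0 : ∀ j, 0 ≤ E j ∧ 4 * E j ≤ |X j| := fun j => by
    have h1 : 1 ≤ |X j| := Int.one_le_abs (fun e => by have := hXodd j; rw [e] at this; simp at this)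
    have h2 := hXB j
    have h3 : |X j| ^ 2 = X j ^ 2 := sq_abs _
    constructor <;> nlinarith [hE j]
  have heq : ∀ j, 2 * k * (μ j * i j) + X j * (μ j + i j) + E j = 4 * k - S := fun j => by
    refine mul_left_cancel₀ (mul_ne_zero two_ne_zero hkpos.ne') ?_
    have h1 := hw j
    rw [hN', show w j = X j + 2 * k * i j by linarith [hi j],
      show x j = X j + 2 * k * μ j by linarith [hμ j]] at h1
    linear_combination h1 - hE j
  have hμ0 : ∀ j, μ j ≠ 0 := fun j e => hne j (by have := hμ j; rw [e] at this; linarith)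
  have hsgn : ∀ j, i j ≠ 0 → 0 < μ j * i j := fun j hij => by
    have hlt : |X j| < 2 * k := by have := hXB j; linarith
    have h1 := abs_lt.1 hlt
    have hpos : 0 < w j * x j := by rw [hw j]; exact hN
    have hxs : x j = X j + 2 * k * μ j := by linarith [hμ j]
    have hws : w j = X j + 2 * k * i j := by linarith [hi j]
    rcases lt_or_gt_of_ne (hμ0 j) with a | a <;> rcases lt_or_gt_of_ne hij with b | b
    · exact mul_pos_of_neg_of_neg a b
    · exfalso
      have q1 : x j < 0 := by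
        have : 2 * k * μ j ≤ 2 * k * (-1) := mul_le_mul_of_nonneg_left (by omega) (by linarith)
        linarith
      have q2 : 0 < w j := by
        have : 2 * k * 1 ≤ 2 * k * i j := mul_le_mul_of_nonneg_left (by omega) (by linarith)
        linarith
      linarith [mul_neg_of_pos_of_neg q2 q1]
    · exfalso
      have q1 : 0 < x j := by
        have : 2 * k * 1 ≤ 2 * k * μ j := mul_le_mul_of_nonneg_left (by omega) (by linarith)
        linarith
      have q2 : w j < 0 := by
        have : 2 * k * i j ≤ 2 * k * (-1) := mul_le_mul_of_nonneg_left (by omega) (by linarith)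
        linarith
      linarith [mul_neg_of_neg_of_pos q2 q1]
    · exact mul_pos a b
  have hiπ : ∀ j, |i j| ≤ μ j * i j ∨ i j = 0 := fun j => by
    rcases eq_or_ne (i j) 0 with h | h
    · exact Or.inr h
    refine Or.inl ?_
    have := hsgn j h
    calc |i j| = 1 * |i j| := (one_mul _).symm
      _ ≤ |μ j| * |i j| :=
        mul_le_mul_of_nonneg_right (Int.one_le_abs (hμ0 j)) (abs_nonneg _)
      _ = μ j * i j := by rw [← abs_mul, abs_of_pos this]
  -- all products are at most two
  have hπ : ∀ j, μ j * i j ≤ 2 := by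
    obtain ⟨m, hm⟩ := Finite.exists_max fun j => μ j * i j
    intro j
    rcases le_or_gt (μ m * i m) 0 with h | h
    · linarith [hm j]
    refine (hm j).trans (klein_step (hXB m) hBk (hE0 m).1 (hE0 m).2 h (heq m) ?_)
    have hb : ∀ l, |i l| ≤ μ m * i m := fun l => by
      rcases hiπ l with a | a
      · exact a.trans (hm l)
      · rw [a, abs_zero]; exact h.le
    rw [hS]
    linarith [abs_add_three (i 0) (i 1) (i 2), hb 0, hb 1, hb 2]
  have hi2 : ∀ j, |i j| ≤ 2 := fun j => by
    rcases hiπ j with a | a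
    · exact a.trans (hπ j)
    · simp [a]
  have hS6 : |S| ≤ 6 := by
    rw [hS]; linarith [abs_add_three (i 0) (i 1) (i 2), hi2 0, hi2 1, hi2 2]
  have hS6' := abs_le.1 hS6
  have hS3 : S = 3 ∨ S = -3 := by
    by_cases hz : ∃ j, i j ≠ 0
    · obtain ⟨j, hj⟩ := hz
      have hp := hsgn j hj
      have hp2 := hπ j
      have he := heq j
      obtain ⟨hE1, hE2⟩ := hE0 j
      have hB' := hXB j
      rcases (by omega : μ j * i j = 1 ∨ μ j * i j = 2) with h | h
      · exfalso
        rcases Int.eq_one_or_neg_one_of_mul_eq_one' h with ⟨a, b⟩ | ⟨a, b⟩ <;>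
          rw [h, a, b] at he <;> rcases abs_cases (X j) with ⟨c, -⟩ | ⟨c, -⟩ <;> linarith
      · have hs : μ j + i j = 3 ∨ μ j + i j = -3 := by
          have h1 := abs_le.1 (hi2 j)
          rcases (by omega : i j = 1 ∨ i j = 2 ∨ i j = -1 ∨ i j = -2) with a | a | a | a <;>
            rw [a] at h ⊢ <;> omega
        rw [h] at he
        rcases hs with a | a <;> rw [a] at he <;> rcases abs_cases (X j) with ⟨c, -⟩ | ⟨c, -⟩ <;>
          have ho := hXodd j <;> rw [Int.odd_iff] at ho <;> omega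
    · exfalso
      push Not at hz
      have hS0 : S = 0 := by simp [hS, hz]
      have hP : ∀ j, X j * μ j + E j = 4 * k := fun j => by
        have := heq j; rw [hz j, hS0] at this; linarith
      have hsum : μ 0 + μ 1 + μ 2 = 0 := by
        have : 2 * k * (μ 0 + μ 1 + μ 2) = 0 := by linarith [hμ 0, hμ 1, hμ 2]
        exact (mul_eq_zero.1 this).resolve_left (mul_ne_zero two_ne_zero hkpos.ne')
      have hbig : ∀ j, 3 * k < X j * μ j := fun j => by
        linarith [hP j, (hE0 j).2, hXB j, abs_nonneg (X j)]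
      have hle : ∀ j, X j * μ j ≤ 4 * k := fun j => by linarith [hP j, (hE0 j).1]
      have tri : ∀ a b c : Fin 3, 1 + X a + X b + X c = 0 → μ a + μ b + μ c = 0 → 0 < μ a * μ b →
          False := by
        intro a b c h1 h2 h3
        have ha := hbig a
        have hb := hbig b
        have hc := hle c
        rw [show X c = -1 - X a - X b by linarith, show μ c = -μ a - μ b by linarith] at hc
        rcases mul_pos_iff.1 h3 with ⟨p1, p2⟩ | ⟨p1, p2⟩
        · have q1 : 0 < X a :=
            pos_of_mul_pos_left (lt_trans (by linarith) ha) p1.le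
          have q2 : 0 < X b :=
            pos_of_mul_pos_left (lt_trans (by linarith) hb) p2.le
          linarith [mul_pos q1 p2, mul_pos q2 p1]
        · have q1 : X a < 0 :=
            neg_of_mul_pos_left (lt_trans (by linarith) ha) p1.le
          have q2 : X b < 0 :=
            neg_of_mul_pos_left (lt_trans (by linarith) hb) p2.le
          linarith [mul_nonneg_of_nonpos_of_nonpos (show X a + 1 ≤ 0 by omega) p2.le,
            mul_nonneg_of_nonpos_of_nonpos (show X b + 1 ≤ 0 by omega) p1.le]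
      have h0 := hμ0 0
      have h1 := hμ0 1
      have h2 := hμ0 2
      rcases lt_or_gt_of_ne h0 with a | a <;> rcases lt_or_gt_of_ne h1 with b | b <;>
        rcases lt_or_gt_of_ne h2 with c | c <;>
        first
          | exact tri 0 1 2 hX hsum (by nlinarith)
          | exact tri 0 2 1 (by linarith) (by linarith) (by nlinarith)
          | exact tri 1 2 0 (by linarith) (by linarith) (by nlinarith)
  rcases hS3 with a | a <;> rw [a] at hN'
  · exact ⟨-1, Or.inr rfl, by rw [hN']; ring⟩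
  · exact ⟨1, Or.inl rfl, by rw [hN']; ring⟩

theorem small_three : ∀ s < 4, ∀ A ∈ [(4 : ℤ), 8], ∀ e ∈ [(1 : ℤ), -1], ∀ u ∈ [(1 : ℤ), -1],
    ∀ f ∈ [(1 : ℤ), 2], A * 3 + e ∣ A * (f * u) - e * (((2 ^ s : ℕ) : ℤ) * 1) →
      A * (f * u) - e * (((2 ^ s : ℕ) : ℤ) * 1) = 0 := by
  decide

theorem small_five : ∀ s < 4, ∀ c ∈ [(1 : ℤ), 3], ∀ e ∈ [(1 : ℤ), -1], ∀ u ∈ [(1 : ℤ), -1],
    ∀ f ∈ [(1 : ℤ), 2], ((2 ^ s : ℕ) : ℤ) * c ≤ 12 →
      (4 : ℤ) * 5 + e ∣ 4 * (f * u) - e * (((2 ^ s : ℕ) : ℤ) * c) →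
      4 * (f * u) - e * (((2 ^ s : ℕ) : ℤ) * c) = 0 := by
  decide

/-- A prime power and the other half of `q² - 1` of a component cannot both divide `c N`. -/
theorem no_survivor {p c t j i n q : ℕ} {k e δ N : ℤ} (hp : p.Prime) (hp2 : p ≠ 2) (hc : Odd c)
    (hcp : 2 * c ≤ p + 1) (ht : Odd t) (hj : 2 ≤ j) (hn : (2 : ℤ) ^ n = i * 2 ^ j) (hn1 : 1 ≤ n)
    (hi : ∃ s, i = 2 ^ s) (hic : i * c ≤ 2 * (p + 1))
    (hsq : 8 ≤ i → IsSquare (2 : ZMod p))
    (hk : k = p * c * (p * t)) (he : e = 1 ∨ e = -1) (hq : IsPrimePow q)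
    (hqT : (q : ℤ) - e = 2 ^ j * (p * t)) (hδ : δ = 1 ∨ δ = -1)
    (hN : N = (2 ^ n * k + δ) * (2 ^ (n - 1) * k + δ)) (hd : (q : ℤ) ∣ c * N)
    {w : ℤ} (hw2 : 2 * w = q + e) (hwd : w ∣ c * N) : False := by
  obtain ⟨r, l, hr, hl, hql⟩ := hq
  rw [← Nat.prime_iff] at hr
  have hp3 : 3 ≤ p := by have := hp.two_le; omega
  have hcpos : 0 < c := hc.pos
  have he2 : e * e = 1 := by rcases he with rfl | rfl <;> norm_num
  have hδ2 : δ * δ = 1 := by rcases hδ with rfl | rfl <;> norm_num
  obtain ⟨s, hs⟩ := hi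
  have hi1 : 1 ≤ i := hs ▸ Nat.one_le_two_pow
  have hj1 : (2 : ℤ) ^ j = 2 * 2 ^ (j - 1) := by
    rw [← pow_succ']; congr 1; omega
  set A : ℤ := 2 ^ j * t with hA
  have hA4 : 4 ≤ A := by
    have h1 : (4 : ℤ) ≤ 2 ^ j := le_trans (by norm_num) (pow_le_pow_right₀ (by norm_num) hj)
    have h2 : (1 : ℤ) ≤ t := by exact_mod_cast ht.pos
    nlinarith
  have hqA : (q : ℤ) = A * p + e := by rw [hA]; linarith
  set m : ℤ := (i : ℤ) * c * p with hm
  set u : ℤ := -(e * δ) with hu
  have hu2 : u * u = 1 := by rw [hu]; linear_combination (δ * δ) * he2 + hδ2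
  -- modulo `q` the factors become `m + u` and `m + 2 * u`
  have h2n : (2 : ℤ) ^ n * k = (i : ℤ) * c * p * (q - e) := by rw [hn, hk, hqT]; ring
  have h2N : (2 : ℤ) * N = (2 ^ n * k + δ) * (2 ^ n * k + 2 * δ) := by
    conv_rhs => rw [show n = (n - 1) + 1 by omega, pow_succ]
    rw [hN]
    conv_lhs => rw [show n = (n - 1) + 1 by omega, pow_succ]
    simp only [Nat.add_sub_cancel]
    ring
  have hprod : (q : ℤ) ∣ (c : ℤ) * ((m + u) * (m + 2 * u)) := by
    have h1 : (q : ℤ) ∣ (c : ℤ) * (2 * N) := by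
      rw [mul_left_comm]; exact dvd_mul_of_dvd_right hd 2
    rw [h2N, h2n] at h1
    obtain ⟨v, hv⟩ := h1
    refine ⟨v - c * (m * (m * q - 2 * m * e + 3 * δ)), ?_⟩
    rw [hm, hu] at *
    linear_combination hv - (c : ℤ) * (((i : ℤ) * c * p) ^ 2 - 2 * δ ^ 2) * he2
  have hrp : Prime (r : ℤ) := Nat.prime_iff_prime_int.1 hr
  -- a prime power dividing a product of coprime numbers
  have hsplit : ∀ a b : ℤ, IsCoprime a b → (q : ℤ) ∣ a * b → (q : ℤ) ∣ a ∨ (q : ℤ) ∣ b := by
    intro a b hab hd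
    rw [← hql, Nat.cast_pow] at hd ⊢
    rcases em ((r : ℤ) ∣ a) with ha | ha
    · refine Or.inl (hrp.pow_dvd_of_dvd_mul_right _ (fun hb => ?_) hd)
      exact hrp.not_isUnit (hab.isUnit_of_dvd' ha hb)
    · exact Or.inr (hrp.pow_dvd_of_dvd_mul_left _ ha hd)
  have hp' : (3 : ℤ) ≤ p := by exact_mod_cast hp3
  have hqbig : A * p - 1 ≤ (q : ℤ) := by rcases he with rfl | rfl <;> linarith
  have hc' : 2 * (c : ℤ) ≤ p + 1 := by exact_mod_cast hcp
  have hc1 : (1 : ℤ) ≤ c := by exact_mod_cast hcpos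
  have hic' : (i : ℤ) * c ≤ 2 * ((p : ℤ) + 1) := by exact_mod_cast hic
  have hcodd : Odd (c : ℤ) := by exact_mod_cast hc
  obtain ⟨v, hv⟩ := hcodd
  have hcopmu : IsCoprime (m + u) (m + 2 * u) := ⟨-u, u, by linear_combination hu2⟩
  have hcop : IsCoprime (c : ℤ) ((m + u) * (m + 2 * u)) := by
    refine IsCoprime.mul_right ⟨-(u * ((i : ℤ) * p)), u, by rw [hm]; linear_combination hu2⟩ ?_
    refine ⟨1 + (i : ℤ) * p * v * u, -(v * u), ?_⟩
    rw [hm, hv]
    linear_combination (-2 * v) * hu2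
  -- the transformed factor is small, and vanishes only in two cases
  have small : ∀ f : ℕ, (f = 1 ∨ f = 2) → (q : ℤ) ∣ m + (f : ℤ) * u → False := by
    intro f hf hd1
    have hd2 : (q : ℤ) ∣ A * ((f : ℤ) * u) - e * ((i : ℤ) * c) := by
      obtain ⟨v, hv⟩ := hd1
      refine ⟨A * v - (i : ℤ) * c, ?_⟩
      rw [hm] at hv
      linear_combination A * hv + ((i : ℤ) * c) * hqA
    have hu1 : u = 1 ∨ u = -1 := by
      rcases hδ with rfl | rfl <;> rcases he with rfl | rfl <;> simp [hu]
    have hi0 : (1 : ℤ) ≤ i := by exact_mod_cast hi1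
    have hicpos : (1 : ℤ) ≤ (i : ℤ) * c := one_le_mul_of_one_le_of_one_le hi0 hc1
    by_cases h0 : A * ((f : ℤ) * u) - e * ((i : ℤ) * c) = 0
    · -- the exceptional configurations
      have huv : u = e ∧ (f : ℤ) * A = (i : ℤ) * c := by
        rcases he with rfl | rfl <;> rcases hu1 with h | h <;> rw [h] at h0 <;>
          rcases hf with rfl | rfl <;> push_cast at h0 ⊢ <;>
          first
            | exact ⟨h, by linarith⟩
            | (exfalso; linarith)
      obtain ⟨hue, hfA⟩ := huv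
      have hδe : δ = -1 := by
        have h1 : δ * (e * e) = -(u * e) := by rw [hu]; ring
        rw [he2, hue, he2, mul_one] at h1
        exact h1
      -- `c = t` and `i = f * 2 ^ j`
      obtain ⟨g, hg⟩ : ∃ g, f = 2 ^ g := by
        rcases hf with rfl | rfl
        · exact ⟨0, rfl⟩
        · exact ⟨1, rfl⟩
      have hnat : (t : ℤ) * 2 ^ (g + j) = (c : ℤ) * 2 ^ s := by
        rw [hg, hs, hA] at hfA
        push_cast at hfA
        rw [pow_add]; linear_combination hfA
      have hgs := two_pow_exp_eq (by exact_mod_cast ht) (by exact_mod_cast hc) hnat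
      rw [hgs] at hnat
      have htc : t = c := by
        exact_mod_cast mul_right_cancel₀ (pow_ne_zero s (two_ne_zero : (2 : ℤ) ≠ 0)) hnat
      have hif : (i : ℤ) = (f : ℤ) * 2 ^ j := by
        rw [hs, hg, ← hgs]; push_cast; ring
      -- modulo `w`
      have hqw : (q : ℤ) - e = 2 * (w - e) := by linarith
      have hwN : w ∣ (c : ℤ) * ((4 * f + δ) * (4 * f + 2 * δ)) := by
        have h1 : w ∣ (c : ℤ) * (2 * N) := by
          rw [mul_left_comm]; exact dvd_mul_of_dvd_right hwd 2
        rw [h2N] at h1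
        have hX : ∃ x, (2 : ℤ) ^ n * k = 4 * f + w * x := by
          refine ⟨4 * (f : ℤ) * w - 8 * f * e, ?_⟩
          have h2 : (i : ℤ) * c * p = f * (2 * (w - e)) := by
            rw [← hqw, hif, hqT, htc]; ring
          rw [h2n, h2, hqw]
          linear_combination (4 * (f : ℤ)) * he2
        obtain ⟨x, hx⟩ := hX
        rw [hx] at h1
        obtain ⟨v, hv⟩ := h1
        exact ⟨v - c * x * (8 * f + w * x + 3 * δ), by linear_combination hv⟩
      have hwA : w = 2 ^ (j - 1) * t * p + e := by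
        rw [hA, hj1] at hqA
        linarith
      have hwc : IsCoprime w (c : ℤ) := by
        refine ⟨e, -e * 2 ^ (j - 1) * p, ?_⟩
        rw [hwA, htc]
        linear_combination he2
      have hw3 := hwc.dvd_of_dvd_mul_left hwN
      rw [hδe] at hw3
      have hj2 : (2 : ℤ) ≤ 2 ^ (j - 1) :=
        le_trans (by norm_num) (pow_le_pow_right₀ (by norm_num) (show 1 ≤ j - 1 by omega))
      have ht' : (1 : ℤ) ≤ t := by exact_mod_cast ht.pos
      have hw5 : 5 ≤ w := by
        have : (2 : ℤ) * 1 * 3 ≤ 2 ^ (j - 1) * t * p :=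
          mul_le_mul (mul_le_mul hj2 ht' (by norm_num) (by linarith)) hp' (by norm_num) (by positivity)
        rcases he with rfl | rfl <;> linarith
      rcases hf with rfl | rfl <;> norm_num at hw3
      · -- `f = 1`: a divisor of `6`
        have hle := Int.le_of_dvd (by norm_num) hw3
        have hw6 : w = 5 ∨ w = 6 := by omega
        rcases hw6 with e6 | e6
        · rw [e6] at hw3; norm_num at hw3
        · have : Odd w := by
            rw [hwA]
            have hev : Even ((2 : ℤ) ^ (j - 1)) := (Int.even_pow).2 ⟨by norm_num, by omega⟩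
            have := (hev.mul_right (t : ℤ)).mul_right (p : ℤ)
            rcases he with rfl | rfl
            · exact this.add_one
            · exact this.add_odd (by decide)
          rw [e6] at this; exact absurd this (by decide)
      · -- `f = 2`: a divisor of `42`
        have hle := Int.le_of_dvd (by norm_num) hw3
        have hwlist : w = 6 ∨ w = 7 ∨ w = 14 ∨ w = 21 ∨ w = 42 := by
          interval_cases w <;> first | omega | norm_num at hw3
        have hwodd : Odd w := by
          rw [hwA]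
          have hev : Even ((2 : ℤ) ^ (j - 1)) := (Int.even_pow).2 ⟨by norm_num, by omega⟩
          have := (hev.mul_right (t : ℤ)).mul_right (p : ℤ)
          rcases he with rfl | rfl
          · exact this.add_one
          · exact this.add_odd (by decide)
        obtain ⟨w', hw'⟩ := hwodd
        have hi8 : 8 ≤ i := by
          have : (8 : ℤ) ≤ i := by
            rw [hif]; push_cast
            linarith [pow_le_pow_right₀ (show (1 : ℤ) ≤ 2 by norm_num) hj]
          exact_mod_cast this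
        -- `p = 3, 5` or `11`
        have hP : 2 ^ (j - 1) * (t * p) = 6 ∨ 2 ^ (j - 1) * (t * p) = 8 ∨
            2 ^ (j - 1) * (t * p) = 20 ∨ 2 ^ (j - 1) * (t * p) = 22 := by
          have e1 : ((2 ^ (j - 1) * (t * p) : ℕ) : ℤ) = w - e := by rw [hwA]; push_cast; ring
          rcases he with rfl | rfl <;> omega
        have hpd : ∀ M : ℕ, 2 ^ (j - 1) * (t * p) = M → p ∣ M := fun M hM =>
          hM ▸ dvd_mul_of_dvd_right (dvd_mul_left p t) _
        have hp35 : p = 3 ∨ p = 5 ∨ p = 11 := by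
          rcases hP with h | h | h | h <;> have h1 := hpd _ h <;> have h2 := Nat.le_of_dvd (by norm_num) h1 <;>
            interval_cases p <;> first | omega | (revert h1 hp; norm_num)
        have hsq' := hsq hi8
        rcases hp35 with rfl | rfl | rfl <;> revert hsq' <;> decide
    · -- the non-vanishing case
      have hle := Int.le_of_dvd (abs_pos.2 h0) ((dvd_abs _ _).2 hd2)
      have hub : |A * ((f : ℤ) * u) - e * ((i : ℤ) * c)| ≤ 2 * A + (i : ℤ) * c := by
        rw [abs_le]
        rcases hf with rfl | rfl <;> rcases hu1 with h | h <;> rw [h] <;> rcases he with rfl | rfl <;>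
          constructor <;> push_cast <;> linarith
      rcases (by omega : 6 ≤ p ∨ p = 3 ∨ p = 4 ∨ p = 5) with h3 | h3 | h3 | h3
      · have : (6 : ℤ) ≤ p := by exact_mod_cast h3
        linarith [mul_nonneg (show (0 : ℤ) ≤ A - 4 by linarith) (show (0 : ℤ) ≤ (p : ℤ) - 6 by linarith)]
      · subst h3
        obtain rfl : c = 1 := by omega
        push_cast at hqA hqbig hic' hle hub
        have hA12 : A < 12 := by linarith
        have hi8 : i ≤ 8 := by simpa using hic
        have hcas : A = 4 ∨ A = 8 := by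
          have h4 : (4 : ℤ) ∣ A := by
            rw [hA]; exact dvd_mul_of_dvd_left (show (4 : ℤ) ∣ 2 ^ j by
              exact (show (4 : ℤ) = 2 ^ 2 by norm_num) ▸ pow_dvd_pow 2 hj) _
          omega
        have hs3 : s ≤ 3 := by
          by_contra hs4
          have : 2 ^ 4 ≤ i := hs ▸ Nat.pow_le_pow_right (by norm_num) (by omega)
          omega
        subst hs
        rw [hqA] at hd2
        refine h0 (small_three s (by omega) A ?_ e ?_ u ?_ (f : ℤ) ?_ ?_)
        · simpa using hcas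
        · simpa using he
        · simpa using hu1
        · rcases hf with rfl | rfl <;> simp
        · exact_mod_cast hd2
      · exact absurd (h3 ▸ hp) (by norm_num)
      · subst h3
        push_cast at hqA hqbig hic' hle hub
        have hA8 : A < 8 := by linarith
        have hA' : A = 4 := by
          have h4 : (4 : ℤ) ∣ A := by
            rw [hA]; exact dvd_mul_of_dvd_left (show (4 : ℤ) ∣ 2 ^ j by
              exact (show (4 : ℤ) = 2 ^ 2 by norm_num) ▸ pow_dvd_pow 2 hj) _
          omega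
        have hc3 : c = 1 ∨ c = 3 := by obtain ⟨w', rfl⟩ := hc; omega
        have hs4 : s ≤ 3 := by
          by_contra hs4
          have h16 : 2 ^ 4 ≤ i := hs ▸ Nat.pow_le_pow_right (by norm_num) (by omega)
          have : i * 1 ≤ i * c := Nat.mul_le_mul_left i hcpos
          omega
        subst hs
        rw [hqA, hA'] at hd2
        rw [hA'] at h0
        refine h0 (small_five s (by omega) (c : ℤ) ?_ e ?_ u ?_ (f : ℤ) ?_ ?_ ?_)
        · rcases hc3 with rfl | rfl <;> simp
        · simpa using he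
        · simpa using hu1
        · rcases hf with rfl | rfl <;> simp
        · exact_mod_cast hic'
        · exact_mod_cast hd2
  rcases hsplit _ _ hcop hprod with h | h
  · have hle := Int.le_of_dvd (by linarith) h
    linarith [mul_le_mul_of_nonneg_right hA4 (show (0 : ℤ) ≤ p by linarith)]
  · rcases hsplit _ _ hcopmu h with h | h
    · exact small 1 (Or.inl rfl) (by rwa [Nat.cast_one, one_mul])
    · exact small 2 (Or.inr rfl) (by exact_mod_cast h)

end CfsgLib.GW.Component
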