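import Cfsg.Agent.Lib.GW.Component.Local
import Cfsg.Agent.Lib.Transfer.Focal

/-!
A central quotient of `O(C(a))` of order divisible by `p` contradicts simplicity: the focal subgroup
of a Sylow `p`-subgroup lies in the kernel.
-/

set_option autoImplicit false
set_option linter.unusedSectionVars false
set_option linter.style.haveILetI false

namespace CfsgLib.GW

open Subgroup CfsgLib.Invol
open scoped commutatorElement

universe u

variable {G : Type u} [Group G] [Finite G] {a b g : G} {p : ℕ}

/-- `C(a)` controls the fusion of a Sylow `p`-subgroup inside `O(C(a))`, so the index of such a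
kernel is prime to `p`. -/
theorem Mixed.no_centQuot_p (C : Ctx G) (h : Mixed a b g p) {K : Subgroup G} (hK : K < coreC a)
    (_hz : zP a p ≤ K) (hq : ⁅coreC a, cI a⁆ ≤ K) (hp : p ∣ K.relIndex (coreC a)) : False := by
  haveI := Fact.mk h.hp
  have h1 : zP a p ≤ cI (1 : G) := fun z _ => mem_cI.2 (by simp)
  obtain ⟨P₀, -, hPO⟩ := h.exists_sylow_cent C h1
  have htop : cI (1 : G) = ⊤ := top_le_iff.1 fun x _ => mem_cI.2 (by simp)
  obtain ⟨P, hP⟩ := (P₀.isPGroup'.map (cI (1 : G)).subtype).exists_le_sylow
  have hPeq : (P₀ : Subgroup (cI (1 : G))).map (cI (1 : G)).subtype = (P : Subgroup G) := by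
    refine eq_of_le_of_card_ge hP ?_
    rw [Nat.card_congr (equivMapOfInjective _ _ (cI (1 : G)).subtype_injective).symm.toEquiv,
      P₀.card_eq_multiplicity, P.card_eq_multiplicity, htop, card_top]
  rw [hPeq] at hPO
  have hcom : ∀ x ∈ (P : Subgroup G), zP a p ≤ cI x := fun x hx z hz' => mem_cI.2
    (h.commute_zP C P.2 hx (coreC_le_cI a (hPO hx)) hz').eq.symm
  have hfoc : (P : Subgroup G).focalSubgroup ≤ K :=
    ((CfsgLib.Transfer.focalSubgroup_le_of_controls (V := cI a) fun x hx m hm =>
      h.fusion C (hcom x hx) (hcom _ hm)).trans (commutator_mono hPO le_rfl)).trans hq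
  have hperf : commutator G = ⊤ := by
    haveI := C.min.simple
    refine (IsSimpleGroup.eq_bot_or_eq_top_of_normal _ inferInstance).resolve_left fun e =>
      C.min.noncomm ⟨⟨fun x y => ?_⟩⟩
    rw [← commutatorElement_eq_one_iff_mul_comm, ← mem_bot, ← e, commutator_def]
    exact commutator_mem_commutator (mem_top x) (mem_top y)
  have hPK : (P : Subgroup G) ≤ K := by
    refine le_trans ?_ hfoc
    rw [← commutator_inf_eq_focalSubgroup (P := P), hperf, top_inf_eq]
  obtain ⟨n, hn⟩ := IsPGroup.iff_card.1 P.2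
  have hdvd : p ^ (n + 1) ∣ Nat.card G := by
    refine dvd_trans ?_ (card_subgroup_dvd_card (coreC a))
    rw [pow_succ, ← hn, ← relIndex_bot_left (P : Subgroup G)]
    refine dvd_trans (mul_dvd_mul ?_ hp)
      (dvd_of_eq ((relIndex_mul_relIndex ⊥ K (coreC a) bot_le hK.le).trans (relIndex_bot_left _)))
    rw [relIndex_bot_left, relIndex_bot_left]
    exact card_dvd_of_le hPK
  have := P.pow_dvd_card_of_pow_dvd_card hdvd
  rw [hn] at this
  have := Nat.le_of_dvd (pow_pos h.hp.pos n) this
  exact absurd this (not_le.2 (Nat.pow_lt_pow_right h.hp.one_lt (Nat.lt_succ_self n)))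

end CfsgLib.GW
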