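import Cfsg.Agent.Lib.GW.Component.Congr
import Cfsg.Agent.Lib.Coprime.Sylow
import Cfsg.Agent.Lib.Coprime.Generation
import Cfsg.Agent.Lib.StructC.BurnsideBasis
import Cfsg.Agent.Lib.Comp.Subnormal
import Cfsg.Agent.Lib.CoprimeInvol.Basic
import Cfsg.Agent.Lib.FT.OddOrder
import Cfsg.Agent.Lib.Invol.FusionBasics

/-!
An element `z` of prime order `p` commuting with the involution `a` of a four-group `⟨a, b⟩` and
inverted by `b` centralises an invariant group `Q` of odd order prime to `p`, if it centralises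
`C_Q(a)` and the subgroups of prime power order of `C_Q(b)`, `C_Q(ab)` are cyclic, for primes `ℓ`
with `p ∤ ℓ² - 1`.
-/

set_option autoImplicit false
set_option linter.unusedSectionVars false
set_option linter.style.haveILetI false

namespace CfsgLib.GW.Component

open Subgroup CfsgLib.CoprimeInvol CfsgLib.Invol

universe u

/-- An automorphism of prime order `p` of an `ℓ`-group `R` which fixes `R` modulo the Frattini
subgroup and two elements is trivial, if `p` does not divide `ℓ² - 1`. -/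
theorem fix_eq_top_of_two {R : Type u} [Group R] [Finite R] {ℓ p : ℕ} [Fact ℓ.Prime] [Fact p.Prime]
    (hR : IsPGroup ℓ R) (hp : ¬ p ∣ Nat.card R) {β : MulAut R} (hβ : β ^ p = 1) (g₁ g₂ : R)
    (hgen : fix β ⊔ frattini R ⊔ zpowers g₁ ⊔ zpowers g₂ = ⊤)
    (har : fix β ⊔ frattini R ≠ ⊤ → ¬ p ∣ ℓ ^ 2 - 1) : fix β = ⊤ := by
  classical
  refine frattini_nongenerating ?_
  by_contra hne
  have har' := har hne
  set H := fix β ⊔ frattini R with hHdef
  haveI hHn : H.Normal := ⟨fun x hx g => by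
    have h1 : g * x * g⁻¹ * x⁻¹ ∈ frattini R := by
      simpa using CfsgLib.StructC.comm_mem_frattini hR g⁻¹ x⁻¹
    have h2 : g * x * g⁻¹ = (g * x * g⁻¹ * x⁻¹) * x := by group
    rw [h2]
    exact mul_mem (mem_sup_right h1) hx⟩
  have hord : ∀ g : R, Nat.card (zpowers (g : R ⧸ H)) ∣ ℓ := fun g => by
    rw [Nat.card_zpowers]
    refine orderOf_dvd_of_pow_eq_one ?_
    rw [← QuotientGroup.mk_pow, QuotientGroup.eq_one_iff]
    exact mem_sup_right (CfsgLib.StructC.pow_mem_frattini hR g)
  have hcomm : ∀ x y : R ⧸ H, x * y = y * x := by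
    intro x y
    induction x using QuotientGroup.induction_on with
    | _ x =>
    induction y using QuotientGroup.induction_on with
    | _ y =>
      rw [← QuotientGroup.mk_mul, ← QuotientGroup.mk_mul, eq_comm, QuotientGroup.eq]
      refine mem_sup_right ?_
      have := CfsgLib.StructC.comm_mem_frattini hR x y
      simpa [mul_assoc] using this
  have htop : zpowers (g₁ : R ⧸ H) ⊔ zpowers (g₂ : R ⧸ H) = ⊤ := by
    rw [eq_top_iff]
    intro q _
    induction q using QuotientGroup.induction_on with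
    | _ x =>
      have hx : x ∈ H ⊔ zpowers g₁ ⊔ zpowers g₂ := hgen ▸ mem_top x
      have hle : H ⊔ zpowers g₁ ⊔ zpowers g₂ ≤
          (zpowers (g₁ : R ⧸ H) ⊔ zpowers (g₂ : R ⧸ H)).comap (QuotientGroup.mk' H) := by
        refine sup_le (sup_le (fun y hy => ?_) ?_) ?_
        · rw [mem_comap, QuotientGroup.mk'_apply, (QuotientGroup.eq_one_iff y).2 hy]
          exact one_mem _
        · exact zpowers_le.2 (mem_comap.2 (mem_sup_left (mem_zpowers _)))
        · exact zpowers_le.2 (mem_comap.2 (mem_sup_right (mem_zpowers _)))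
      exact hle hx
  have hcard : Nat.card (R ⧸ H) ∣ ℓ ^ 2 := by
    have h := CfsgLib.Comp.card_sup_dvd_mul (H := zpowers (g₁ : R ⧸ H)) (K := zpowers (g₂ : R ⧸ H))
      fun x _ => mem_normalizer_iff_of_finite fun y hy => by
        rwa [hcomm x y, mul_inv_cancel_right]
    rw [htop, card_top] at h
    exact h.trans (by rw [pow_two]; exact Nat.mul_dvd_mul (hord g₁) (hord g₂))
  -- `β` fixes only the trivial coset
  have hinv : ∀ x ∈ H, β x ∈ H := by
    intro x hx
    rw [hHdef] at hx ⊢
    have : (fix β ⊔ frattini R).map β.toMonoidHom ≤ fix β ⊔ frattini R := by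
      rw [Subgroup.map_sup]
      refine sup_le_sup (fun y hy => ?_) ?_
      · obtain ⟨w, hw, rfl⟩ := hy
        show β w ∈ fix β
        rw [mem_fix.1 hw]; exact hw
      · exact (characteristic_iff_map_le.1 inferInstance) β
    exact this ⟨x, hx, rfl⟩
  let γ : R ⧸ H →* R ⧸ H := QuotientGroup.map H H β.toMonoidHom fun x hx => hinv x hx
  have hγ : ∀ x : R, γ (x : R ⧸ H) = ((β x : R) : R ⧸ H) := fun x => rfl
  have hsurj : Function.Surjective γ := by
    intro q
    induction q using QuotientGroup.induction_on with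
    | _ x => exact ⟨((β.symm x : R) : R ⧸ H), by rw [hγ, MulEquiv.apply_symm_apply]⟩
  let e : Equiv.Perm (R ⧸ H) := Equiv.ofBijective γ ⟨Finite.injective_iff_surjective.2 hsurj, hsurj⟩
  have he : ∀ k : ℕ, ∀ x : R, (e ^ k) (x : R ⧸ H) = (((β ^ k) x : R) : R ⧸ H) := by
    intro k
    induction k with
    | zero => intro x; rfl
    | succ k ih =>
      intro x
      rw [pow_succ', pow_succ', Equiv.Perm.mul_apply, ih, MulAut.mul_apply]
      exact hγ _
  have hep : e ^ p ^ 1 = 1 := by
    refine Equiv.ext fun q => ?_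
    induction q using QuotientGroup.induction_on with
    | _ x => rw [pow_one, he, hβ]; rfl
  have hfix1 : e 1 = 1 := map_one γ
  have huniq : ∀ q, e q = q → q = 1 := by
    intro q hq
    induction q using QuotientGroup.induction_on with
    | _ g =>
      have hgH : g⁻¹ * β g ∈ H := QuotientGroup.eq.1 (hq.symm.trans (hγ g))
      obtain ⟨x, hx, hβx⟩ := exists_fixed_coset hβ hp (H := H) (g := g) fun x hx => by
        have : g⁻¹ * β x = (g⁻¹ * β g) * β (g⁻¹ * x) := by rw [map_mul, map_inv]; group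
        rw [this]
        exact mul_mem hgH (hinv _ hx)
      rw [QuotientGroup.eq_one_iff]
      have : g = x * (g⁻¹ * x)⁻¹ := by group
      rw [this]
      exact mul_mem (mem_sup_left hβx) (inv_mem hx)
  -- so `p` divides `|R/H| - 1`
  haveI : Fintype (R ⧸ H) := Fintype.ofFinite _
  have hmod := Equiv.Perm.card_compl_support_modEq hep
  have hone : e.supportᶜ = {1} := by
    ext q
    simp only [Finset.mem_compl, Equiv.Perm.mem_support, not_not, Finset.mem_singleton]
    exact ⟨huniq q, fun h => h ▸ hfix1⟩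
  rw [hone, Finset.card_singleton, ← Nat.card_eq_fintype_card] at hmod
  have hgt : Nat.card (R ⧸ H) ≠ 1 := fun h => hne (by
    rw [← index_eq_one, index_eq_card, h])
  obtain ⟨j, hj, hcj⟩ := (Nat.dvd_prime_pow (Fact.out : ℓ.Prime)).1 hcard
  rw [hcj] at hmod hgt
  have hd : p ∣ ℓ ^ j - 1 := (Nat.modEq_iff_dvd' (Nat.one_le_pow _ _ (Fact.out : ℓ.Prime).pos)).1
    hmod
  interval_cases j
  · exact hgt (pow_zero ℓ)
  · refine har' (hd.trans ?_)
    rw [pow_one, show ℓ ^ 2 - 1 = (ℓ + 1) * (ℓ - 1) from by rw [← Nat.sq_sub_sq, one_pow]]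
    exact dvd_mul_left _ _
  · exact har' hd

variable {G : Type u} [Group G] [Finite G]

/-- The centralisation criterion. -/
theorem le_centralizer_of_klein {Q : Subgroup G} {a b z : G} {p : ℕ} [Fact p.Prime]
    (hQ : Odd (Nat.card Q)) (hQp : ¬ p ∣ Nat.card Q) (ha : orderOf a = 2) (hb : orderOf b = 2)
    (hne : a ≠ b) (hab : a * b = b * a) (hz : orderOf z = p) (hza : z * a = a * z)
    (hzb : b * z * b⁻¹ = z⁻¹) (hQa : a ∈ normalizer (Q : Set G))
    (hQb : b ∈ normalizer (Q : Set G)) (hQz : z ∈ normalizer (Q : Set G))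
    (hfix : ∀ q ∈ Q, q * a = a * q → q * z = z * q)
    (hcyc : ∀ v : G, (v = b ∨ v = a * b) → ∀ ℓ : ℕ, ℓ.Prime → ∀ R : Subgroup G,
      R ≤ Q ⊓ centralizer ({v} : Set G) → IsPGroup ℓ R →
        IsCyclic R ∧ (R ≠ ⊥ → ¬ p ∣ ℓ ^ 2 - 1)) :
    Q ≤ centralizer ({z} : Set G) := by
  classical
  have haa : a * a = 1 := by rw [← pow_two, ← ha, pow_orderOf_eq_one]
  have hbb : b * b = 1 := by rw [← pow_two, ← hb, pow_orderOf_eq_one]
  have hainv : a⁻¹ = a := inv_eq_of_mul_eq_one_right haa
  have hane : a ≠ 1 := fun h => by simp [h] at ha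
  have hbne : b ≠ 1 := fun h => by simp [h] at hb
  have habne : a * b ≠ 1 := fun h => hne (by rw [← hainv]; exact inv_eq_of_mul_eq_one_right h)
  -- the four-group
  set V : Subgroup G := zpowers a ⊔ zpowers b with hVdef
  have haV : a ∈ V := mem_sup_left (mem_zpowers a)
  have hbV : b ∈ V := mem_sup_right (mem_zpowers b)
  have hnab : zpowers b ≤ normalizer (zpowers a : Set G) := zpowers_le.2
    (mem_normalizer_iff_of_finite fun x hx => by
      obtain ⟨i, rfl⟩ := mem_zpowers_iff.1 hx
      have hc : Commute (a ^ i) b := Commute.zpow_left hab i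
      rwa [← hc.eq, mul_inv_cancel_right])
  have hVcard : Nat.card V ∣ 4 := by
    have h := CfsgLib.Comp.card_sup_dvd_mul hnab
    rwa [Nat.card_zpowers, Nat.card_zpowers, ha, hb] at h
  have hVmem : ∀ v ∈ V, v = 1 ∨ v = a ∨ v = b ∨ v = a * b := by
    intro v hv
    have hv' : v ∈ (↑(zpowers a ⊔ zpowers b) : Set G) := hv
    rw [coe_mul_of_right_le_normalizer_left (zpowers a) (zpowers b) hnab] at hv'
    obtain ⟨x, hx, y, hy, hxy⟩ := Set.mem_mul.1 hv'
    subst hxy
    have two : ∀ (c : G), orderOf c = 2 → ∀ w ∈ zpowers c, w = 1 ∨ w = c := by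
      intro c hc w hw
      obtain ⟨i, rfl⟩ := mem_zpowers_iff.1 hw
      rw [← zpow_mod_orderOf, hc]
      rcases Int.emod_two_eq i with h | h <;> simp [h]
    rcases two a ha x hx with rfl | rfl <;> rcases two b hb y hy with rfl | rfl <;> simp
  have hVcomm : IsMulCommutative V := ⟨⟨fun x y => Subtype.ext (by
    rcases hVmem x x.2 with h1 | h1 | h1 | h1 <;> rcases hVmem y y.2 with h2 | h2 | h2 | h2 <;>
      simp only [Subgroup.coe_mul, h1, h2, one_mul, mul_one] <;>
      first
        | exact hab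
        | exact hab.symm
        | (simp only [← mul_assoc, haa, one_mul]; done)
        | (rw [mul_assoc, ← hab, ← mul_assoc, haa, one_mul])
        | (rw [← mul_assoc, haa, one_mul, hab, mul_assoc, ← hab, ← mul_assoc])
        | (simp only [hab, mul_assoc]; done))⟩⟩
  have hVnc : ¬ IsCyclic V := by
    intro hc
    haveI := hc
    haveI : Fintype V := Fintype.ofFinite V
    classical
    have h := IsCyclic.card_pow_eq_one_le (α := V) (n := 2) (by norm_num)
    have hsub : ({1, ⟨a, haV⟩, ⟨b, hbV⟩} : Finset V) ⊆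
        Finset.univ.filter fun x : V => x ^ 2 = 1 := by
      intro x hx
      simp only [Finset.mem_insert, Finset.mem_singleton] at hx
      refine Finset.mem_filter.2 ⟨Finset.mem_univ _, Subtype.ext ?_⟩
      rcases hx with rfl | rfl | rfl
      · simp
      · simp [pow_two, haa]
      · simp [pow_two, hbb]
    have h3 : ({1, ⟨a, haV⟩, ⟨b, hbV⟩} : Finset V).card = 3 := by
      rw [Finset.card_insert_of_notMem, Finset.card_pair]
      · exact fun e => hne (congrArg Subtype.val e)
      · simp only [Finset.mem_insert, Finset.mem_singleton, not_or]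
        exact ⟨fun e => hane (congrArg Subtype.val e).symm, fun e => hbne (congrArg Subtype.val e).symm⟩
    have := (Finset.card_le_card hsub).trans h
    omega
  -- the acting group
  set A : Subgroup G := zpowers z ⊔ V with hAdef
  have hVz : V ≤ normalizer (zpowers z : Set G) := by
    refine sup_le (zpowers_le.2 ?_) (zpowers_le.2 ?_)
    · refine mem_normalizer_iff_of_finite fun x hx => ?_
      obtain ⟨i, rfl⟩ := mem_zpowers_iff.1 hx
      have hc : Commute (z ^ i) a := Commute.zpow_left hza i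
      rwa [← hc.eq, mul_inv_cancel_right]
    · refine mem_normalizer_iff_of_finite fun x hx => ?_
      obtain ⟨i, rfl⟩ := mem_zpowers_iff.1 hx
      rw [← conj_zpow, hzb]
      exact mem_zpowers_iff.2 ⟨-i, by rw [inv_zpow, zpow_neg]⟩
  have hVQ : V ≤ normalizer (Q : Set G) := sup_le (zpowers_le.2 hQa) (zpowers_le.2 hQb)
  have hAQ : A ≤ normalizer (Q : Set G) := sup_le (zpowers_le.2 hQz) hVQ
  have h2Q : Nat.Coprime 4 (Nat.card Q) :=
    Nat.Coprime.pow_left 2 hQ.coprime_two_left
  have hcopV : (Nat.card V).Coprime (Nat.card Q) := Nat.Coprime.coprime_dvd_left hVcard h2Q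
  have hcop : (Nat.card A).Coprime (Nat.card Q) := by
    refine Nat.Coprime.coprime_dvd_left (CfsgLib.Comp.card_sup_dvd_mul hVz) (Nat.Coprime.mul_left ?_ hcopV)
    rw [Nat.card_zpowers, hz]
    exact (Fact.out : p.Prime).coprime_iff_not_dvd.2 hQp
  have hQs : Group.IsSolvable Q := CfsgLib.FT.odd_order_solvable hQ
  -- Sylow by Sylow
  suffices h : ∀ ℓ : ℕ, ℓ.Prime → ℓ ∣ Nat.card Q → ∃ P : Sylow ℓ Q,
      (P : Subgroup Q).map Q.subtype ≤ centralizer ({z} : Set G) by
    rw [← relIndex_eq_one]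
    by_contra hne'
    obtain ⟨ℓ, hℓ, hd⟩ := Nat.exists_prime_and_dvd hne'
    haveI := Fact.mk hℓ
    obtain ⟨P, hP⟩ := h ℓ hℓ (hd.trans (relIndex_dvd_card _ _))
    have hle : (P : Subgroup Q) ≤ (centralizer ({z} : Set G)).subgroupOf Q := fun x hx =>
      hP (mem_map_of_mem _ hx)
    exact P.not_dvd_index (hd.trans (index_dvd_of_le hle))
  intro ℓ hℓ hℓQ
  haveI := Fact.mk hℓ
  obtain ⟨P, hP⟩ := CfsgLib.Coprime.exists_invariant_sylow hAQ hcop (Or.inr hQs) ℓ
  refine ⟨P, ?_⟩
  set R : Subgroup G := (P : Subgroup Q).map Q.subtype with hRdef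
  have hRQ : R ≤ Q := map_subtype_le _
  have hRl : IsPGroup ℓ R := P.2.map Q.subtype
  have hRp : ¬ p ∣ Nat.card R := fun h => hQp (h.trans (card_dvd_of_le hRQ))
  have hRn : ∀ c ∈ A, ∀ x ∈ R, c * x * c⁻¹ ∈ R := fun c hc x hx =>
    (mem_normalizer_iff.1 (hP hc) x).1 hx
  -- the automorphism induced by `z`
  let f : R →* R :=
    ((MulAut.conj z).toMonoidHom.comp R.subtype).codRestrict R
      fun x => hRn z (mem_sup_left (mem_zpowers z)) x x.2
  have hfi : Function.Injective f := fun x y h =>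
    Subtype.ext ((MulAut.conj z).injective (congrArg Subtype.val h :))
  let β : MulAut R := MulEquiv.ofBijective f (Finite.injective_iff_bijective.1 hfi)
  have hβv : ∀ (k : ℕ) (x : R), (((β ^ k) x : R) : G) = z ^ k * (x : G) * (z ^ k)⁻¹ := by
    intro k
    induction k with
    | zero => intro x; simp
    | succ k ih =>
      intro x
      rw [pow_succ', MulAut.mul_apply]
      show z * (((β ^ k) x : R) : G) * z⁻¹ = _
      rw [ih, pow_succ', mul_inv_rev]
      simp only [mul_assoc]
  have hβp : β ^ p = 1 := by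
    refine MulEquiv.ext fun x => Subtype.ext ?_
    rw [hβv, ← hz, pow_orderOf_eq_one]
    simp
  have hmem : ∀ x : R, x ∈ fix β ↔ (x : G) * z = z * (x : G) := by
    intro x
    rw [mem_fix]
    constructor
    · intro h
      have h' : z * (x : G) * z⁻¹ = (x : G) := congrArg Subtype.val h
      calc (x : G) * z = z * (x : G) * z⁻¹ * z := by rw [h']
        _ = z * (x : G) := by group
    · intro h
      refine Subtype.ext ?_
      show z * (x : G) * z⁻¹ = (x : G)
      rw [← h, mul_inv_cancel_right]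
  suffices hf : fix β = ⊤ by
    intro x hx
    exact mem_centralizer_singleton_iff.2 ((hmem ⟨x, hx⟩).1 (hf ▸ mem_top _))
  -- generators
  have key : ∀ v : G, (v = b ∨ v = a * b) → ∃ g : R, (g : G) ∈ centralizer ({v} : Set G) ∧
      (∀ x : R, (x : G) ∈ centralizer ({v} : Set G) → x ∈ zpowers g) ∧
      (g ≠ 1 → ¬ p ∣ ℓ ^ 2 - 1) := by
    intro v hv
    set C := (centralizer ({v} : Set G)).subgroupOf R with hC
    have hle : C.map R.subtype ≤ Q ⊓ centralizer ({v} : Set G) := by
      rintro _ ⟨x, hx, rfl⟩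
      exact ⟨hRQ x.2, hx⟩
    obtain ⟨hcy, hdiv⟩ := hcyc v hv ℓ hℓ _ hle ((hRl.to_subgroup C).map R.subtype)
    haveI : IsCyclic C := (equivMapOfInjective C R.subtype R.subtype_injective).isCyclic.2 hcy
    obtain ⟨g, hg⟩ := IsCyclic.exists_generator (α := C)
    refine ⟨g, g.2, fun x hx => ?_, fun hg1 => hdiv fun hbot => hg1 ?_⟩
    · obtain ⟨i, hi⟩ := mem_zpowers_iff.1 (hg ⟨x, hx⟩)
      exact mem_zpowers_iff.2 ⟨i, congrArg Subtype.val hi⟩
    · rw [map_eq_bot_iff_of_injective _ R.subtype_injective] at hbot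
      exact (mem_bot.1 (hbot ▸ g.2 : (g : R) ∈ (⊥ : Subgroup R)))
  obtain ⟨g₁, -, hg₁, hd₁⟩ := key b (Or.inl rfl)
  obtain ⟨g₂, -, hg₂, hd₂⟩ := key (a * b) (Or.inr rfl)
  have hgen : fix β ⊔ frattini R ⊔ zpowers g₁ ⊔ zpowers g₂ = ⊤ := by
    have hR := CfsgLib.Coprime.iSup_centralizer_eq (A := V) (G := R) hVcomm hVnc
      (fun v hv => mem_normalizer_iff_of_finite fun x hx => hRn v (mem_sup_right hv) x hx)
      (Nat.Coprime.coprime_dvd_right (card_dvd_of_le hRQ) hcopV)
    set S := fix β ⊔ frattini R ⊔ zpowers g₁ ⊔ zpowers g₂ with hS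
    have hle : R ≤ S.map R.subtype := by
      conv_lhs => rw [← hR]
      refine iSup_le fun v => ?_
      rintro x ⟨hx, hxv⟩
      refine ⟨⟨x, hx⟩, ?_, rfl⟩
      rcases hVmem v.1 v.2.1 with h | h | h | h
      · exact absurd h v.2.2
      · exact mem_sup_left (mem_sup_left (mem_sup_left ((hmem _).2
          (hfix x (hRQ hx) (mem_centralizer_singleton_iff.1 (h ▸ hxv))))))
      · exact mem_sup_left (mem_sup_right (hg₁ _ (h ▸ hxv)))
      · exact mem_sup_right (hg₂ _ (h ▸ hxv))
    rw [eq_top_iff]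
    intro x _
    obtain ⟨y, hy, e⟩ := hle x.2
    exact R.subtype_injective e ▸ hy
  refine fix_eq_top_of_two hRl hRp hβp g₁ g₂ hgen fun hne' => ?_
  by_cases h1 : g₁ = 1
  · refine hd₂ fun h2 => hne' ?_
    rw [← hgen, h1, h2]; simp
  · exact hd₁ h1

end CfsgLib.GW.Component
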