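import Cfsg.Agent.Lib.OddLocal.RankTwoAction
import Cfsg.Agent.Lib.OddLocal.GLTwoOdd
import Cfsg.Agent.Lib.FT.OddOrder

/-!
Groups of odd order acting fixed-point-freely on a group of order `p²` and exponent `p` are
abelian.
-/

set_option autoImplicit false
set_option linter.unusedSectionVars false

namespace CfsgLib.GW.Component

open Subgroup

universe u

/-- Fixed-point-free automorphism groups of odd order of a group of order `p²` and exponent `p`
are abelian. -/
theorem commute_of_fpf {A : Type u} [Group A] [Finite A] {p : ℕ} [hp : Fact p.Prime] (hp2 : p ≠ 2)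
    (hA : Nat.card A = p ^ 2) (hexp : ∀ x : A, x ^ p = 1) (S : Subgroup (MulAut A))
    (hS : Odd (Nat.card S)) (hfpf : ∀ s ∈ S, ∀ x : A, s x = x → x ≠ 1 → s = 1) :
    ∀ s ∈ S, ∀ t ∈ S, s * t = t * s := by
  haveI : IsMulCommutative A := IsPGroup.isMulCommutative_of_card_eq_prime_sq hA
  letI : CommGroup A := { (inferInstance : Group A) with mul_comm := IsMulCommutative.is_comm.comm }
  haveI : Group.IsSolvable S := CfsgLib.FT.odd_order_solvable hS
  haveI : Finite (MulAut A) := Finite.of_injective (fun f => (f : A → A)) DFunLike.coe_injective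
  obtain ⟨ρ, hρ⟩ := CfsgLib.OddLocal.exists_matrix_rep' (Γ := S) hA.le hexp
    (fun s => (s : MulAut A).toMonoidHom) (fun x => rfl) (fun s t x => rfl)
  have hinj : Function.Injective ρ := by
    intro s t h
    have h1 : ρ (t⁻¹ * s) = 1 := by rw [map_mul, h, ← map_mul, inv_mul_cancel, map_one]
    exact (inv_mul_eq_one.1 (Subtype.ext (MulEquiv.ext fun x => hρ _ h1 x) : t⁻¹ * s = 1)).symm
  have hpS : ¬ p ∣ Nat.card S := by
    intro hd
    obtain ⟨s, hs⟩ := exists_prime_orderOf_dvd_card' p hd
    have hP : IsPGroup p (zpowers s) := IsPGroup.of_card (n := 1) (by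
      rw [Nat.card_zpowers, hs, pow_one])
    letI : MulAction (zpowers s) A := MulAction.compHom A
      (S.subtype.comp (zpowers s).subtype)
    have h1 : (1 : A) ∈ MulAction.fixedPoints (zpowers s) A := fun g =>
      map_one ((g : S) : MulAut A)
    obtain ⟨x, hx, hx1⟩ := hP.exists_fixed_point_of_prime_dvd_card_of_fixed_point A
      (hA ▸ dvd_pow_self p two_ne_zero) h1
    have hs1 : s = 1 := Subtype.ext (hfpf s s.2 x (hx ⟨s, mem_zpowers s⟩) hx1.symm)
    rw [hs1, orderOf_one] at hs
    exact hp.out.ne_one hs.symm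
  intro s hs t ht
  exact congrArg Subtype.val
    (CfsgLib.OddLocal.commute_of_odd_gl_two ρ (p := p) hS hinj hp2 hpS (⟨s, hs⟩ : S) ⟨t, ht⟩)

end CfsgLib.GW.Component
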