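import Mathlib

/-!
An automorphism of odd order of an elementary group of order `p²`, inverted by an involution with
both eigenvalues, has order dividing `p m` with `m ≤ p + 1`.
-/

set_option autoImplicit false
set_option linter.unusedSectionVars false
set_option linter.style.haveILetI false

namespace CfsgLib.GW.Component

universe u

/-- In an algebra of characteristic `p`, a unit whose trace is a scalar has `p`-th power equal to
itself, to its inverse, or to a sign. -/
theorem pow_p_of_scalar_trace {p : ℕ} [Fact p.Prime] (hp2 : p ≠ 2) {R : Type*} [Ring R]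
    [Algebra (ZMod p) R] [Nontrivial R] {m n : R} (hmn : m * n = 1) {s : ZMod p}
    (hs : m + n = s • 1) : m ^ p = m ∨ m ^ p = n ∨ m ^ p * m ^ p = 1 := by
  haveI : CharP R p := charP_of_injective_algebraMap (algebraMap (ZMod p) R).injective p
  have h2 : (2 : ZMod p) ≠ 0 := Ring.two_ne_zero (by rwa [ZMod.ringChar_zmod_n])
  obtain ⟨c, rfl⟩ : ∃ c, s = 2 * c := ⟨s / 2, by rw [mul_div_cancel₀ _ h2]⟩
  have hmm : m * m = (2 * c) • m - 1 := by
    have h := congrArg (m * ·) hs
    simp only [mul_add, hmn, mul_smul_comm, mul_one] at h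
    exact eq_sub_of_add_eq h
  obtain ⟨N, hN⟩ : ∃ N, N = m - c • (1 : R) := ⟨_, rfl⟩
  have hNN : N * N = (c * c - 1) • (1 : R) := by
    rw [hN]
    simp only [sub_mul, mul_sub, smul_mul_assoc, mul_smul_comm, one_mul, mul_one]
    rw [hmm]
    module
  obtain ⟨k, hk⟩ := (Fact.out : p.Prime).odd_of_ne_two hp2
  have hpow : m ^ p = (c * c - 1) ^ k • N + c • (1 : R) := by
    have h1 : m = N + c • (1 : R) := by rw [hN, sub_add_cancel]
    have h3 : N ^ p = (c * c - 1) ^ k • N := by
      rw [show N ^ p = N ^ (2 * k + 1) by rw [← hk], pow_succ, pow_mul, pow_two, hNN, smul_pow,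
        one_pow, smul_mul_assoc, one_mul]
    conv_lhs => rw [h1]
    rw [add_pow_char_of_commute p ((Commute.one_right N).smul_right c), h3, smul_pow, one_pow,
      ZMod.pow_card]
  by_cases hD : c * c - 1 = 0
  · right; right
    have hk0 : k ≠ 0 := fun e => (Fact.out : p.Prime).ne_one (by omega)
    rw [hpow, hD, zero_pow hk0, zero_smul, zero_add, smul_mul_smul_comm, one_mul,
      sub_eq_zero.1 hD, one_smul]
  · have hk2 : p / 2 = k := by omega
    rcases ZMod.pow_div_two_eq_neg_one_or_one p hD with e | e <;> rw [hk2] at e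
    · exact Or.inl (by rw [hpow, e, one_smul, hN, sub_add_cancel])
    · refine Or.inr (Or.inl ?_)
      rw [hpow, e, eq_sub_of_add_eq' hs, hN]
      module

/-- An automorphism of odd order inverted by an involution with both eigenvalues. -/
theorem inverted_order_bound {A : Type u} [Group A] [Finite A] {p : ℕ} [Fact p.Prime] (hp2 : p ≠ 2)
    (hA : Nat.card A = p ^ 2) (hexp : ∀ x : A, x ^ p = 1) (M J : MulAut A) (hM : Odd (orderOf M))
    (hJ2 : J * J = 1) (hJ : J * M * J⁻¹ = M⁻¹) (v w : A) (hv : v ≠ 1) (hJv : J v = v) (hw : w ≠ 1)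
    (hJw : J w = w⁻¹) : ∃ m, 0 < m ∧ m ≤ p + 1 ∧ M ^ (p * m) = 1 := by
  have hp := (Fact.out : p.Prime)
  obtain ⟨l, hl⟩ := hM
  have hsq : ∀ n : ℕ, M ^ n * M ^ n = 1 → M ^ n = 1 := fun n hn => by
    have h1 : orderOf M ∣ n * 2 := orderOf_dvd_of_pow_eq_one (by rw [pow_mul, pow_two, hn])
    exact orderOf_dvd_iff_pow_eq_one.1
      (((Nat.coprime_two_right.2 ⟨l, hl⟩).dvd_of_dvd_mul_right) h1)
  letI : CommGroup A :=
    { ‹Group A› with mul_comm := (IsPGroup.isMulCommutative_of_card_eq_prime_sq hA).is_comm.comm }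
  letI : Module (ZMod p) (Additive A) :=
    AddCommGroup.zmodModule (n := p) fun x => congrArg Additive.ofMul (hexp x.toMul)
  -- coordinates on the eigenvectors
  have hord : ∀ x : A, x ≠ 1 → orderOf x = p := fun x hx => orderOf_eq_prime (hexp x) hx
  have hdvd : ∀ (x : A), x ≠ 1 → ∀ i j : ℤ, x ^ i = x ^ j → (i : ZMod p) = (j : ZMod p) :=
    fun x hx i j e => by
      rw [ZMod.intCast_eq_intCast_iff, ← hord x hx, ← zpow_eq_zpow_iff_modEq]; exact e
  have hinv1 : ∀ x : A, x = x⁻¹ → x = 1 := fun x e => by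
    by_contra hx
    have h : orderOf x ∣ 2 := orderOf_dvd_of_pow_eq_one (by
      rw [pow_two]; exact mul_eq_one_iff_eq_inv.2 e)
    rw [hord x hx] at h
    exact hp2 ((Nat.prime_dvd_prime_iff_eq hp Nat.prime_two).1 h)
  have hvw : v ∉ Subgroup.zpowers w := by
    intro h
    obtain ⟨i, hi⟩ := Subgroup.mem_zpowers_iff.1 h
    exact hv (hinv1 v (by rw [← hi, ← inv_zpow, ← hJw, ← map_zpow, hi, hJv]))
  have hgen : ∀ x : A, ∃ i j : ℤ, v ^ i * w ^ j = x := by
    intro x
    have htop : Subgroup.zpowers v ⊔ Subgroup.zpowers w = ⊤ := by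
      refine Subgroup.eq_top_of_card_eq _ ?_
      have hd := Subgroup.card_subgroup_dvd_card (Subgroup.zpowers v ⊔ Subgroup.zpowers w)
      rw [hA] at hd ⊢
      obtain ⟨i, hi, he⟩ := (Nat.dvd_prime_pow hp).1 hd
      have hlt : p < Nat.card ↥(Subgroup.zpowers v ⊔ Subgroup.zpowers w) := by
        by_contra hle
        exact hvw ((Subgroup.eq_of_le_of_card_ge (le_sup_right : Subgroup.zpowers w ≤ _)
          ((Nat.le_of_not_lt hle).trans_eq ((Nat.card_zpowers w).trans (hord w hw)).symm)).symm ▸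
          Subgroup.mem_sup_left (Subgroup.mem_zpowers v))
      rw [he] at hlt ⊢
      interval_cases i
      · exact absurd hlt (by have := hp.one_lt; rw [pow_zero]; omega)
      · exact absurd hlt (by rw [pow_one]; omega)
      · rfl
    obtain ⟨y, ⟨i, rfl⟩, t, ⟨j, rfl⟩, e⟩ := Subgroup.mem_sup.1 (htop ▸ Subgroup.mem_top x :
      x ∈ Subgroup.zpowers v ⊔ Subgroup.zpowers w)
    exact ⟨i, j, e⟩
  have hJJ : ∀ x, J (J x) = x := fun x => DFunLike.congr_fun hJ2 x
  have hJi : J⁻¹ = J := inv_eq_of_mul_eq_one_right hJ2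
  have hJM : ∀ x, J (M x) = M⁻¹ (J x) := fun x => by
    have h := DFunLike.congr_fun hJ (J x)
    rw [hJi] at h
    simpa [MulAut.mul_apply, hJJ] using h
  have hJMi : ∀ x, J (M⁻¹ x) = M (J x) := fun x => by
    have h := congrArg J (hJM (J x))
    rw [hJJ, hJJ] at h
    exact h.symm
  -- `x ↦ M x * M⁻¹ x` is scalar
  let T : A →* A := MonoidHom.mk' (fun x => M x * M⁻¹ x) fun x y => by
    rw [map_mul, map_mul, mul_mul_mul_comm]
  have hTJ : ∀ x, J (T x) = T (J x) := fun x => by
    show J (M x * M⁻¹ x) = M (J x) * M⁻¹ (J x)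
    rw [map_mul, hJM, hJMi, mul_comm]
  have hTM : ∀ x, T (M x) = M (T x) := fun x => by
    show M (M x) * M⁻¹ (M x) = M (M x * M⁻¹ x)
    rw [map_mul]; simp
  have hJvw : ∀ i j : ℤ, J (v ^ i * w ^ j) = v ^ i * (w ^ j)⁻¹ := fun i j => by
    rw [map_mul, map_zpow, map_zpow, hJv, hJw, inv_zpow]
  have hfix : ∀ x, J x = x → ∃ i : ℤ, v ^ i = x := fun x hx => by
    obtain ⟨i, j, rfl⟩ := hgen x
    rw [hJvw] at hx
    exact ⟨i, by rw [hinv1 (w ^ j) (mul_left_cancel hx).symm, mul_one]⟩
  have hneg : ∀ x, J x = x⁻¹ → ∃ j : ℤ, w ^ j = x := fun x hx => by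
    obtain ⟨i, j, rfl⟩ := hgen x
    rw [hJvw, mul_inv] at hx
    exact ⟨j, by rw [hinv1 (v ^ i) (mul_right_cancel hx), one_mul]⟩
  obtain ⟨s, hs⟩ := hfix (T v) (by rw [hTJ, hJv])
  obtain ⟨r, hr⟩ := hneg (T w) (by rw [hTJ, hJw, map_inv])
  by_cases hsr : (s : ZMod p) = (r : ZMod p)
  · -- the scalar case
    have hwr : ∀ j : ℤ, (w ^ j) ^ r = (w ^ j) ^ s := fun j => by
      rw [← zpow_mul, ← zpow_mul, zpow_eq_zpow_iff_modEq, hord w hw, ← ZMod.intCast_eq_intCast_iff]
      push_cast
      rw [hsr]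
    have hT : ∀ x, T x = x ^ s := fun x => by
      obtain ⟨i, j, rfl⟩ := hgen x
      rw [map_mul, map_zpow, map_zpow, ← hs, ← hr, mul_zpow, ← hwr j, ← zpow_mul, ← zpow_mul,
        ← zpow_mul, ← zpow_mul, mul_comm s i, mul_comm r j]
    let f : MulAut A →* Module.End (ZMod p) (Additive A) :=
      { toFun := fun e => (MonoidHom.toAdditive e.toMonoidHom).toZModLinearMap p
        map_one' := rfl
        map_mul' := fun _ _ => rfl }
    have hf : Function.Injective f := fun e e' he =>
      MulEquiv.ext fun x => congrArg Additive.toMul (DFunLike.congr_fun he (Additive.ofMul x))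
    haveI : Nontrivial A := ⟨v, 1, hv⟩
    have hsum : f M + f M⁻¹ = (s : ZMod p) • (1 : Module.End (ZMod p) (Additive A)) := by
      refine LinearMap.ext fun x => ?_
      rw [LinearMap.smul_apply, LinearMap.add_apply, Int.cast_smul_eq_zsmul]
      exact congrArg Additive.ofMul (hT x.toMul)
    haveI : Nontrivial (Additive A) := ⟨Additive.ofMul v, 0, fun e => hv (congrArg Additive.toMul e)⟩
    have hmn : f M * f M⁻¹ = 1 := by rw [← map_mul, mul_inv_cancel, map_one]
    rcases pow_p_of_scalar_trace hp2 hmn hsum with e | e | e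
    · refine ⟨p - 1, by have := hp.two_le; omega, by omega, ?_⟩
      rw [← map_pow] at e
      have e' := hf e
      have h1 : M ^ (p - 1) = 1 := by
        refine mul_right_cancel (b := M) ?_
        rw [← pow_succ, Nat.sub_add_cancel hp.one_le, one_mul, e']
      rw [mul_comm, pow_mul, h1, one_pow]
    · refine ⟨p + 1, by omega, le_rfl, ?_⟩
      rw [← map_pow] at e
      rw [mul_comm, pow_mul, pow_succ, hf e, inv_mul_cancel, one_pow]
    · refine ⟨1, one_pos, by omega, ?_⟩
      rw [← map_pow, ← map_mul, ← map_one f] at e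
      rw [mul_one, hsq p (hf e)]
  · -- then `M` is diagonal, hence trivial
    refine ⟨1, one_pos, by omega, ?_⟩
    have hdiag : ∀ x ∈ [v, w], J (M x) = M (J x) := by
      intro x hx
      simp only [List.mem_cons, List.not_mem_nil, or_false] at hx
      obtain ⟨i, j, he⟩ := hgen (M x)
      have h := hTM x
      rw [← he, map_mul, map_zpow, map_zpow, ← hs, ← hr] at h
      rcases hx with rfl | rfl
      · rw [← hs, map_zpow, ← he, mul_zpow, ← zpow_mul, ← zpow_mul, ← zpow_mul, ← zpow_mul,
          mul_comm s i] at h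
        have hj : ((j : ZMod p)) = 0 := by
          have h1 := hdvd w hw _ _ (mul_left_cancel h)
          push_cast at h1
          by_contra hj
          rw [mul_comm (r : ZMod p)] at h1
          exact hsr (mul_left_cancel₀ hj h1).symm
        have hwj : w ^ j = 1 := by
          rw [← orderOf_dvd_iff_zpow_eq_one, hord w hw, ← ZMod.intCast_zmod_eq_zero_iff_dvd, hj]
        rw [hJv, ← he, hJvw, hwj, inv_one]
      · rw [← hr, map_zpow, ← he, mul_zpow, ← zpow_mul, ← zpow_mul, ← zpow_mul, ← zpow_mul,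
          mul_comm r j] at h
        have hi : ((i : ZMod p)) = 0 := by
          have h1 := hdvd v hv _ _ (mul_right_cancel h)
          push_cast at h1
          by_contra hi
          rw [mul_comm (s : ZMod p)] at h1
          exact hsr (mul_left_cancel₀ hi h1)
        have hvi : v ^ i = 1 := by
          rw [← orderOf_dvd_iff_zpow_eq_one, hord v hv, ← ZMod.intCast_zmod_eq_zero_iff_dvd, hi]
        rw [hJw, map_inv, ← he, hJvw, hvi, one_mul, one_mul]
    have hMi : ∀ x, M x = M⁻¹ x := fun x => by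
      obtain ⟨i, j, rfl⟩ := hgen x
      have h1 : M v = M⁻¹ v := by
        have h := congrArg J (hdiag v (by simp))
        rwa [hJJ, hJM, hJJ] at h
      have h2 : M w = M⁻¹ w := by
        have h := congrArg J (hdiag w (by simp))
        rwa [hJJ, hJM, hJJ] at h
      rw [map_mul, map_mul, map_zpow, map_zpow, map_zpow, map_zpow, h1, h2]
    have h2 : M * M = 1 := by
      rw [mul_eq_one_iff_eq_inv]
      exact MulEquiv.ext hMi
    rw [mul_one]
    have h1 := hsq 1 (by rw [pow_one, h2])
    rw [pow_one] at h1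
    rw [h1, one_pow]

end CfsgLib.GW.Component
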