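import Cfsg.Agent.Lib.GW.Component.FocalKill
import Cfsg.Agent.Lib.GW.Component.EndCount

/-!
The Klein case of the component leg with `O(C(a)) = E C₀`: modulo `C₀` and the part inverted by `b`
the core is a central quotient of order divisible by `p`, against simplicity.
-/

set_option autoImplicit false
set_option linter.unusedSectionVars false
set_option linter.style.haveILetI false

open scoped commutatorElement

namespace CfsgLib.GW.Component

open Subgroup CfsgLib.Invol

universe u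

variable {G : Type u} [Group G] [Finite G] {a b g z : G} {E C0 : Subgroup G} {p c : ℕ}

/-- `O/C₀` is abelian when `O = E C₀`. -/
theorem ShapeData.commutator_mem_C0 (d : ShapeData a b z (coreC a) E C0 p c) (hc : c = 1) {x y : G}
    (hx : x ∈ coreC a) (hy : y ∈ coreC a) : ⁅x, y⁆ ∈ C0 := by
  have hF : ∀ w ∈ coreC a, w ∈ E ⊔ C0 := fun w hw =>
    relIndex_eq_one.1 (d.hc.trans hc) hw
  obtain ⟨e, he, t, ht, rfl⟩ := d.mem_F (hF x hx)
  obtain ⟨e', he', t', ht', rfl⟩ := d.mem_F (hF y hy)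
  have hnc : ∃ u v : E, u * v ≠ v * u := by
    by_contra hall
    push Not at hall
    exact d.hEab fun u hu v hv => congrArg Subtype.val (hall ⟨u, hu⟩ ⟨v, hv⟩)
  have hm := heis_commutator_mem d.hp d.hE hnc ⟨e, he⟩ ⟨e', he'⟩
  have hee : ⁅e, e'⁆ ∈ C0 := by
    rw [d.hC0]
    refine ⟨?_, mem_centralizer_iff.2 fun f hf => congrArg Subtype.val (mem_center_iff.1 hm ⟨f, hf⟩)⟩
    show ⁅e, e'⁆ ∈ coreC a
    rw [commutatorElement_def]
    exact mul_mem (mul_mem (mul_mem (d.hEO he) (d.hEO he')) (inv_mem (d.hEO he))) (inv_mem (d.hEO he'))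
  have h1 : ∀ {w : G}, w ∈ coreC a → Commute t w ∧ Commute t' w := fun hw =>
    ⟨(d.C0_central ht hw).symm, (d.C0_central ht' hw).symm⟩
  have hte : Commute t e := (h1 (d.hEO he)).1
  have hte' : Commute t e' := (h1 (d.hEO he')).1
  have ht'e : Commute t' e := (h1 (d.hEO he)).2
  have ht'e' : Commute t' e' := (h1 (d.hEO he')).2
  have htt' : Commute t t' := (h1 (d.C0_le ht')).1
  have h3 : e * t * (e' * t') = e * e' * (t * t') := hte'.mul_mul_mul_comm _ _
  have h4 : e' * t' * (e * t) = e' * e * (t * t') := by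
    rw [ht'e.mul_mul_mul_comm e' t, htt'.eq]
  have h2 : ⁅e * t, e' * t'⁆ = ⁅e, e'⁆ := by
    calc ⁅e * t, e' * t'⁆ = e * t * (e' * t') * (e' * t' * (e * t))⁻¹ := by
          rw [commutatorElement_def]; group
      _ = ⁅e, e'⁆ := by rw [h3, h4, commutatorElement_def]; group
  rwa [h2]

/-- The Klein case with `c = 1` contradicts simplicity. -/
theorem ShapeData.false_of_focal (C : Ctx G) (h : Mixed a b g p)
    (d : ShapeData a b z (coreC a) E C0 p c) (hc : c = 1) (_hEn : cI a ≤ normalizer (E : Set G))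
    (hT4 : ∀ T : Sylow 2 G, Nat.card (T : Subgroup G) = 4) : False := by
  classical
  haveI := Fact.mk d.hp
  haveI : Fact (Nat.Prime 2) := ⟨Nat.prime_two⟩
  have hbb := invol_mul_self d.hb
  have hbinv := invol_inv d.hb
  set O := coreC a with hO
  have hcomm : ∀ x ∈ O, ∀ y ∈ O, ⁅x, y⁆ ∈ C0 := fun x hx y hy => d.commutator_mem_C0 hc hx hy
  have hbO : ∀ x ∈ O, b * x * b⁻¹ ∈ O := fun x hx => (mem_normalizer_iff.1 d.hbO x).1 hx
  -- the elements inverted by `b` modulo `C₀`
  let K : Subgroup G :=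
    { carrier := {x | x ∈ O ∧ x * (b * x * b⁻¹) ∈ C0}
      one_mem' := ⟨one_mem _, by simp⟩
      mul_mem' := fun {x y} hx hy => by
        refine ⟨mul_mem hx.1 hy.1, ?_⟩
        have e : x * y * (b * (x * y) * b⁻¹) = x * (b * x * b⁻¹) * ⁅(b * x * b⁻¹)⁻¹, y⁆ *
            (y * (b * y * b⁻¹)) := by
          rw [commutatorElement_def]; group
        rw [e]
        exact mul_mem (mul_mem hx.2 (hcomm _ (inv_mem (hbO x hx.1)) y hy.1)) hy.2
      inv_mem' := fun {x} hx => by
        refine ⟨inv_mem hx.1, ?_⟩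
        have e1 : x⁻¹ * (x * (b * x * b⁻¹)) * x = x * (b * x * b⁻¹) := by
          rw [mul_assoc x⁻¹, ← d.C0_central hx.2 hx.1, inv_mul_cancel_left]
        have e2 : x⁻¹ * (b * x⁻¹ * b⁻¹) = (x⁻¹ * (x * (b * x * b⁻¹)) * x)⁻¹ := by group
        rw [e2, e1]
        exact inv_mem hx.2 }
  have hKO : K ≤ O := fun x hx => hx.1
  have hC0K : C0 ≤ K := fun x hx => ⟨d.C0_le hx, by
    rw [d.hbC0 x hx, mul_inv_cancel]; exact one_mem _⟩
  have hzK : zP a p ≤ K := fun x hx => ⟨zP_le_coreC a p hx, by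
    rw [h.b_inverts C hx, mul_inv_cancel]; exact one_mem _⟩
  have hOK : ∀ x ∈ O, ∀ y ∈ O, ⁅x, y⁆ ∈ K := fun x hx y hy => hC0K (hcomm x hx y hy)
  have hbK : ∀ x ∈ O, ⁅x, b⁆ ∈ K := fun x hx => by
    have he : ⁅x, b⁆ = x * (b * x⁻¹ * b⁻¹) := by rw [commutatorElement_def]; group
    refine ⟨he ▸ mul_mem hx (hbO _ (inv_mem hx)), ?_⟩
    have e : b * ⁅x, b⁆ * b⁻¹ = ⁅x, b⁆⁻¹ := by
      calc b * ⁅x, b⁆ * b⁻¹ = b * x * b * x⁻¹ * (b * b)⁻¹ := by
            rw [commutatorElement_def]; group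
        _ = b * x * b⁻¹ * x⁻¹ := by rw [hbb, hbinv, inv_one, mul_one]
        _ = ⁅x, b⁆⁻¹ := by rw [commutatorElement_def]; group
    rw [e, mul_inv_cancel]
    exact one_mem _
  -- `C(a)` acts trivially on `O/K`
  have hcent : ∀ y ∈ cI a, ∀ x ∈ O, ⁅x, y⁆ ∈ K := by
    let S : Submonoid G :=
      { carrier := {y | y ∈ cI a ∧ ∀ x ∈ O, ⁅x, y⁆ ∈ K}
        one_mem' := ⟨one_mem _, fun x _ => by rw [commutatorElement_one_right]; exact one_mem _⟩
        mul_mem' := fun {u v} hu hv => ⟨mul_mem hu.1 hv.1, fun x hx => by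
          have hkn : u * ⁅x, v⁆ * u⁻¹ ∈ K := by
            have hk := hv.2 x hx
            have e : u * ⁅x, v⁆ * u⁻¹ = ⁅⁅x, v⁆, u⁆⁻¹ * ⁅x, v⁆ := by
              rw [commutatorElement_inv, commutatorElement_def u]; group
            rw [e]
            exact mul_mem (inv_mem (hu.2 _ hk.1)) hk
          rw [show ⁅x, u * v⁆ = ⁅x, u⁆ * (u * ⁅x, v⁆ * u⁻¹) by
            simp only [commutatorElement_def]; group]
          exact mul_mem (hu.2 x hx) hkn⟩ }
    have hinvS : ∀ y ∈ S, y⁻¹ ∈ S := fun y hy => by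
      have e : y ^ (orderOf y - 1) = y⁻¹ := by
        refine eq_inv_of_mul_eq_one_left ?_
        rw [← pow_succ, Nat.sub_add_cancel (orderOf_pos y), pow_orderOf_eq_one]
      exact e ▸ pow_mem hy _
    let S' : Subgroup G := { S with inv_mem' := fun {y} hy => hinvS y hy }
    have haS : a ∈ S' := ⟨mem_cI.2 rfl, fun x hx => by
      rw [commutatorElement_eq_one_iff_mul_comm.2 (mem_cI.1 (coreC_le_cI a hx))]; exact one_mem _⟩
    have hbS : b ∈ S' := ⟨d.hbc, hbK⟩
    have hOS : O ≤ S' := fun y hy => ⟨coreC_le_cI a hy, fun x hx => hOK x hx y hy⟩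
    -- `C(a)` is `O` times the four-group
    obtain ⟨n, -, hcard, hTn, -⟩ := Min.exists_card_cI C.min d.ha
    have hQc : ∀ w ∈ zpowers a ⊔ zpowers b, ∀ v ∈ zpowers a ⊔ zpowers b, w * v = v * w := by
      have hab : Commute a b := (mem_cI.1 d.hbc).symm
      have hle : zpowers a ⊔ zpowers b ≤ centralizer ((zpowers a ⊔ zpowers b : Subgroup G) : Set G) := by
        rw [← closure_eq (zpowers a), ← closure_eq (zpowers b), ← Subgroup.closure_union,
          le_centralizer_iff_isMulCommutative]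
        refine isMulCommutative_closure ?_
        rintro u (hu | hu) v (hv | hv) <;>
          obtain ⟨i, rfl⟩ := mem_zpowers_iff.1 hu <;> obtain ⟨l, rfl⟩ := mem_zpowers_iff.1 hv
        · exact zpow_mul_comm a i l
        · exact (hab.zpow_zpow i l).eq
        · exact (hab.symm.zpow_zpow i l).eq
        · exact zpow_mul_comm b i l
      exact fun w hw v hv => (mem_centralizer_iff.1 (hle hw) v hv).symm
    have hQ4 : 4 ∣ Nat.card ↥(zpowers a ⊔ zpowers b) := by
      obtain ⟨T, haT, hTc⟩ := C.min.exists_sylow d.ha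
      obtain ⟨⟨y, hy⟩, hyb⟩ := exists_conj_invol_mem_sylow (T.subtype hTc)
        (x := (⟨b, d.hbc⟩ : cI a)) (by rw [orderOf_mk, d.hb])
      have hyb' : y * b * y⁻¹ ∈ (T : Subgroup G) := mem_subgroupOf.1 hyb
      set Q := zpowers a ⊔ zpowers b
      have hlt : 2 < Nat.card Q := by
        by_contra hle
        have he := eq_of_le_of_card_ge (le_sup_left : zpowers a ≤ Q)
          (by rw [Nat.card_zpowers, d.ha]; exact Nat.le_of_not_lt hle)
        obtain ⟨i, hi⟩ := mem_zpowers_iff.1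
          (he.symm ▸ mem_sup_right (mem_zpowers b) : b ∈ zpowers a)
        rcases Int.even_or_odd i with ⟨l, rfl⟩ | ⟨l, rfl⟩
        · rw [zpow_add, ← (Commute.refl a).mul_zpow, invol_mul_self d.ha, one_zpow] at hi
          exact invol_ne_one d.hb hi.symm
        · rw [zpow_add_one, two_mul, zpow_add, ← (Commute.refl a).mul_zpow, invol_mul_self d.ha,
            one_zpow, one_mul] at hi
          exact d.hba hi.symm
      have hdvd : Nat.card Q ∣ 4 := by
        rw [← Nat.card_congr (equivMapOfInjective Q (MulAut.conj y).toMonoidHom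
          (MulAut.conj y).injective).symm.toEquiv, ← hT4 T]
        refine card_dvd_of_le ?_
        rw [Subgroup.map_sup]
        refine sup_le ?_ ?_ <;> rw [MonoidHom.map_zpowers, zpowers_le] <;>
          simp only [MulEquiv.coe_toMonoidHom, MulAut.conj_apply]
        · rwa [conj_eq_self hy]
        · exact hyb'
      rcases (Nat.dvd_prime_pow Nat.prime_two).1 (show Nat.card Q ∣ 2 ^ 2 from hdvd) with ⟨i, hi, e⟩
      interval_cases i
      · rw [e] at hlt; exact absurd hlt (by norm_num)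
      · rw [e] at hlt; exact absurd hlt (by norm_num)
      · rw [e]; norm_num
    have hV : cI a ≤ O ⊔ (zpowers a ⊔ zpowers b) := by
      have hle : O ⊔ (zpowers a ⊔ zpowers b) ≤ cI a :=
        sup_le (coreC_le_cI a) (sup_le (zpowers_le.2 (mem_cI.2 rfl)) (zpowers_le.2 d.hbc))
      refine (eq_of_le_of_card_ge hle ?_).ge
      obtain ⟨T⟩ := (inferInstance : Nonempty (Sylow 2 G))
      rw [hcard, ← hTn T, hT4 T]
      exact Nat.le_of_dvd Nat.card_pos ((Nat.Coprime.mul_dvd_of_dvd_of_dvd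
        (by rw [show (4 : ℕ) = 2 ^ 2 by norm_num]
            exact Nat.Coprime.pow_left _ (Nat.coprime_two_left.2 (odd_coreC a)))
        (hQ4.trans (card_dvd_of_le le_sup_right)) (card_dvd_of_le le_sup_left)))
    intro y hy
    exact ((sup_le hOS (sup_le (zpowers_le.2 haS) (zpowers_le.2 hbS))) (hV hy)).2
  -- the index is a nontrivial power of `p`
  haveI hKn : (K.subgroupOf O).Normal := ⟨fun x hx y => by
    rw [mem_subgroupOf] at hx ⊢
    have e : (y : G) * (x : G) * (y : G)⁻¹ = ⁅(y : G), (x : G)⁆ * x := by rw [commutatorElement_def]; group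
    rw [Subgroup.coe_mul, Subgroup.coe_mul, Subgroup.coe_inv, e]
    exact mul_mem (hOK y y.2 x hx.1) hx⟩
  have hlt : K < O := by
    refine lt_of_le_of_ne hKO fun e => ?_
    obtain ⟨w, hw, hw1⟩ := (bot_or_exists_ne_one (O ⊓ centralizer ({b} : Set G))).resolve_left
      fun e' => d.hp.ne_one (by rw [← d.hfix b d.hb d.hbc d.hba, e', card_bot])
    have hbw : b * w * b⁻¹ = w := by
      rw [← mem_centralizer_singleton_iff.1 hw.2, mul_inv_cancel_right]
    have hww : w * w ∈ C0 := by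
      have := (e.ge hw.1).2
      rwa [hbw] at this
    obtain ⟨m, hm⟩ := odd_orderOf_mem_coreC (hw.1 : w ∈ coreC a)
    have hwC : w ∈ C0 := by
      have e' : (w * w) ^ (m + 1) = w := by
        rw [← pow_two, ← pow_mul, show 2 * (m + 1) = orderOf w + 1 by omega, pow_succ,
          pow_orderOf_eq_one, one_mul]
      exact e' ▸ pow_mem hww _
    have h2 : w * w = 1 := by
      nth_rw 1 [← hbw]
      rw [d.hbC0 w hwC, inv_mul_cancel]
    have h3 := Nat.le_of_dvd two_pos (orderOf_dvd_of_pow_eq_one ((pow_two w).trans h2))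
    have h4 : orderOf w ≠ 1 := fun e' => hw1 (orderOf_eq_one_iff.1 e')
    omega
  refine h.no_centQuot_p C hlt hzK (commutator_le.2 fun x hx y hy => hcent y hy x hx) ?_
  have hpg : IsPGroup p (↥O ⧸ K.subgroupOf O) := by
    intro q
    obtain ⟨⟨x, hx⟩, rfl⟩ := QuotientGroup.mk'_surjective _ q
    refine ⟨3, ?_⟩
    rw [← map_pow, QuotientGroup.mk'_apply, QuotientGroup.eq_one_iff, mem_subgroupOf, SubgroupClass.coe_pow]
    obtain ⟨e, he, t, ht, rfl⟩ := d.mem_F (relIndex_eq_one.1 (d.hc.trans hc) hx)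
    rw [(show Commute e t from d.C0_comm ht he).mul_pow, d.pow_E he, one_mul]
    exact hC0K (pow_mem ht _)
  obtain ⟨n, hn⟩ := IsPGroup.iff_card.1 hpg
  rw [relIndex, index_eq_card, hn]
  refine dvd_pow_self p fun e => hlt.not_ge ?_
  rw [e, pow_zero] at hn
  exact subgroupOf_eq_top.1 (index_eq_one.1 (by rw [index_eq_card, hn]))

end CfsgLib.GW.Component
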