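import Cfsg.Agent.Lib.GW.Component.NoCentCore
import Cfsg.Agent.Lib.GW.Component.InvertedOrder

/-!
The component leg: an element of `O(C(a))` inverted by an involution of `C(a)` has order dividing
`|C_O(eP)| p² m` with `m ≤ p + 1`, in the split case.
-/

set_option autoImplicit false
set_option linter.unusedSectionVars false
set_option linter.style.haveILetI false

namespace CfsgLib.GW

open Subgroup CfsgLib.Invol

universe u

variable {G : Type u} [Group G] [Finite G]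

theorem comm_mul_central {x y z1 z2 : G} (h1 : ∀ v ∈ ({x, y} : Set G), Commute z1 v)
    (h2 : ∀ v ∈ ({x, y} : Set G), Commute z2 v) (h12 : Commute z1 z2) :
    (x * z1) * (y * z2) * (x * z1)⁻¹ * (y * z2)⁻¹ = x * y * x⁻¹ * y⁻¹ := by
  have a1 := h1 x (by simp)
  have b1 := h1 y (by simp)
  have a2 := h2 x (by simp)
  have b2 := h2 y (by simp)
  calc (x * z1) * (y * z2) * (x * z1)⁻¹ * (y * z2)⁻¹
      = x * (z1 * (y * z2) * z1⁻¹) * x⁻¹ * (y * z2)⁻¹ := by group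
    _ = x * (y * z2) * x⁻¹ * (y * z2)⁻¹ := by rw [(b1.mul_right h12).eq, mul_inv_cancel_right]
    _ = x * y * (z2 * x⁻¹ * z2⁻¹) * y⁻¹ := by group
    _ = x * y * x⁻¹ * y⁻¹ := by rw [a2.inv_right.eq, mul_inv_cancel_right]

theorem comm_inv_inv {x y : G} (h : Commute (x * y * x⁻¹ * y⁻¹) (x * y)) :
    x⁻¹ * y⁻¹ * x⁻¹⁻¹ * y⁻¹⁻¹ = x * y * x⁻¹ * y⁻¹ := by
  calc x⁻¹ * y⁻¹ * x⁻¹⁻¹ * y⁻¹⁻¹ = (y * x)⁻¹ * (x * y) := by group
    _ = (x * y)⁻¹ * ((x * y * x⁻¹ * y⁻¹) * (x * y)) := by group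
    _ = x * y * x⁻¹ * y⁻¹ := by rw [h.eq]; group

variable {a b g x₀ u : G} {p : ℕ} (C : Ctx G) (h : Mixed a b g p)

include C h

/-- Elements inverted by an involution of `C(a)` have small order. -/
theorem Mixed.inverted_order (hx : x₀ ∈ eP a p) (hu : u ∈ eP a p)
    (hζ1 : x₀ * u * x₀⁻¹ * u⁻¹ ≠ 1) (hζ : x₀ * u * x₀⁻¹ * u⁻¹ ∈ zP a p)
    (hgen : ∀ q : EBar a p, ∃ i j : ℤ,
      q = (QuotientGroup.mk ⟨x₀, hx⟩ : EBar a p) ^ i * (QuotientGroup.mk ⟨u, hu⟩ : EBar a p) ^ j)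
    (htriv : ∀ y ∈ coreC a, (∀ z ∈ zP a p, Commute y z) →
      (∀ e ∈ eP a p, y * e * y⁻¹ * e⁻¹ ∈ zP a p) → ∃ e ∈ eP a p, y * e⁻¹ ∈ cZero a p) :
    ∀ x ∈ coreC a, ∀ t, orderOf t = 2 → t ∈ cI a → t ≠ a → t * x * t⁻¹ = x⁻¹ →
      ∃ m, 0 < m ∧ m ≤ p + 1 ∧ orderOf x ∣ Nat.card (cZero a p) * p ^ 2 * m := by
  classical
  intro x hxO t ht htc htne htx
  haveI := Fact.mk h.hp
  have hxU := eP_le_fitP a p hx
  have huU := eP_le_fitP a p hu
  set xb : EBar a p := QuotientGroup.mk ⟨x₀, hx⟩ with hxb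
  set ub : EBar a p := QuotientGroup.mk ⟨u, hu⟩ with hub
  have hexp : ∀ q : EBar a p, q ^ p = 1 := fun q => by
    obtain ⟨⟨e, he⟩, rfl⟩ := QuotientGroup.mk'_surjective (zE a p) q
    rw [← map_pow, show (⟨e, he⟩ : eP a p) ^ p = 1 from Subtype.ext (pow_eq_one_of_eP he), map_one]
  have hsame : ∀ (y : cI a) (z : G) (hzz : z ∈ eP a p) (v : G) (hv : v ∈ eP a p),
      act a p y (QuotientGroup.mk ⟨z, hzz⟩) = (QuotientGroup.mk ⟨v, hv⟩ : EBar a p) →
      ∃ c ∈ zP a p, (y : G) * z * (y : G)⁻¹ = v * c := by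
    intro y z hzz v hv e
    rw [act_mk, eq_comm, mk_eq_mk, conjE_apply] at e
    exact ⟨_, e, by group⟩
  have hcc : ∀ c ∈ zP a p, ∀ v ∈ ({x₀, u, x₀⁻¹, u⁻¹} : Set G), Commute c v := by
    intro c hc v hv
    rcases hv with rfl | rfl | rfl | rfl
    · exact hc.2.1 _ hxU
    · exact hc.2.1 _ huU
    · exact hc.2.1 _ (inv_mem hxU)
    · exact hc.2.1 _ (inv_mem huU)
  -- the involution does not act as a scalar
  have hJne : ∀ s : Bool, ¬ ∀ q : EBar a p, act a p ⟨t, htc⟩ q = if s then q else q⁻¹ := by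
    intro s hs
    have hfix : t * (x₀ * u * x₀⁻¹ * u⁻¹) * t⁻¹ = x₀ * u * x₀⁻¹ * u⁻¹ := by
      cases s with
      | true =>
        obtain ⟨c1, hc1, e1⟩ := hsame ⟨t, htc⟩ x₀ hx x₀ hx (hs _)
        obtain ⟨c2, hc2, e2⟩ := hsame ⟨t, htc⟩ u hu u hu (hs _)
        calc t * (x₀ * u * x₀⁻¹ * u⁻¹) * t⁻¹
            = (t * x₀ * t⁻¹) * (t * u * t⁻¹) * (t * x₀ * t⁻¹)⁻¹ * (t * u * t⁻¹)⁻¹ := by group
          _ = _ := by
            rw [e1, e2]
            exact comm_mul_central (fun v hv => hcc c1 hc1 v (by rcases hv with rfl | rfl <;> simp))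
              (fun v hv => hcc c2 hc2 v (by rcases hv with rfl | rfl <;> simp))
              (hc1.2.1 _ hc2.1)
      | false =>
        obtain ⟨c1, hc1, e1⟩ := hsame ⟨t, htc⟩ x₀ hx x₀⁻¹ (inv_mem hx) (hs _)
        obtain ⟨c2, hc2, e2⟩ := hsame ⟨t, htc⟩ u hu u⁻¹ (inv_mem hu) (hs _)
        calc t * (x₀ * u * x₀⁻¹ * u⁻¹) * t⁻¹
            = (t * x₀ * t⁻¹) * (t * u * t⁻¹) * (t * x₀ * t⁻¹)⁻¹ * (t * u * t⁻¹)⁻¹ := by group
          _ = x₀⁻¹ * u⁻¹ * x₀⁻¹⁻¹ * u⁻¹⁻¹ := by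
            rw [e1, e2]
            exact comm_mul_central (fun v hv => hcc c1 hc1 v (by rcases hv with rfl | rfl <;> simp))
              (fun v hv => hcc c2 hc2 v (by rcases hv with rfl | rfl <;> simp))
              (hc1.2.1 _ hc2.1)
          _ = _ := comm_inv_inv (hζ.2.1 _ (mul_mem hxU huU))
    rw [h.inverts C ht htc htne hζ] at hfix
    exact hζ1 (eq_one_of_inverse_self (zP_le_coreC a p hζ) hfix.symm)
  set J := act a p ⟨t, htc⟩ with hJdef
  have hJ2 : J * J = 1 := by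
    rw [hJdef, ← map_mul, show (⟨t, htc⟩ : cI a) * ⟨t, htc⟩ = 1 from
      Subtype.ext (invol_mul_self ht), map_one]
  have hJJ : ∀ q, J (J q) = q := fun q => by rw [← MulAut.mul_apply, hJ2, MulAut.one_apply]
  obtain ⟨q1, hq1⟩ := not_forall.1 (hJne false)
  obtain ⟨q2, hq2⟩ := not_forall.1 (hJne true)
  simp only [Bool.false_eq_true, if_false, if_true] at hq1 hq2
  -- the quotient has order `p²`
  have hub' : ub ∉ zpowers xb := fun hm => by
    obtain ⟨i, hi⟩ := mem_zpowers_iff.1 hm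
    rw [hxb, hub, ← QuotientGroup.mk_zpow, mk_eq_mk] at hi
    have hi' : (x₀ ^ i)⁻¹ * u ∈ zP a p := hi
    refine hζ1 ?_
    have hc : Commute x₀ u := by
      rw [show u = x₀ ^ i * ((x₀ ^ i)⁻¹ * u) by group]
      exact ((Commute.refl x₀).zpow_right i).mul_right (hi'.2.1 _ hxU).symm
    rw [hc.eq]; group
  have hA : Nat.card (EBar a p) = p ^ 2 := by
    have htop : zpowers xb ⊔ zpowers ub = ⊤ := eq_top_iff.2 fun q _ => by
      obtain ⟨i, j, rfl⟩ := hgen q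
      exact mul_mem (mem_sup_left (zpow_mem (mem_zpowers xb) i))
        (mem_sup_right (zpow_mem (mem_zpowers ub) j))
    have h1 := CfsgLib.Comp.card_sup_dvd_mul (H := zpowers xb) (K := zpowers ub)
      fun v _ => mem_normalizer_iff_of_finite fun y hy => by
        rwa [eBar_comm a p v y, mul_inv_cancel_right]
    rw [htop, card_top] at h1
    have h2 : orderOf xb = p := orderOf_eq_prime (hexp _) fun e => hζ1 (by
      have hm : x₀ ∈ zP a p := mk_eq_one.1 e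
      rw [(hm.2.1 u huU).eq]; group)
    have h3 : orderOf ub = p := orderOf_eq_prime (hexp _) fun e => hub' (e ▸ one_mem _)
    rw [Nat.card_zpowers, Nat.card_zpowers, h2, h3, ← pow_two] at h1
    obtain ⟨k, hk, hk'⟩ := (Nat.dvd_prime_pow h.hp).1 h1
    match k, hk, hk' with
    | 2, _, hk' => exact hk'
    | 0, _, hk' =>
      haveI := (Nat.card_eq_one_iff_unique.1 (hk'.trans (pow_zero p))).1
      exact absurd (Subsingleton.elim ub 1) (fun e => hub' (e ▸ one_mem _))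
    | 1, _, hk' =>
      rw [pow_one] at hk'
      exact absurd ((eq_of_le_of_card_ge (le_top : zpowers xb ≤ ⊤)
        (by rw [card_top, hk', Nat.card_zpowers, h2])).ge (mem_top ub)) hub'
  have hMo : Odd (orderOf (act a p ⟨x, coreC_le_cI a hxO⟩)) :=
    (odd_orderOf_mem_coreC hxO).of_dvd_nat
      ((orderOf_map_dvd (act a p) _).trans (dvd_of_eq (Subgroup.orderOf_mk x (coreC_le_cI a hxO))))
  have hJM : J * act a p ⟨x, coreC_le_cI a hxO⟩ * J⁻¹ = (act a p ⟨x, coreC_le_cI a hxO⟩)⁻¹ := by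
    rw [hJdef, ← map_inv, ← map_mul, ← map_mul, ← map_inv]
    exact congrArg _ (Subtype.ext htx)
  obtain ⟨m, hm0, hm, hMm⟩ := Component.inverted_order_bound h.ne_two hA hexp _ J hMo hJ2 hJM
    (q1 * J q1) (q2⁻¹ * J q2) (fun e => hq1 (mul_eq_one_iff_inv_eq.1 e).symm)
    (by rw [map_mul, hJJ, eBar_comm a p]) (fun e => hq2 (inv_mul_eq_one.1 e).symm)
    (by rw [map_mul, map_inv, hJJ, mul_inv_rev, inv_inv, eBar_comm a p])
  refine ⟨m, hm0, hm, ?_⟩
  rw [← map_pow] at hMm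
  have hcomm := h.commute_of_inverted C ht htc htne hxO htx
  obtain ⟨e, he, hce⟩ := htriv (x ^ (p * m)) (pow_mem hxO _) (fun z hz => (hcomm z hz).pow_left _)
    (act_eq_one_iff.1 hMm)
  refine orderOf_dvd_of_pow_eq_one ?_
  have hcm : Commute (x ^ (p * m) * e⁻¹) e := (mem_centralizer_iff.1 hce.2 e he).symm
  have h5 : (x ^ (p * m)) ^ p ∈ cZero a p := by
    rw [show x ^ (p * m) = x ^ (p * m) * e⁻¹ * e by group, hcm.mul_pow, pow_eq_one_of_eP he, mul_one]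
    exact pow_mem hce p
  have h6 : ((x ^ (p * m)) ^ p) ^ Nat.card (cZero a p) = 1 :=
    orderOf_dvd_iff_pow_eq_one.1 (orderOf_dvd_natCard _ h5)
  rw [← h6, ← pow_mul, ← pow_mul]
  congr 1
  ring

end CfsgLib.GW
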