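import Cfsg.Agent.Lib.GW.Component.Free
import Cfsg.Agent.Lib.Transfer.Frobenius
import Cfsg.Agent.Lib.GW.Component.Degree

/-!
Freeness: the stabilisers in `O` of the conjugates of the involution `a`, other than `a`, have order
dividing `p`.
-/

set_option autoImplicit false
set_option linter.unusedSectionVars false
set_option linter.style.haveILetI false

namespace CfsgLib.GW.Component

open Subgroup CfsgLib.Invol

universe u

variable {G : Type u} [Group G] [Finite G]

/-- What is used for freeness. Here `O` is the core of `C(a)` and `z` is central in `O`. -/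
structure FreeData (a z : G) (O : Subgroup G) (p : ℕ) : Prop where
  hp : p.Prime
  hp2 : p ≠ 2
  ha : orderOf a = 2
  hOa : O ≤ centralizer ({a} : Set G)
  hOodd : Odd (Nat.card O)
  core : ∀ y ∈ centralizer ({a} : Set G), Odd (orderOf y) → y ∈ O
  hz : z ∈ O
  hzp : orderOf z = p
  hzc : ∀ o ∈ O, o * z = z * o
  uniq : ∀ c, orderOf c = 2 → c * z = z * c → c = a
  inverts : ∀ j, orderOf j = 2 → j ∈ centralizer ({a} : Set G) → j ≠ a → j * z * j⁻¹ = z⁻¹
  one_class : ∀ j, orderOf j = 2 → IsConj a j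
  two_cyclic : ∀ S : Subgroup G, IsPGroup 2 S → (∀ x ∈ S, orderOf x = 2 → x = a) → IsCyclic S
  fixed_pgroup : ∀ j, orderOf j = 2 → j ∈ centralizer ({a} : Set G) → j ≠ a →
    IsPGroup p (O ⊓ centralizer ({j} : Set G) : Subgroup G)
  central : ∀ x ∈ O, x ≠ 1 → (orderOf x).Coprime p → (∀ o ∈ O, o * x = x * o) →
    centralizer ({x} : Set G) ≤ centralizer ({a} : Set G)
  small : ∀ x ∈ O, (orderOf x).Prime → (orderOf x).Coprime p → ¬ (∀ o ∈ O, o * x = x * o) →
    ∀ P : Subgroup G, P ≤ O ⊓ centralizer ({x} : Set G) → IsPGroup p P →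
      ∀ y ∈ P, ∀ o ∈ O, o * y = y * o
  reflect : ∀ x ∈ O, (orderOf x).Prime → (orderOf x).Coprime p → ¬ (∀ o ∈ O, o * x = x * o) →
    ∃ j, orderOf j = 2 ∧ j ∈ centralizer ({a} : Set G) ∧ j ≠ a ∧ j * x * j⁻¹ = x⁻¹
  rank_one : ∀ ℓ : ℕ, ℓ.Prime → ℓ ≠ p → ∀ R : Subgroup G, R ≤ O → IsPGroup ℓ R →
    (∀ y ∈ R, (∀ o ∈ O, o * y = y * o) → y = 1) → IsCyclic R ∧ (R ≠ ⊥ → ¬ p ∣ ℓ ^ 2 - 1)
  p_sq : ∀ P : Subgroup G, P ≤ O → Nat.card P = p ^ 2 → z ∈ P

namespace FreeData

variable {a z : G} {O : Subgroup G} {p : ℕ} (d : FreeData a z O p)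
include d

theorem z_mem_cent : z * a = a * z := mem_centralizer_singleton_iff.1 (d.hOa d.hz)

/-- An element commuting with `z` commutes with `a`. -/
theorem mem_cent_of_commute {m : G} (hm : m * z = z * m) : m ∈ centralizer ({a} : Set G) := by
  have e : m * a * m⁻¹ = a := by
    refine d.uniq _ (by rw [orderOf_conj_eq]; exact d.ha) ?_
    have h1 : m⁻¹ * z = z * m⁻¹ := (Commute.inv_left hm).eq
    calc m * a * m⁻¹ * z = m * a * (m⁻¹ * z) := by group
      _ = m * (a * z) * m⁻¹ := by rw [h1]; group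
      _ = (m * z) * a * m⁻¹ := by rw [← d.z_mem_cent]; group
      _ = z * (m * a * m⁻¹) := by rw [hm]; group
  exact mem_centralizer_singleton_iff.2 (mul_inv_eq_iff_eq_mul.1 e)

/-- A `p`-group containing `z` lies in `C(a)`. -/
theorem pgroup_le_cent [Fact p.Prime] {P : Subgroup G} (hP : IsPGroup p P) (hz : z ∈ P) :
    P ≤ centralizer ({a} : Set G) := by
  set V := P ⊓ centralizer ({a} : Set G) with hV
  by_contra hne
  haveI := hP.isNilpotent
  have hVP : V ≤ P := inf_le_left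
  have hlt : V.subgroupOf P < ⊤ := lt_top_iff_ne_top.2 fun e =>
    hne (fun x hx => ((subgroupOf_eq_top.1 e) hx).2)
  obtain ⟨⟨m, hm⟩, hmN, hmV⟩ :=
    SetLike.exists_of_lt (Group.normalizerCondition_of_isNilpotent _ hlt)
  rw [← subgroupOf_normalizer_eq hVP, mem_subgroupOf] at hmN
  refine hmV (mem_subgroupOf.2 ⟨hm, ?_⟩)
  have hzm : m * z * m⁻¹ ∈ centralizer ({a} : Set G) :=
    ((mem_normalizer_iff.1 hmN z).1 ⟨hz, d.hOa d.hz⟩).2
  -- `m a m⁻¹` commutes with `z`
  have hz' : m⁻¹ * z * m ∈ centralizer ({a} : Set G) := by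
    have hn := mem_normalizer_iff.1 hmN (m⁻¹ * z * m)
    have : m * (m⁻¹ * z * m) * m⁻¹ = z := by group
    rw [this] at hn
    exact (hn.2 ⟨hz, d.hOa d.hz⟩).2
  have hc := mem_centralizer_singleton_iff.1 hz'
  have e : m * a * m⁻¹ = a := by
    refine d.uniq _ (by rw [orderOf_conj_eq]; exact d.ha) ?_
    calc m * a * m⁻¹ * z = m * (a * (m⁻¹ * z * m)) * m⁻¹ := by group
      _ = m * ((m⁻¹ * z * m) * a) * m⁻¹ := by rw [hc]
      _ = z * (m * a * m⁻¹) := by group
  exact mem_centralizer_singleton_iff.2 (mul_inv_eq_iff_eq_mul.1 e)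

/-- The centralizer of a non-central element of order prime to `p` of `O`. -/
theorem centralizer_le {x : G} (hx : x ∈ O) (hxr : (orderOf x).Prime) (hxp : (orderOf x).Coprime p)
    (hnc : ¬ ∀ o ∈ O, o * x = x * o) :
    centralizer ({x} : Set G) ≤ centralizer ({a} : Set G) := by
  classical
  haveI := Fact.mk d.hp
  haveI : Fact (Nat.Prime 2) := ⟨Nat.prime_two⟩
  have hx1 : x ≠ 1 := fun h => hnc (fun o _ => by simp [h])
  have hxodd : Odd (orderOf x) := d.hOodd.of_dvd_nat (orderOf_dvd_natCard O hx)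
  obtain ⟨j, hj, hjc, hja, hjx⟩ := d.reflect x hx hxr hxp hnc
  set K := centralizer ({x} : Set G) with hK
  have haK : a ∈ K := mem_centralizer_singleton_iff.2 (mem_centralizer_singleton_iff.1 (d.hOa hx)).symm
  have hzK : z ∈ K := mem_centralizer_singleton_iff.2 (d.hzc x hx).symm
  -- `a` is the only involution of `C(x) ∩ C(a)`
  have hinv : ∀ i ∈ K, orderOf i = 2 → i ∈ centralizer ({a} : Set G) → i = a := by
    intro i hiK hi hia
    by_contra hne
    have h1 := d.fixed_pgroup i hi hia hne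
    have hxi : x ∈ O ⊓ centralizer ({i} : Set G) :=
      ⟨hx, mem_centralizer_singleton_iff.2 (mem_centralizer_singleton_iff.1 hiK).symm⟩
    obtain ⟨k, hk⟩ := h1 ⟨x, hxi⟩
    exact hx1 (orderOf_eq_one_iff.1 (Nat.eq_one_of_dvd_coprimes (hxp.pow_right k) dvd_rfl
      (orderOf_dvd_of_pow_eq_one (congrArg Subtype.val hk :))))
  -- the Sylow `2`-subgroup of `C(x)` containing `a`
  obtain ⟨T, hT⟩ := (show IsPGroup 2 (zpowers (⟨a, haK⟩ : K)) from
    IsPGroup.of_card (n := 1) (by rw [Nat.card_zpowers, orderOf_mk, d.ha, pow_one])).exists_le_sylow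
  set T' : Subgroup G := (T : Subgroup K).map K.subtype with hT'
  have hT'p : IsPGroup 2 T' := T.2.map K.subtype
  have hT'K : T' ≤ K := map_subtype_le _
  have haT : a ∈ T' := ⟨_, hT (mem_zpowers _), rfl⟩
  haveI : Nontrivial T' := ⟨⟨a, haT⟩, 1, fun h => by
    have := congrArg Subtype.val h; exact invol_ne_one d.ha this⟩
  haveI : Nontrivial (center T') := hT'p.center_nontrivial
  obtain ⟨k, hk⟩ := IsPGroup.iff_card.1 (hT'p.to_subgroup (center T'))
  have hk0 : k ≠ 0 := fun e => by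
    rw [e, pow_zero] at hk
    exact (Finite.one_lt_card (α := center T')).ne' hk
  obtain ⟨i, hi⟩ := exists_prime_orderOf_dvd_card' (G := center T') 2 (by rw [hk]; exact dvd_pow_self 2 hk0)
  have hia : ((i : T') : G) = a := by
    refine hinv _ (hT'K (i : T').2) (by rw [Subgroup.orderOf_coe, Subgroup.orderOf_coe, hi]) ?_
    exact mem_centralizer_singleton_iff.2 (congrArg Subtype.val (mem_center_iff.1 i.2 ⟨a, haT⟩)).symm
  have hTa : T' ≤ centralizer ({a} : Set G) := fun w hw => mem_centralizer_singleton_iff.2 (by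
    rw [← hia]; exact congrArg Subtype.val (mem_center_iff.1 i.2 ⟨w, hw⟩))
  have hcyc : IsCyclic T' := d.two_cyclic T' hT'p fun w hw hw2 => hinv w (hT'K hw) hw2 (hTa hw)
  haveI : IsCyclic (T : Subgroup K) :=
    ((T : Subgroup K).equivMapOfInjective K.subtype K.subtype_injective).isCyclic.2 hcyc
  -- the normal `2`-complement
  have h2K : (Nat.card K).minFac = 2 := by
    rw [Nat.minFac_eq_two_iff]
    exact (show 2 = orderOf (⟨a, haK⟩ : K) by rw [orderOf_mk, d.ha]) ▸ orderOf_dvd_natCard _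
  obtain ⟨M₀, hM₀n, hM₀odd, hTM, hM₀mem⟩ : ∃ M₀ : Subgroup K, M₀.Normal ∧ Odd (Nat.card M₀) ∧
      (T : Subgroup K) ⊔ M₀ = ⊤ ∧ ∀ w : K, Odd (orderOf w) → w ∈ M₀ := by
    obtain ⟨T₁, M₀, hn, hc⟩ := CfsgLib.Transfer.hasNormalPComplement_of_normalizer_le_centralizer T
      ((‹IsCyclic (T : Subgroup K)›).normalizer_le_centralizer h2K)
    haveI := hn
    obtain ⟨n, hn2⟩ := IsPGroup.iff_card.1 T₁.2
    have hi : M₀.index = 2 ^ n := hc.symm.index_eq_card.trans hn2
    refine ⟨M₀, hn, ?_, ?_, fun w hw => ?_⟩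
    · have h := T₁.not_dvd_index
      rw [hc.index_eq_card] at h
      exact Nat.not_even_iff_odd.1 fun he => h (even_iff_two_dvd.1 he)
    · rw [← index_eq_one]
      by_contra h1
      obtain ⟨r, hr, hrd⟩ := Nat.exists_prime_and_dvd h1
      have hr1 : r ∣ 2 ^ n := hi ▸ hrd.trans (index_dvd_of_le le_sup_right)
      obtain rfl : r = 2 := (Nat.prime_dvd_prime_iff_eq hr Nat.prime_two).1 (hr.dvd_of_dvd_pow hr1)
      exact T.not_dvd_index (hrd.trans (index_dvd_of_le le_sup_left))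
    · rw [← QuotientGroup.eq_one_iff, ← orderOf_eq_one_iff]
      refine Nat.eq_one_of_dvd_coprimes ((Nat.coprime_two_right.2 hw).pow_right n)
        (orderOf_map_dvd (QuotientGroup.mk' M₀) w) ?_
      rw [← hi, index_eq_card]
      exact orderOf_dvd_natCard _
  set M : Subgroup G := M₀.map K.subtype with hM
  have hMK : M ≤ K := map_subtype_le _
  have hModd : Odd (Nat.card M) := by
    rw [hM, card_map_of_injective K.subtype_injective]; exact hM₀odd
  have hKn : ∀ w ∈ K, ∀ m ∈ M, w * m * w⁻¹ ∈ M := by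
    rintro w hw _ ⟨m, hm, rfl⟩
    exact ⟨⟨w, hw⟩ * m * ⟨w, hw⟩⁻¹, hM₀n.conj_mem m hm _, rfl⟩
  have hmemM : ∀ w ∈ K, Odd (orderOf w) → w ∈ M := fun w hw ho =>
    ⟨⟨w, hw⟩, hM₀mem _ (by rwa [orderOf_mk]), rfl⟩
  have hzM : z ∈ M := hmemM z hzK (by rw [d.hzp]; exact d.hp.odd_of_ne_two d.hp2)
  have hMa : ∀ w ∈ M, w ∈ centralizer ({a} : Set G) → w ∈ O := fun w hw hwa =>
    d.core w hwa (hModd.of_dvd_nat (orderOf_dvd_natCard M hw))
  -- a Sylow `p`-subgroup of `M` over `z` is central in `O`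
  obtain ⟨P₀, hP₀⟩ := (show IsPGroup p (zpowers (⟨z, hzM⟩ : M)) from
    IsPGroup.of_card (n := 1) (by rw [Nat.card_zpowers, orderOf_mk, d.hzp, pow_one])).exists_le_sylow
  have hzP₀ : (⟨z, hzM⟩ : M) ∈ (P₀ : Subgroup M) := hP₀ (mem_zpowers _)
  set P' : Subgroup G := (P₀ : Subgroup M).map M.subtype with hP'
  have hP'p : IsPGroup p P' := P₀.2.map M.subtype
  have hzP : z ∈ P' := ⟨_, hzP₀, rfl⟩
  have hle : P' ≤ O ⊓ centralizer ({x} : Set G) := fun w hw =>
    ⟨hMa w ((map_subtype_le _ : P' ≤ M) hw) (d.pgroup_le_cent hP'p hzP hw),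
      hMK ((map_subtype_le _ : P' ≤ M) hw)⟩
  have hP₀c : ∀ y : M, y ∈ (P₀ : Subgroup M) → ∀ o ∈ O, o * (y : G) = y * o :=
    fun y hy => d.small x hx hxr hxp hnc P' hle hP'p y ⟨y, hy, rfl⟩
  have hNP : normalizer ((P₀ : Subgroup M) : Set M) ≤ centralizer ((P₀ : Subgroup M) : Set M) := by
    intro w hw
    have hwz : (w : G) * z * (w : G)⁻¹ ∈ P' :=
      ⟨w * ⟨z, hzM⟩ * w⁻¹, (mem_normalizer_iff.1 hw _).1 hzP₀, rfl⟩
    have hwa : (w : G) ∈ centralizer ({a} : Set G) := by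
      have e : (w : G)⁻¹ * a * w = a := by
        refine d.uniq _ (by simpa using (orderOf_conj_eq (w : G)⁻¹ a).trans d.ha) ?_
        have hc : Commute ((w : G) * z * (w : G)⁻¹) a :=
          mem_centralizer_singleton_iff.1 (d.hOa (hle hwz).1)
        calc (w : G)⁻¹ * a * w * z = (w : G)⁻¹ * (a * ((w : G) * z * (w : G)⁻¹)) * w := by group
          _ = (w : G)⁻¹ * (((w : G) * z * (w : G)⁻¹) * a) * w := by rw [hc.eq]
          _ = z * ((w : G)⁻¹ * a * w) := by group
      refine mem_centralizer_singleton_iff.2 ?_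
      calc (w : G) * a = (w : G) * ((w : G)⁻¹ * a * w) := by rw [e]
        _ = a * w := by group
    exact mem_centralizer_iff.2 fun y hy => Subtype.ext (hP₀c y hy _ (hMa w w.2 hwa)).symm
  obtain ⟨P₁, Q₀, hQ₀n, hQ₀c⟩ :=
    CfsgLib.Transfer.hasNormalPComplement_of_normalizer_le_centralizer P₀ hNP
  have hQ₀p : ¬ p ∣ Nat.card Q₀ := by
    rw [← hQ₀c.index_eq_card]
    exact P₁.not_dvd_index
  have hQ₀mem : ∀ w : M, (orderOf w).Coprime p → w ∈ Q₀ := fun w hw => by
    rw [← QuotientGroup.eq_one_iff, ← orderOf_eq_one_iff]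
    obtain ⟨n, hn⟩ := IsPGroup.iff_card.1 P₁.2
    refine Nat.eq_one_of_dvd_coprimes (hw.pow_right n) (orderOf_map_dvd (QuotientGroup.mk' Q₀) w) ?_
    have hi : Q₀.index = p ^ n := hQ₀c.symm.index_eq_card.trans hn
    rw [← hi, index_eq_card]
    exact orderOf_dvd_natCard _
  set Q : Subgroup G := Q₀.map M.subtype with hQ
  have hQM : Q ≤ M := map_subtype_le _
  have hQcard : Nat.card Q = Nat.card Q₀ := card_map_of_injective M.subtype_injective
  -- normalisation by `a`, `j`, `z`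
  have hjK : ∀ w ∈ K, j * w * j⁻¹ ∈ K := fun w hw => by
    have hjx' : j⁻¹ * x * j = x⁻¹ := by
      rw [invol_inv hj]; simpa [invol_inv hj] using hjx
    rw [hK, mem_centralizer_singleton_iff] at hw ⊢
    have h1 : Commute w x⁻¹ := Commute.inv_right hw
    calc j * w * j⁻¹ * x = j * (w * (j⁻¹ * x * j)) * j⁻¹ := by group
      _ = j * ((j⁻¹ * x * j) * w) * j⁻¹ := by rw [hjx', h1.eq]
      _ = x * (j * w * j⁻¹) := by group
  have hnormQ : ∀ s : G, (∀ w ∈ K, s * w * s⁻¹ ∈ K) → s ∈ normalizer (Q : Set G) := by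
    intro s hs
    refine mem_normalizer_iff_of_finite fun w hw => ?_
    obtain ⟨w₀, hw₀, rfl⟩ := hw
    have ho : orderOf (s * (w₀ : G) * s⁻¹) = orderOf w₀ := by rw [orderOf_conj_eq, Subgroup.orderOf_coe]
    have hsM : s * (w₀ : G) * s⁻¹ ∈ M := hmemM _ (hs _ (hMK w₀.2))
      (ho ▸ hModd.of_dvd_nat (orderOf_dvd_natCard _))
    refine ⟨⟨_, hsM⟩, hQ₀mem _ ?_, rfl⟩
    rw [orderOf_mk, ho]
    refine (Nat.Coprime.coprime_dvd_left ?_ ((d.hp.coprime_iff_not_dvd.2 hQ₀p).symm))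
    exact Subgroup.orderOf_dvd_natCard Q₀ hw₀
  have hQodd : Odd (Nat.card Q) := hModd.of_dvd_nat (card_dvd_of_le hQM)
  have hQp : ¬ p ∣ Nat.card Q := hQcard ▸ hQ₀p
  have hKconj : ∀ s ∈ K, ∀ w ∈ K, s * w * s⁻¹ ∈ K := fun s hs w hw =>
    K.mul_mem (K.mul_mem hs hw) (K.inv_mem hs)
  have hQz : Q ≤ centralizer ({z} : Set G) := by
    refine le_centralizer_of_klein hQodd hQp d.ha hj (Ne.symm hja)
      (mem_centralizer_singleton_iff.1 hjc).symm d.hzp d.z_mem_cent (d.inverts j hj hjc hja)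
      (hnormQ a (hKconj a haK)) (hnormQ j hjK) (hnormQ z (hKconj z hzK))
      (fun q hq hqa => d.hzc q (hMa q (hQM hq) (mem_centralizer_singleton_iff.2 hqa))) ?_
    intro v hv ℓ hℓ R hR hRℓ
    rcases eq_or_ne R ⊥ with rfl | hR0
    · exact ⟨inferInstance, fun h => absurd rfl h⟩
    have hℓp : ℓ ≠ p := fun e => by
      subst e
      obtain ⟨n, hn⟩ := IsPGroup.iff_card.1 hRℓ
      have hn0 : n ≠ 0 := fun h0 => hR0 (card_eq_one.1 (by rw [hn, h0, pow_zero]))
      exact hQp ((dvd_pow_self ℓ hn0).trans (hn ▸ card_dvd_of_le (hR.trans inf_le_left)))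
    have hv' : orderOf v = 2 ∧ v * x * v⁻¹ = x⁻¹ := by
      rcases hv with rfl | rfl
      · exact ⟨hj, hjx⟩
      · have hax : a * x⁻¹ = x⁻¹ * a :=
          (Commute.inv_right (mem_centralizer_singleton_iff.1 (d.hOa hx)).symm).eq
        refine ⟨?_, ?_⟩
        · refine orderOf_eq_prime ?_ fun e => hja ?_
          · have hc : Commute a j := (mem_centralizer_singleton_iff.1 hjc).symm
            rw [hc.mul_pow, pow_two, pow_two, invol_mul_self d.ha, invol_mul_self hj, one_mul]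
          · rw [← invol_inv d.ha]; exact (inv_eq_of_mul_eq_one_right e).symm
        · calc a * j * x * (a * j)⁻¹ = a * (j * x * j⁻¹) * a⁻¹ := by group
            _ = x⁻¹ := by rw [hjx, hax, mul_inv_cancel_right]
    obtain ⟨h, hh⟩ := isConj_iff.1 (d.one_class v hv'.1)
    -- move to `C(a)`
    set R' := R.map (MulAut.conj h⁻¹).toMonoidHom with hR'
    have hR'a : ∀ w ∈ R', w ∈ centralizer ({a} : Set G) := by
      rintro _ ⟨w, hw, rfl⟩
      have hwv := mem_centralizer_singleton_iff.1 (hR hw).2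
      show h⁻¹ * w * h⁻¹⁻¹ ∈ _
      refine mem_centralizer_singleton_iff.2 ?_
      calc h⁻¹ * w * h⁻¹⁻¹ * a = h⁻¹ * (w * (h * a * h⁻¹)) * h := by group
        _ = h⁻¹ * ((h * a * h⁻¹) * w) * h := by rw [hh, hwv]
        _ = a * (h⁻¹ * w * h⁻¹⁻¹) := by group
    have hR'ord : ∀ w ∈ R', Odd (orderOf w) ∧ (orderOf w).Coprime p := by
      rintro _ ⟨w, hw, rfl⟩
      rw [show orderOf ((MulAut.conj h⁻¹).toMonoidHom w) = orderOf w from
        orderOf_injective _ (MulAut.conj h⁻¹).injective w]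
      exact ⟨hQodd.of_dvd_nat (orderOf_dvd_natCard Q (hR hw).1),
        ((d.hp.coprime_iff_not_dvd.2 hQp).symm).coprime_dvd_left (orderOf_dvd_natCard Q (hR hw).1)⟩
    have hR'O : R' ≤ O := fun w hw => d.core w (hR'a w hw) (hR'ord w hw).1
    have hfree : ∀ w ∈ R', (∀ o ∈ O, o * w = w * o) → w = 1 := by
      intro w hw hwc
      by_contra hw1
      have hle := d.central w (hR'O hw) hw1 (hR'ord w hw).2 hwc
      obtain ⟨w₀, hw₀, rfl⟩ := hw
      have hx' : h⁻¹ * x * h ∈ centralizer ({a} : Set G) := by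
        refine hle (mem_centralizer_singleton_iff.2 ?_)
        have hw₀x : w₀ * x = x * w₀ := mem_centralizer_singleton_iff.1 (hMK (hQM (hR hw₀).1))
        show h⁻¹ * x * h * (h⁻¹ * w₀ * h⁻¹⁻¹) = h⁻¹ * w₀ * h⁻¹⁻¹ * (h⁻¹ * x * h)
        calc h⁻¹ * x * h * (h⁻¹ * w₀ * h⁻¹⁻¹) = h⁻¹ * (x * w₀) * h := by group
          _ = _ := by rw [← hw₀x]; group
      have hxv : x * v = v * x := by
        rw [← hh]
        have := mem_centralizer_singleton_iff.1 hx'
        calc x * (h * a * h⁻¹) = h * ((h⁻¹ * x * h) * a) * h⁻¹ := by group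
          _ = h * a * h⁻¹ * x := by rw [this]; group
      have h2 := hv'.2
      rw [← hxv, mul_inv_cancel_right] at h2
      have hx2 : x ^ 2 = 1 := by rw [pow_two]; nth_rw 1 [h2]; exact inv_mul_cancel x
      exact hx1 (orderOf_eq_one_iff.1 (Nat.eq_one_of_dvd_coprimes (Nat.coprime_two_right.2 hxodd)
        dvd_rfl (orderOf_dvd_of_pow_eq_one hx2)))
    obtain ⟨hc, hdiv⟩ := d.rank_one ℓ hℓ hℓp R' hR'O (hRℓ.map _) hfree
    refine ⟨(R.equivMapOfInjective _ (MulAut.conj h⁻¹).injective).isCyclic.2 hc, fun _ => hdiv fun e => hR0 ?_⟩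
    exact (map_eq_bot_iff_of_injective R (MulAut.conj h⁻¹).injective).1 e
  -- conclusion
  have hMle : M ≤ centralizer ({a} : Set G) := by
    intro w hw
    refine d.mem_cent_of_commute ?_
    have htop : Q₀ ⊔ (P₀ : Subgroup M) = ⊤ := by
      rw [← index_eq_one]
      by_contra h1
      obtain ⟨r, hr, hrd⟩ := Nat.exists_prime_and_dvd h1
      obtain ⟨n, hn⟩ := IsPGroup.iff_card.1 P₁.2
      have hr1 : r ∣ p ^ n := (hQ₀c.symm.index_eq_card.trans hn) ▸ hrd.trans (index_dvd_of_le le_sup_left)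
      obtain rfl : r = p := (Nat.prime_dvd_prime_iff_eq hr d.hp).1 (hr.dvd_of_dvd_pow hr1)
      exact P₀.not_dvd_index (hrd.trans (index_dvd_of_le le_sup_right))
    have hle : (⊤ : Subgroup M) ≤ (centralizer ({z} : Set G)).subgroupOf M := by
      rw [← htop]
      refine sup_le (fun y hy => hQz (mem_map_of_mem _ hy)) ?_
      exact fun y hy => mem_subgroupOf.2
        (mem_centralizer_singleton_iff.2 (hP₀c y hy z d.hz).symm)
    exact mem_centralizer_singleton_iff.1 (hle (mem_top (⟨w, hw⟩ : M)))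
  intro w hw
  have hw' : (⟨w, hw⟩ : K) ∈ (T : Subgroup K) ⊔ M₀ := hTM ▸ mem_top _
  have hle : (T : Subgroup K) ⊔ M₀ ≤ (centralizer ({a} : Set G)).subgroupOf K :=
    sup_le (fun y hy => hTa (mem_map_of_mem _ hy)) (fun y hy => hMle (mem_map_of_mem _ hy))
  exact hle hw'

/-- The stabilisers in `O` of the other conjugates of `a` have order dividing `p`. -/
theorem stabilizer_dvd {c : G} (hc : IsConj a c) (hca : c ≠ a) :
    Nat.card (O ⊓ centralizer ({c} : Set G) : Subgroup G) ∣ p := by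
  classical
  haveI := Fact.mk d.hp
  obtain ⟨h, hh⟩ := isConj_iff.1 hc
  have hc2 : orderOf c = 2 := by rw [← hh, orderOf_conj_eq]; exact d.ha
  set R : Subgroup G := O ⊓ centralizer ({c} : Set G) with hR
  have hRp : IsPGroup p R := by
    refine IsPGroup.iff_card.2 ?_
    by_contra hno
    obtain ⟨r, hr, hrd, hrp⟩ : ∃ r : ℕ, r.Prime ∧ r ∣ Nat.card R ∧ r ≠ p := by
      by_contra hnr
      push Not at hnr
      exact hno ⟨_, Nat.eq_prime_pow_of_unique_prime_dvd Nat.card_pos.ne' fun {q} hq hqd => hnr q hq hqd⟩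
    haveI := Fact.mk hr
    obtain ⟨x, hx⟩ := exists_prime_orderOf_dvd_card' (G := R) r hrd
    rw [← Subgroup.orderOf_coe] at hx
    have hxO : (x : G) ∈ O := x.2.1
    have hxp : (orderOf (x : G)).Coprime p := hx ▸ (Nat.coprime_primes hr d.hp).2 hrp
    have hx1 : (x : G) ≠ 1 := fun e => by rw [e, orderOf_one] at hx; exact hr.ne_one hx.symm
    have hcx : c ∈ centralizer ({(x : G)} : Set G) :=
      mem_centralizer_singleton_iff.2 (mem_centralizer_singleton_iff.1 x.2.2).symm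
    have hcC : c ∈ centralizer ({a} : Set G) := by
      by_cases hn : ∀ o ∈ O, o * (x : G) = x * o
      · exact d.central _ hxO hx1 hxp hn hcx
      · exact d.centralizer_le hxO (hx.symm ▸ hr) hxp hn hcx
    obtain ⟨k, hk⟩ := d.fixed_pgroup c hc2 hcC hca ⟨(x : G), x.2⟩
    exact hx1 (orderOf_eq_one_iff.1 (Nat.eq_one_of_dvd_coprimes (hxp.pow_right k) dvd_rfl
      (orderOf_dvd_of_pow_eq_one (congrArg Subtype.val hk :))))
  obtain ⟨k, hk⟩ := IsPGroup.iff_card.1 hRp
  rw [hk]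
  suffices hk1 : k ≤ 1 by simpa using pow_dvd_pow p hk1
  by_contra hk2
  obtain ⟨P, hP⟩ := Sylow.exists_subgroup_card_pow_prime p (n := 2) (G := R)
    (hk ▸ pow_dvd_pow p (by omega))
  have hPG : Nat.card (P.map R.subtype) = p ^ 2 := by rw [card_map_of_injective R.subtype_injective, hP]
  have hzP : z ∈ P.map R.subtype :=
    d.p_sq _ (fun w hw => ((map_subtype_le P : P.map R.subtype ≤ R) hw).1) hPG
  have hzR : z ∈ R := (map_subtype_le P : P.map R.subtype ≤ R) hzP
  exact hca (d.uniq c hc2 (mem_centralizer_singleton_iff.1 hzR.2).symm)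

/-- The orbits of `O` on the other conjugates of `a`. -/
theorem card_dvd_relIndex_mul {c : G} (hc : IsConj a c) (hca : c ≠ a) :
    Nat.card O ∣ (centralizer ({c} : Set G)).relIndex O * p := by
  have h := ((centralizer ({c} : Set G)).subgroupOf O).card_mul_index
  have h2 : Nat.card ((centralizer ({c} : Set G)).subgroupOf O) =
      Nat.card (O ⊓ centralizer ({c} : Set G) : Subgroup G) := by
    rw [← card_map_of_injective O.subtype_injective, subgroupOf_map_subtype, inf_comm]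
  obtain ⟨e, he⟩ := d.stabilizer_dvd hc hca
  refine ⟨e, ?_⟩
  rw [← h, h2, relIndex, he]
  ring

/-- The number of conjugates of `a` is one modulo the index of a subgroup of order `p` of `O`. -/
theorem index_modEq {k : ℕ} (hk : Nat.card O = k * p) :
    (centralizer ({a} : Set G)).index ≡ 1 [MOD k] :=
  index_modEq_one O d.hOa k fun _ hc hca =>
    Nat.dvd_of_mul_dvd_mul_right d.hp.pos (hk ▸ d.card_dvd_relIndex_mul hc hca)

end FreeData

end CfsgLib.GW.Component
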