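import Cfsg.Agent.Lib.GW.Basic
import Cfsg.Agent.Lib.GW.Component.Orbit

/-!
Facts on a minimal counterexample which feed `FreeData`.
-/

set_option autoImplicit false
set_option linter.unusedSectionVars false

namespace CfsgLib.GW

open Subgroup CfsgLib.Invol

universe u

variable {G : Type u} [Group G] [Finite G]

/-- A `2`-subgroup with at most one involution is cyclic. -/
theorem Min.isCyclic_of_unique_invol (M : Min G) {a : G} {S : Subgroup G} (hS : IsPGroup 2 S)
    (huniq : ∀ x ∈ S, orderOf x = 2 → x = a) : IsCyclic S := by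
  obtain ⟨T, hT⟩ := hS.exists_le_sylow
  obtain ⟨D⟩ := M.dih T
  let φ : S →* (T : Subgroup G) := inclusion hT
  have hφ : Function.Injective φ := inclusion_injective hT
  by_cases hrot : ∀ w : S, φ w ∈ zpowers D.r
  · have hle : φ.range ≤ zpowers D.r := by rintro _ ⟨w, rfl⟩; exact hrot w
    haveI : IsCyclic φ.range := isCyclic_of_injective (inclusion hle) (inclusion_injective hle)
    exact isCyclic_of_injective φ.rangeRestrict fun x y e => hφ (congrArg Subtype.val e)
  · push Not at hrot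
    obtain ⟨w₀, hw₀⟩ := hrot
    obtain ⟨i₀, hi₀⟩ : ∃ i : ℤ, φ w₀ = D.r ^ i * D.s := by
      rcases D.cases (φ w₀) with ⟨i, e⟩ | ⟨i, e⟩
      · exact absurd (e ▸ zpow_mem (mem_zpowers _) i) hw₀
      · exact ⟨i, e⟩
    have h2 : ∀ w : S, ∀ i : ℤ, φ w = D.r ^ i * D.s → w = w₀ := by
      intro w i e
      have ho : ∀ v : S, ∀ k : ℤ, φ v = D.r ^ k * D.s → (v : G) = a := fun v k ev =>
        huniq _ v.2 (by
          rw [Subgroup.orderOf_coe, ← orderOf_injective φ hφ, ev, D.orderOf_zy])
      exact Subtype.ext ((ho w i e).trans (ho w₀ i₀ hi₀).symm)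
    refine ⟨w₀, fun w => (?_ : w ∈ zpowers w₀)⟩
    rcases D.cases (φ w) with ⟨i, e⟩ | ⟨i, e⟩
    · have h1 : w * w₀ = w₀ := h2 _ (i + i₀) (by rw [map_mul, e, hi₀, ← mul_assoc, ← zpow_add])
      rw [mul_eq_right.1 h1]
      exact one_mem _
    · rw [h2 w i e]
      exact mem_zpowers _

/-- The centralizer of an element of `C(a)` generating a normal subgroup of it lies in it. -/
theorem Min.centralizer_le_of_normal (M : Min G) {a x : G} (ha : orderOf a = 2)
    (hmax : IsCoatom (cI a)) (hx : x ∈ cI a) (hx1 : x ≠ 1)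
    (hn : cI a ≤ normalizer (zpowers x : Set G)) :
    centralizer ({x} : Set G) ≤ cI a := by
  have hne : zpowers x ≠ ⊤ := fun e =>
    M.cI_ne_top (invol_ne_one ha) (top_le_iff.1 (e ▸ zpowers_le.2 hx))
  have h := (hmax.le_iff.1 hn).resolve_left
    (M.normalizer_ne_top (fun e => hx1 (mem_bot.1 (e ▸ mem_zpowers x))) hne)
  intro w hw
  rw [← h]
  refine mem_normalizer_iff_of_finite fun y hy => ?_
  obtain ⟨i, rfl⟩ := mem_zpowers_iff.1 hy
  have hc : Commute w (x ^ i) := Commute.zpow_right (mem_centralizer_singleton_iff.1 hw) i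
  rwa [hc.eq, mul_inv_cancel_right]

end CfsgLib.GW
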