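import Cfsg.Agent.Lib.GW.Component.Cases
import Cfsg.Agent.Lib.GW.Shape

/-!
The rotation of a mixed four-group normalises the part of the common core centralising the central
elements of order `p`.
-/

set_option autoImplicit false
set_option linter.unusedSectionVars false
set_option linter.style.haveILetI false

namespace CfsgLib.GW

open Subgroup CfsgLib.Invol
open scoped MatrixGroups

universe u

variable {G : Type u} [Group G] [Finite G] {a b g : G} {p : ℕ}

/-- The rotation changes the elements of the common core only inside the centralizer of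
`zP a p`. -/
theorem Mixed.rot_comm (C : Ctx G) (h : Mixed a b g p) {w : G} (hw : w ∈ coreC a ⊓ coreC b) :
    ∀ z ∈ zP a p, Commute (g * w * g⁻¹ * w⁻¹) z := by
  classical
  haveI := Fact.mk h.hp
  set X := fitP a p ⊓ cI b with hX
  set M := normalizer (X : Set G) with hMdef
  have hXtop : X ≠ ⊤ := fun e => C.min.cI_ne_top (invol_ne_one h.four.ha)
    (top_le_iff.1 (e.symm.trans_le (inf_le_left.trans (fitP_le_cI a p))))
  have hMtop : M ≠ ⊤ := C.min.normalizer_ne_top h.meets hXtop
  have hcentM : ∀ c : G, (∀ x ∈ X, Commute c x) → c ∈ M := fun c hc =>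
    mem_normalizer_iff_of_finite fun x hx => by rwa [(hc x hx).eq, mul_inv_cancel_right]
  have haM : a ∈ M := hcentM a fun x hx => (mem_cI.1 (fitP_le_cI a p hx.1)).symm
  have hbM : b ∈ M := hcentM b fun x hx => (mem_cI.1 hx.2).symm
  have hgM : g ∈ M := mem_normalizer_iff_of_finite fun x hx =>
    h.conj_fixed_mem C le_rfl (cI_le_normalizer_fitP a p) hx
  have hZM : zP a p ≤ M := fun z hz => hcentM z fun x hx => hz.2.1 x hx.1
  have hv' := h.four.rot_core C.min hw
  have hwM : w ∈ M := h.inf_normal_W C hw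
  have hwgM : g * w * g⁻¹ ∈ M := h.inf_normal_W C hv'
  haveI : (Cfsg.oddCore ↥M).Normal := CfsgLib.Solvable.pPrimeCore_normal 2 _
  set π := QuotientGroup.mk' (Cfsg.oddCore ↥M) with hπ
  have key : ∀ y : ↥M, π y = 1 → (y : G) ∈ coreK M := fun y hy =>
    ⟨y, (QuotientGroup.eq_one_iff y).1 hy, rfl⟩
  have hzc : ∀ z ∈ zP a p, z ∈ coreK M → z = 1 := fun z hz hzc =>
    h.eq_one_of_coreK C haM hbM hgM h.four.ga hZM (isPGroup_fitP a p) (zP_le_fitP a p hz)
      (zP_le_coreC a p hz) hzc (h.b_inverts C hz)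
  obtain ⟨z₀, hz₀, hz₀1⟩ := (Subgroup.bot_or_exists_ne_one (zP a p)).resolve_left (zP_ne_bot h)
  set A : ↥M := ⟨a, haM⟩
  set B : ↥M := ⟨b, hbM⟩
  set Z : ↥M := ⟨z₀, hZM hz₀⟩
  set V : ↥M := ⟨g, hgM⟩ * ⟨w, hwM⟩ * ⟨g, hgM⟩⁻¹ * ⟨w, hwM⟩⁻¹ with hV
  have hA2 : orderOf A = 2 := by rw [orderOf_mk, h.four.ha]
  have hB2 : orderOf B = 2 := by rw [orderOf_mk, h.four.hb]
  have hBA : Commute B A := Subtype.ext h.four.comm.symm
  have hπBA : π B ≠ π A := mk'_ne_of_commute hB2 hA2 hBA
    fun e => h.four.hab (congrArg Subtype.val e).symm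
  have hVW : (V : G) ∈ coreC a ⊓ coreC b := mul_mem hv' (inv_mem hw)
  have hVA : Commute (π V) (π A) :=
    (show Commute V A from Subtype.ext (mem_cI.1 (coreC_le_cI a hVW.1))).map π
  have hVB : Commute (π V) (π B) :=
    (show Commute V B from Subtype.ext (mem_cI.1 (coreC_le_cI b hVW.2))).map π
  have hVo : Odd (orderOf (π V)) := odd_map π (odd_mem C.min hVW.1)
  have hns : ¬ Group.IsSolvable M := fun hs => hz₀1 (hzc z₀ hz₀ (key Z
    ((QuotientGroup.eq_one_iff _).2 (OnePrime.mem_oddCore_of_commute C.min hs (v := A) h.four.ha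
      (odd_orderOf_mem_coreC (zP_le_coreC a p hz₀)) (mem_cI.1 (h.le_cI_a C hz₀))))))
  have hVcore : (V : G) ∈ coreK M := by
    refine key V ?_
    rcases C.min.shape_cases hMtop hns with ⟨⟨e⟩⟩ | ⟨T, E, L, hLn, F, iF, iFt, hodd, hq, hC, ⟨e⟩⟩
    · -- the alternating group of degree seven
      set f : ↥M →* alternatingGroup (Fin 7) := e.toMonoidHom.comp π with hf
      have hfA : orderOf (f A) = 2 := (MulEquiv.orderOf_eq e _).trans (orderOf_mk'_invol hA2)
      let R : Subgroup (alternatingGroup (Fin 7)) := ((coreC a).subgroupOf M).map f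
      have hR : Nat.card R ∣ 3 := by
        have h24 := card_centralizer_alt_seven hfA
        have h1 : Nat.card R ∣ 24 := h24 ▸ card_dvd_of_le (by
          rintro _ ⟨x, hx, rfl⟩
          exact mem_centralizer_singleton_iff.2
            ((show Commute x A from Subtype.ext (mem_cI.1 (coreC_le_cI a hx))).map f).eq)
        have h2 : Odd (Nat.card R) :=
          ((odd_coreC a).of_dvd_nat (card_comap_dvd_of_injective _ _ M.subtype_injective)).of_dvd_nat
            (card_map_dvd _ _)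
        exact ((Nat.coprime_two_right.2 h2).pow_right 3).dvd_of_dvd_mul_left (show _ ∣ 2 ^ 3 * 3 from h1)
      have hZR : f Z ∈ R := mem_map_of_mem f (zP_le_coreC a p hz₀)
      have hZ1 : f Z ≠ 1 := fun e' => hz₀1 (hzc z₀ hz₀ (key Z (e.map_eq_one_iff.1 e')))
      have hR3 : Nat.card R = 3 := ((Nat.dvd_prime Nat.prime_three).1 hR).resolve_left fun h1 =>
        hZ1 (mem_bot.1 (Subgroup.card_eq_one.1 h1 ▸ hZR))
      have hgen : R ≤ zpowers (f Z) := by
        refine (eq_of_le_of_card_ge (zpowers_le.2 hZR) ?_).ge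
        rw [Nat.card_zpowers, hR3]
        have hd : orderOf (f Z) ∣ 3 := hR3 ▸ Subgroup.orderOf_dvd_natCard _ hZR
        exact (((Nat.dvd_prime Nat.prime_three).1 hd).resolve_left
          fun h1 => hZ1 (orderOf_eq_one_iff.1 h1)).ge
      obtain ⟨i, hi⟩ := mem_zpowers_iff.1 (hgen (mem_map_of_mem f (show V ∈ (coreC a).subgroupOf M from hVW.1)))
      have hBZ : f B * f Z * (f B)⁻¹ = (f Z)⁻¹ := by
        rw [← map_inv, ← map_mul, ← map_mul, ← map_inv]
        exact congrArg f (Subtype.ext (h.b_inverts C hz₀))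
      have h1 : f B * f V * (f B)⁻¹ = (f V)⁻¹ := by rw [← hi, ← conj_zpow, hBZ, inv_zpow]
      have h2 : f B * f V * (f B)⁻¹ = f V := by
        rw [((show Commute V B from Subtype.ext (mem_cI.1 (coreC_le_cI b hVW.2))).map f).eq.symm,
          mul_inv_cancel_right]
      have h3 : f V = 1 := by
        refine orderOf_eq_one_iff.1 (Nat.eq_one_of_dvd_coprimes
          (Nat.coprime_two_right.2 (odd_map f (odd_mem C.min hVW.1))) dvd_rfl
          (orderOf_dvd_of_pow_eq_one ?_))
        rw [pow_two]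
        exact mul_eq_one_iff_eq_inv.2 (h2.symm.trans h1)
      exact e.map_eq_one_iff.1 h3
    · -- linear groups
      obtain ⟨P, χ, hχ, -, -, -, hinv, -, hcomm⟩ := exists_linear_comm hodd T E L e hC
      have hAP := hinv _ (orderOf_mk'_invol hA2)
      have hBP := hinv _ (orderOf_mk'_invol hB2)
      have hVP : π V ∈ P := by
        rw [hV, map_mul, map_mul, map_mul, map_inv, map_inv]
        exact hcomm _ _
      have h1 : χ ⟨π V, hVP⟩ = 1 := PGL.eq_one_of_two_invol hodd
        (a := χ ⟨π A, hAP⟩) (b := χ ⟨π B, hBP⟩)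
        (by rw [orderOf_injective χ hχ, orderOf_mk, orderOf_mk'_invol hA2])
        (by rw [orderOf_injective χ hχ, orderOf_mk, orderOf_mk'_invol hB2])
        (fun e' => hπBA (congrArg Subtype.val (hχ e')).symm)
        (Commute.map (Subtype.ext hVA.eq : Commute (⟨π V, hVP⟩ : P) ⟨π A, hAP⟩) χ)
        (Commute.map (Subtype.ext hVB.eq : Commute (⟨π V, hVP⟩ : P) ⟨π B, hBP⟩) χ)
        (by rw [orderOf_injective χ hχ, orderOf_mk]; exact hVo)
      exact congrArg Subtype.val (hχ (h1.trans (map_one χ).symm))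
  intro z hz
  have hva : (V : G) ∈ cI a := coreC_le_cI a hVW.1
  have hc1 : (V : G) * z * (V : G)⁻¹ * z⁻¹ ∈ zP a p := mul_mem (conj_mem_zP hva hz) (inv_mem hz)
  have hc2 : (V : G) * z * (V : G)⁻¹ * z⁻¹ ∈ coreK M := by
    obtain ⟨v', hv'', e'⟩ := hVcore
    refine ⟨v' * (⟨z, hZM hz⟩ * v'⁻¹ * ⟨z, hZM hz⟩⁻¹),
      mul_mem hv'' ((inferInstance : (Cfsg.oddCore ↥M).Normal).conj_mem _ (inv_mem hv'') _), ?_⟩
    show (v' : G) * (z * (v' : G)⁻¹ * z⁻¹) = _
    rw [show (v' : G) = V from e']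
    group
  have hVz : Commute (V : G) z := by
    have h1 := hzc _ hc1 hc2
    exact mul_inv_eq_iff_eq_mul.1 (mul_inv_eq_one.1 h1)
  exact hVz

/-- The rotation keeps the elements of the common core centralising `zP a p`. -/
theorem Mixed.rot_mem (C : Ctx G) (h : Mixed a b g p) {w : G} (hw : w ∈ coreC a ⊓ coreC b)
    (hwz : ∀ z ∈ zP a p, Commute w z) : ∀ z ∈ zP a p, Commute (g * w * g⁻¹) z := fun z hz => by
  simpa using (h.rot_comm C hw z hz).mul_left (hwz z hz)

end CfsgLib.GW
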