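import Cfsg.Agent.Lib.GW.Component.Split2Base
import Cfsg.Agent.Lib.GW.Component.RotFixed
import Cfsg.Agent.Lib.GW.Component.OrbitTools

/-!
The component leg, split case without assuming that `O(C(a))` centralises the central elements of
order `p`: a rotation of a Sylow `2`-subgroup centralises `O(C(a))`, or some involution of `C(a)`
inverts `x₀`.
-/

set_option autoImplicit false
set_option linter.unusedSectionVars false
set_option linter.style.haveILetI false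

namespace CfsgLib.GW

open Subgroup CfsgLib.Invol
open scoped commutatorElement

universe u

variable {G : Type u} [Group G] [Finite G]

/-- The key fact for an element of the common core centralising the central elements of order
`p`. -/
theorem Mixed.mem_zP_of_inverted_fixed (C : Ctx G) {a b g : G} {p : ℕ} (h : Mixed a b g p) {w : G}
    (hwz : ∀ z ∈ zP a p, Commute w z) (hw : w ∈ coreC a ⊓ coreC b) (hw1 : w ≠ 1) {u : G}
    (hu : u ∈ fitP a p) (hinv : b * u * b⁻¹ = u⁻¹) (hup : u ^ p = 1) (huw : Commute u w) :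
    u ∈ zP a p := by
  set W0 : Subgroup G := (coreC a ⊓ coreC b) ⊓ centralizer (zP a p : Set G)
  have hgN : g ∈ normalizer (W0 : Set G) := mem_normalizer_iff_of_finite fun x hx =>
    ⟨h.four.rot_core C.min hx.1, mem_centralizer_iff.2 fun z hz =>
      (h.rot_mem C hx.1 (fun z' hz' => (mem_centralizer_iff.1 hx.2 z' hz').symm) z hz).eq.symm⟩
  have hwW : w ∈ W0 := ⟨hw, mem_centralizer_iff.2 fun z hz => (hwz z hz).eq.symm⟩
  have hw0 : g⁻¹ * w * g ∈ W0 := by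
    have := (mem_normalizer_iff.1 (inv_mem hgN) w).1 hwW
    simpa using this
  exact h.mem_zP_of_inverted C hwz (fun z hz => (mem_centralizer_iff.1 hw0.2 z hz).symm) hw hw1 hu
    hinv hup huw

/-- The data of the split case, with nothing assumed on the action on `zP a p`. -/
structure SplitE0 (a b g : G) (p : ℕ) (u x₀ : G) : Prop where
  mixed : Mixed a b g p
  hu : u ∈ eP a p
  huz : u ∉ zP a p
  hinv : b * u * b⁻¹ = u⁻¹
  hx : x₀ ∈ eP a p
  hxb : x₀ ∈ cI b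
  hx1 : x₀ ≠ 1

namespace SplitE0

variable (C : Ctx G) {a b g : G} {p : ℕ} {u x₀ : G} (d : SplitE0 a b g p u x₀)

include C d

theorem hbc : b ∈ cI a := mem_cI.2 d.mixed.four.comm.symm

theorem x_core : x₀ ∈ coreC a := fitP_le_coreC a p (eP_le_fitP a p d.hx)

theorem u_core : u ∈ coreC a := fitP_le_coreC a p (eP_le_fitP a p d.hu)

theorem x_pow : x₀ ^ p = 1 := pow_eq_one_of_eP d.hx

theorem u_pow : u ^ p = 1 := pow_eq_one_of_eP d.hu

theorem u_ne_one : u ≠ 1 := fun e => d.huz (e ▸ one_mem _)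

theorem orderOf_x : orderOf x₀ = p := by
  haveI := Fact.mk d.mixed.hp
  exact orderOf_eq_prime (d.x_pow C) d.hx1

theorem x_not_mem : x₀ ∉ zP a p := fun hz => by
  have h1 := d.mixed.b_inverts C hz
  rw [(mem_cI.1 d.hxb).symm, mul_inv_cancel_right] at h1
  exact d.hx1 (eq_one_of_inverse_self (d.x_core C) h1)

/-- The key fact in this setting. -/
theorem key {w : G} (hw : w ∈ coreC a) (hwb : w ∈ cI b) (hwz : ∀ z ∈ zP a p, Commute w z)
    (hwu : Commute w u) : w = 1 := by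
  by_contra hw1
  exact d.huz (d.mixed.mem_zP_of_inverted_fixed C hwz
    (C.min.fixed_mem_core d.mixed.four.hb hw hwb) hw1 (eP_le_fitP a p d.hu) d.hinv (d.u_pow C)
    hwu.symm)

theorem comm_mem {e v : G} (he : e ∈ eP a p) (hv : v ∈ fitP a p) :
    v * e * v⁻¹ * e⁻¹ ∈ zP a p := by
  have h := inv_mem (comm_mem_of_eP he hv)
  simpa [mul_assoc] using h

theorem zeta_ne : x₀ * u * x₀⁻¹ * u⁻¹ ≠ 1 := fun e =>
  d.hx1 (d.key C (d.x_core C) d.hxb (fun _ hz => (hz.2.1 _ (eP_le_fitP a p d.hx)).symm)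
    (mul_inv_eq_iff_eq_mul.1 (mul_inv_eq_one.1 e)))

theorem zeta_mem : x₀ * u * x₀⁻¹ * u⁻¹ ∈ zP a p :=
  d.comm_mem C d.hu (eP_le_fitP a p d.hx)

theorem exists_zeta_pow {z : G} (hz : z ∈ zP a p) :
    ∃ i : ℤ, (x₀ * u * x₀⁻¹ * u⁻¹) ^ i = z := by
  obtain ⟨z₀, ho, hall⟩ := d.mixed.exists_generator C
  have h := d.zeta_mem C
  rw [hall] at h hz
  rw [← zpowers_eq_of_prime d.mixed.hp (ho ▸ pow_orderOf_eq_one z₀) h (d.zeta_ne C)] at hz
  exact mem_zpowers_iff.1 hz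

/-- The fixed part of the `p`-core has order `p`. -/
theorem fixed_eq : fitP a p ⊓ cI b = zpowers x₀ := by
  haveI := Fact.mk d.mixed.hp
  set X := fitP a p ⊓ cI b
  obtain ⟨z₀, ho, hall⟩ := d.mixed.exists_generator C
  let φ : X →* zP a p := MonoidHom.mk'
    (fun v => ⟨(v : G) * u * (v : G)⁻¹ * u⁻¹, d.comm_mem C d.hu v.2.1⟩) fun v w => by
      refine Subtype.ext ?_
      show (v : G) * w * u * ((v : G) * w)⁻¹ * u⁻¹ =
        (v : G) * u * (v : G)⁻¹ * u⁻¹ * ((w : G) * u * (w : G)⁻¹ * u⁻¹)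
      have h1 := d.comm_mem C d.hu w.2.1
      have h2 := d.comm_mem C d.hu v.2.1
      calc (v : G) * w * u * ((v : G) * w)⁻¹ * u⁻¹
          = (v : G) * ((w : G) * u * (w : G)⁻¹ * u⁻¹) * (v : G)⁻¹ * ((v : G) * u * (v : G)⁻¹ * u⁻¹) := by
            group
        _ = (w : G) * u * (w : G)⁻¹ * u⁻¹ * ((v : G) * u * (v : G)⁻¹ * u⁻¹) := by
            rw [← (h1.2.1 _ v.2.1).eq, mul_inv_cancel_right]
        _ = _ := (h1.2.1 _ (zP_le_fitP a p h2)).eq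
  have hφ : Function.Injective φ := (injective_iff_map_eq_one φ).2 fun v hv => by
    refine Subtype.ext (d.key C (fitP_le_coreC a p v.2.1) v.2.2
      (fun z hz => (hz.2.1 _ v.2.1).symm) (mul_inv_eq_iff_eq_mul.1 ?_))
    exact mul_inv_eq_one.1 (congrArg Subtype.val hv :)
  refine (eq_of_le_of_card_ge (zpowers_le.2 (mem_inf.2 ⟨eP_le_fitP a p d.hx, d.hxb⟩)) ?_).symm
  refine (Nat.card_le_card_of_injective φ hφ).trans (le_of_eq ?_)
  rw [hall, Nat.card_zpowers, Nat.card_zpowers, ho, d.orderOf_x C]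

/-- An element of `eP a p` inverted by `b` is a power of `u` modulo `zP a p`. -/
theorem inv_span {v : G} (hv : v ∈ eP a p) (hinvv : b * v * b⁻¹ = v⁻¹) :
    ∃ i : ℤ, v * (u ^ i)⁻¹ ∈ zP a p := by
  have hvU := eP_le_fitP a p hv
  have huU := eP_le_fitP a p d.hu
  obtain ⟨i, hi⟩ := d.exists_zeta_pow C (d.comm_mem C hv (eP_le_fitP a p d.hx))
  -- `v` and `u` commute
  have hc : Commute v u := by
    have hk := d.comm_mem C hv huU
    have h1 := d.mixed.b_inverts C hk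
    rw [show b * (u * v * u⁻¹ * v⁻¹) * b⁻¹ =
      b * u * b⁻¹ * (b * v * b⁻¹) * (b * u * b⁻¹)⁻¹ * (b * v * b⁻¹)⁻¹ by group, hinvv, d.hinv,
      inv_inv, inv_inv] at h1
    have h2 : u⁻¹ * v⁻¹ * u * v = u * v * u⁻¹ * v⁻¹ := by
      calc u⁻¹ * v⁻¹ * u * v = (v * u)⁻¹ * (u * v * u⁻¹ * v⁻¹) * (v * u) := by group
        _ = (u * v * u⁻¹ * v⁻¹) * ((v * u)⁻¹ * (v * u)) := by
          rw [← (hk.2.1 _ (inv_mem (mul_mem hvU huU))).eq, mul_assoc]
        _ = _ := by rw [inv_mul_cancel, mul_one]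
    rw [h2] at h1
    have h3 : u * v * u⁻¹ * v⁻¹ = 1 :=
      eq_one_of_inverse_self (zP_le_coreC a p hk) h1
    exact (mul_inv_eq_iff_eq_mul.1 (mul_inv_eq_one.1 h3)).symm
  refine ⟨i, d.mixed.mem_zP_of_inverted_fixed C
    (fun z hz => (hz.2.1 _ (eP_le_fitP a p d.hx)).symm)
    (C.min.fixed_mem_core d.mixed.four.hb (d.x_core C) d.hxb) d.hx1
    (mul_mem hvU (inv_mem (zpow_mem huU i))) ?_ ?_ ?_⟩
  · rw [show b * (v * (u ^ i)⁻¹) * b⁻¹ = b * v * b⁻¹ * (b * u ^ i * b⁻¹)⁻¹ by group, hinvv,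
      ← conj_zpow, d.hinv, inv_zpow, inv_inv, mul_inv_rev, inv_inv]
    exact ((hc.zpow_right i).inv_left).eq
  · rw [(hc.zpow_right i).inv_right.mul_pow, pow_eq_one_of_eP hv, one_mul, inv_pow, ← zpow_natCast,
      ← zpow_mul, mul_comm, zpow_mul, zpow_natCast, d.u_pow C, one_zpow, inv_one]
  · have hζ := d.zeta_mem C
    have e1 : x₀ * v * x₀⁻¹ = (x₀ * u * x₀⁻¹ * u⁻¹) ^ i * v := by rw [hi]; group
    have e2 : x₀ * u ^ i * x₀⁻¹ = (x₀ * u * x₀⁻¹ * u⁻¹) ^ i * u ^ i := by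
      rw [← conj_zpow, ← (hζ.2.1 u huU).mul_zpow, inv_mul_cancel_right]
    have h1 : x₀ * (v * (u ^ i)⁻¹) * x₀⁻¹ = v * (u ^ i)⁻¹ := by
      have hcz : Commute ((x₀ * u * x₀⁻¹ * u⁻¹) ^ i) (v * (u ^ i)⁻¹) :=
        (hζ.2.1 _ (mul_mem hvU (inv_mem (zpow_mem huU i)))).zpow_left i
      calc x₀ * (v * (u ^ i)⁻¹) * x₀⁻¹ = x₀ * v * x₀⁻¹ * (x₀ * u ^ i * x₀⁻¹)⁻¹ := by group
        _ = (x₀ * u * x₀⁻¹ * u⁻¹) ^ i * (v * (u ^ i)⁻¹) * ((x₀ * u * x₀⁻¹ * u⁻¹) ^ i)⁻¹ := by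
          rw [e1, e2]; group
        _ = v * (u ^ i)⁻¹ := by rw [hcz.eq, mul_inv_cancel_right]
    exact (mul_inv_eq_iff_eq_mul.1 h1).symm

/-- `eP a p` is spanned by `x₀`, `u` and `zP a p`. -/
theorem span {e : G} (he : e ∈ eP a p) :
    ∃ i j : ℤ, ∃ z ∈ zP a p, e = x₀ ^ i * u ^ j * z := by
  have hbc := d.hbc C
  set y := e⁻¹ * (b * e * b⁻¹) with hy
  have hyE : y ∈ eP a p := mul_mem (inv_mem he) (conj_mem_eP hbc he)
  have hby : b * y * b⁻¹ = y⁻¹ := by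
    have hbb := invol_mul_self d.mixed.four.hb
    calc b * y * b⁻¹ = b * e⁻¹ * b⁻¹ * (b * b * e * (b * b)⁻¹) := by rw [hy]; group
      _ = y⁻¹ := by rw [hbb, hy]; group
  obtain ⟨k, hk⟩ := d.mixed.hp.odd_of_ne_two d.mixed.ne_two
  set r := y ^ (k + 1) with hr
  have hrE : r ∈ eP a p := pow_mem hyE _
  have hrr : r * r = y := by
    rw [hr, ← pow_add, show k + 1 + (k + 1) = p + 1 by omega, pow_succ, pow_eq_one_of_eP hyE, one_mul]
  have hbr : b * r * b⁻¹ = r⁻¹ := by rw [hr, ← conj_pow, hby, inv_pow]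
  have hfix : e * r ∈ fitP a p ⊓ cI b := by
    refine ⟨mul_mem (eP_le_fitP a p he) (eP_le_fitP a p hrE), mem_cI.2 (mul_inv_eq_iff_eq_mul.1 ?_).symm⟩
    calc b * (e * r) * b⁻¹ = (b * e * b⁻¹) * (b * r * b⁻¹) := by group
      _ = e * (r * r) * r⁻¹ := by rw [hrr, hbr, hy]; group
      _ = e * r := by group
  rw [d.fixed_eq C] at hfix
  obtain ⟨i, hi⟩ := mem_zpowers_iff.1 hfix
  obtain ⟨j, hj⟩ := d.inv_span C (inv_mem hrE)
    (by rw [inv_inv, show b * r⁻¹ * b⁻¹ = (b * r * b⁻¹)⁻¹ by group, hbr, inv_inv])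
  refine ⟨i, j, r⁻¹ * (u ^ j)⁻¹, hj, ?_⟩
  have hcz : Commute (r⁻¹ * (u ^ j)⁻¹) (u ^ j) :=
    hj.2.1 _ (zpow_mem (eP_le_fitP a p d.hu) j)
  calc e = x₀ ^ i * r⁻¹ := by rw [hi]; group
    _ = x₀ ^ i * (r⁻¹ * (u ^ j)⁻¹ * u ^ j) := by group
    _ = x₀ ^ i * u ^ j * (r⁻¹ * (u ^ j)⁻¹) := by rw [hcz.eq]; group

/-- An element of `O(C(a))` acting trivially modulo `zP a p` lies in `eP a p` times its
centralizer. -/
theorem exists_of_trivial {y : G} (hy : y ∈ coreC a)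
    (hyz : ∀ z ∈ zP a p, Commute y z)
    (h : ∀ e ∈ eP a p, y * e * y⁻¹ * e⁻¹ ∈ zP a p) : ∃ e ∈ eP a p, y * e⁻¹ ∈ cZero a p := by
  set ζ := x₀ * u * x₀⁻¹ * u⁻¹ with hζdef
  have hζ := d.zeta_mem C
  have hxU := eP_le_fitP a p d.hx
  have huU := eP_le_fitP a p d.hu
  have hζx : Commute ζ x₀ := hζ.2.1 _ hxU
  have hζu : Commute ζ u := hζ.2.1 _ huU
  obtain ⟨α, hα⟩ := d.exists_zeta_pow C (h x₀ d.hx)
  obtain ⟨β, hβ⟩ := d.exists_zeta_pow C (h u d.hu)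
  rw [← hζdef] at hα hβ
  have eu : ∀ i : ℤ, x₀ ^ i * u * (x₀ ^ i)⁻¹ = ζ ^ i * u := by
    have h1 : u * x₀ * u⁻¹ = ζ⁻¹ * x₀ := by
      rw [hζdef]
      group
    intro i
    have h2 : u * x₀ ^ i * u⁻¹ = (ζ⁻¹) ^ i * x₀ ^ i := by
      rw [← conj_zpow, h1, hζx.inv_left.mul_zpow]
    calc x₀ ^ i * u * (x₀ ^ i)⁻¹ = ((ζ⁻¹) ^ i)⁻¹ * (u * x₀ ^ i * u⁻¹) * u * (x₀ ^ i)⁻¹ := by
          rw [h2]; group
      _ = ((ζ⁻¹) ^ i)⁻¹ * u := by group
      _ = ζ ^ i * u := by rw [inv_zpow, inv_inv]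
  have ex : ∀ i : ℤ, u ^ i * x₀ * (u ^ i)⁻¹ = ζ ^ (-i) * x₀ := by
    have h1 : x₀ * u * x₀⁻¹ = ζ * u := by rw [hζdef]; group
    intro i
    have h2 : x₀ * u ^ i * x₀⁻¹ = ζ ^ i * u ^ i := by rw [← conj_zpow, h1, hζu.mul_zpow]
    calc u ^ i * x₀ * (u ^ i)⁻¹ = (ζ ^ i)⁻¹ * (x₀ * u ^ i * x₀⁻¹) * x₀ * (u ^ i)⁻¹ := by
          rw [h2]; group
      _ = (ζ ^ i)⁻¹ * x₀ := by group
      _ = ζ ^ (-i) * x₀ := by rw [zpow_neg]
  obtain ⟨e, hedef⟩ : ∃ e, e = x₀ ^ β * u ^ (-α) := ⟨_, rfl⟩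
  have heE : e ∈ eP a p := hedef ▸ mul_mem (zpow_mem d.hx _) (zpow_mem d.hu _)
  have hec : e ∈ cI a := fitP_le_cI a p (eP_le_fitP a p heE)
  suffices h0 : e⁻¹ * y ∈ cZero a p by
    refine ⟨e, heE, ?_⟩
    rw [show y * e⁻¹ = e * (e⁻¹ * y) * e⁻¹ by group]
    exact conj_mem_cZero hec h0
  have ht : e⁻¹ * y ∈ coreC a :=
    (coreC a).mul_mem ((coreC a).inv_mem (fitP_le_coreC a p (eP_le_fitP a p heE))) hy
  refine ⟨ht, mem_centralizer_iff.2 fun v hv => ?_⟩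
  set t := e⁻¹ * y with htdef
  have htz : ∀ z ∈ zP a p, Commute t z := fun z hz =>
    (hz.2.1 e (eP_le_fitP a p heE)).symm.inv_left.mul_left (hyz z hz)
  have hfix : ∀ w : G, y * w * y⁻¹ = e * w * e⁻¹ → Commute t w := by
    intro w hw
    refine mul_inv_eq_iff_eq_mul.1 ?_
    calc t * w * t⁻¹ = e⁻¹ * (y * w * y⁻¹) * e := by rw [htdef]; group
      _ = w := by rw [hw]; group
  obtain ⟨i, j, z, hz, rfl⟩ := d.span C hv
  have tx : Commute t x₀ := hfix x₀ (by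
    rw [hedef, show x₀ ^ β * u ^ (-α) * x₀ * (x₀ ^ β * u ^ (-α))⁻¹ =
      x₀ ^ β * (u ^ (-α) * x₀ * (u ^ (-α))⁻¹) * (x₀ ^ β)⁻¹ by group, ex, neg_neg,
      show x₀ ^ β * (ζ ^ α * x₀) * (x₀ ^ β)⁻¹ = x₀ ^ β * ζ ^ α * (x₀ ^ β)⁻¹ * x₀ by group,
      ← ((hζx.zpow_zpow α β)).eq, mul_inv_cancel_right, hα]
    group)
  have tu : Commute t u := hfix u (by
    rw [hedef, show x₀ ^ β * u ^ (-α) * u * (x₀ ^ β * u ^ (-α))⁻¹ = x₀ ^ β * u * (x₀ ^ β)⁻¹ by group,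
      eu, hβ]
    group)
  exact (((tx.zpow_right i).mul_right (tu.zpow_right j)).mul_right (htz z hz)).eq.symm

theorem zP_le_cZero : zP a p ≤ cZero a p := fun _ hz =>
  ⟨zP_le_coreC a p hz, mem_centralizer_iff.2 fun e he => (hz.2.1 e (eP_le_fitP a p he)).eq.symm⟩

theorem cZero_le : cZero a p ≤ coreC a := inf_le_left

/-- No involution of `C(a)` other than `a` fixes a nontrivial element of the centralizer. -/
theorem cZero_inf {j : G} (hj : orderOf j = 2) (hjc : j ∈ cI a) (hne : j ≠ a) :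
    cZero a p ⊓ cI j = ⊥ := by
  rw [eq_bot_iff_forall]
  rintro w ⟨hw, hwj⟩
  by_contra hw1
  have hζ := d.zeta_mem C
  have hζinv := d.mixed.inverts C hj hjc hne hζ
  by_cases hfix : eP a p ⊓ cI j = ⊥
  · have hinvE := inverts_of_inf_eq_bot hj (fun _ he => conj_mem_eP hjc he) hfix
    refine d.zeta_ne C ?_
    have h1 := hinvE _ (mul_mem d.hx d.hu)
    have h2 : x₀ * u = u * x₀ := by
      calc x₀ * u = ((x₀ * u)⁻¹)⁻¹ := (inv_inv _).symm
        _ = (j * x₀ * j⁻¹ * (j * u * j⁻¹))⁻¹ := by rw [← h1]; group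
        _ = u * x₀ := by rw [hinvE _ d.hx, hinvE _ d.hu, mul_inv_rev, inv_inv, inv_inv]
    rw [h2]; group
  obtain ⟨g', hg'⟩ := d.mixed.mixed_of_fixed C hj hjc hne hfix
  obtain ⟨v, hv, hvz, hvinv⟩ : ∃ v ∈ eP a p, v ∉ zP a p ∧ j * v * j⁻¹ = v⁻¹ := by
    by_contra hno
    push Not at hno
    have hscal : ∀ e ∈ eP a p, j * e * j⁻¹ * e⁻¹ ∈ zP a p := fun e he => by
      by_contra hnz
      refine hno _ (mul_mem (conj_mem_eP hjc he) (inv_mem he)) hnz ?_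
      calc j * (j * e * j⁻¹ * e⁻¹) * j⁻¹ = (j * j) * e * (j⁻¹ * e⁻¹ * j⁻¹) := by group
        _ = e * (j * e⁻¹ * j⁻¹) := by rw [invol_mul_self hj, invol_inv hj]; group
        _ = (j * e * j⁻¹ * e⁻¹)⁻¹ := by group
    obtain ⟨z1, hz1⟩ : ∃ z1, z1 = j * x₀ * j⁻¹ * x₀⁻¹ := ⟨_, rfl⟩
    obtain ⟨z2, hz2⟩ : ∃ z2, z2 = j * u * j⁻¹ * u⁻¹ := ⟨_, rfl⟩
    have h1 := hscal _ d.hx
    have h2 := hscal _ d.hu
    rw [← hz1] at h1
    rw [← hz2] at h2
    have hxU := eP_le_fitP a p d.hx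
    have huU := eP_le_fitP a p d.hu
    have e : j * (x₀ * u * x₀⁻¹ * u⁻¹) * j⁻¹ = x₀ * u * x₀⁻¹ * u⁻¹ := by
      calc j * (x₀ * u * x₀⁻¹ * u⁻¹) * j⁻¹
          = (z1 * x₀) * (z2 * u) * (z1 * x₀)⁻¹ * (z2 * u)⁻¹ := by rw [hz1, hz2]; group
        _ = z1 * (x₀ * z2) * u * x₀⁻¹ * z1⁻¹ * u⁻¹ * z2⁻¹ := by group
        _ = (z1 * z2) * (x₀ * u * x₀⁻¹) * z1⁻¹ * u⁻¹ * z2⁻¹ := by
          rw [← (h2.2.1 _ hxU).eq]; group
        _ = (z1 * z2) * z1⁻¹ * (x₀ * u * x₀⁻¹ * u⁻¹) * z2⁻¹ := by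
          rw [mul_assoc (z1 * z2), ← (h1.2.1 _ (mul_mem (mul_mem hxU huU) (inv_mem hxU))).inv_left.eq]
          group
        _ = z2 * (x₀ * u * x₀⁻¹ * u⁻¹) * z2⁻¹ := by
          rw [show z1 * z2 * z1⁻¹ = z2 by rw [(h1.2.1 _ h2.1).eq, mul_inv_cancel_right]]
        _ = _ := by rw [(h2.2.1 _ hζ.1).eq, mul_inv_cancel_right]
    rw [e] at hζinv
    exact d.zeta_ne C (eq_one_of_inverse_self (zP_le_coreC a p hζ) hζinv)
  exact hvz (hg'.mem_zP_of_inverted_fixed C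
    (fun z hz => (mem_centralizer_iff.1 hw.2 z (d.mixed.zP_le_eP C hz)).symm)
    (C.min.fixed_mem_core hj hw.1 hwj) hw1
    (eP_le_fitP a p hv) hvinv (pow_eq_one_of_eP hv) (mem_centralizer_iff.1 hw.2 v hv))

theorem cZero_inverts {j : G} (hj : orderOf j = 2) (hjc : j ∈ cI a) (hne : j ≠ a) {v : G}
    (hv : v ∈ cZero a p) : j * v * j⁻¹ = v⁻¹ :=
  inverts_of_inf_eq_bot hj (fun _ h => conj_mem_cZero hjc h) (d.cZero_inf C hj hjc hne) v hv

/-- The centralizer of `eP a p` in `O(C(a))` is cyclic. -/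
theorem cZero_cyclic : IsCyclic (cZero a p) := by
  have h := d.mixed
  haveI := Fact.mk h.hp
  obtain ⟨N, hN, hle, hlay⟩ := h.exists_layer C h.meets le_rfl (h.inf_normal_W C)
  have hcN : ∀ c : G, (∀ x ∈ fitP a p ⊓ cI b, Commute c x) → c ∈ N := fun c hc => hle
    (mem_normalizer_iff_of_finite fun x hx => by rwa [(hc x hx).eq, mul_inv_cancel_right])
  have haN : a ∈ N := hcN a fun x hx => (mem_cI.1 (fitP_le_cI a p hx.1)).symm
  have hbN : b ∈ N := hcN b fun x hx => (mem_cI.1 hx.2).symm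
  have hC0N : ∀ v ∈ cZero a p, v ∈ N := fun v hv => hcN v fun x hx => by
    rw [d.fixed_eq C] at hx
    obtain ⟨i, rfl⟩ := mem_zpowers_iff.1 hx
    exact Commute.zpow_right (mem_centralizer_iff.1 hv.2 x₀ d.hx).symm i
  obtain ⟨j, hjL, hj, hja, hjne⟩ := exists_invol_layer C h.four.ha haN hlay
  have htriv : ∀ v ∈ cZero a p, v ∈ coreK N → v = 1 := by
    intro v hv hvc
    have h1 := d.cZero_inverts C hj (mem_cI.2 hja) hjne hv
    rw [(layer_le_cent_coreK hvc hjL).eq, mul_inv_cancel_right] at h1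
    exact eq_one_of_inverse_self hv.1 h1
  obtain ⟨R, r, hrR, hRle, hcyc, hR⟩ := C.torus N hN.1 a h.four.ha haN
  haveI : (Cfsg.oddCore ↥N).Normal := CfsgLib.Solvable.pPrimeCore_normal 2 _
  let ψ : cZero a p →* ↥N ⧸ Cfsg.oddCore ↥N :=
    (QuotientGroup.mk' _).comp (inclusion (fun v hv => hC0N v hv : cZero a p ≤ N))
  have hψ : Function.Injective ψ := (injective_iff_map_eq_one ψ).2 fun v hv =>
    Subtype.ext (htriv v v.2 ⟨⟨v, hC0N v v.2⟩, (QuotientGroup.eq_one_iff _).1 hv, rfl⟩)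
  have hrange : ψ.range ≤ zpowers (QuotientGroup.mk' (Cfsg.oddCore ↥N) ⟨r, (hRle hrR).1⟩) := by
    rintro _ ⟨v, rfl⟩
    have hvR : (v : G) ∈ R := (hR b hbN h.four.hb h.four.comm.symm h.four.hab.symm).1 v
      ⟨hC0N v v.2, v.2.1⟩ (d.cZero_inverts C h.four.hb (d.hbc C) h.four.hab.symm v.2)
    obtain ⟨i, w, hw, hwe⟩ := hcyc v hvR
    refine ⟨i, ?_⟩
    show (QuotientGroup.mk' (Cfsg.oddCore ↥N) ⟨r, (hRle hrR).1⟩) ^ (i : ℤ) = _
    rw [zpow_natCast, ← map_pow]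
    refine QuotientGroup.eq.2 ?_
    have e : (⟨r, (hRle hrR).1⟩ ^ i)⁻¹ * (inclusion (fun v hv => hC0N v hv : cZero a p ≤ N) v) = w :=
      Subtype.ext (hwe.symm : (r ^ i)⁻¹ * (v : G) = N.subtype w)
    exact e.symm ▸ hw
  haveI : IsCyclic ψ.range := isCyclic_of_injective (inclusion hrange) (inclusion_injective hrange)
  exact isCyclic_of_injective ψ.rangeRestrict fun x y e => hψ (congrArg Subtype.val e)

/-- The image of `x₀` modulo `zP a p`. -/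
abbrev xb : EBar a p := QuotientGroup.mk ⟨x₀, d.hx⟩

/-- The image of `u` modulo `zP a p`. -/
abbrev ub : EBar a p := QuotientGroup.mk ⟨u, d.hu⟩

theorem gen (q : EBar a p) : ∃ i j : ℤ, q = d.xb ^ i * d.ub ^ j := by
  obtain ⟨⟨e, he⟩, rfl⟩ := QuotientGroup.mk'_surjective (zE a p) q
  obtain ⟨i, j, z, hz, hee⟩ := d.span C he
  refine ⟨i, j, ?_⟩
  show (QuotientGroup.mk (⟨e, he⟩ : eP a p) : EBar a p) = _
  rw [← QuotientGroup.mk_zpow, ← QuotientGroup.mk_zpow, ← QuotientGroup.mk_mul, mk_eq_mk]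
  show e⁻¹ * (x₀ ^ i * u ^ j) ∈ zP a p
  rw [hee, mul_inv_rev, mul_assoc, inv_mul_cancel, mul_one]
  exact inv_mem hz

theorem xb_pow : d.xb ^ p = 1 := by
  rw [← QuotientGroup.mk_pow]
  exact mk_eq_one.2 (by show x₀ ^ p ∈ zP a p; rw [d.x_pow C]; exact one_mem _)

theorem ub_pow : d.ub ^ p = 1 := by
  rw [← QuotientGroup.mk_pow]
  exact mk_eq_one.2 (by show u ^ p ∈ zP a p; rw [d.u_pow C]; exact one_mem _)

theorem xb_ne : d.xb ≠ 1 := fun h => d.x_not_mem C (mk_eq_one.1 h)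

theorem ub_ne : d.ub ≠ 1 := fun h => d.huz (mk_eq_one.1 h)

/-- `b` fixes the first line. -/
theorem act_b_xb : act a p ⟨b, d.hbc C⟩ (d.xb) = d.xb := by
  rw [act_mk]
  refine congrArg _ (Subtype.ext ?_)
  show b * x₀ * b⁻¹ = x₀
  rw [(mem_cI.1 d.hxb).symm, mul_inv_cancel_right]

/-- `b` inverts the second line. -/
theorem act_b_ub : act a p ⟨b, d.hbc C⟩ (d.ub) = (d.ub)⁻¹ := by
  rw [act_mk, ← QuotientGroup.mk_inv]
  exact congrArg _ (Subtype.ext d.hinv)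

theorem eBar_eq_one {q : EBar a p} (h : q = q⁻¹) : q = 1 := by
  obtain ⟨⟨e, he⟩, rfl⟩ := QuotientGroup.mk'_surjective (zE a p) q
  have h1 : ((QuotientGroup.mk' (zE a p)) ⟨e, he⟩) ^ p = 1 := by
    rw [← map_pow, show (⟨e, he⟩ : eP a p) ^ p = 1 from Subtype.ext (pow_eq_one_of_eP he), map_one]
  exact orderOf_eq_one_iff.1 (Nat.eq_one_of_dvd_coprimes
    ((Nat.coprime_primes d.mixed.hp Nat.prime_two).2 d.mixed.ne_two) (orderOf_dvd_of_pow_eq_one h1)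
    (orderOf_dvd_of_pow_eq_one (by rw [pow_two]; nth_rw 1 [h]; exact inv_mul_cancel _)))

/-- Only the identity fixes both lines pointwise. -/
theorem act_eq_one {y : cI a} (h1 : act a p y (d.xb) = d.xb)
    (h2 : act a p y (d.ub) = d.ub) : act a p y = 1 := by
  refine MulEquiv.ext fun q => ?_
  obtain ⟨i, j, rfl⟩ := d.gen C q
  rw [map_mul, map_zpow, map_zpow, h1, h2, MulAut.one_apply]

/-- Powers of the commutator. -/
theorem zeta_order : orderOf (x₀ * u * x₀⁻¹ * u⁻¹) = p := by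
  haveI := Fact.mk d.mixed.hp
  exact orderOf_eq_prime (d.zeta_mem C).2.2 (d.zeta_ne C)

theorem card_eBar : Nat.card (EBar a p) = p ^ 2 := by
  haveI := Fact.mk d.mixed.hp
  have hox : orderOf d.xb = p := orderOf_eq_prime (d.xb_pow C) (d.xb_ne C)
  have hou : orderOf d.ub = p := orderOf_eq_prime (d.ub_pow C) (d.ub_ne C)
  let f : zpowers d.xb × zpowers d.ub → EBar a p := fun q => (q.1 : EBar a p) * q.2
  have hf : Function.Bijective f := by
    refine ⟨fun ⟨⟨v, hv⟩, ⟨w, hw⟩⟩ ⟨⟨v', hv'⟩, ⟨w', hw'⟩⟩ he => ?_, fun q => ?_⟩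
    · have he' : v * w = v' * w' := he
      have h1 : v'⁻¹ * v = w' * w⁻¹ := by
        calc v'⁻¹ * v = v'⁻¹ * (v * w) * w⁻¹ := by group
          _ = w' * w⁻¹ := by rw [he']; group
      have h2 : v'⁻¹ * v = 1 := by
        obtain ⟨i, hi⟩ := mem_zpowers_iff.1 (show v'⁻¹ * v ∈ zpowers d.xb from mul_mem (inv_mem hv') hv)
        obtain ⟨k, hk⟩ := mem_zpowers_iff.1 (show v'⁻¹ * v ∈ zpowers d.ub from
          h1 ▸ mul_mem hw' (inv_mem hw))
        refine d.eBar_eq_one C ?_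
        have h3 : act a p ⟨b, d.hbc C⟩ (v'⁻¹ * v) = v'⁻¹ * v := by rw [← hi, map_zpow, d.act_b_xb C]
        have h4 : act a p ⟨b, d.hbc C⟩ (v'⁻¹ * v) = (v'⁻¹ * v)⁻¹ := by
          rw [← hk, map_zpow, d.act_b_ub C, inv_zpow]
        exact h3.symm.trans h4
      have hvv : v = v' := (inv_mul_eq_one.1 h2).symm
      subst hvv
      obtain rfl := mul_left_cancel he'
      rfl
    · obtain ⟨i, k, rfl⟩ := d.gen C q
      exact ⟨⟨⟨_, zpow_mem (mem_zpowers _) i⟩, ⟨_, zpow_mem (mem_zpowers _) k⟩⟩, rfl⟩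
  rw [← Nat.card_eq_of_bijective f hf, Nat.card_prod, Nat.card_zpowers, Nat.card_zpowers, hox, hou,
    pow_two]

/-- No involution other than `a` centralises a nontrivial element of the centralizer of `eP a p`. -/
theorem huniq {v : G} (hv : v ∈ cZero a p) (hv1 : v ≠ 1) {t : G} (ht : orderOf t = 2)
    (htv : Commute t v) : t = a := by
  by_contra hta
  haveI := d.cZero_cyclic C
  obtain ⟨⟨t0, ht0⟩, hgen⟩ := IsCyclic.exists_generator (α := cZero a p)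
  have hnorm : cI a ≤ normalizer (zpowers v : Set G) := fun x hx =>
    mem_normalizer_iff_of_finite fun y hy => by
      obtain ⟨n, rfl⟩ := mem_zpowers_iff.1 hy
      obtain ⟨l, hl⟩ := mem_zpowers_iff.1 (hgen ⟨v, hv⟩)
      obtain ⟨i, hi⟩ := mem_zpowers_iff.1 (hgen ⟨_, conj_mem_cZero hx ht0⟩)
      have hl' : t0 ^ l = v := congrArg Subtype.val hl
      have hi' : t0 ^ i = x * t0 * x⁻¹ := congrArg Subtype.val hi
      refine ⟨i * n, ?_⟩
      show v ^ (i * n) = x * v ^ n * x⁻¹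
      rw [← hl', ← zpow_mul, ← zpow_mul, ← conj_zpow, ← hi', ← zpow_mul]
      congr 1
      ring
  have htc : t ∈ cI a := C.min.centralizer_le_of_normal d.mixed.four.ha (C.max a d.mixed.four.ha)
    (coreC_le_cI a hv.1) hv1 hnorm (mem_centralizer_singleton_iff.2 htv.eq)
  exact hv1 ((eq_bot_iff_forall _).1 (d.cZero_inf C ht htc hta) v
    ⟨hv, mem_cI.2 htv.eq.symm⟩)

/-- A rotation centralises `O(C(a))`, or an involution of `C(a)` inverts `x₀`. -/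
theorem rot_comm_or_inverts (T : Sylow 2 G) (D : DihData (T : Subgroup G)) (hza : dz T D = a)
    (hT : (T : Subgroup G) ≤ cI a) (hbT : b ∈ (T : Subgroup G)) :
    (∀ y ∈ coreC a, Commute ((D.r : (T : Subgroup G)) : G) y) ∨
      ∃ j, orderOf j = 2 ∧ j ∈ cI a ∧ j * x₀ * j⁻¹ = x₀⁻¹ := by
  have hb := d.mixed.four.hb
  have hba : b ≠ a := d.mixed.four.hab.symm
  obtain ⟨i, hbi⟩ : ∃ i : ℤ, (⟨b, hbT⟩ : (T : Subgroup G)) = D.r ^ i * D.s := by
    rcases D.invol_cases (u := ⟨b, hbT⟩) (by rw [orderOf_mk, hb]) with e | e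
    · exact absurd ((congrArg Subtype.val e : b = dz T D).trans hza) hba
    · exact e
  set R : G := ((D.r : (T : Subgroup G)) : G) with hRdef
  have hRc : R ∈ cI a := hT (SetLike.coe_mem _)
  have hbR : b * R * b⁻¹ = R⁻¹ := by
    have h : (⟨b, hbT⟩ : (T : Subgroup G)) * D.r * (⟨b, hbT⟩ : (T : Subgroup G))⁻¹ = D.r⁻¹ := by
      rw [hbi]
      calc D.r ^ i * D.s * D.r * (D.r ^ i * D.s)⁻¹
          = D.r ^ i * (D.s * D.r * D.s⁻¹) * (D.r ^ i)⁻¹ := by group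
        _ = D.r⁻¹ := by rw [D.conj_r]; group
    exact congrArg Subtype.val h
  obtain ⟨t, ht, htc, hta, htR⟩ : ∃ t, orderOf t = 2 ∧ t ∈ cI a ∧ t ≠ a ∧ R = t * b := by
    refine ⟨((D.r ^ (1 + i) * D.s : (T : Subgroup G)) : G), ?_, hT (SetLike.coe_mem _), fun e => ?_,
      ?_⟩
    · rw [Subgroup.orderOf_coe, D.orderOf_zy]
    · exact D.ne_zpow (1 + i) _ (Subtype.ext (e.trans hza.symm))
    · have h : D.r = D.r ^ (1 + i) * D.s * (⟨b, hbT⟩ : (T : Subgroup G)) := by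
        rw [hbi, D.zy_mul_zy, add_sub_cancel_right, zpow_one]
      exact congrArg Subtype.val h
  have hinv2 : ∀ x : G, t * x * t⁻¹ = x⁻¹ → b * x * b⁻¹ = x⁻¹ → Commute R x := fun x h1 h2 => by
    refine mul_inv_eq_iff_eq_mul.1 ?_
    calc R * x * R⁻¹ = t * (b * x * b⁻¹) * t⁻¹ := by rw [htR]; group
      _ = x := by
        rw [h2, show t * x⁻¹ * t⁻¹ = (t * x * t⁻¹)⁻¹ by group, h1, inv_inv]
  have hRz : ∀ z ∈ zP a p, Commute R z := fun z hz =>
    hinv2 z (d.mixed.inverts C ht htc hta hz) (d.mixed.b_inverts C hz)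
  obtain ⟨k, hk⟩ := D.h_pow
  have hR2 : R ^ 2 ^ (k + 1) = 1 := by
    rw [pow_succ', ← hk, ← D.orderOf_r, hRdef, ← Subgroup.orderOf_coe, pow_orderOf_eq_one]
  -- an element twisted by a central factor
  have htriv : ∀ x c : G, Commute R c → R * x * R⁻¹ = x * c → c ^ 2 ^ (k + 1) = 1 := by
    intro x c hc hx
    have h : ∀ n : ℕ, R ^ n * x * (R ^ n)⁻¹ = x * c ^ n := by
      intro n
      induction n with
      | zero => simp
      | succ n ih =>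
        calc R ^ (n + 1) * x * (R ^ (n + 1))⁻¹ = R * (R ^ n * x * (R ^ n)⁻¹) * R⁻¹ := by
              rw [pow_succ']; group
          _ = R * x * R⁻¹ * (R * c ^ n * R⁻¹) := by rw [ih]; group
          _ = x * c * c ^ n := by rw [hx, (hc.pow_right n).eq, mul_inv_cancel_right]
          _ = x * c ^ (n + 1) := by rw [pow_succ', mul_assoc]
    have h1 := h (2 ^ (k + 1))
    rw [hR2, one_mul, inv_one, mul_one] at h1
    exact mul_eq_left.1 h1.symm
  have hodd1 : ∀ c ∈ coreC a, c ^ 2 ^ (k + 1) = 1 → c = 1 := fun c hc e =>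
    orderOf_eq_one_iff.1 (Nat.eq_one_of_dvd_coprimes
      ((Nat.coprime_two_right.2 (odd_orderOf_mem_coreC hc)).pow_right _) dvd_rfl
      (orderOf_dvd_of_pow_eq_one e))
  by_cases hact : act a p ⟨R, hRc⟩ = 1
  · left
    -- the rotation centralises `eP a p`
    have hRE : ∀ e ∈ eP a p, Commute R e := by
      intro e he
      have hc := act_eq_one_iff.1 hact e he
      refine mul_inv_eq_iff_eq_mul.1 ?_
      obtain ⟨c, hcd⟩ : ∃ c, c = R * e * R⁻¹ * e⁻¹ := ⟨_, rfl⟩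
      rw [← hcd] at hc
      have h1 : R * e * R⁻¹ = e * c := by
        rw [← (hc.2.1 e (eP_le_fitP a p he)).eq, hcd]; group
      rw [h1, hodd1 c (zP_le_coreC a p hc) (htriv e c (hRz c hc) h1), mul_one]
    intro y hy
    refine mul_inv_eq_iff_eq_mul.1 ?_
    obtain ⟨δ, hδ⟩ : ∃ δ, δ = y⁻¹ * (R * y * R⁻¹) := ⟨_, rfl⟩
    have hδO : δ ∈ coreC a := hδ ▸ mul_mem (inv_mem hy) (conj_mem_coreC hRc hy)
    have hδ0 : δ ∈ cZero a p := by
      refine ⟨hδO, mem_centralizer_iff.2 fun e he => ?_⟩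
      have he' : y * e * y⁻¹ ∈ eP a p := conj_mem_eP (coreC_le_cI a hy) he
      have h1 := (hRE e he).inv_left.eq
      have h2 : R * (y * e * y⁻¹) * R⁻¹ = y * e * y⁻¹ := by
        rw [(hRE _ he').eq, mul_inv_cancel_right]
      calc e * δ = y⁻¹ * (R * (y * e * y⁻¹) * R⁻¹) * (R * y * R⁻¹) := by rw [h2, hδ]; group
        _ = y⁻¹ * R * y * (e * R⁻¹) := by group
        _ = δ * e := by rw [← h1, hδ]; group
    have h1 : R * y * R⁻¹ = y * δ := by rw [hδ]; group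
    rw [h1, hodd1 δ hδO (htriv y δ (hinv2 δ (d.cZero_inverts C ht htc hta hδ0)
      (d.cZero_inverts C hb (d.hbc C) hba hδ0)) h1), mul_one]
  · right
    have hAk : (act a p ⟨R, hRc⟩) ^ 2 ^ (k + 1) = 1 := by
      rw [← map_pow, show (⟨R, hRc⟩ : cI a) ^ 2 ^ (k + 1) = 1 from Subtype.ext hR2, map_one]
    obtain ⟨m, hm⟩ : ∃ m : ℕ, orderOf (act a p ⟨R, hRc⟩) = 2 * m := by
      obtain ⟨l, -, hl⟩ := (Nat.dvd_prime_pow Nat.prime_two).1 (orderOf_dvd_of_pow_eq_one hAk)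
      rcases l with _ | l
      · rw [pow_zero, orderOf_eq_one_iff] at hl; exact absurd hl hact
      · exact ⟨2 ^ l, by rw [hl, pow_succ']⟩
    set ρ : cI a := ⟨R, hRc⟩ ^ m with hρdef
    set M := act a p ρ with hMdef
    have hM2 : ∀ q, M (M q) = q := fun q => by
      have h : M * M = 1 := by
        rw [hMdef, hρdef, map_pow, ← pow_add, ← two_mul, ← hm, pow_orderOf_eq_one]
      exact DFunLike.congr_fun h q
    have hM1 : M ≠ 1 := by
      rw [hMdef, hρdef, map_pow]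
      have hpos := orderOf_pos (act a p ⟨R, hRc⟩)
      exact pow_ne_one_of_lt_orderOf (by omega) (by omega)
    have hbρ : b * (ρ : G) * b⁻¹ = (ρ : G)⁻¹ := by
      rw [hρdef, SubgroupClass.coe_pow, ← conj_pow, hbR, inv_pow]
    have hMB : ∀ q, act a p ⟨b, d.hbc C⟩ (M q) = M (act a p ⟨b, d.hbc C⟩ q) := by
      intro q
      have e : (⟨b, d.hbc C⟩ : cI a) * ρ = ρ⁻¹ * ⟨b, d.hbc C⟩ := Subtype.ext (by
        show b * (ρ : G) = (ρ : G)⁻¹ * b
        rw [← hbρ, inv_mul_cancel_right])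
      have hinvM : (act a p ρ)⁻¹ = act a p ρ :=
        inv_eq_of_mul_eq_one_right (MulEquiv.ext hM2)
      rw [hMdef, ← MulAut.mul_apply, ← MulAut.mul_apply, ← map_mul, e, map_mul, map_inv, hinvM]
    -- powers of a nontrivial element of a line
    have hline : ∀ (q w : EBar a p), w ^ p = 1 → q ∈ zpowers w → q ≠ 1 → w ∈ zpowers q :=
      fun q w hw hq hq1 => (zpowers_eq_of_prime d.mixed.hp hw hq hq1).symm ▸ mem_zpowers w
    have hfixB : ∀ q, act a p ⟨b, d.hbc C⟩ q = q → q ∈ zpowers d.xb := by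
      intro q hq
      obtain ⟨n, l, rfl⟩ := d.gen C q
      rw [map_mul, map_zpow, map_zpow, d.act_b_xb C, d.act_b_ub C, inv_zpow] at hq
      rw [d.eBar_eq_one C (mul_left_cancel hq).symm, mul_one]
      exact zpow_mem (mem_zpowers _) n
    have hnegB : ∀ q, act a p ⟨b, d.hbc C⟩ q = q⁻¹ → q ∈ zpowers d.ub := by
      intro q hq
      obtain ⟨n, l, rfl⟩ := d.gen C q
      rw [map_mul, map_zpow, map_zpow, d.act_b_xb C, d.act_b_ub C, inv_zpow, mul_inv_rev,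
        eBar_comm a p (d.ub ^ l)⁻¹] at hq
      rw [d.eBar_eq_one C (mul_right_cancel hq), one_mul]
      exact zpow_mem (mem_zpowers _) l
    have hxinv : M d.xb = d.xb⁻¹ := by
      rw [← mul_eq_one_iff_eq_inv]
      by_contra hq1
      set q := M d.xb * d.xb
      have hqM : M q = q := by
        show M (M d.xb * d.xb) = M d.xb * d.xb
        rw [map_mul, hM2, eBar_comm]
      have hqB : q ∈ zpowers d.xb := hfixB q (by
        show act a p ⟨b, d.hbc C⟩ (M d.xb * d.xb) = M d.xb * d.xb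
        rw [map_mul, hMB, d.act_b_xb C])
      obtain ⟨n, hn⟩ := mem_zpowers_iff.1 (hline q d.xb (d.xb_pow C) hqB hq1)
      have hMx : M d.xb = d.xb := by rw [← hn, map_zpow, hqM]
      -- then the second line is inverted, against the commutator
      have hMu : M d.ub = d.ub⁻¹ := by
        rw [← mul_eq_one_iff_eq_inv]
        by_contra hr1
        have hsm : M (M d.ub * d.ub) = M d.ub * d.ub := by rw [map_mul, hM2, eBar_comm]
        have hrB : M d.ub * d.ub ∈ zpowers d.ub := hnegB _ (by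
          rw [map_mul, hMB, d.act_b_ub C, map_inv, mul_inv_rev, eBar_comm])
        obtain ⟨n', hn'⟩ := mem_zpowers_iff.1 (hline _ d.ub (d.ub_pow C) hrB hr1)
        exact hM1 (hMdef.trans (d.act_eq_one C hMx (by rw [← hn', map_zpow, hsm])))
      rw [hMdef, act_mk, mk_eq_mk, conjE_apply] at hMx
      rw [hMdef, act_mk, ← QuotientGroup.mk_inv, mk_eq_mk, conjE_apply] at hMu
      obtain ⟨z1, hz1, h1⟩ : ∃ z1 ∈ zP a p, (ρ : G) * x₀ * (ρ : G)⁻¹ = x₀ * z1 :=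
        ⟨_, inv_mem hMx, by group⟩
      obtain ⟨z2, hz2, h2⟩ : ∃ z2 ∈ zP a p, (ρ : G) * u * (ρ : G)⁻¹ = u⁻¹ * z2 :=
        ⟨_, inv_mem hMu, by simp⟩
      have hρz : Commute (ρ : G) (x₀ * u * x₀⁻¹ * u⁻¹) := by
        rw [hρdef, SubgroupClass.coe_pow]
        exact (hRz _ (d.zeta_mem C)).pow_left _
      have hxU := eP_le_fitP a p d.hx
      have huU := eP_le_fitP a p d.hu
      have hzz : Commute z1 z2 := hz1.2.1 _ hz2.1
      have h3 : (ρ : G) * (x₀ * u * x₀⁻¹ * u⁻¹) * (ρ : G)⁻¹ = (x₀ * u * x₀⁻¹ * u⁻¹)⁻¹ := by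
        have e1 : (x₀ * z1) * (u⁻¹ * z2) = x₀ * u⁻¹ * (z1 * z2) :=
          (hz1.2.1 _ (inv_mem huU)).mul_mul_mul_comm _ _
        have e2 : (u⁻¹ * z2) * (x₀ * z1) = u⁻¹ * x₀ * (z1 * z2) := by
          rw [(hz2.2.1 _ hxU).mul_mul_mul_comm u⁻¹ z1, hzz.eq]
        calc (ρ : G) * (x₀ * u * x₀⁻¹ * u⁻¹) * (ρ : G)⁻¹
            = ((ρ : G) * x₀ * (ρ : G)⁻¹) * ((ρ : G) * u * (ρ : G)⁻¹) *
                (((ρ : G) * u * (ρ : G)⁻¹) * ((ρ : G) * x₀ * (ρ : G)⁻¹))⁻¹ := by group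
          _ = x₀ * u⁻¹ * x₀⁻¹ * u := by rw [h1, h2, e1, e2]; group
          _ = u⁻¹ * (x₀ * u * x₀⁻¹ * u⁻¹)⁻¹ * u := by group
          _ = (x₀ * u * x₀⁻¹ * u⁻¹)⁻¹ := by
              rw [mul_assoc u⁻¹, (((d.zeta_mem C).2.1 u huU).inv_left).eq, inv_mul_cancel_left]
      rw [hρz.eq, mul_inv_cancel_right] at h3
      exact d.zeta_ne C (eq_one_of_inverse_self (zP_le_coreC a p (d.zeta_mem C)) h3)
    rw [hMdef, act_mk, ← QuotientGroup.mk_inv, mk_eq_mk, conjE_apply] at hxinv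
    obtain ⟨z', hz', h1⟩ : ∃ z' ∈ zP a p, (ρ : G) * x₀ * (ρ : G)⁻¹ = x₀⁻¹ * z' :=
      ⟨_, inv_mem hxinv, by simp⟩
    set j := (ρ : G) * b with hjdef
    have hjx : j * x₀ * j⁻¹ = x₀⁻¹ * z' := by
      rw [hjdef, ← h1]
      calc (ρ : G) * b * x₀ * ((ρ : G) * b)⁻¹ = (ρ : G) * (b * x₀ * b⁻¹) * (ρ : G)⁻¹ := by group
        _ = _ := by rw [(mem_cI.1 d.hxb).symm, mul_inv_cancel_right]
    have hjj : j * j = 1 := by
      calc (ρ : G) * b * ((ρ : G) * b) = (ρ : G) * (b * (ρ : G) * b⁻¹) * (b * b) := by group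
        _ = 1 := by rw [hbρ, invol_mul_self hb, mul_one, mul_inv_cancel]
    have hxne : x₀ ≠ x₀⁻¹ * z' := fun e => d.x_not_mem C (by
      have hxx : x₀ * x₀ ∈ zP a p := by
        nth_rw 2 [e]
        rwa [mul_inv_cancel_left]
      obtain ⟨l, hl⟩ := d.mixed.hp.odd_of_ne_two d.mixed.ne_two
      have h := pow_mem hxx (l + 1)
      rwa [← pow_two, ← pow_mul, show 2 * (l + 1) = p + 1 by omega, pow_succ, d.x_pow C,
        one_mul] at h)
    have hjc : j ∈ cI a := mul_mem ρ.2 (d.hbc C)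
    have hj1 : j ≠ 1 := fun e => hxne (by
      rw [e, one_mul, inv_one, mul_one] at hjx; exact hjx)
    have hja : j ≠ a := fun e => hxne (by
      rw [e, (mem_cI.1 (fitP_le_cI a p (eP_le_fitP a p d.hx))).symm, mul_inv_cancel_right] at hjx
      exact hjx)
    have hj2 : orderOf j = 2 := invol_of_mul_self hjj hj1
    refine ⟨j, hj2, hjc, ?_⟩
    have hzx : Commute z' x₀ := hz'.2.1 _ (eP_le_fitP a p d.hx)
    have hz1 : z' = 1 := by
      refine eq_one_of_inverse_self (zP_le_coreC a p hz') ?_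
      have e2 : j * (j * x₀ * j⁻¹) * j⁻¹ = x₀ := by
        calc j * (j * x₀ * j⁻¹) * j⁻¹ = (j * j) * x₀ * (j * j)⁻¹ := by group
          _ = x₀ := by rw [hjj]; group
      rw [hjx, show j * (x₀⁻¹ * z') * j⁻¹ = (j * x₀ * j⁻¹)⁻¹ * (j * z' * j⁻¹) by group, hjx,
        d.mixed.inverts C hj2 hjc hja hz', mul_inv_rev, inv_inv, mul_assoc, ← hzx.inv_left.eq,
        ← mul_assoc, mul_eq_right] at e2
      have e3 : z' * z' = 1 := by
        have := congrArg (·⁻¹) e2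
        simpa using this
      exact mul_eq_one_iff_eq_inv.1 e3
    rw [hjx, hz1, mul_one]

end SplitE0

end CfsgLib.GW
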