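import Cfsg.Agent.Lib.GW.Component.EndShape
import Cfsg.Agent.Lib.GW.OnePrime.Four
import Cfsg.Agent.Lib.ClassK.SmallSimple

/-!
The component leg: the diagonal split.  An involution inverting the fixed element `x₀` acts on the
component of its normalizer as an outer involution, so its centralizer has a torus of order prime
to the one of `C(a)`, too large for the core.
-/

set_option autoImplicit false
set_option linter.unusedSectionVars false
set_option linter.style.haveILetI false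

namespace CfsgLib.GW.Component

open Subgroup CfsgLib.Invol
open scoped MatrixGroups

universe u

variable {G : Type u} [Group G] [Finite G]

/-- An involution of `PGL₂(q)` outside `PSL₂(q)` centralizes a cyclic subgroup of `PSL₂(q)` of
order `(q + e) / 2`, where `4` divides `q - e`. -/
theorem exists_outer_torus {F : Type} [Field F] [Fintype F] (hodd : Odd (Fintype.card F))
    {x : PGL(2, F)}
    (hx : orderOf x = 2) (hxL : x ∉ CfsgLib.Geom.Moebius.imL F) {e : ℤ} (he : e = 1 ∨ e = -1)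
    (h4 : (4 : ℤ) ∣ (Fintype.card F : ℤ) - e) :
    ∃ y ∈ CfsgLib.Geom.Moebius.imL F, ∃ w ∈ CfsgLib.Geom.Moebius.imL F, Commute y x ∧
      Commute w x ∧ orderOf w = 2 ∧ w * y * w⁻¹ = y⁻¹ ∧
      2 * (orderOf y : ℤ) = (Fintype.card F : ℤ) + e := by
  haveI := CfsgLib.Geom.Moebius.finite_pgl_two (F := F)
  obtain ⟨T, hT, hxT, hcard, -, hall, hswap⟩ := PGL.exists_torus hodd hx (Commute.refl x) (PGL.ne_one_of_two hx)
  have hidx := CfsgLib.Geom.Moebius.imL_index (F := F) hodd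
  obtain ⟨⟨t, ht⟩, hgen⟩ := hT.exists_generator
  have hmem : ∀ z ∈ T, z ∈ zpowers t := fun z hz => by
    obtain ⟨i, hi⟩ := mem_zpowers_iff.1 (hgen ⟨z, hz⟩)
    exact ⟨i, congrArg Subtype.val hi⟩
  have hord : orderOf t = Nat.card T := by
    rw [← Subgroup.orderOf_mk t ht]; exact orderOf_eq_card_of_forall_mem_zpowers hgen
  obtain ⟨i, hi⟩ := mem_zpowers_iff.1 (hmem x hxT)
  rcases Int.even_or_odd i with ⟨r, rfl⟩ | hiodd
  · refine absurd ?_ hxL
    rw [← hi, zpow_add]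
    exact Subgroup.mul_self_mem_of_index_two hidx _
  have hdvd : (Nat.card T : ℤ) ∣ i * 2 := by
    rw [← hord, orderOf_dvd_iff_zpow_eq_one, zpow_mul, hi]
    exact_mod_cast orderOf_dvd_iff_pow_eq_one.1 hx.dvd
  have hn4 : ¬ (4 : ℤ) ∣ Nat.card T := fun h => by
    obtain ⟨c, hc⟩ := h.trans hdvd
    obtain ⟨r, hr⟩ := hiodd
    omega
  have hTc : (Nat.card T : ℤ) = Fintype.card F + e := by
    obtain ⟨k, hk⟩ := hodd
    rcases hcard with h | h <;> rcases he with rfl | rfl <;>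
      (rw [h] at hn4 ⊢; push_cast [hk] at h4 hn4 ⊢; omega)
  obtain ⟨u, hux, huT⟩ := hswap (by rw [← pow_two]; exact orderOf_dvd_iff_pow_eq_one.1 hx.dvd)
  have hinvT : ∀ v, Commute v x → v ∉ T → v * v = 1 ∧ v * t ^ 2 * v⁻¹ = (t ^ 2)⁻¹ := by
    intro v hv hvT
    have hv2 := (hall v hv).resolve_left hvT
    have htx : Commute t x := hi ▸ (Commute.refl t).zpow_right i
    have hvt := (hall (v * t) (hv.mul_left htx)).resolve_left fun h' =>
      hvT (by simpa using mul_mem h' (inv_mem ht))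
    have h1 : v * t * v⁻¹ = t⁻¹ := by
      rw [inv_eq_of_mul_eq_one_left hv2]
      exact eq_inv_of_mul_eq_one_left (by simpa [mul_assoc] using hvt)
    exact ⟨hv2, by rw [← conj_pow, h1, inv_pow]⟩
  obtain ⟨w, hwL, hwx, hwT⟩ : ∃ w ∈ CfsgLib.Geom.Moebius.imL F, Commute w x ∧ w ∉ T := by
    by_cases hu : u ∈ CfsgLib.Geom.Moebius.imL F
    · exact ⟨u, hu, hux, huT⟩
    · refine ⟨u * x, ?_, hux.mul_left (Commute.refl x), fun h' => huT ?_⟩
      · rw [Subgroup.mul_mem_iff_of_index_two hidx]; exact iff_of_false hu hxL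
      · simpa using mul_mem h' (inv_mem hxT)
  obtain ⟨hw2, hwt⟩ := hinvT w hwx hwT
  refine ⟨t ^ 2, ?_, w, hwL, ?_, hwx,
    orderOf_eq_prime (by rw [pow_two]; exact hw2) (fun e' => hwT (e' ▸ one_mem T)), hwt, ?_⟩
  · rw [pow_two]; exact Subgroup.mul_self_mem_of_index_two hidx t
  · rw [← hi]; exact ((Commute.refl t).zpow_right i).pow_left 2
  · obtain ⟨k, hk⟩ : 2 ∣ orderOf t := by
      rw [hord, ← Int.natCast_dvd_natCast, hTc]
      obtain ⟨k, hk⟩ := hodd
      rcases he with rfl | rfl <;> (push_cast [hk]; omega)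
    rw [orderOf_pow_of_dvd two_ne_zero ⟨k, hk⟩, ← hTc, ← hord, hk, Nat.mul_div_cancel_left _ two_pos]
    push_cast; ring

/-- The diagonal split does not occur: only a bound on the orders of the core elements that are
inverted by another involution is needed. -/
theorem split_false_inverted (M : Min G) {a b l x0 j : G} {C0 : Subgroup G} {p : ℕ} (h : Four a b l)
    (hp : p.Prime) (hx : orderOf x0 = p) (hxa : x0 ∈ coreC a) (hxb : Commute b x0)
    (hlN : l ∈ normalizer (zpowers x0 : Set G)) (hC0a : C0 ≤ coreC a) (hC0x : ∀ v ∈ C0, Commute v x0)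
    (hinv : ∀ v ∈ C0, b * v * b⁻¹ = v⁻¹)
    (huniq : ∀ v ∈ C0, v ≠ 1 → ∀ t, orderOf t = 2 → Commute t v → t = a)
    (hpC : p ∣ Nat.card C0)
    (hord : ∀ x ∈ coreC a, ∀ t, orderOf t = 2 → t ∈ cI a → t ≠ a → t * x * t⁻¹ = x⁻¹ →
      ∃ m, 0 < m ∧ m ≤ p + 1 ∧ orderOf x ∣ Nat.card C0 * p ^ 2 * m)
    (hj : orderOf j = 2) (hjx : j * x0 * j⁻¹ = x0⁻¹) : False := by
  classical
  haveI : Fact (Nat.Prime 2) := ⟨Nat.prime_two⟩
  have hx1 : x0 ≠ 1 := fun e => hp.ne_one (by rw [← hx, e, orderOf_one])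
  have hxodd : Odd (orderOf x0) := odd_orderOf_mem_coreC hxa
  have hax : Commute a x0 := (mem_cI.1 (coreC_le_cI a hxa)).symm
  set X := zpowers x0
  set N := normalizer (X : Set G) with hNdef
  have hXne : X ≠ ⊥ := fun e => hx1 (zpowers_eq_bot.1 e)
  have hXtop : X ≠ ⊤ := fun e => M.cI_ne_top (invol_ne_one h.ha) (top_le_iff.1
    (e ▸ zpowers_le.2 (coreC_le_cI a hxa)))
  have hN : N ≠ ⊤ := M.normalizer_ne_top hXne hXtop
  have hcN : ∀ y : G, Commute y x0 → y ∈ N := fun y hy => mem_normalizer_iff_of_finite fun z hz => by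
    obtain ⟨i, rfl⟩ := mem_zpowers_iff.1 hz
    rw [(hy.zpow_right i).eq, mul_inv_cancel_right]; exact zpow_mem (mem_zpowers x0) i
  have hjN : j ∈ N := mem_normalizer_iff_of_finite fun z hz => by
    obtain ⟨i, rfl⟩ := mem_zpowers_iff.1 hz
    rw [← conj_zpow, hjx]; exact zpow_mem (inv_mem (mem_zpowers x0)) i
  have haN : a ∈ N := hcN a hax
  have hbN : b ∈ N := hcN b hxb
  have hC0N : C0 ≤ N := fun v hv => hcN v (hC0x v hv)
  haveI hOn : (Cfsg.oddCore ↥N).Normal := CfsgLib.Solvable.pPrimeCore_normal 2 _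
  set π := QuotientGroup.mk' (Cfsg.oddCore ↥N) with hπ
  have hker : ∀ v (hv : v ∈ C0), π ⟨v, hC0N hv⟩ = 1 → v = 1 := fun v hv h1 =>
    eq_one_of_unique h.ha h.hb haN hbN hlN h.ga
      (fun w hw => huniq w ((zpowers_le.2 hv) hw))
      ⟨⟨v, hC0N hv⟩, (QuotientGroup.eq_one_iff _).1 h1, rfl⟩
      (mem_cI.1 (coreC_le_cI a (hC0a hv))).symm (hinv v hv)
  have hC01 : C0 ≠ ⊥ := fun e => hp.ne_one (Nat.dvd_one.1 (by rwa [e, card_bot] at hpC))
  have hns : ¬ Group.IsSolvable N := fun hs => hC01 ((eq_bot_iff_forall _).2 fun v hv =>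
    hker v hv ((QuotientGroup.eq_one_iff _).2 (OnePrime.mem_oddCore_of_commute M hs (v := ⟨a, haN⟩)
      h.ha (odd_orderOf_mem_coreC (hC0a hv)) (mem_cI.1 (coreC_le_cI a (hC0a hv))))))
  let f : C0 →* ↥N ⧸ Cfsg.oddCore ↥N := π.comp (inclusion hC0N)
  have hf : Function.Injective f := (injective_iff_map_eq_one f).2 fun v hv =>
    Subtype.ext (hker v v.2 hv)
  -- the centralizer of `x₀` in the normalizer
  set Cn : Subgroup N := (cI x0).subgroupOf N with hCn
  haveI hCnn : Cn.Normal := ⟨fun n hn y => by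
    have hy : ∀ z ∈ X, (y : G)⁻¹ * z * y ∈ X := fun z hz => (mem_normalizer_iff''.1 y.2 z).1 hz
    obtain ⟨i, hi⟩ := mem_zpowers_iff.1 (hy x0 (mem_zpowers x0))
    have h1 : Commute (n : G) ((y : G)⁻¹ * x0 * y) := hi ▸ (OnePrime.mem_cI'.1 hn).zpow_right i
    have h2 := h1.map (MulAut.conj (y : G)).toMonoidHom
    refine OnePrime.mem_cI'.2 ?_
    simpa [MulAut.conj_apply, mul_assoc] using h2⟩
  -- an involution inverting `x₀` is outside the image of the centralizer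
  have hJn : π ⟨j, hjN⟩ ∉ Cn.map π := by
    rintro ⟨n, hn, hne⟩
    set y : N := n⁻¹ * ⟨j, hjN⟩ with hy
    have hyO : y ∈ Cfsg.oddCore ↥N := (QuotientGroup.eq_one_iff _).1 (by
      show π y = 1
      rw [hy, map_mul, map_inv, hne, inv_mul_cancel])
    have hnx : (n : G)⁻¹ * x0⁻¹ * n = x0⁻¹ := by
      have hnc : Commute (n : G) x0 := OnePrime.mem_cI'.1 hn
      rw [mul_assoc, ← hnc.inv_right.eq, inv_mul_cancel_left]
    have hyx : (y : G) * x0 * (y : G)⁻¹ = x0⁻¹ := by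
      calc (y : G) * x0 * (y : G)⁻¹ = (n : G)⁻¹ * (j * x0 * j⁻¹) * n := by
            simp [hy, mul_assoc]
        _ = x0⁻¹ := by rw [hjx, hnx]
    have hy2 : Commute ((y : G) * y) x0 := by
      refine mul_inv_eq_iff_eq_mul.1 ?_
      calc (y : G) * y * x0 * ((y : G) * y)⁻¹ = y * ((y : G) * x0 * (y : G)⁻¹) * (y : G)⁻¹ := by group
        _ = x0 := by rw [hyx, ← conj_inv, hyx, inv_inv]
    have hyo : Odd (orderOf (y : G)) := by
      rw [Subgroup.orderOf_coe]
      exact (Nat.coprime_two_right.1 (CfsgLib.Solvable.pPrimeCore_coprime 2)).of_dvd_nat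
        (Subgroup.orderOf_dvd_natCard _ hyO)
    obtain ⟨k, hk⟩ := hyo
    have hyy : (y : G) = ((y : G) * y) ^ (k + 1) := by
      rw [← pow_two, ← pow_mul, show 2 * (k + 1) = orderOf (y : G) + 1 by omega, pow_succ,
        pow_orderOf_eq_one, one_mul]
    have hyc : Commute (y : G) x0 := hyy ▸ hy2.pow_left (k + 1)
    rw [hyc.eq, mul_inv_cancel_right] at hyx
    refine hx1 (OnePrime.eq_one_of_odd_sq (H := X) (by rw [Nat.card_zpowers]; exact hxodd)
      (mem_zpowers x0) ?_)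
    nth_rewrite 2 [hyx]
    exact mul_inv_cancel x0
  have haN2 : orderOf (⟨a, haN⟩ : N) = 2 := by rw [orderOf_mk, h.ha]
  have hbN2 : orderOf (⟨b, hbN⟩ : N) = 2 := by rw [orderOf_mk, h.hb]
  have hjN2 : orderOf (⟨j, hjN⟩ : N) = 2 := by rw [orderOf_mk, hj]
  set Q := ↥N ⧸ Cfsg.oddCore ↥N
  set A := π ⟨a, haN⟩ with hA
  set B := π ⟨b, hbN⟩ with hB
  set J := π ⟨j, hjN⟩ with hJ
  have hA2 : orderOf A = 2 := orderOf_mk'_invol haN2
  have hB2 : orderOf B = 2 := orderOf_mk'_invol hbN2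
  have hJ2 : orderOf J = 2 := orderOf_mk'_invol hjN2
  have hAimg : A ∈ Cn.map π := ⟨⟨a, haN⟩, mem_subgroupOf.2 (OnePrime.mem_cI'.2 hax), rfl⟩
  haveI hImg : (Cn.map π).Normal := hCnn.map π (QuotientGroup.mk'_surjective _)
  have hsimple : ∀ (L : Subgroup Q) [L.Normal], IsSimpleGroup L → A ∈ L → L ≤ Cn.map π := by
    intro L _ hL hAL
    haveI := hL
    rcases IsSimpleGroup.eq_bot_or_eq_top_of_normal ((Cn.map π).subgroupOf L) inferInstance with e | e
    · exfalso
      have h1 : (⟨A, hAL⟩ : L) ∈ (Cn.map π).subgroupOf L := mem_subgroupOf.2 hAimg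
      rw [e, mem_bot] at h1
      exact invol_ne_one hA2 (congrArg Subtype.val h1)
    · exact subgroupOf_eq_top.1 e
  rcases M.shape_cases hN hns with ⟨⟨e⟩⟩ | ⟨T, E, L, hLn, F, iF, iFt, hodd, hq, hC, ⟨e⟩⟩
  · -- the alternating group is simple
    haveI := alternatingGroup.isSimpleGroup (α := Fin 7) (by simp)
    haveI : Nontrivial Q := e.toEquiv.nontrivial
    haveI : IsSimpleGroup Q :=
      IsSimpleGroup.isSimpleGroup_of_surjective e.symm.toMonoidHom e.symm.surjective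
    rcases IsSimpleGroup.eq_bot_or_eq_top_of_normal (Cn.map π) hImg with e' | e'
    · rw [e', mem_bot] at hAimg; exact invol_ne_one hA2 hAimg
    · exact hJn (e' ▸ mem_top _)
  -- the linear component
  have h4 : 4 ≤ Fintype.card F := hq
  haveI := CfsgLib.Geom.Moebius.finite_pgl_two (F := F)
  obtain ⟨P, χ, hχ, hLP, hχL, hχL', hinvP, hrealP⟩ := exists_linear hodd T E L e hC
  have hiff : ∀ x : P, χ x ∈ CfsgLib.Geom.Moebius.imL F ↔ (x : Q) ∈ L := fun x =>
    ⟨fun hx => by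
      obtain ⟨x', hx', e'⟩ := hχL' _ hx
      exact hχ e' ▸ hx', hχL x⟩
  have h2idx := CfsgLib.Geom.Moebius.imL_index (F := F) hodd
  set gg := π ⟨l, hlN⟩
  have hgA : gg * A * gg⁻¹ = B := by
    rw [hA, hB, ← map_inv, ← map_mul, ← map_mul]; exact congrArg π (Subtype.ext h.ga)
  have hgB : gg * B * gg⁻¹ = A * B := by
    rw [hA, hB, ← map_inv, ← map_mul, ← map_mul, ← map_mul]; exact congrArg π (Subtype.ext h.gb)
  have hAL : A ∈ L := by
    by_contra hAL
    have hBL : B ∉ L := fun hBL => hAL (by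
      have := hLn.conj_mem B hBL gg⁻¹
      rw [← hgA] at this
      simpa [mul_assoc] using this)
    have hABL : A * B ∉ L := fun hABL => hBL (by
      have := hLn.conj_mem (A * B) hABL gg⁻¹
      rw [← hgB] at this
      simpa [mul_assoc] using this)
    refine hABL ((hiff (⟨A, hinvP _ hA2⟩ * ⟨B, hinvP _ hB2⟩)).1 ?_)
    rw [map_mul, Subgroup.mul_mem_iff_of_index_two h2idx, hiff, hiff]
    simp [hAL, hBL]
  have hBL : B ∈ L := hgA ▸ hLn.conj_mem A hAL gg
  haveI := CfsgLib.ClassK.isSimpleGroup_psl_two (F := F) h4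
  haveI : Nontrivial L := e.toEquiv.nontrivial
  have hLs : IsSimpleGroup L :=
    IsSimpleGroup.isSimpleGroup_of_surjective e.symm.toMonoidHom e.symm.surjective
  have hJL : J ∉ L := fun hJL => hJn (hsimple L hLs hAL hJL)
  -- the torus of `a`
  set CA := centralizer ({A} : Set Q) ⊓ L with hCA
  have hCAcard : Nat.card CA = Fintype.card F - 1 ∨ Nat.card CA = Fintype.card F + 1 := by
    have hc : Nat.card CA = Nat.card (centralizer ({e ⟨A, hAL⟩} : Set _)) := by
      refine Nat.card_congr ⟨fun x => ⟨e ⟨x, x.2.2⟩, ?_⟩, fun x => ⟨(e.symm x : L), ?_, (e.symm _).2⟩,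
        fun x => by simp, fun x => by simp⟩
      · rw [mem_centralizer_singleton_iff, ← map_mul, ← map_mul]
        exact congrArg e (Subtype.ext (mem_centralizer_singleton_iff.1 x.2.1))
      · have h' := congrArg e.symm (mem_centralizer_singleton_iff.1 x.2)
        rw [map_mul, map_mul, e.symm_apply_apply] at h'
        exact mem_centralizer_singleton_iff.2 (congrArg Subtype.val h')
    rw [hc]
    exact CfsgLib.Recog.SuborbitThree.card_centralizer_involution_psl hodd h4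
      (by rw [MulEquiv.orderOf_eq, orderOf_mk, hA2])
  have hfodd : Odd (Nat.card C0) := (odd_coreC a).of_dvd_nat (card_dvd_of_le hC0a)
  have hfL : f.range ≤ CA := by
    rintro y ⟨v, rfl⟩
    refine ⟨mem_centralizer_singleton_iff.2 (Commute.map (Subtype.ext
      (mem_cI.1 (coreC_le_cI a (hC0a v.2))) : Commute (inclusion hC0N v) (⟨a, haN⟩ : N)) π).eq, ?_⟩
    have hyo : Odd (orderOf (f v)) := hfodd.of_dvd_nat
      ((orderOf_map_dvd f v).trans (orderOf_dvd_natCard v))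
    have hyP : f v ∈ P := hrealP _ B hyo (by
      rw [hB, ← map_inv f, show f v⁻¹ = π (inclusion hC0N v⁻¹) from rfl,
        show f v = π (inclusion hC0N v) from rfl, ← map_inv π, ← map_mul, ← map_mul]
      exact congrArg π (Subtype.ext (by simpa using hinv (v : G) v.2)))
    obtain ⟨r, hr⟩ := hyo
    have h2 : (⟨f v, hyP⟩ : P) ^ (2 * r + 1) = 1 := by
      rw [← hr]
      exact Subtype.ext (pow_orderOf_eq_one (f v))
    have hsq : (χ ⟨f v, hyP⟩) ^ 2 ∈ CfsgLib.Geom.Moebius.imL F := by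
      rw [pow_two]; exact Subgroup.mul_self_mem_of_index_two h2idx _
    have h3 : χ ⟨f v, hyP⟩ = ((χ ⟨f v, hyP⟩) ^ 2) ^ (r + 1) := by
      rw [← pow_mul, show 2 * (r + 1) = 2 * r + 1 + 1 by omega, pow_succ,
        ← map_pow, h2, map_one, one_mul]
    refine (hiff ⟨f v, hyP⟩).1 ?_
    rw [h3]
    exact pow_mem hsq _
  have hdC : Nat.card C0 ∣ Nat.card CA := by
    have h1 : Nat.card f.range = Nat.card C0 :=
      (Nat.card_congr (MonoidHom.ofInjective hf).toEquiv).symm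
    exact h1 ▸ card_dvd_of_le hfL
  have h4d : 4 ∣ Nat.card CA := by
    have hne : A ≠ B := fun hAB => mk'_ne_of_commute haN2 hbN2 (Subtype.ext h.comm)
      (fun e' => h.hab (congrArg Subtype.val e')) hAB
    have hcm : Commute A B := Commute.map (Subtype.ext h.comm : Commute (⟨a, haN⟩ : N) ⟨b, hbN⟩) π
    have hle : zpowers A ⊔ zpowers B ≤ CA := sup_le
      (zpowers_le.2 ⟨mem_centralizer_singleton_iff.2 rfl, hAL⟩)
      (zpowers_le.2 ⟨mem_centralizer_singleton_iff.2 hcm.symm.eq, hBL⟩)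
    refine dvd_trans ?_ (card_dvd_of_le hle)
    obtain ⟨k, hk⟩ := (OnePrime.isPGroup_four hA2 hB2 hcm).exists_card_eq
    rw [hk]
    rcases k with _ | _ | k
    · exfalso
      rw [pow_zero, card_eq_one] at hk
      exact invol_ne_one hA2 (mem_bot.1 (hk ▸ mem_sup_left (mem_zpowers A)))
    · exfalso
      rw [pow_one] at hk
      have he := eq_of_le_of_card_ge (le_sup_left : zpowers A ≤ zpowers A ⊔ zpowers B)
        (by rw [hk, Nat.card_zpowers, hA2])
      rcases OnePrime.invol_zpowers hA2 (he.symm ▸ mem_sup_right (mem_zpowers B)) with e1 | e1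
      · exact invol_ne_one hB2 e1
      · exact hne e1.symm
    · exact pow_dvd_pow 2 (Nat.le_add_left 2 k)
  have h4C : 4 * Nat.card C0 ∣ Nat.card CA :=
    Nat.Coprime.mul_dvd_of_dvd_of_dvd ((Nat.coprime_two_left.2 hfodd).pow_left 2) h4d hdC
  obtain ⟨ε, hε, hqe⟩ : ∃ ε : ℤ, (ε = 1 ∨ ε = -1) ∧ (Fintype.card F : ℤ) - ε = Nat.card CA := by
    rcases hCAcard with hc | hc
    · exact ⟨1, Or.inl rfl, by rw [hc]; omega⟩
    · exact ⟨-1, Or.inr rfl, by rw [hc]; omega⟩
  -- the torus of the outer involution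
  have hJP : J ∈ P := hinvP _ hJ2
  obtain ⟨z, hzL, w, hwL, hzx, hwx, hwo, hwz, hzo⟩ := exists_outer_torus hodd (x := χ ⟨J, hJP⟩)
    (by rw [orderOf_injective χ hχ, orderOf_mk, hJ2]) (fun hm' => hJL ((hiff _).1 hm')) hε
    (by rw [hqe]; exact_mod_cast h4d)
  obtain ⟨y, hyL, rfl⟩ := hχL' z hzL
  obtain ⟨i2, hiL, rfl⟩ := hχL' w hwL
  rw [orderOf_injective χ hχ, ← Subgroup.orderOf_coe] at hzo
  set s := orderOf (y : Q) with hs
  have hsodd : Odd s := by
    have h4' : (4 : ℤ) ∣ (Fintype.card F : ℤ) - ε := by rw [hqe]; exact_mod_cast h4d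
    obtain ⟨r, hr⟩ := h4'
    rw [Nat.odd_iff]
    rcases hε with rfl | rfl <;> omega
  have hyJ : Commute (y : Q) J :=
    congrArg Subtype.val (hχ (show χ (y * ⟨J, hJP⟩) = χ (⟨J, hJP⟩ * y) by
      rw [map_mul, map_mul, hzx.eq]))
  have hi2 : orderOf (i2 : Q) = 2 := by rw [Subgroup.orderOf_coe, ← orderOf_injective χ hχ, hwo]
  have hiJ : Commute (i2 : Q) J :=
    congrArg Subtype.val (hχ (show χ (i2 * ⟨J, hJP⟩) = χ (⟨J, hJP⟩ * i2) by
      rw [map_mul, map_mul, hwx.eq]))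
  have hiy : (i2 : Q) * y * (i2 : Q)⁻¹ = (y : Q)⁻¹ := by
    have h' : i2 * y * i2⁻¹ = y⁻¹ :=
      hχ (by rw [map_mul, map_mul, map_inv, map_inv]; exact hwz)
    exact congrArg Subtype.val h'
  -- lift to the centralizer of `j`
  have hlift : ∀ v : Q, Commute v J → ∃ x : N, π x = v ∧ Commute (⟨j, hjN⟩ : N) x := by
    intro v hv
    have hP : IsPGroup 2 (zpowers (⟨j, hjN⟩ : N)) :=
      IsPGroup.of_card (n := 1) (by rw [Nat.card_zpowers, hjN2, pow_one])
    have hv' : v ∈ (centralizer (zpowers (⟨j, hjN⟩ : N) : Set N)).map π := by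
      rw [CfsgLib.Comp.map_centralizer_eq (CfsgLib.Solvable.pPrimeCore_coprime 2) hP,
        MonoidHom.map_zpowers]
      refine mem_centralizer_iff.2 fun u hu => ?_
      obtain ⟨i, rfl⟩ := mem_zpowers_iff.1 hu
      exact (hv.zpow_right i).eq.symm
    obtain ⟨x, hxc, hxy⟩ := hv'
    exact ⟨x, hxy, mem_centralizer_iff.1 hxc _ (mem_zpowers _)⟩
  obtain ⟨x, hxy, hxj⟩ := hlift _ hyJ
  obtain ⟨n, hni, hnj⟩ := hlift _ hiJ
  -- an involution over `i2`
  obtain ⟨k, o, ho, hko⟩ := Nat.exists_eq_two_pow_mul_odd (orderOf_pos n).ne'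
  set i1 := n ^ o with hi1
  have hi1π : π i1 = (i2 : Q) := by
    obtain ⟨r, rfl⟩ := ho
    rw [hi1, map_pow, hni, pow_succ, pow_mul,
      orderOf_dvd_iff_pow_eq_one.1 hi2.dvd, one_pow, one_mul]
  have hi1k : i1 ^ 2 ^ k = 1 := by
    rw [hi1, ← pow_mul, mul_comm, ← hko, pow_orderOf_eq_one]
  have hi1one : i1 ≠ 1 := fun e' => invol_ne_one hi2 (by rw [← hi1π, e', map_one])
  have hi1o : orderOf i1 = 2 := by
    refine orderOf_eq_prime ?_ hi1one
    have hmem : i1 ^ 2 ∈ Cfsg.oddCore ↥N := (QuotientGroup.eq_one_iff _).1 (by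
      show π (i1 ^ 2) = 1
      rw [map_pow, hi1π, orderOf_dvd_iff_pow_eq_one.1 hi2.dvd])
    refine orderOf_eq_one_iff.1 (Nat.eq_one_of_dvd_coprimes
      (Nat.Coprime.pow_right k (Nat.Coprime.coprime_dvd_left (Subgroup.orderOf_dvd_natCard _ hmem)
        (CfsgLib.Solvable.pPrimeCore_coprime 2))) dvd_rfl ?_)
    rw [orderOf_dvd_iff_pow_eq_one, ← pow_mul, mul_comm, pow_mul, hi1k, one_pow]
  have hi1j : i1 ≠ ⟨j, hjN⟩ := fun e' => hJL (by rw [hJ, ← e', hi1π]; exact hiL)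
  have hi1c : Commute (⟨j, hjN⟩ : N) i1 := hnj.pow_right o
  -- an element inverted by `i1` over a generator of the torus
  set x1 := x⁻¹ * (i1 * x * i1⁻¹) with hx1def
  have hi1sq : i1⁻¹ = i1 := inv_eq_of_mul_eq_one_right (by
    rw [← pow_two]; exact orderOf_dvd_iff_pow_eq_one.1 hi1o.dvd)
  have hx1i : i1 * x1 * i1⁻¹ = x1⁻¹ := by
    simp only [hx1def, mul_inv_rev, inv_inv, hi1sq]
    have h' : i1 * i1 = 1 := by rw [← pow_two]; exact orderOf_dvd_iff_pow_eq_one.1 hi1o.dvd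
    simp [mul_assoc, h']
  have hx1c : Commute (⟨j, hjN⟩ : N) x1 :=
    hxj.inv_right.mul_right ((hi1c.mul_right hxj).mul_right hi1c.inv_right)
  have hx1π : π x1 = (y : Q)⁻¹ ^ 2 := by
    rw [hx1def, map_mul, map_mul, map_mul, map_inv, map_inv, hxy, hi1π, hiy, pow_two]
  obtain ⟨k', o', ho', hko'⟩ := Nat.exists_eq_two_pow_mul_odd (orderOf_pos x1).ne'
  set x2 := x1 ^ 2 ^ k' with hx2def
  have hx2o : orderOf x2 = o' := by
    rw [hx2def, orderOf_pow_of_dvd (pow_ne_zero _ two_ne_zero) ⟨o', hko'⟩, hko',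
      Nat.mul_div_cancel_left _ (Nat.two_pow_pos k')]
  have hsx2 : s ∣ orderOf x2 := by
    have h1 : orderOf (π x2) ∣ orderOf x2 := orderOf_map_dvd π x2
    rw [hx2def, map_pow, hx1π, ← pow_mul, inv_pow, orderOf_inv,
      orderOf_pow' _ (mul_ne_zero two_ne_zero (pow_ne_zero _ two_ne_zero))] at h1
    rwa [Nat.Coprime.gcd_eq_one (Nat.Coprime.mul_right (Nat.coprime_two_right.2 hsodd)
      ((Nat.coprime_two_right.2 hsodd).pow_right k')), Nat.div_one] at h1
  have hx2mem : (x2 : G) ∈ coreC j := M.mem_coreC hj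
    (mem_cI.2 (congrArg Subtype.val (hx1c.pow_right (2 ^ k')).symm.eq))
    (by rw [Subgroup.orderOf_coe, hx2o]; exact ho')
  have hx2i : i1 * x2 * i1⁻¹ = x2⁻¹ := by rw [hx2def, ← conj_pow, hx1i, inv_pow]
  -- transport to `a`
  obtain ⟨c, hc⟩ := isConj_iff.1 (M.one_class hj h.ha)
  set xa := c * (x2 : G) * c⁻¹ with hxadef
  have hxamem : xa ∈ coreC a := by
    rw [← hc, ← coreC_conj]
    exact ⟨x2, hx2mem, rfl⟩
  have hord' : orderOf xa = orderOf x2 := by
    rw [← Subgroup.orderOf_coe x2]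
    exact orderOf_injective (MulAut.conj c).toMonoidHom (MulEquiv.injective _) (x2 : G)
  obtain ⟨m, hm0, hm, hdvd⟩ := hord xa hxamem (c * (i1 : G) * c⁻¹)
    (by
      rw [← hi1o, ← Subgroup.orderOf_coe i1]
      exact orderOf_injective (MulAut.conj c).toMonoidHom (MulEquiv.injective _) (i1 : G))
    (by
      rw [← hc, ← cI_conj]
      exact ⟨i1, mem_cI.2 (congrArg Subtype.val hi1c.symm.eq), rfl⟩)
    (fun e' => hi1j (Subtype.ext (by
      have := e'.trans hc.symm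
      simpa using this)))
    (by
      have h' : (i1 : G) * (x2 : G) * (i1 : G)⁻¹ = (x2 : G)⁻¹ := congrArg Subtype.val hx2i
      rw [hxadef, show c * (i1 : G) * c⁻¹ * (c * (x2 : G) * c⁻¹) * (c * (i1 : G) * c⁻¹)⁻¹ =
        c * ((i1 : G) * x2 * (i1 : G)⁻¹) * c⁻¹ by group, h']
      group)
  have hsd : s ∣ Nat.card C0 * p ^ 2 * m := hsx2.trans (hord' ▸ hdvd)
  -- `s` is prime to `C₀`
  have hcop : Nat.Coprime s (Nat.card C0) := by
    rw [Nat.coprime_iff_gcd_eq_one]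
    set d := Nat.gcd s (Nat.card C0) with hd
    have hds : (d : ℤ) ∣ 2 * s := (Int.natCast_dvd_natCast.2 (Nat.gcd_dvd_left _ _)).mul_left 2
    have hdc : (d : ℤ) ∣ (Fintype.card F : ℤ) - ε := by
      rw [hqe]; exact Int.natCast_dvd_natCast.2 ((Nat.gcd_dvd_right _ _).trans hdC)
    have h2 : (d : ℤ) ∣ 2 := by
      have h3 := dvd_sub hds hdc
      rw [show (s : ℤ) = s from rfl, hzo] at h3
      have h4' : (Fintype.card F : ℤ) + ε - ((Fintype.card F : ℤ) - ε) = 2 * ε := by ring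
      rw [h4'] at h3
      rcases hε with rfl | rfl
      · simpa using h3
      · simpa using h3
    have h3 : d ∣ 2 := Int.natCast_dvd_natCast.1 h2
    rcases (Nat.dvd_prime Nat.prime_two).1 h3 with e1 | e1
    · exact e1
    · exfalso
      exact Nat.not_even_iff_odd.2 hfodd (even_iff_two_dvd.2 (e1 ▸ Nat.gcd_dvd_right _ _))
  have hcopp : Nat.Coprime s p := hcop.coprime_dvd_right hpC
  have hsm : s ∣ m := (Nat.Coprime.mul_right hcop (hcopp.pow_right 2)).dvd_of_dvd_mul_left hsd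
  have hle := Nat.le_of_dvd hm0 hsm
  have hpn := Nat.le_of_dvd Nat.card_pos hpC
  have hbig := Nat.le_of_dvd Nat.card_pos h4C
  have hp3 : 3 ≤ p := by
    obtain ⟨r, hr⟩ := hxodd
    have := hp.two_le
    omega
  rcases hε with rfl | rfl <;> omega

/-- The diagonal split does not occur. -/
theorem split_false (M : Min G) {a b l x0 j : G} {C0 : Subgroup G} {p m : ℕ} (h : Four a b l)
    (hp : p.Prime) (hx : orderOf x0 = p) (hxa : x0 ∈ coreC a) (hxb : Commute b x0)
    (hlx : Commute l x0) (hC0a : C0 ≤ coreC a) (hC0x : ∀ v ∈ C0, Commute v x0)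
    (hinv : ∀ v ∈ C0, b * v * b⁻¹ = v⁻¹)
    (huniq : ∀ v ∈ C0, v ≠ 1 → ∀ t, orderOf t = 2 → Commute t v → t = a)
    (hpC : p ∣ Nat.card C0) (hcard : Nat.card (coreC a) ∣ Nat.card C0 * p ^ 2 * m) (hm0 : 0 < m)
    (hm : m < p) (hj : orderOf j = 2) (hjx : j * x0 * j⁻¹ = x0⁻¹) : False :=
  split_false_inverted M h hp hx hxa hxb (mem_normalizer_iff_of_finite fun z hz => by
    obtain ⟨i, rfl⟩ := mem_zpowers_iff.1 hz
    rw [(hlx.zpow_right i).eq, mul_inv_cancel_right]; exact zpow_mem (mem_zpowers x0) i) hC0a hC0x hinv huniq hpC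
    (fun _ hy _ _ _ _ _ => ⟨m, hm0, by omega, (orderOf_dvd_natCard _ hy).trans hcard⟩) hj hjx

end CfsgLib.GW.Component
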