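import Cfsg.Agent.Lib.GW.Component.NoCent
import Cfsg.Agent.Lib.GW.Component.NoCentOrder
import Cfsg.Agent.Lib.GW.Component.NoCentSplit
import Cfsg.Agent.Lib.GW.Component.Split

/-!
The component leg, split case: `O(C(a))` centralises the central elements of order `p`.
-/

set_option autoImplicit false
set_option linter.unusedSectionVars false
set_option linter.style.haveILetI false

namespace CfsgLib.GW

open Subgroup CfsgLib.Invol

universe u

variable {G : Type u} [Group G] [Finite G] {a b g u x₀ : G} {p : ℕ}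

/-- In the split case no involution of `C(a)` inverts `x₀`. -/
theorem SplitE0.false_of_inverts (C : Ctx G) (d : SplitE0 a b g p u x₀) {j : G}
    (hj : orderOf j = 2) (hjx : j * x₀ * j⁻¹ = x₀⁻¹) : False := by
  have h := d.mixed
  have hgN : g ∈ normalizer (zpowers x₀ : Set G) :=
    mem_normalizer_iff_of_finite fun v hv => by
      rw [← d.fixed_eq C] at hv ⊢
      exact h.conj_fixed_mem C le_rfl (cI_le_normalizer_fitP a p) hv
  refine Component.split_false_inverted C.min h.four h.hp (d.orderOf_x C) (d.x_core C)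
    ((mem_cI.1 d.hxb).symm) hgN (d.cZero_le C)
    (fun v hv => (mem_centralizer_iff.1 hv.2 x₀ d.hx).symm)
    (fun v hv => d.cZero_inverts C h.four.hb (d.hbc C) h.four.hab.symm hv)
    (fun v hv hv1 t ht htv => d.huniq C hv hv1 ht htv) ?_
    (h.inverted_order C d.hx d.hu (d.zeta_ne C) (d.zeta_mem C) (d.gen C)
      fun y hy hyz htr => d.exists_of_trivial C hy hyz htr) hj hjx
  obtain ⟨z, hzo, hall⟩ := h.exists_generator C
  exact hzo.symm.dvd.trans (orderOf_dvd_natCard (cZero a p) (d.zP_le_cZero C (hall.symm ▸ mem_zpowers z)))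

/-- In the split case `O(C(a))` centralises `zP a p`. -/
theorem Mixed.cent_of_split (C : Ctx G) (h : Mixed a b g p) (hu : u ∈ eP a p) (huz : u ∉ zP a p)
    (hinv : b * u * b⁻¹ = u⁻¹) (hx : x₀ ∈ eP a p) (hxb : x₀ ∈ cI b) (hx1 : x₀ ≠ 1) :
    ∀ x ∈ coreC a, ∀ z ∈ zP a p, Commute x z := by
  haveI : Fact (Nat.Prime 2) := ⟨Nat.prime_two⟩
  have d : SplitE0 a b g p u x₀ := ⟨h, hu, huz, hinv, hx, hxb, hx1⟩
  have ha := h.four.ha
  obtain ⟨T, haT, hT, hbT⟩ := C.min.exists_sylow_pair ha h.four.hb (mem_cI.2 h.four.comm.symm)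
  by_cases h4 : Nat.card (T : Subgroup G) = 4
  · exact h.cent_of_four C T haT hT hbT h4
  obtain ⟨D₀⟩ := C.min.dih T
  obtain ⟨D, hD⟩ := CfsgLib.InvChar.BSW.exists_dihData_central D₀ ⟨a, haT⟩
    (by rw [orderOf_mk, ha]) fun w => Subtype.ext (mem_cI.1 (hT w.2))
  have h8 : 8 ≤ Nat.card (T : Subgroup G) := by
    obtain ⟨k, hk⟩ := T.2.exists_card_eq
    have h1 := D.h_pos
    have h2 := D.card_eq
    rw [hk] at h2 h4 ⊢
    match k, h2, h4 with
    | 0, h2, _ => simp at h2; omega
    | 1, h2, _ => simp at h2; omega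
    | 2, _, h4 => simp at h4
    | k + 3, _, _ =>
      rw [pow_add]
      have := Nat.one_le_two_pow (n := k)
      omega
  have hD' : dz T D = a := congrArg Subtype.val hD
  rcases d.rot_comm_or_inverts C T D hD' hT hbT with hr | ⟨j, hj, -, hjx⟩
  · exact h.cent_of_rot C T hT hbT h8 D hD' fun y hy => (hr y hy).eq
  · exact (d.false_of_inverts C hj hjx).elim

end CfsgLib.GW
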