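import Cfsg.Agent.Lib.GW.Component.Cases
import Cfsg.Agent.Lib.GW.Twist.Klein
import Cfsg.Agent.Lib.GW.Twist.DihedralCore
import Cfsg.Agent.Lib.GW.Assembly
import Cfsg.Agent.Lib.InvChar.BSWDihedral

/-!
The component leg: the shape of the twist lemma does not occur.
-/

set_option autoImplicit false
set_option linter.unusedSectionVars false
set_option linter.style.haveILetI false

namespace CfsgLib.GW

open Subgroup CfsgLib.Invol

universe u

variable {G : Type u} [Group G] [Finite G]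

/-- A Sylow 2-subgroup containing a commuting pair, in the centralizer of the first. -/
theorem Min.exists_sylow_pair (M : Min G) {a b : G} (ha : orderOf a = 2) (hb : orderOf b = 2)
    (hbc : b ∈ cI a) :
    ∃ T : Sylow 2 G, a ∈ (T : Subgroup G) ∧ (T : Subgroup G) ≤ cI a ∧ b ∈ (T : Subgroup G) := by
  haveI : Fact (Nat.Prime 2) := ⟨Nat.prime_two⟩
  obtain ⟨T, haT, hTc⟩ := M.exists_sylow ha
  obtain ⟨c, hc⟩ := exists_conj_invol_mem_sylow (T.subtype hTc)
    (x := (⟨b, hbc⟩ : cI a)) (by rw [orderOf_mk, hb])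
  have hcT : (c : G) * b * (c : G)⁻¹ ∈ (T : Subgroup G) := mem_subgroupOf.1 hc
  have hca : (c : G) * a * (c : G)⁻¹ = a := conj_eq_self c.2
  refine ⟨(c : G)⁻¹ • T, ⟨a, haT, ?_⟩, ?_, ⟨_, hcT, ?_⟩⟩
  · show (c : G)⁻¹ * a * (c : G)⁻¹⁻¹ = a
    exact conj_eq_self ((cI a).inv_mem c.2)
  · rintro _ ⟨w, hw, rfl⟩
    exact (cI a).mul_mem ((cI a).mul_mem ((cI a).inv_mem c.2) (hTc hw))
      ((cI a).inv_mem ((cI a).inv_mem c.2))
  · show (c : G)⁻¹ * ((c : G) * b * (c : G)⁻¹) * (c : G)⁻¹⁻¹ = b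
    group

/-- The rotations centralise `O(C(a))` when all reflections invert a self-centralising `F`. -/
theorem rot_comm_of_selfCentralizing {a : G} (T : Sylow 2 G) (hT : (T : Subgroup G) ≤ cI a)
    (D : DihData (T : Subgroup G)) (hD : dz T D = a) {F : Subgroup G}
    (hFn : ∀ x ∈ cI a, ∀ f ∈ F, x * f * x⁻¹ ∈ F)
    (hFinv : ∀ j, orderOf j = 2 → j ∈ cI a → j ≠ a → ∀ x ∈ F, j * x * j⁻¹ = x⁻¹)
    (hself : coreC a ⊓ centralizer (F : Set G) ≤ F) :
    ∀ y ∈ coreC a, (D.r : G) * y = y * D.r := by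
  obtain ⟨r, hr⟩ : ∃ r, r = (D.r : G) := ⟨_, rfl⟩
  have hrc : r ∈ cI a := hr ▸ hT (SetLike.coe_mem _)
  have hdt : ∀ i, dt T D i ≠ a ∧ orderOf (dt T D i) = 2 ∧ dt T D i ∈ cI a := fun i =>
    ⟨fun h => D.ne_zpow i D.h ((Subtype.ext (h.trans hD.symm) :
        D.r ^ i * D.s = D.z)),
      (Subgroup.orderOf_coe _).trans (D.orderOf_zy i), hT (SetLike.coe_mem _)⟩
  have hrF : ∀ f ∈ F, Commute r f := by
    intro f hf
    have e : r = dt T D 1 * dt T D 0 := hr.trans (congrArg Subtype.val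
      (show D.r = D.r ^ (1 : ℤ) * D.s * (D.r ^ (0 : ℤ) * D.s) by
        rw [D.zy_mul_zy, sub_zero, zpow_one]))
    refine mul_inv_eq_iff_eq_mul.1 (?_ : r * f * r⁻¹ = f)
    calc r * f * r⁻¹ = dt T D 1 * (dt T D 0 * f * (dt T D 0)⁻¹) * (dt T D 1)⁻¹ := by rw [e]; group
      _ = f := by
        rw [hFinv _ (hdt 0).2.1 (hdt 0).2.2 (hdt 0).1 f hf,
          hFinv _ (hdt 1).2.1 (hdt 1).2.2 (hdt 1).1 _ (inv_mem hf), inv_inv]
  intro y hy
  show (D.r : G) * y = y * D.r
  rw [← hr]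
  obtain ⟨δ, hδ⟩ : ∃ δ, δ = y⁻¹ * (r * y * r⁻¹) := ⟨_, rfl⟩
  have hδO : δ ∈ coreC a := hδ ▸ mul_mem (inv_mem hy) (conj_mem_coreC hrc hy)
  have hδF : δ ∈ F := hself ⟨hδO, mem_centralizer_iff.2 fun f hf => by
    have hyf : y * f * y⁻¹ ∈ F := hFn y (coreC_le_cI a hy) f hf
    have h0 : r⁻¹ * f * r = f := by
      rw [mul_assoc, (hrF f hf).symm.eq, inv_mul_cancel_left]
    have e : δ * f * δ⁻¹ = f := by
      calc δ * f * δ⁻¹ = y⁻¹ * (r * (y * (r⁻¹ * f * r) * y⁻¹) * r⁻¹) * y := by rw [hδ]; group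
        _ = y⁻¹ * (r * (y * f * y⁻¹) * r⁻¹) * y := by rw [h0]
        _ = y⁻¹ * (y * f * y⁻¹) * y := by rw [(hrF _ hyf).eq, mul_inv_cancel_right]
        _ = f := by group
    exact (mul_inv_eq_iff_eq_mul.1 e).symm⟩
  obtain ⟨k, hk⟩ := T.2 D.r
  have hpow : ∀ i : ℕ, r ^ i * y * (r ^ i)⁻¹ = y * δ ^ i := fun i => by
    induction i with
    | zero => simp
    | succ i ih =>
      calc r ^ (i + 1) * y * (r ^ (i + 1))⁻¹ = r * (r ^ i * y * (r ^ i)⁻¹) * r⁻¹ := by
            rw [pow_succ']; group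
        _ = r * y * r⁻¹ * (r * δ ^ i * r⁻¹) := by rw [ih]; group
        _ = y * δ * δ ^ i := by
          rw [((hrF δ hδF).pow_right i).eq, mul_inv_cancel_right, hδ]; group
        _ = y * δ ^ (i + 1) := by rw [pow_succ', mul_assoc]
  have hr1 : r ^ 2 ^ k = 1 := hr ▸ congrArg Subtype.val hk
  have h1 := hpow (2 ^ k)
  rw [hr1, one_mul, inv_one, mul_one] at h1
  have hδ1 : δ = 1 := orderOf_eq_one_iff.1 (Nat.eq_one_of_dvd_coprimes
    ((Nat.coprime_two_right.2 (odd_orderOf_mem_coreC hδO)).pow_right k) dvd_rfl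
    (orderOf_dvd_of_pow_eq_one (mul_eq_left.1 h1.symm)))
  have := hpow 1
  rw [hδ1, one_pow, mul_one, pow_one] at this
  exact mul_inv_eq_iff_eq_mul.1 this

/-- The shape of the twist lemma does not occur for a four-group Sylow subgroup. -/
theorem TwistShape.false_klein (M : Min G) {a b g : G} (hg : Four a b g) (hs : TwistShape a b)
    (T : Sylow 2 G) (haT : a ∈ (T : Subgroup G)) (hT : (T : Subgroup G) ≤ cI a)
    (hbT : b ∈ (T : Subgroup G)) (hT4 : Nat.card (T : Subgroup G) = 4) : False := by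
  have := M.simple
  obtain ⟨F, hFO, hFn, hcomm, hFinv, hO, hmove, -⟩ := hs
  obtain ⟨d, hd, hnd⟩ := SetLike.not_le_iff_exists.1 hmove
  obtain ⟨f, hf, hne⟩ : ∃ f ∈ F, f * d ≠ d * f := by
    by_contra hcon
    push Not at hcon
    exact hnd (mem_centralizer_iff.2 hcon)
  have hinv := hFinv b hg.hb (mem_cI.2 hg.comm.symm) hg.hab.symm
  have hFodd : Odd (Nat.card F) := (odd_coreC a).of_dvd_nat (card_dvd_of_le hFO)
  have hsup : zpowers a ⊔ zpowers b ≤ (T : Subgroup G) :=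
    sup_le (zpowers_le.2 haT) (zpowers_le.2 hbT)
  have hTeq : (T : Subgroup G) = zpowers a ⊔ zpowers b := by
    refine (eq_of_le_of_card_ge hsup ?_).symm
    have h3 : 2 < Nat.card ↥(zpowers a ⊔ zpowers b) := by
      have := Fintype.ofFinite ↥(zpowers a ⊔ zpowers b)
      rw [Nat.card_eq_fintype_card, Fintype.two_lt_card_iff]
      refine ⟨1, ⟨a, mem_sup_left (mem_zpowers a)⟩, ⟨b, mem_sup_right (mem_zpowers b)⟩, ?_, ?_, ?_⟩
      · exact fun e => invol_ne_one hg.ha (congrArg Subtype.val e).symm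
      · exact fun e => invol_ne_one hg.hb (congrArg Subtype.val e).symm
      · exact fun e => hg.hab (congrArg Subtype.val e)
    have hdvd := card_dvd_of_le hsup
    rw [hT4] at hdvd ⊢
    have hle := Nat.le_of_dvd (by norm_num) hdvd
    by_contra hlt
    push Not at hlt
    have e3 : Nat.card ↥(zpowers a ⊔ zpowers b) = 3 := by omega
    rw [e3] at hdvd
    norm_num at hdvd
  refine (Twist.TwistCent.false (t := a) (u := b) (n := g) (F := F) (A := coreC a ⊓ cI b)
    { ht := hg.ha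
      hu := hg.hb
      htu := hg.comm
      hne := hg.hab
      hsyl := ⟨T, hTeq⟩
      hn := ⟨hg.ga, hg.gb⟩
      hFcomm := hcomm
      hFodd := hFodd
      hFu := hinv
      hFt := fun x hx => (mem_cI.1 (coreC_le_cI a (hFO hx))).symm
      hAodd := (odd_coreC a).of_dvd_nat (card_dvd_of_le inf_le_left)
      hAt := fun x hx => (mem_cI.1 (coreC_le_cI a hx.1)).symm
      hAu := fun x hx => (mem_cI.1 hx.2).symm
      hAn := fun x hx => by
        rw [M.inf_cI_eq hg.hb] at hx ⊢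
        exact Four.rot_core M hg hx
      hAF := fun x hx y hy => hFn x (coreC_le_cI a hx.1) y hy
      hdisj := ?_
      hcent := ?_
      hmove := ⟨d, hd, f, hf, fun e => hne e.symm⟩ })
  · refine (eq_bot_iff_forall _).2 fun x hx => ?_
    have e1 := hinv x hx.1
    rw [← mem_cI.1 hx.2.2, mul_inv_cancel_right] at e1
    exact CfsgLib.Recog.NonCA.eq_one_of_sq_of_odd hFodd hx.1 (by
      nth_rewrite 2 [e1]
      exact mul_inv_cancel x)
  · refine le_antisymm ((M.cI_le_sup T hg.ha hT).trans ?_) ?_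
    · rw [hTeq, sup_assoc (zpowers a ⊔ zpowers b) F, ← hO, sup_comm]
    · rw [← hTeq, sup_assoc, ← hO]
      exact sup_le hT (coreC_le_cI a)

/-- The shape of the twist lemma does not occur. -/
theorem TwistShape.false (M : Min G) {a b g : G} (hg : Four a b g) (hs : TwistShape a b) :
    False := by
  haveI : Fact (Nat.Prime 2) := ⟨Nat.prime_two⟩
  obtain ⟨T, haT, hT, hbT⟩ := M.exists_sylow_pair hg.ha hg.hb (mem_cI.2 hg.comm.symm)
  obtain ⟨D₀⟩ := M.dih T
  by_cases h4 : Nat.card (T : Subgroup G) = 4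
  · exact TwistShape.false_klein M hg hs T haT hT hbT h4
  obtain ⟨D, hD⟩ := CfsgLib.InvChar.BSW.exists_dihData_central D₀ ⟨a, haT⟩
    (by rw [orderOf_mk, hg.ha]) fun w => Subtype.ext (mem_cI.1 (hT w.2))
  have h8 : 8 ≤ Nat.card (T : Subgroup G) := by
    obtain ⟨k, hk⟩ := T.2.exists_card_eq
    have h1 := D.h_pos
    have h2 := D.card_eq
    rw [hk] at h2 h4 ⊢
    match k, h2, h4 with
    | 0, h2, _ => simp at h2; omega
    | 1, h2, _ => simp at h2; omega
    | 2, _, h4 => simp at h4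
    | k + 3, _, _ =>
      rw [pow_add]
      have := Nat.one_le_two_pow (n := k)
      omega
  obtain ⟨F, hFO, hFn, hcomm, hFinv, hO, hmove, hself⟩ := hs
  have hD' : dz T D = a := congrArg Subtype.val hD
  exact hmove (twist_rot G M T a b g h8 hg haT hT hbT D hD'
    (rot_comm_of_selfCentralizing T hT D hD' hFn hFinv hself) F hFO hO hFn hcomm
    (hFinv b hg.hb (mem_cI.2 hg.comm.symm) hg.hab.symm))

end CfsgLib.GW
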