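import Cfsg.Agent.Lib.GW.Component.Split5
import Cfsg.Agent.Lib.GW.Component.Split
import Cfsg.Agent.Lib.GW.Component.TwistKill

/-!
The component leg, split case: conclusion.
-/

set_option autoImplicit false
set_option linter.unusedSectionVars false
set_option linter.style.haveILetI false

namespace CfsgLib.GW

open Subgroup CfsgLib.Invol CfsgLib.BlockA.DihedralBlock

universe u

variable {G : Type u} [Group G] [Finite G]

theorem eBar_zpow_dvd {a : G} {p : ℕ} (hp : p.Prime) {e : EBar a p} (he : e ≠ 1) {m : ℤ}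
    (hm : e ^ m = 1) : (p : ℤ) ∣ m := by
  haveI := Fact.mk hp
  have := orderOf_dvd_iff_zpow_eq_one.2 hm
  rwa [orderOf_eq_prime (eBar_pow e) he] at this

theorem eBar_eq_or_inv {a : G} {p : ℕ} (hp : p.Prime) {e : EBar a p} (he : e ≠ 1) {i : ℤ}
    (h : (e ^ i) ^ i = e) : e ^ i = e ∨ e ^ i = e⁻¹ := by
  have h1 : e ^ (i * i - 1) = 1 := by rw [zpow_sub_one, zpow_mul, h, mul_inv_cancel]
  have h2 := eBar_zpow_dvd hp he h1
  rw [show i * i - 1 = (i - 1) * (i + 1) by ring] at h2
  rcases (Nat.prime_iff_prime_int.1 hp).dvd_mul.1 h2 with ⟨c, hc⟩ | ⟨c, hc⟩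
  · left
    rw [show i = p * c + 1 by linarith, zpow_add_one, zpow_mul, zpow_natCast, eBar_pow, one_zpow, one_mul]
  · right
    rw [show i = p * c + -1 by linarith, zpow_add, zpow_mul, zpow_natCast, eBar_pow, one_zpow, one_mul,
      zpow_neg_one]

/-- Conjugation transports the fixed points. -/
theorem card_fixed_conj {a j c : G} (hc : c ∈ cI a) :
    Nat.card (coreC a ⊓ cI (c * j * c⁻¹) : Subgroup G) = Nat.card (coreC a ⊓ cI j : Subgroup G) := by
  have hinj : Function.Injective (MulAut.conj c).toMonoidHom := (MulAut.conj c).injective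
  rw [← card_map_of_injective (K := coreC a ⊓ cI j) hinj, map_inf _ _ _ hinj, cI_conj]
  conv_rhs => rw [coreC_conj, conj_eq_self hc]

namespace SplitE

variable (C : Ctx G) {a b g : G} {p : ℕ} {u x₀ : G} (d : SplitE a b g p u x₀)

include C d

/-- An involution inverting a class inverts its representatives. -/
theorem exact_inv {j : G} (hj : orderOf j = 2) (hjc : j ∈ cI a) (hne : j ≠ a) {e : G} (he : e ∈ eP a p)
    (h : act a p ⟨j, hjc⟩ (QuotientGroup.mk (⟨e, he⟩ : eP a p)) =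
      (QuotientGroup.mk (⟨e, he⟩ : eP a p) : EBar a p)⁻¹) : j * e * j⁻¹ = e⁻¹ := by
  rw [act_mk, ← QuotientGroup.mk_inv, mk_eq_mk, conjE_apply] at h
  obtain ⟨z, hz, ez⟩ : ∃ z ∈ zP a p, j * e * j⁻¹ = e⁻¹ * z :=
    ⟨_, inv_mem (show (j * e * j⁻¹)⁻¹ * e⁻¹ ∈ zP a p from h), by group⟩
  have hzi := d.mixed.inverts C hj hjc hne hz
  have h1 : e = z⁻¹ * z⁻¹ * e := by
    calc e = (j * j) * e * (j * j)⁻¹ := by rw [invol_mul_self hj]; group
      _ = j * (j * e * j⁻¹) * j⁻¹ := by group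
      _ = j * (e⁻¹ * z) * j⁻¹ := by rw [ez]
      _ = (j * e * j⁻¹)⁻¹ * (j * z * j⁻¹) := by group
      _ = z⁻¹ * (e * z⁻¹) := by rw [ez, hzi]; group
      _ = z⁻¹ * z⁻¹ * e := by rw [← (hz.2.1 _ (eP_le_fitP a p he)).inv_left.eq, mul_assoc]
  have hz1 : z = 1 := eq_one_of_inverse_self (zP_le_coreC a p hz) (by
    refine eq_inv_of_mul_eq_one_left ?_
    have h2 := inv_eq_one.2 (right_eq_mul.1 h1)
    rwa [mul_inv_rev, inv_inv] at h2)
  rw [ez, hz1, mul_one]

/-- The classes fixed by `b`. -/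
theorem fixed_b_line {q : EBar a p} (hq : act a p ⟨b, d.hbc C⟩ q = q) : q ∈ zpowers d.xb := by
  obtain ⟨i, k, rfl⟩ := d.gen C q
  rw [map_mul, map_zpow, map_zpow, d.act_b_xb C, d.act_b_ub C, inv_zpow] at hq
  rw [d.eBar_eq_one C (mul_left_cancel hq).symm, mul_one]
  exact zpow_mem (mem_zpowers _) i

/-- An element of `O(C(a))` whose square fixes the first line acts trivially. -/
theorem act_eq_one_of_sq {o : cI a} (ho : (o : G) ∈ coreC a)
    (h : act a p o (act a p o d.xb) = d.xb) : act a p o = 1 := by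
  have h2 : act a p (o ^ 2) = 1 := d.act_eq_one_of_fix_x C (x := o ^ 2) (pow_mem ho 2) (by
    rw [map_pow, pow_two, MulAut.mul_apply, h])
  obtain ⟨k, hk⟩ := odd_orderOf_mem_coreC ho
  rw [show o = (o ^ 2) ^ (k + 1) by
    rw [← pow_mul, show 2 * (k + 1) = orderOf (o : G) + 1 by omega, pow_succ, Subgroup.orderOf_coe,
      pow_orderOf_eq_one, one_mul], map_pow, h2, one_pow]

/-- The fixed points of an involution in `eP a p` have order `p`. -/
theorem card_fixed {j : G} (hj : orderOf j = 2) (hjc : j ∈ cI a) (hne : j ≠ a)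
    (hW : coreC a ⊓ cI j ≤ eP a p) : Nat.card (coreC a ⊓ cI j : Subgroup G) = p := by
  obtain ⟨g', v, y, d'⟩ := d.exists_splitE C hj hjc hne
  have heq : coreC a ⊓ cI j = zpowers y := by
    rw [← d'.fixed_eq C]
    exact le_antisymm (le_inf (hW.trans (eP_le_fitP a p)) inf_le_right)
      (inf_le_inf_right _ (fitP_le_coreC a p))
  rw [heq, Nat.card_zpowers, d'.orderOf_x C]

variable {w : cI a} (hw : (w : G) ∈ coreC a) (hwb : (w : G) ∈ cI b) (hne : act a p w ≠ 1)

include hw hwb hne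

/-- The fixed points of `b` outside `eP a p` are at least three times as many. -/
theorem card_fixed_b : 3 * p ≤ Nat.card (coreC a ⊓ cI b : Subgroup G) := by
  have hxW : zpowers x₀ ≤ coreC a ⊓ cI b := zpowers_le.2 ⟨d.x_core C, d.hxb⟩
  obtain ⟨c, hc⟩ := card_dvd_of_le hxW
  rw [Nat.card_zpowers, d.orderOf_x C] at hc
  have hodd : Odd (p * c) := hc ▸ (odd_coreC a).of_dvd_nat (card_dvd_of_le inf_le_left)
  have hc1 : c ≠ 1 := fun e => hne (by
    have heq : zpowers x₀ = coreC a ⊓ cI b := eq_of_le_of_card_ge hxW (by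
      rw [Nat.card_zpowers, d.orderOf_x C, hc, e, mul_one])
    have hwE : (w : G) ∈ eP a p :=
      (zpowers_le.2 d.hx : zpowers x₀ ≤ eP a p) (heq.symm ▸ (⟨hw, hwb⟩ : (w : G) ∈ coreC a ⊓ cI b))
    exact (d.act_eq_one_iff_mem C hw).2 (mem_sup_left hwE))
  obtain ⟨k, hk⟩ := (Nat.odd_mul.1 hodd).2
  rw [hc, mul_comm 3]
  exact Nat.mul_le_mul_left p (by omega)

/-- An involution of `C(a)` fixes both lines or its fixed points lie in `eP a p`. -/
theorem invol_cases {j : G} (hj : orderOf j = 2) (hjc : j ∈ cI a) (hja : j ≠ a) :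
    (act a p ⟨j, hjc⟩ d.xb = d.xb ∧ act a p ⟨j, hjc⟩ d.ub = d.ub⁻¹) ∨
      act a p ⟨j, hjc⟩ d.xb = d.xb⁻¹ ∨ coreC a ⊓ cI j ≤ eP a p := by
  set J : cI a := ⟨j, hjc⟩ with hJ
  have hJJ : J * J = 1 := Subtype.ext (invol_mul_self hj)
  have hσσ : ∀ q, act a p J (act a p J q) = q := fun q => by
    rw [← MulAut.mul_apply, ← map_mul, hJJ, map_one, MulAut.one_apply]
  set w' : cI a := J * w * J with hw'def
  have hw' : (w' : G) ∈ coreC a := by
    show j * w * j ∈ coreC a
    nth_rw 2 [← invol_inv hj]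
    exact conj_mem_coreC hjc hw
  have hswap : ∀ q, act a p w (act a p J q) = act a p J (act a p w' q) := fun q => by
    rw [← MulAut.mul_apply, ← MulAut.mul_apply, ← map_mul, ← map_mul, hw'def, ← mul_assoc,
      ← mul_assoc, hJJ, one_mul]
  obtain ⟨⟨i, hi⟩, k, hk⟩ := d.lines_invariant C hw hwb hne hw'
  rcases d.line_cases C hw hwb hne (v := act a p J d.xb) (n := i) (by rw [hswap, hi, map_zpow])
    with h | h
  · obtain ⟨n, hn⟩ := mem_zpowers_iff.1 h
    have hn2 : (d.xb ^ n) ^ n = d.xb := by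
      calc (d.xb ^ n) ^ n = act a p J d.xb ^ n := by rw [hn]
        _ = act a p J (d.xb ^ n) := (map_zpow _ _ _).symm
        _ = d.xb := by rw [hn, hσσ]
    rcases eBar_eq_or_inv d.mixed.hp (d.xb_ne C) hn2 with e | e <;> rw [hn] at e
    swap
    · exact Or.inr (Or.inl e)
    refine Or.inl ⟨e, ?_⟩
    rcases d.line_cases C hw hwb hne (v := act a p J d.ub) (n := k) (by rw [hswap, hk, map_zpow])
      with h' | h'
    · refine absurd ?_ (d.ub_not_mem C)
      obtain ⟨m, hm⟩ := mem_zpowers_iff.1 h'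
      refine mem_zpowers_iff.2 ⟨m, ?_⟩
      calc d.xb ^ m = act a p J (d.xb ^ m) := by rw [map_zpow, e]
        _ = d.ub := by rw [hm, hσσ]
    · obtain ⟨m, hm⟩ := mem_zpowers_iff.1 h'
      have hm2 : (d.ub ^ m) ^ m = d.ub := by
        calc (d.ub ^ m) ^ m = act a p J d.ub ^ m := by rw [hm]
          _ = act a p J (d.ub ^ m) := (map_zpow _ _ _).symm
          _ = d.ub := by rw [hm, hσσ]
      rcases eBar_eq_or_inv d.mixed.hp (d.ub_ne C) hm2 with e' | e' <;> rw [hm] at e'
      · exfalso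
        obtain ⟨g', v, y, d'⟩ := d.exists_splitE C hj hjc hja
        have h1 := d'.act_b_ub C
        rw [show act a p ⟨j, d'.hbc C⟩ = 1 from d.act_eq_one C e e', MulAut.one_apply] at h1
        exact d'.ub_ne C (d'.eBar_eq_one C h1)
      · exact e'
  · refine Or.inr (Or.inr fun y hy => ?_)
    by_contra hyE
    set Y : cI a := ⟨y, coreC_le_cI a hy.1⟩ with hY
    have hY1 : act a p Y ≠ 1 := fun e => hyE (d.fixed_trivial C hy.1 hj hjc hja hy.2 e)
    obtain ⟨⟨i', hi'⟩, k', hk'⟩ := d.lines_invariant C hw hwb hne (o := Y) hy.1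
    obtain ⟨m, hm⟩ := mem_zpowers_iff.1 h
    have hc : Y * J = J * Y := Subtype.ext (mem_cI.1 hy.2)
    have h1 : act a p Y (act a p J d.xb) = act a p J (act a p Y d.xb) := by
      rw [← MulAut.mul_apply, ← MulAut.mul_apply, ← map_mul, ← map_mul, hc]
    rw [hi', map_zpow, ← hm, map_zpow, hk', ← zpow_mul, ← zpow_mul] at h1
    have h2 : d.ub ^ (m * (k' - i')) = 1 := by
      rw [show m * (k' - i') = k' * m - m * i' by ring, zpow_sub, h1, mul_inv_cancel]
    rcases (Nat.prime_iff_prime_int.1 d.mixed.hp).dvd_mul.1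
      (eBar_zpow_dvd d.mixed.hp (d.ub_ne C) h2) with ⟨c, rfl⟩ | ⟨c, hc'⟩
    · rw [zpow_mul, zpow_natCast, eBar_pow, one_zpow] at hm
      exact d.xb_ne C ((MulEquiv.map_eq_one_iff _).1 hm.symm)
    · refine d.not_scalar C (w := Y) hy.1 hY1 hi' ?_
      rw [hk', show k' = p * c + i' by linarith, zpow_add, zpow_mul, zpow_natCast, eBar_pow, one_zpow,
        one_mul]

/-- Both kinds of involutions do not occur together. -/
theorem no_swap {j : G} (hj : orderOf j = 2) (hjc : j ∈ cI a) (hja : j ≠ a)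
    (hW : coreC a ⊓ cI j ≤ eP a p) : False := by
  haveI : Fact (Nat.Prime 2) := ⟨Nat.prime_two⟩
  have M := C.min
  have ha := d.mixed.four.ha
  have hb := d.mixed.four.hb
  have hbc := d.hbc C
  obtain ⟨T, haT, hT, hbT⟩ := M.exists_sylow_pair ha hb hbc
  obtain ⟨D₀⟩ := M.dih T
  obtain ⟨D, hD⟩ := CfsgLib.InvChar.BSW.exists_dihData_central D₀ ⟨a, haT⟩
    (by rw [orderOf_mk, ha]) fun x => Subtype.ext (mem_cI.1 (hT x.2))
  have hDa : dz T D = a := congrArg Subtype.val hD
  have hdt : ∀ i, orderOf (dt T D i) = 2 ∧ dt T D i ∈ cI a ∧ dt T D i ≠ a := fun i =>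
    ⟨(Subgroup.orderOf_coe _).trans (D.orderOf_zy i), hT (SetLike.coe_mem _),
      fun h => D.ne_zpow i D.h ((Subtype.ext (h.trans hDa.symm) : D.r ^ i * D.s = D.z))⟩
  have hfind : ∀ t, orderOf t = 2 → t ∈ (T : Subgroup G) → t ≠ a → ∃ i, t = dt T D i := by
    intro t ht htT hta
    rcases D.invol_cases (u := ⟨t, htT⟩) (by rw [orderOf_mk, ht]) with e | ⟨i, e⟩
    · exact absurd ((congrArg Subtype.val e).trans hDa) hta
    · exact ⟨i, congrArg Subtype.val e⟩
  have hper : ∀ i k : ℤ, Even (k - i) → Nat.card (coreC a ⊓ cI (dt T D k) : Subgroup G) =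
      Nat.card (coreC a ⊓ cI (dt T D i) : Subgroup G) := by
    intro i k hik
    have h1 := card_pair_period T D hik
    rw [← cI_inf_eq, ← cI_inf_eq, M.card_pair T D k, M.card_pair T D i, hDa] at h1
    omega
  obtain ⟨c, hc⟩ := exists_conj_invol_mem_sylow (T.subtype hT)
    (x := (⟨j, hjc⟩ : cI a)) (by rw [orderOf_mk, hj])
  have hcT : (c : G) * j * (c : G)⁻¹ ∈ (T : Subgroup G) := mem_subgroupOf.1 hc
  have hca : (c : G) * a * (c : G)⁻¹ = a := conj_eq_self c.2
  obtain ⟨k, hk⟩ := hfind _ (by rw [orderOf_conj_eq, hj]) hcT fun e =>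
    hja ((MulAut.conj (c : G)).injective (e.trans hca.symm :))
  obtain ⟨i, hi⟩ := hfind b hb hbT d.mixed.four.hab.symm
  have hcj : Nat.card (coreC a ⊓ cI (dt T D k) : Subgroup G) = p := by
    rw [← hk, card_fixed_conj c.2, d.card_fixed C hj hjc hja hW]
  have h3 : 3 * p ≤ Nat.card (coreC a ⊓ cI (dt T D i) : Subgroup G) :=
    hi ▸ d.card_fixed_b C hw hwb hne
  have hp0 := d.mixed.hp.pos
  by_cases hpar : Even (k - i)
  · have := hper i k hpar
    omega
  have hpar' : Even (k - (i + 1)) := by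
    rw [← sub_sub]; exact (Int.not_even_iff_odd.1 hpar).sub_odd odd_one
  have hcj' : Nat.card (coreC a ⊓ cI (dt T D (i + 1)) : Subgroup G) = p := by
    rw [← hper (i + 1) k hpar', hcj]
  obtain ⟨e, he⟩ := D.h_pow
  rcases e with _ | _ | e
  · -- a four-group
    rw [pow_zero] at he
    have e1 : dt T D (i + 1) = a * dt T D i := by
      rw [← hDa]
      refine congrArg Subtype.val (show D.r ^ (i + 1) * D.s = D.z * (D.r ^ i * D.s) from ?_)
      rw [DihData.z, he, ← mul_assoc, ← zpow_add, Nat.cast_one, add_comm i]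
    have e2 : coreC a ⊓ cI (dt T D (i + 1)) = coreC a ⊓ cI (dt T D i) := by
      rw [e1]
      ext x
      refine and_congr_right fun hx => ?_
      have hxa : Commute x a := mem_cI.1 (coreC_le_cI a hx)
      refine ⟨fun h => mem_cI.2 ?_, fun h => mem_cI.2 (hxa.mul_right (mem_cI.1 h)).eq⟩
      have h1 := (hxa.inv_right.mul_right (show Commute x (a * dt T D i) from mem_cI.1 h)).eq
      rwa [inv_mul_cancel_left] at h1
    rw [e2] at hcj'
    omega
  · -- a dihedral group of order eight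
    rw [pow_one] at he
    obtain ⟨hj2, hj2c, hj2a⟩ := hdt (i + 1)
    obtain ⟨g2, v2, y2, d2⟩ := d.exists_splitE C hj2 hj2c hj2a
    have hW2 : coreC a ⊓ cI (dt T D (i + 1)) ≤ eP a p := by
      have heq : zpowers y2 = coreC a ⊓ cI (dt T D (i + 1)) :=
        eq_of_le_of_card_ge (zpowers_le.2 ⟨d2.x_core C, d2.hxb⟩)
          (by rw [hcj', Nat.card_zpowers, d2.orderOf_x C])
      exact heq ▸ zpowers_le.2 d2.hx
    set J : cI a := ⟨dt T D (i + 1), hj2c⟩ with hJ
    set B : cI a := ⟨b, hbc⟩ with hB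
    have hA : act a p ⟨a, mem_cI.2 rfl⟩ = 1 := act_eq_one_iff.2 fun v hv => by
      show a * v * a⁻¹ * v⁻¹ ∈ zP a p
      rw [(mem_cI.1 (fitP_le_cI a p (eP_le_fitP a p hv))).symm, mul_inv_cancel_right, mul_inv_cancel]
      exact one_mem _
    have hJB : J * B = ⟨a, mem_cI.2 rfl⟩ * (B * J) := by
      refine Subtype.ext ?_
      show dt T D (i + 1) * b = a * (b * dt T D (i + 1))
      rw [hi, ← hDa]
      refine congrArg Subtype.val (show D.r ^ (i + 1) * D.s * (D.r ^ i * D.s) =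
        D.z * (D.r ^ i * D.s * (D.r ^ (i + 1) * D.s)) from ?_)
      rw [D.zy_mul_zy, D.zy_mul_zy, DihData.z, he, ← zpow_add]
      congr 1
      push_cast
      ring
    obtain ⟨l, hl⟩ := mem_zpowers_iff.1 (d.fixed_b_line C (q := act a p J d.xb) (by
      conv_rhs => rw [← d.act_b_xb C]
      rw [← hB, ← MulAut.mul_apply, ← MulAut.mul_apply, ← map_mul, ← map_mul, hJB, map_mul (act a p) ⟨a, _⟩,
        hA, one_mul]))
    obtain ⟨⟨n, hn⟩, -⟩ := d.diag C hwb
    have hinv := d2.conj_b_act C hW2 hw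
    have hJJ : ∀ q, act a p J (act a p J q) = q := fun q => by
      rw [← MulAut.mul_apply, ← map_mul, show J * J = 1 from Subtype.ext (invol_mul_self hj2), map_one,
        MulAut.one_apply]
    have h1 : (act a p w)⁻¹ d.xb = d.xb ^ n := by
      rw [← hinv]
      show act a p J (act a p w (act a p J d.xb)) = d.xb ^ n
      rw [show act a p w (act a p J d.xb) = act a p J d.xb ^ n by
        rw [← hl, map_zpow, hn, ← zpow_mul, ← zpow_mul, mul_comm], map_zpow, hJJ]
    refine hne (d.act_eq_one_of_sq C hw ?_)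
    rw [hn, ← h1]
    exact MulEquiv.apply_symm_apply _ _
  · have h4 : 4 ≤ D.h := by
      rw [he, show e + 1 + 1 = e + 2 from rfl, pow_add]
      have := Nat.one_le_two_pow (n := e)
      omega
    have := M.core_ratio_odd T D h4 i
    rw [hDa] at this
    omega

/-- An involution inverting the first line. -/
theorem diag_false {j : G} (hj : orderOf j = 2) (hjc : j ∈ cI a) (hja : j ≠ a)
    (h : act a p ⟨j, hjc⟩ d.xb = d.xb⁻¹) : False := by
  haveI := Fact.mk d.mixed.hp
  have hjx := d.exact_inv C hj hjc hja d.hx h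
  have ha := d.mixed.four.ha
  have hxa := d.x_core C
  have hgN : g ∈ normalizer (zpowers x₀ : Set G) := mem_normalizer_iff_of_finite fun y hy => by
    rw [← d.fixed_eq C] at hy ⊢
    exact d.mixed.conj_fixed_mem C le_rfl (cI_le_normalizer_fitP a p) hy
  let φ : coreC a →* MulAut (EBar a p) := (act a p).comp (inclusion (coreC_le_cI a))
  have hker : φ.ker = (eP a p ⊔ cZero a p).subgroupOf (coreC a) := by
    ext ⟨y, hy⟩
    rw [MonoidHom.mem_ker, mem_subgroupOf]
    exact d.act_eq_one_iff_mem C hy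
  have hm : Nat.card φ.range < p := by
    have hmem : ∀ σ ∈ φ.range, σ d.xb ∈ zpowers d.xb ∧ σ d.xb ≠ 1 := by
      rintro _ ⟨⟨o, ho⟩, rfl⟩
      obtain ⟨⟨n, hn⟩, -⟩ := d.lines_invariant C hw hwb hne (o := ⟨o, coreC_le_cI a ho⟩) ho
      exact ⟨hn ▸ zpow_mem (mem_zpowers _) n, fun e => d.xb_ne C ((MulEquiv.map_eq_one_iff _).1 e)⟩
    let f : φ.range → {q : zpowers d.xb // q ≠ 1} := fun σ =>
      ⟨⟨(σ : MulAut (EBar a p)) d.xb, (hmem σ σ.2).1⟩, fun e => (hmem σ σ.2).2 (congrArg Subtype.val e)⟩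
    have hf : Function.Injective f := by
      rintro ⟨σ, ⟨s, hs⟩, rfl⟩ ⟨τ, ⟨t, ht⟩, rfl⟩ he
      have he' : act a p ⟨s, coreC_le_cI a hs⟩ d.xb = act a p ⟨t, coreC_le_cI a ht⟩ d.xb :=
        congrArg (fun q : {q : zpowers d.xb // q ≠ 1} => ((q.1 : zpowers d.xb) : EBar a p)) he
      have := d.act_eq_one_of_fix_x C
        (x := (⟨t, coreC_le_cI a ht⟩ : cI a)⁻¹ * ⟨s, coreC_le_cI a hs⟩) (mul_mem (inv_mem ht) hs) (by
          rw [map_mul, map_inv, MulAut.mul_apply, he']
          exact MulEquiv.symm_apply_apply _ _)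
      rw [map_mul, map_inv, inv_mul_eq_one] at this
      exact Subtype.ext this.symm
    refine (Nat.card_le_card_of_injective f hf).trans_lt ?_
    classical
    have := Fintype.ofFinite (zpowers d.xb)
    rw [Nat.card_eq_fintype_card, Fintype.card_subtype_compl, Fintype.card_subtype_eq,
      ← Nat.card_eq_fintype_card, Nat.card_zpowers, orderOf_eq_prime (eBar_pow _) (d.xb_ne C)]
    exact Nat.sub_lt d.mixed.hp.pos one_pos
  have hsup : Nat.card (eP a p ⊔ cZero a p : Subgroup G) = Nat.card (cZero a p) * p ^ 2 := by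
    have h1 := CfsgLib.Coprime.InvMax.card_sup_mul_inf_of_le_normalizer (K := eP a p) (A := cZero a p)
      fun x hx => mem_normalizer_iff_of_finite fun _ he => conj_mem_eP (coreC_le_cI a hx.1) he
    obtain ⟨z, hzo, hall⟩ := d.mixed.exists_generator C
    rw [d.eP_inf_cZero C, d.card_eP C, hall, Nat.card_zpowers, hzo, pow_succ p 2, ← mul_assoc] at h1
    exact Nat.eq_of_mul_eq_mul_right d.mixed.hp.pos h1
  have hcard : Nat.card (coreC a) ∣ Nat.card (cZero a p) * p ^ 2 * Nat.card φ.range := by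
    rw [← hsup, ← index_ker, hker, ← relIndex, ← relIndex_bot_left, ← relIndex_bot_left,
      relIndex_mul_relIndex ⊥ _ _ bot_le (sup_le ((eP_le_fitP a p).trans (fitP_le_coreC a p))
        (d.cZero_le C))]
  have huniq : ∀ v ∈ cZero a p, v ≠ 1 → ∀ t, orderOf t = 2 → Commute t v → t = a := by
    intro v hv hv1 t ht htv
    haveI := d.cZero_cyclic C
    have hn : cI a ≤ normalizer (zpowers v : Set G) := fun x hx =>
      mem_normalizer_iff_of_finite fun y hy => by
        obtain ⟨n, rfl⟩ := mem_zpowers_iff.1 hy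
        let σ : cZero a p →* cZero a p := MonoidHom.mk'
          (fun q => ⟨x * q * x⁻¹, conj_mem_cZero hx q.2⟩) fun q r => Subtype.ext (by
            show x * ((q : G) * r) * x⁻¹ = x * q * x⁻¹ * (x * r * x⁻¹)
            group)
        obtain ⟨m, hm⟩ := σ.map_cyclic
        have := congrArg Subtype.val (hm ⟨v, hv⟩)
        rw [← conj_zpow, show x * v * x⁻¹ = v ^ m from this]
        exact zpow_mem (zpow_mem (mem_zpowers v) m) n
    have hne' : zpowers v ≠ ⊥ := fun e => hv1 (zpowers_eq_bot.1 e)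
    have htop : zpowers v ≠ ⊤ := fun e => C.min.cI_ne_top (invol_ne_one ha)
      (top_le_iff.1 (e ▸ zpowers_le.2 (coreC_le_cI a hv.1)))
    have hN : normalizer (zpowers v : Set G) = cI a :=
      ((C.max a ha).le_iff.1 hn).resolve_left (C.min.normalizer_ne_top hne' htop)
    have htc : t ∈ cI a := hN ▸ mem_normalizer_iff_of_finite fun y hy => by
      obtain ⟨n, rfl⟩ := mem_zpowers_iff.1 hy
      rw [(htv.zpow_right n).eq, mul_inv_cancel_right]
      exact zpow_mem (mem_zpowers v) n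
    by_contra hta
    have h1 := d.cZero_inverts C ht htc hta hv
    rw [htv.eq, mul_inv_cancel_right] at h1
    exact hv1 (eq_one_of_inverse_self hv.1 h1)
  exact Component.split_false_inverted C.min d.mixed.four d.mixed.hp (d.orderOf_x C) hxa
    (mem_cI.1 d.hxb).symm hgN (d.cZero_le C)
    (fun v hv => (mem_centralizer_iff.1 hv.2 x₀ d.hx).symm)
    (fun v hv => d.cZero_inverts C d.mixed.four.hb (d.hbc C) d.mixed.four.hab.symm hv) huniq
    ((dvd_of_eq (d.zeta_order C).symm).trans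
      (Subgroup.orderOf_dvd_natCard _ (d.zP_le_cZero C (d.zeta_mem C))))
    (fun _ hy _ _ _ _ _ => ⟨Nat.card φ.range, Nat.card_pos, by omega,
      (Subgroup.orderOf_dvd_natCard _ hy).trans hcard⟩) hj hjx

/-- When every involution fixes the first line we are in the shape of the twist lemma. -/
theorem twistShape (hall : ∀ j, orderOf j = 2 → ∀ hjc : j ∈ cI a, j ≠ a →
    act a p ⟨j, hjc⟩ d.xb = d.xb ∧ act a p ⟨j, hjc⟩ d.ub = d.ub⁻¹) : TwistShape a b := by
  have hb := d.mixed.four.hb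
  have hbc := d.hbc C
  obtain ⟨F, hF⟩ : ∃ F, F = zpowers u ⊔ cZero a p := ⟨_, rfl⟩
  have huF : u ∈ F := hF ▸ mem_sup_left (mem_zpowers u)
  have hcF : cZero a p ≤ F := hF ▸ le_sup_right
  have hzF : zP a p ≤ F := (d.zP_le_cZero C).trans hcF
  have hFO : F ≤ coreC a := hF ▸ sup_le (zpowers_le.2 (d.u_core C)) (d.cZero_le C)
  have hcomm : ∀ x ∈ F, ∀ y ∈ F, x * y = y * x := by
    haveI := d.cZero_cyclic C
    have huc : ∀ v ∈ cZero a p, Commute u v := fun v hv => mem_centralizer_iff.1 hv.2 u d.hu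
    have h1 : F ≤ centralizer (F : Set G) := by
      rw [hF]
      refine sup_le (le_centralizer_iff.1 (sup_le ?_ ?_)) (le_centralizer_iff.1 (sup_le ?_ ?_))
      · exact le_centralizer_iff_isMulCommutative.2 inferInstance
      · exact fun v hv => mem_centralizer_iff.2 fun y hy => by
          obtain ⟨n, rfl⟩ := mem_zpowers_iff.1 hy
          exact ((huc v hv).zpow_left n).eq
      · exact zpowers_le.2 (mem_centralizer_iff.2 fun v hv => (huc v hv).eq.symm)
      · exact le_centralizer_iff_isMulCommutative.2 inferInstance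
    exact fun x hx y hy => (mem_centralizer_iff.1 (h1 hx) y hy).symm
  have hgen : ∀ x : G, x * u * x⁻¹ ∈ F → x ∈ cI a → x ∈ normalizer (F : Set G) := fun x hxu hx => by
    refine mem_normalizer_iff_of_finite fun f hf => ?_
    have hle : F ≤ F.comap (MulAut.conj x).toMonoidHom := by
      conv_lhs => rw [hF]
      exact sup_le (zpowers_le.2 hxu) fun v hv => hcF (conj_mem_cZero hx hv)
    exact hle hf
  have hFn : ∀ x ∈ cI a, ∀ f ∈ F, x * f * x⁻¹ ∈ F := by
    have hle : cI a ≤ normalizer (F : Set G) := (C.min.cI_le_closure d.mixed.four.ha).trans <| by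
      refine sup_le (fun o ho => hgen o ?_ (coreC_le_cI a ho)) ((closure_le _).2 fun j hj => hgen j ?_ hj.2)
      · obtain ⟨-, n, hn⟩ := d.lines_invariant C hw hwb hne (o := ⟨o, coreC_le_cI a ho⟩) ho
        rw [act_mk, ← QuotientGroup.mk_zpow, mk_eq_mk, conjE_apply] at hn
        have h1 := inv_mem (show (o * u * o⁻¹)⁻¹ * u ^ n ∈ zP a p from hn)
        rw [show o * u * o⁻¹ = u ^ n * ((o * u * o⁻¹)⁻¹ * u ^ n)⁻¹ by group]
        exact mul_mem (zpow_mem huF n) (hzF h1)
      · by_cases hja : j = a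
        · rw [hja, (mem_cI.1 (fitP_le_cI a p (eP_le_fitP a p d.hu))).symm, mul_inv_cancel_right]
          exact huF
        · rw [d.exact_inv C hj.1 hj.2 hja d.hu (hall j hj.1 hj.2 hja).2]
          exact inv_mem huF
    exact fun x hx f hf => (mem_normalizer_iff.1 (hle hx) f).1 hf
  have hinv : ∀ j, orderOf j = 2 → j ∈ cI a → j ≠ a → ∀ x ∈ F, j * x * j⁻¹ = x⁻¹ := by
    intro j hj hjc hja
    let S : Subgroup G :=
      { carrier := {f | f ∈ F ∧ j * f * j⁻¹ = f⁻¹}
        one_mem' := ⟨one_mem _, by simp⟩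
        mul_mem' := fun {f k} hf hk => ⟨mul_mem hf.1 hk.1, by
          rw [conj_mul.symm, hf.2, hk.2, hcomm f hf.1 k hk.1, mul_inv_rev]⟩
        inv_mem' := fun {f} hf => ⟨inv_mem hf.1, by rw [← conj_inv, hf.2]⟩ }
    intro x hx
    have hle : F ≤ S := by
      conv_lhs => rw [hF]
      exact sup_le (zpowers_le.2 ⟨huF, d.exact_inv C hj hjc hja d.hu (hall j hj hjc hja).2⟩)
        fun v hv => ⟨hcF hv, d.cZero_inverts C hj hjc hja hv⟩
    exact (hle hx).2
  refine ⟨F, hFO, hFn, hcomm, hinv, le_antisymm (fun y hy => ?_) (sup_le hFO inf_le_left),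
    fun hle => hne ?_, fun y hy => ?_⟩
  · obtain ⟨s, -, hs2, hs3, hs4⟩ := exists_sqrt_inverted hb hbc hy
    have hsF : s ∈ F := by
      set S : cI a := ⟨s, coreC_le_cI a hs2⟩
      obtain ⟨⟨n, hn⟩, -⟩ := d.lines_invariant C hw hwb hne (o := S) hs2
      have hS : act a p S = 1 := by
        refine d.act_eq_one_of_sq C hs2 ?_
        have h1 : act a p (⟨b, hbc⟩ * S * ⟨b, hbc⟩) d.xb = d.xb ^ n := by
          rw [map_mul, map_mul, MulAut.mul_apply, MulAut.mul_apply, d.act_b_xb C, hn, map_zpow,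
            d.act_b_xb C]
        rw [show (⟨b, hbc⟩ : cI a) * S * ⟨b, hbc⟩ = S⁻¹ from Subtype.ext (by
          show b * s * b = s⁻¹
          nth_rw 2 [← invol_inv hb]
          exact hs3), map_inv, ← hn] at h1
        conv_lhs => rw [← h1]
        exact MulEquiv.apply_symm_apply _ _
      obtain ⟨e, he, hc⟩ := d.exists_of_trivial C hs2 (act_eq_one_iff.1 hS)
      have hbe : b * e * b⁻¹ = e⁻¹ := by
        have h1 := d.cZero_inverts C hb hbc d.mixed.four.hab.symm hc
        have hce : Commute e (s * e⁻¹) := mem_centralizer_iff.1 hc.2 e he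
        calc b * e * b⁻¹ = (b * (s * e⁻¹) * b⁻¹)⁻¹ * (b * s * b⁻¹) := by group
          _ = s * e⁻¹ * s⁻¹ := by rw [h1, inv_inv, hs3]
          _ = e⁻¹ := by
            have h2 : Commute s e := by simpa using (hce.symm.mul_left (Commute.refl e))
            rw [h2.inv_right.eq, mul_inv_cancel_right]
      obtain ⟨n, hn⟩ := d.inv_span C he hbe
      rw [show s = s * e⁻¹ * (e * (u ^ n)⁻¹ * u ^ n) by group]
      exact mul_mem (hcF hc) (mul_mem (hzF hn) (zpow_mem huF n))
    rw [show y = y * s * s⁻¹ by group]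
    exact mul_mem (mem_sup_right ⟨mul_mem hy hs2, hs4⟩) (mem_sup_left (inv_mem hsF))
  · have h1 := mem_centralizer_iff.1 (hle (⟨hw, hwb⟩ : (w : G) ∈ coreC a ⊓ cI b)) u huF
    rw [show w = 1 from Subtype.ext (d.key C hw hwb h1.symm), map_one]
  · have hyu : Commute y u := (mem_centralizer_iff.1 hy.2 u huF).symm
    have hfix : act a p ⟨y, coreC_le_cI a hy.1⟩ d.ub = d.ub := by
      rw [act_mk]
      refine congrArg _ (Subtype.ext ?_)
      show y * u * y⁻¹ = u
      rw [hyu.eq, mul_inv_cancel_right]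
    obtain ⟨e, he, hc⟩ := d.exists_of_trivial C hy.1
      (act_eq_one_iff.1 (d.act_eq_one_of_fix_u C (x := ⟨y, coreC_le_cI a hy.1⟩) hy.1 hfix))
    have hcu : Commute (y * e⁻¹) u := (mem_centralizer_iff.1 hc.2 u d.hu).symm
    have heu : Commute e u := by simpa [mul_assoc] using hcu.inv_left.mul_left hyu
    obtain ⟨i, k, z, hz, hee⟩ := d.span C he
    have hzu : Commute z u := hz.2.1 u (eP_le_fitP a p d.hu)
    have hxu : Commute (x₀ ^ i) u := by
      rw [show x₀ ^ i = e * z⁻¹ * (u ^ k)⁻¹ by rw [hee]; group]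
      exact (heu.mul_left hzu.inv_left).mul_left ((Commute.refl u).zpow_left k).inv_left
    have hx1 := d.key C (zpow_mem (d.x_core C) i) (zpow_mem d.hxb i) hxu
    have heF : e ∈ F := by
      rw [hee, hx1, one_mul]
      exact mul_mem (zpow_mem huF k) (hzF hz)
    rw [show y = y * e⁻¹ * e by group]
    exact mul_mem (hcF hc) heF

end SplitE

/-- The split case of the component leg does not occur. -/
theorem Mixed.shape_case_false (C : Ctx G) {a j g u x₀ : G} {p : ℕ} (h : Mixed a j g p)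
    (hcent : ∀ x ∈ coreC a, ∀ z ∈ zP a p, Commute x z) (hu : u ∈ eP a p) (huz : u ∉ zP a p)
    (hinv : j * u * j⁻¹ = u⁻¹) (hx : x₀ ∈ eP a p) (hxj : x₀ ∈ cI j) (hx1 : x₀ ≠ 1) : False := by
  have d : SplitE a j g p u x₀ := ⟨h, hcent, hu, huz, hinv, hx, hxj, hx1⟩
  refine d.false_of_fixed_le C fun k hk hkc hka => ?_
  by_contra hle
  obtain ⟨w, hw, hwE⟩ := SetLike.not_le_iff_exists.1 hle
  obtain ⟨g', v, y, d'⟩ := d.exists_splitE C hk hkc hka
  have hne : act a p ⟨w, coreC_le_cI a hw.1⟩ ≠ 1 := fun e =>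
    hwE (d'.fixed_trivial C hw.1 hk hkc hka hw.2 e)
  have hcases := fun (t : G) (ht : orderOf t = 2) (htc : t ∈ cI a) (hta : t ≠ a) =>
    d'.invol_cases C (w := ⟨w, coreC_le_cI a hw.1⟩) hw.1 hw.2 hne ht htc hta
  refine TwistShape.false C.min d'.mixed.four
    (d'.twistShape C (w := ⟨w, coreC_le_cI a hw.1⟩) hw.1 hw.2 hne fun t ht htc hta => ?_)
  rcases hcases t ht htc hta with h1 | h1 | h1
  · exact h1
  · exact (d'.diag_false C (w := ⟨w, coreC_le_cI a hw.1⟩) hw.1 hw.2 hne ht htc hta h1).elim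
  · exact (d'.no_swap C (w := ⟨w, coreC_le_cI a hw.1⟩) hw.1 hw.2 hne ht htc hta h1).elim

end CfsgLib.GW
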