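import Cfsg.Agent.Lib.GW.Component.Main
import Cfsg.Agent.Lib.GW.Component.NoCentKill
import Cfsg.Agent.Lib.GW.Component.Split6
import Cfsg.Agent.Lib.GW.Component.Small.Main
import Cfsg.Agent.Lib.GW.Component.Alpha.Main

/-!
The component leg, from the scalar case.
-/

set_option autoImplicit false
set_option linter.unusedSectionVars false
set_option linter.style.haveILetI false

namespace CfsgLib.GW

open Subgroup CfsgLib.Invol

universe u

variable {G : Type u} [Group G] [Finite G]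

/-- A mixed four-group is impossible if, when an involution acts trivially on `eP a p` modulo
`zP a p`, some line over `zP a p` fixed by it is normal in `C(a)`. -/
theorem Mixed.false_of_line (C : Ctx G) {a b g : G} {p : ℕ} (h : Mixed a b g p)
    (hline : ∀ j g' : G, Mixed a j g' p → (∀ e ∈ eP a p, j * e * j⁻¹ * e⁻¹ ∈ zP a p) →
      ∃ x₀ ∈ eP a p, x₀ ∈ cI j ∧ x₀ ∉ zP a p ∧
        ∀ x ∈ cI a, x * x₀ * x⁻¹ ∈ zP a p ⊔ zpowers x₀) : False := by
  classical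
  by_cases hA : ∃ j : G, orderOf j = 2 ∧ j ∈ cI a ∧ j ≠ a ∧ eP a p ⊓ cI j ≠ ⊥ ∧
      ∃ u ∈ eP a p, u ∉ zP a p ∧ j * u * j⁻¹ = u⁻¹
  · obtain ⟨j, hj, hjc, hne, hfix, u, hu, huz, hinv⟩ := hA
    obtain ⟨g', hg'⟩ := h.mixed_of_fixed C hj hjc hne hfix
    obtain ⟨x₀, hx₀, hx1⟩ := (bot_or_exists_ne_one (eP a p ⊓ cI j)).resolve_left hfix
    exact hg'.shape_case_false C (hg'.cent_of_split C hu huz hinv hx₀.1 hx₀.2 hx1) hu huz hinv
      hx₀.1 hx₀.2 hx1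
  push_neg at hA
  by_cases hC : ∀ j, orderOf j = 2 → j ∈ cI a → j ≠ a → eP a p ⊓ cI j = ⊥
  · exact (h.twistShape_of_invert0 C hC).false C.min h.four
  push_neg at hC
  obtain ⟨j, hj, hjc, hne, hfix⟩ := hC
  obtain ⟨g', hg'⟩ := h.mixed_of_fixed C hj hjc hne hfix
  obtain ⟨x₀, hx₀, hxj, hxz, hx⟩ := hline j g' hg' fun e he => by
    by_contra hnz
    refine hA j hj hjc hne hfix (j * e * j⁻¹ * e⁻¹) (mul_mem (conj_mem_eP hjc he) (inv_mem he)) hnz ?_
    calc j * (j * e * j⁻¹ * e⁻¹) * j⁻¹ = (j * j) * e * (j⁻¹ * e⁻¹ * j⁻¹) := by group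
      _ = e * (j * e⁻¹ * j⁻¹) := by rw [invol_mul_self hj, invol_inv hj]; group
      _ = (j * e * j⁻¹ * e⁻¹)⁻¹ := by group
  exact hg'.small_false C hx₀ hxj hxz hx

/-- `ScalarStmt` from the scalar case. -/
theorem scalar_of_line
    (hline : ∀ (G : Type u) [Group G] [Finite G], Ctx G → ∀ (a j g : G) (p : ℕ), Mixed a j g p →
      (∀ e ∈ eP a p, j * e * j⁻¹ * e⁻¹ ∈ zP a p) →
      ∃ x₀ ∈ eP a p, x₀ ∈ cI j ∧ x₀ ∉ zP a p ∧
        ∀ x ∈ cI a, x * x₀ * x⁻¹ ∈ zP a p ⊔ zpowers x₀)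
    (hm : MaximalStmt.{u}) (hC : NoLayerStmt.{u}) : ScalarStmt.{u} := by
  intro G _ _ M a b g h p hp
  by_contra hne
  push Not at hne
  have C : Ctx G := M.ctx hm hC fun _ _ _ _ hh => alpha M (hm G M) hh
  exact Mixed.false_of_line C (⟨h, hp, hne.2, hne.1⟩ : Mixed a b g p)
    (hline G C a · · p)

end CfsgLib.GW
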