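import Cfsg.Agent.Lib.GW.Component.Scalar
import Cfsg.Agent.Lib.GW.Component.Act
import Cfsg.Agent.Lib.GW.Component.Small.Main

/-!
The component leg: the scalar case does not occur.
-/

set_option autoImplicit false
set_option linter.unusedSectionVars false
set_option linter.style.haveILetI false

namespace CfsgLib.GW

open Subgroup CfsgLib.Invol
open scoped commutatorElement

universe u

variable {G : Type u} [Group G] [Finite G] {a b g : G} {p : ℕ}

theorem actsTriv_conj {x r : G} (hx : x ∈ cI a) (hr : r ∈ actsTriv a p) :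
    x * r * x⁻¹ ∈ actsTriv a p := by
  refine ⟨conj_mem_coreC hx hr.1, fun e he => ?_⟩
  have he' : x⁻¹ * e * x ∈ eP a p := by simpa using conj_mem_eP (inv_mem hx) he
  rw [show x * r * x⁻¹ * e * (x * r * x⁻¹)⁻¹ * e⁻¹ =
    x * (r * (x⁻¹ * e * x) * r⁻¹ * (x⁻¹ * e * x)⁻¹) * x⁻¹ by group]
  exact conj_mem_zP hx (hr.2 _ he')

/-- When the involutions act as scalars on `eP` modulo `zP`, their commutators with `O(C(a))` act
trivially. -/
theorem comm_mem_actsTriv {j : G} (hj : orderOf j = 2) (hjc : j ∈ cI a)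
    (hs : (∀ e ∈ eP a p, j * e * j⁻¹ * e⁻¹ ∈ zP a p) ∨ ∀ e ∈ eP a p, j * e * j⁻¹ = e⁻¹)
    {x : G} (hx : x ∈ coreC a) : ⁅x, j⁆ ∈ actsTriv a p := by
  rw [commutatorElement_def]
  refine ⟨?_, fun e he => ?_⟩
  · rw [show x * j * x⁻¹ * j⁻¹ = x * (j * x⁻¹ * j⁻¹) by group]
    exact mul_mem hx (conj_mem_coreC hjc (inv_mem hx))
  have hje : j * e * j⁻¹ ∈ eP a p := conj_mem_eP hjc he
  have hf : x⁻¹ * (j * e * j⁻¹) * x⁻¹⁻¹ ∈ eP a p :=
    conj_mem_eP (inv_mem (coreC_le_cI a hx)) hje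
  obtain ⟨f, hfdef⟩ : ∃ f, f = x⁻¹ * (j * e * j⁻¹) * x⁻¹⁻¹ := ⟨_, rfl⟩
  rw [← hfdef] at hf
  have e1 : x * j * x⁻¹ * j⁻¹ * e * (x * j * x⁻¹ * j⁻¹)⁻¹ * e⁻¹ = x * (j * f * j⁻¹) * x⁻¹ * e⁻¹ := by
    rw [hfdef, invol_inv hj]; simp only [mul_assoc, mul_inv_rev, invol_inv hj, inv_inv]
  rw [e1]
  rcases hs with hs | hs
  · rw [show x * (j * f * j⁻¹) * x⁻¹ * e⁻¹ =
      x * (j * f * j⁻¹ * f⁻¹) * x⁻¹ * (x * f * x⁻¹ * e⁻¹) by group]
    refine mul_mem (conj_mem_zP (coreC_le_cI a hx) (hs f hf)) ?_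
    rw [hfdef, show x * (x⁻¹ * (j * e * j⁻¹) * x⁻¹⁻¹) * x⁻¹ * e⁻¹ = j * e * j⁻¹ * e⁻¹ by group]
    exact hs e he
  · rw [hs f hf, hfdef, hs e he]
    group
    exact one_mem _

/-- The scalar case does not occur. -/
theorem Mixed.scalar_false (C : Ctx G) (h : Mixed a b g p)
    (hscal : ∀ j, orderOf j = 2 → j ∈ cI a → j ≠ a →
      (∀ e ∈ eP a p, j * e * j⁻¹ * e⁻¹ ∈ zP a p) ∨ ∀ e ∈ eP a p, j * e * j⁻¹ = e⁻¹)
    (hfix : eP a p ⊓ cI b ≠ ⊥) : False := by
  classical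
  haveI := Fact.mk h.hp
  have ha := h.four.ha
  have hbc : b ∈ cI a := mem_cI.2 h.four.comm.symm
  have hba : b ≠ a := h.four.hab.symm
  obtain ⟨x₀, hx₀, hx1⟩ := (bot_or_exists_ne_one (eP a p ⊓ cI b)).resolve_left hfix
  have d : ScalE a b g p := ⟨h, (hscal b h.four.hb hbc hba).resolve_right fun hi => hx1 (by
    have h1 : x₀ = x₀⁻¹ := by
      rw [← hi x₀ hx₀.1, ← mem_cI.1 hx₀.2, mul_inv_cancel_right]
    exact Alpha.eq_one_of_inv_eq (odd_orderOf_mem_coreC
      (fitP_le_coreC a p (eP_le_fitP a p hx₀.1))) h1.symm)⟩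
  have hxz : x₀ ∉ zP a p := fun hz => hx1 (d.eq_one_of_zP C hx₀.2 hz)
  have hxA : x₀ ∈ zP a p ⊔ zpowers x₀ := mem_sup_right (mem_zpowers x₀)
  refine (Classical.em (Nat.card (eP a p ⊓ cI b : Subgroup G) ≤ p)).elim (fun hle => ?_) fun hgt => ?_
  · have hR : eP a p ⊓ cI b = zpowers x₀ := (eq_of_le_of_card_ge (zpowers_le.2 hx₀) (by
      rw [Nat.card_zpowers, orderOf_eq_prime (pow_eq_one_of_eP hx₀.1) hx1]; exact hle)).symm
    refine h.small_false C hx₀.1 hx₀.2 hxz fun x hx => ?_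
    obtain ⟨r, hr, z, hz, e⟩ := d.decomp C (conj_mem_eP hx hx₀.1)
    rw [e]
    exact mul_mem (mem_sup_right (hR ▸ hr)) (mem_sup_left hz)
  obtain ⟨k, hk⟩ := IsPGroup.iff_card.1
    ((isPGroup_fitP a p).to_le (inf_le_left.trans (eP_le_fitP a p) : eP a p ⊓ cI b ≤ fitP a p))
  have hcard : Nat.card (eP a p ⊓ cI b : Subgroup G) = p ^ 2 := by
    have h2 := d.card_le C
    rw [hk] at hgt h2 ⊢
    have h3 := (Nat.pow_le_pow_iff_right h.hp.one_lt).1 h2
    rcases k with _ | _ | _ | k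
    · exact absurd (show p ^ 0 ≤ p by rw [pow_zero]; exact h.hp.one_le) hgt
    · simp at hgt
    · rfl
    · omega
  have hp3 := d.eq_three C hcard
  subst hp3
  by_cases hR : actsTriv a 3 = coreC a
  · refine h.small_false C hx₀.1 hx₀.2 hxz fun x hx => ?_
    let S : Subgroup G := cI a ⊓ normalizer ((zP a 3 ⊔ zpowers x₀ : Subgroup G) : Set G)
    have hnorm : ∀ {y : G}, y ∈ cI a → y * x₀ * y⁻¹ ∈ zP a 3 ⊔ zpowers x₀ → y ∈ S := fun {y} hy hyx => by
      refine ⟨hy, mem_normalizer_iff_of_finite fun z hz => ?_⟩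
      have hle : zP a 3 ⊔ zpowers x₀ ≤
          (zP a 3 ⊔ zpowers x₀ : Subgroup G).comap (MulAut.conj y).toMonoidHom :=
        sup_le (fun q hq => mem_comap.2 (mem_sup_left (conj_mem_zP hy hq)))
          (zpowers_le.2 (mem_comap.2 hyx))
      exact mem_comap.1 (hle hz)
    have hgen : coreC a ⊔ closure {j | orderOf j = 2 ∧ j ∈ cI a} ≤ S := by
      refine sup_le (fun y hy => hnorm (coreC_le_cI a hy) ?_) ((closure_le S).2 fun j hj => hnorm hj.2 ?_)
      · rw [show y * x₀ * y⁻¹ = y * x₀ * y⁻¹ * x₀⁻¹ * x₀ by group]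
        exact mul_mem (mem_sup_left ((hR.ge hy).2 x₀ hx₀.1)) hxA
      · by_cases hja : j = a
        · subst hja
          rw [(mem_cI.1 (coreC_le_cI j (fitP_le_coreC j 3 (eP_le_fitP j 3 hx₀.1)))).symm,
            mul_inv_cancel_right]
          exact hxA
        rcases hscal j hj.1 hj.2 hja with hs | hs
        · rw [show j * x₀ * j⁻¹ = j * x₀ * j⁻¹ * x₀⁻¹ * x₀ by group]
          exact mul_mem (mem_sup_left (hs x₀ hx₀.1)) hxA
        · rw [hs x₀ hx₀.1]
          exact inv_mem hxA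
    exact (mem_normalizer_iff.1 (hgen (C.min.cI_le_closure ha hx)).2 x₀).1 hxA
  obtain ⟨K, hRK, hK, hzK, hcK⟩ := C.min.centQuot_of_scalar' ha (R0 := actsTriv a 3) (p := 3)
    (fun x hx => hx.1) (fun x hx r hr => actsTriv_conj hx hr)
    (fun z hz => ⟨zP_le_coreC a 3 hz, fun e he => by
      rw [(hz.2.1 e (eP_le_fitP a 3 he)).eq, mul_inv_cancel_right, mul_inv_cancel]; exact one_mem _⟩)
    hR fun j hj hjc x hx => by
      by_cases hja : j = a
      · rw [hja, commutatorElement_eq_one_iff_mul_comm.2 (mem_cI.1 (coreC_le_cI a hx))]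
        exact one_mem _
      · exact comm_mem_actsTriv hj hjc (hscal j hj hjc hja) hx
  refine h.no_centQuot_p C hK hzK hcK ?_
  -- the quotient is a group of 3-power order
  set φ := (act a 3).comp (inclusion (coreC_le_cI a)) with hφ
  have hker : φ.ker = (actsTriv a 3).subgroupOf (coreC a) := by
    ext x
    rw [MonoidHom.mem_ker, mem_subgroupOf]
    show act a 3 (inclusion (coreC_le_cI a) x) = 1 ↔ _
    rw [act_eq_one_iff]
    exact ⟨fun h => ⟨x.2, h⟩, fun h => h.2⟩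
  have hidx : (actsTriv a 3).relIndex (coreC a) = Nat.card φ.range := by
    show ((actsTriv a 3).subgroupOf (coreC a)).index = _
    rw [← hker, index_ker]
  have hE : Nat.card (EBar a 3) ≤ 9 := by
    refine (Nat.card_le_card_of_surjective
      (fun r : (eP a 3 ⊓ cI b : Subgroup G) => (QuotientGroup.mk ⟨(r : G), r.2.1⟩ : EBar a 3))
      fun q => ?_).trans_eq hcard
    obtain ⟨e, rfl⟩ := QuotientGroup.mk'_surjective (zE a 3) q
    obtain ⟨r, hr, z, hz, he⟩ := d.decomp C e.2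
    refine ⟨⟨r, hr⟩, mk_eq_mk.2 ?_⟩
    rw [show ((⟨r, hr.1⟩ : ↥(eP a 3)) : G) = r from rfl, he, inv_mul_cancel_left]
    exact hz
  have hEp : IsPGroup 3 (EBar a 3) := (((isPGroup_fitP a 3).to_le (eP_le_fitP a 3))).to_quotient _
  have hpow : ∀ q : ℕ, q.Prime → q ∣ Nat.card φ.range → q = 3 := by
    intro q hq hdvd
    haveI := Fact.mk hq
    have hodd : Odd (Nat.card φ.range) := (odd_coreC a).of_dvd_nat (card_range_dvd φ)
    have hq2 : q ≠ 2 := fun e => by
      subst e; exact (Nat.not_even_iff_odd.2 hodd) (even_iff_two_dvd.2 hdvd)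
    obtain ⟨⟨s, hs⟩, hso⟩ := exists_prime_orderOf_dvd_card' (G := φ.range) q hdvd
    rw [orderOf_mk] at hso
    by_contra hq3
    -- the fixed points
    let F : Subgroup (EBar a 3) :=
      { carrier := {x | s x = x}
        one_mem' := map_one s
        mul_mem' := fun {x y} (hx : s x = x) (hy : s y = y) => by
          show s (x * y) = x * y
          rw [map_mul, hx, hy]
        inv_mem' := fun {x} (hx : s x = x) => by
          show s x⁻¹ = x⁻¹
          rw [map_inv, hx] }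
    have hFne : F ≠ ⊤ := fun e => by
      have h1 : s = 1 := MulEquiv.ext fun x => (e ▸ mem_top x : x ∈ F)
      rw [h1, orderOf_one] at hso
      exact hq.one_lt.ne hso
    letI : MulAction (zpowers s) (EBar a 3) := MulAction.compHom _ (zpowers s).subtype
    have hmod := (IsPGroup.of_card (n := 1) (by rw [pow_one, Nat.card_zpowers, hso]) :
      IsPGroup q (zpowers s)).card_modEq_card_fixedPoints (EBar a 3)
    have hfix : Nat.card (MulAction.fixedPoints (zpowers s) (EBar a 3)) = Nat.card F := by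
      refine Nat.card_congr (Equiv.subtypeEquivRight fun x => ⟨fun hx => hx ⟨s, mem_zpowers s⟩,
        fun hx t => ?_⟩)
      obtain ⟨i, hi⟩ := t.2
      have hst : MulAction.stabilizer (MulAut (EBar a 3)) x ≥ zpowers s := zpowers_le.2 hx
      show (t : MulAut (EBar a 3)) • x = x
      exact hst t.2
    rw [hfix] at hmod
    obtain ⟨m, hm⟩ := IsPGroup.iff_card.1 hEp
    obtain ⟨l, hl⟩ := IsPGroup.iff_card.1 (hEp.to_subgroup F)
    have hlm : l < m := by
      refine (Nat.pow_lt_pow_iff_right (show 1 < 3 by norm_num)).1 ?_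
      rw [← hl, ← hm]
      refine lt_of_le_of_ne (Finite.card_subtype_le _) fun e => hFne (eq_top_of_card_eq F e)
    have hm2 : m ≤ 2 := (Nat.pow_le_pow_iff_right (show 1 < 3 by norm_num)).1
      (by rw [← hm]; exact hE)
    rw [hm, hl] at hmod
    have h6 := (Nat.modEq_iff_dvd' (Nat.pow_le_pow_right (show 0 < 3 by norm_num) hlm.le)).1 hmod.symm
    have h7 : q ∣ 3 ^ m - 3 ^ l := h6
    interval_cases m <;> interval_cases l <;> norm_num at h7
    · exact hq2 ((Nat.prime_dvd_prime_iff_eq hq Nat.prime_two).1 h7)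
    · exact hq2 ((Nat.prime_dvd_prime_iff_eq hq Nat.prime_two).1
        (hq.dvd_of_dvd_pow (show q ∣ 2 ^ 3 by simpa using h7)))
    · rcases hq.dvd_mul.1 (show q ∣ 2 * 3 by simpa using h7) with h8 | h8
      · exact hq2 ((Nat.prime_dvd_prime_iff_eq hq Nat.prime_two).1 h8)
      · exact hq3 ((Nat.prime_dvd_prime_iff_eq hq Nat.prime_three).1 h8)
  have h1 : K.relIndex (coreC a) ≠ 1 := fun e => hK.not_ge (relIndex_eq_one.1 e)
  obtain ⟨q, hq, hqd⟩ := Nat.exists_prime_and_dvd h1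
  have hdiv : K.relIndex (coreC a) ∣ (actsTriv a 3).relIndex (coreC a) := relIndex_dvd_of_le_left _ hRK
  rwa [← hpow q hq (hidx ▸ hqd.trans hdiv)]

end CfsgLib.GW
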