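import Cfsg.Agent.Lib.GW.Component.Main
import Cfsg.Agent.Lib.GW.Component.NoCentKill
import Cfsg.Agent.Lib.GW.Component.Split6
import Cfsg.Agent.Lib.GW.Component.ScalarKill
import Cfsg.Agent.Lib.GW.Component.Alpha.Main

/-!
The component leg: every `p`-core of `O(C(a))` is centralised by `b` or avoids `C(b)`.
-/

set_option autoImplicit false
set_option linter.unusedSectionVars false
set_option linter.style.haveILetI false

namespace CfsgLib.GW

open Subgroup CfsgLib.Invol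

universe u

/-- A mixed four-group is impossible. -/
theorem Mixed.not_mixed {G : Type u} [Group G] [Finite G] (C : Ctx G) {a b g : G} {p : ℕ}
    (h : Mixed a b g p) : False := by
  classical
  by_cases hA : ∃ j : G, orderOf j = 2 ∧ j ∈ cI a ∧ j ≠ a ∧ eP a p ⊓ cI j ≠ ⊥ ∧
      ∃ u ∈ eP a p, u ∉ zP a p ∧ j * u * j⁻¹ = u⁻¹
  · obtain ⟨j, hj, hjc, hne, hfix, u, hu, huz, hinv⟩ := hA
    obtain ⟨g', hg'⟩ := h.mixed_of_fixed C hj hjc hne hfix
    obtain ⟨x₀, hx₀, hx1⟩ := (bot_or_exists_ne_one (eP a p ⊓ cI j)).resolve_left hfix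
    exact hg'.shape_case_false C (hg'.cent_of_split C hu huz hinv hx₀.1 hx₀.2 hx1) hu huz hinv
      hx₀.1 hx₀.2 hx1
  push Not at hA
  by_cases hC : ∀ j, orderOf j = 2 → j ∈ cI a → j ≠ a → eP a p ⊓ cI j = ⊥
  · exact (h.twistShape_of_invert0 C hC).false C.min h.four
  push Not at hC
  obtain ⟨j₀, hj₀, hj₀c, hj₀a, hfix₀⟩ := hC
  obtain ⟨g', hg'⟩ := h.mixed_of_fixed C hj₀ hj₀c hj₀a hfix₀
  refine hg'.scalar_false C (fun j hj hjc hne => ?_) hfix₀
  by_cases hfix : eP a p ⊓ cI j = ⊥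
  · exact Or.inr (inverts_of_inf_eq_bot hj (fun _ hx => conj_mem_eP hjc hx) hfix)
  refine Or.inl fun e he => ?_
  by_contra hnz
  refine hA j hj hjc hne hfix (j * e * j⁻¹ * e⁻¹) (mul_mem (conj_mem_eP hjc he) (inv_mem he)) hnz ?_
  calc j * (j * e * j⁻¹ * e⁻¹) * j⁻¹ = (j * j) * e * (j⁻¹ * e⁻¹ * j⁻¹) := by group
    _ = e * (j * e⁻¹ * j⁻¹) := by rw [invol_mul_self hj, invol_inv hj]; group
    _ = (j * e * j⁻¹ * e⁻¹)⁻¹ := by group

/-- The component leg. -/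
theorem scalar_stmt (hm : MaximalStmt.{u}) (hC : NoLayerStmt.{u}) : ScalarStmt.{u} := by
  intro G _ _ M a b g h p hp
  by_contra hne
  push Not at hne
  exact Mixed.not_mixed (M.ctx hm hC fun _ _ _ _ hh => alpha M (hm G M) hh)
    (⟨h, hp, hne.2, hne.1⟩ : Mixed a b g p)

end CfsgLib.GW
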