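import Mathlib.GroupTheory.SpecificGroups.Alternating
import Cfsg.Agent.Lib.GW.ShapeOvergroupAlt

/-!
The rotations of the four-groups centralised by a three-cycle in the alternating group of degree
seven.
-/

set_option autoImplicit false
set_option synthInstance.maxSize 2000

namespace CfsgLib.GW.Component

open Equiv CfsgLib.GW.Overgroup

/-- A rotation. -/
def r7 : Perm (Fin 7) := swap 1 2 * swap 2 3

theorem check_four : ∀ y : Perm (Fin 7), y * a7 = a7 * y → y * x7 = x7 * y → y * y = 1 →
    Perm.sign y = 1 → y ≠ 1 → y ≠ a7 → r7 * a7 * r7⁻¹ = y ∨ r7⁻¹ * a7 * r7 = y := by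
  set_option maxRecDepth 200000 in decide +kernel

theorem check_rot : r7 * x7 = x7 * r7 ∧ Perm.sign r7 = 1 := by
  decide +kernel

/-- If two distinct involutions commute with a nontrivial element of odd order and with each
other, an element commuting with the latter carries one to the other. -/
theorem exists_rot_seven {i y x : alternatingGroup (Fin 7)} (hi : orderOf i = 2)
    (hy : orderOf y = 2) (hne : y ≠ i) (hyi : Commute y i) (hxi : Commute x i) (hxy : Commute x y)
    (ho : Odd (orderOf x)) (hx : x ≠ 1) :
    ∃ r : alternatingGroup (Fin 7), r * i * r⁻¹ = y ∧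
      ∀ z : alternatingGroup (Fin 7), Commute z i → Odd (orderOf z) → Commute r z := by
  obtain ⟨c, hc⟩ := isConj_a7 i hi
  have hc' : ((MulAut.conj c i : alternatingGroup (Fin 7)) : Perm (Fin 7)) = a7 :=
    congrArg Subtype.val hc
  have cases3 : ∀ z : alternatingGroup (Fin 7), Commute z i → Odd (orderOf z) →
      ((MulAut.conj c z : alternatingGroup (Fin 7)) : Perm (Fin 7)) = 1 ∨
        ((MulAut.conj c z : alternatingGroup (Fin 7)) : Perm (Fin 7)) = x7 ∨
        ((MulAut.conj c z : alternatingGroup (Fin 7)) : Perm (Fin 7)) = x7 * x7 := by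
    intro z hz hoz
    have h1 := congrArg Subtype.val (hz.map (MulAut.conj c).toMonoidHom).eq
    change ((MulAut.conj c z : alternatingGroup (Fin 7)) : Perm (Fin 7)) * (MulAut.conj c i).1 =
      (MulAut.conj c i).1 * (MulAut.conj c z).1 at h1
    rw [hc'] at h1
    exact (odd_commute_a7 h1 (by rwa [Subgroup.orderOf_coe, MulEquiv.orderOf_eq])).2
  set Y := ((MulAut.conj c y : alternatingGroup (Fin 7)) : Perm (Fin 7)) with hY
  have hY2 : orderOf Y = 2 := by rw [hY, Subgroup.orderOf_coe, MulEquiv.orderOf_eq, hy]
  have hYa : Y * a7 = a7 * Y := by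
    have h1 := congrArg Subtype.val (hyi.map (MulAut.conj c).toMonoidHom).eq
    change Y * (MulAut.conj c i).1 = (MulAut.conj c i).1 * Y at h1
    rwa [hc'] at h1
  have hx3 : x7 * x7 * (x7 * x7) = x7 := by decide +kernel
  have hYx : Y * x7 = x7 * Y := by
    have h1 : Commute ((MulAut.conj c x : alternatingGroup (Fin 7)) : Perm (Fin 7)) Y :=
      congrArg Subtype.val (hxy.map (MulAut.conj c).toMonoidHom).eq
    rcases cases3 x hxi ho with e | e | e
    · exact absurd ((MulAut.conj c).injective ((Subtype.ext e).trans (map_one _).symm)) hx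
    · rw [e] at h1; exact h1.eq.symm
    · rw [e] at h1
      have h2 := h1.mul_left h1
      rw [hx3] at h2
      exact h2.eq.symm
  have hYi : Y ≠ a7 := fun e => hne ((MulAut.conj c).injective (Subtype.ext (e.trans hc'.symm)))
  have main : ∀ R : Perm (Fin 7), Perm.sign R = 1 → Commute R x7 → R * a7 * R⁻¹ = Y →
      ∃ r : alternatingGroup (Fin 7), r * i * r⁻¹ = y ∧
        ∀ z : alternatingGroup (Fin 7), Commute z i → Odd (orderOf z) → Commute r z := by
    intro R hR hRx hRY
    obtain ⟨r, hr⟩ := (MulAut.conj c).surjective ⟨R, Perm.mem_alternatingGroup.2 hR⟩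
    refine ⟨r, (MulAut.conj c).injective ?_, fun z hz hoz => ?_⟩
    · rw [map_mul, map_mul, map_inv, hr]
      exact Subtype.ext (by
        show R * (MulAut.conj c i).1 * R⁻¹ = Y
        rw [hc', hRY])
    · refine (MulAut.conj c).injective ?_
      rw [map_mul, map_mul, hr]
      refine Subtype.ext ?_
      show R * (MulAut.conj c z).1 = (MulAut.conj c z).1 * R
      rcases cases3 z hz hoz with e | e | e <;> rw [e]
      · rw [mul_one, one_mul]
      · exact hRx.eq
      · exact (hRx.mul_right hRx).eq
  have hY1 : Y ≠ 1 := fun e => by rw [e, orderOf_one] at hY2; omega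
  have hYY : Y * Y = 1 := by rw [← pow_two, ← hY2, pow_orderOf_eq_one]
  have hYs : Perm.sign Y = 1 := Perm.mem_alternatingGroup.1 (MulAut.conj c y).2
  rcases check_four Y hYa hYx hYY hYs hY1 hYi with h | h
  · exact main r7 check_rot.2 check_rot.1 h
  · exact main r7⁻¹ (by rw [map_inv, check_rot.2, inv_one]) (Commute.inv_left check_rot.1)
      (by rwa [inv_inv])

end CfsgLib.GW.Component
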