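import Cfsg.Agent.Lib.GW.Component.Local
import Cfsg.Agent.Lib.GW.Shape
import Cfsg.Agent.Lib.GW.Component.SevenCheck

/-!
In the component leg an involution centralising the central elements of order `p` is the given
one, also when the proper subgroup involved is the alternating group of degree seven modulo its
core.
-/

set_option autoImplicit false
set_option linter.unusedSectionVars false
set_option linter.style.haveILetI false
set_option synthInstance.maxSize 2000

namespace CfsgLib.GW.Component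

open Subgroup CfsgLib.Invol
open scoped MatrixGroups

universe u

variable {G : Type u} [Group G] [Finite G] {a b g : G} {p : ℕ}

theorem zP_conj (a x : G) (p : ℕ) :
    (zP a p).map (MulAut.conj x).toMonoidHom = zP (x * a * x⁻¹) p := by
  have key : ∀ a x : G, (zP a p).map (MulAut.conj x).toMonoidHom ≤ zP (x * a * x⁻¹) p := by
    rintro a x _ ⟨z, hz, rfl⟩
    refine ⟨fitP_conj a x p ▸ mem_map_of_mem _ hz.1, fun u hu => ?_, ?_⟩
    · rw [← fitP_conj] at hu
      obtain ⟨v, hv, rfl⟩ := hu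
      exact (hz.2.1 v hv).map (MulAut.conj x).toMonoidHom
    · rw [← map_pow, hz.2.2, map_one]
  refine le_antisymm (key a x) fun y hy => ⟨(MulAut.conj x⁻¹).toMonoidHom y, ?_, ?_⟩
  · have h1 := key (x * a * x⁻¹) x⁻¹ (mem_map_of_mem _ hy)
    rwa [show x⁻¹ * (x * a * x⁻¹) * x⁻¹⁻¹ = a by group] at h1
  · show x * (x⁻¹ * y * x⁻¹⁻¹) * x⁻¹ = y
    group

/-- Normalizers of invariant subgroups of the fixed part lie in subgroups with a layer. -/
theorem exists_layer' (M : Min G) (hmax : ∀ x : G, orderOf x = 2 → IsCoatom (cI x))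
    (hNL : NoLayerStmt.{u}) (h : Mixed a b g p) {Q : Subgroup G} (hQ : Q ≠ ⊥)
    (hQle : Q ≤ fitP a p ⊓ cI b) (hW : coreC a ⊓ coreC b ≤ normalizer (Q : Set G)) :
    ∃ N : Subgroup G, IsCoatom N ∧ normalizer (Q : Set G) ≤ N ∧ Cfsg.layer ↥N ≠ ⊥ := by
  haveI := Fact.mk h.hp
  by_contra hcon
  push_neg at hcon
  have hQc : Q ≤ cI a := (hQle.trans inf_le_left).trans (fitP_le_cI a p)
  have hQtop : Q ≠ ⊤ := fun e => M.cI_ne_top (invol_ne_one h.four.ha) (top_le_iff.1 (e ▸ hQc))
  obtain ⟨N, hN, hle⟩ := (eq_top_or_exists_le_coatom (normalizer (Q : Set G))).resolve_left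
    (M.normalizer_ne_top hQ hQtop)
  have hNa : normalizer (Q : Set G) ≤ cI a := hle.trans_eq (hNL G M hmax a b g h.four Q N
    hQ (hQle.trans (inf_le_inf_right _ (fitP_le_fitC a p))) hW hN hle (hcon N hN hle))
  have hcop : (orderOf a).Coprime p := by
    rw [h.four.ha]; exact (Nat.coprime_primes Nat.prime_two h.hp).2 h.ne_two.symm
  have main : ∀ u ∈ fitP b p, Commute a u :=
    axb_subgroup (isPGroup_fitP b p) ((isPGroup_fitP a p).to_le (hQle.trans inf_le_left))
      ((hQle.trans inf_le_right).trans (cI_le_normalizer_fitP b p))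
      (cI_le_normalizer_fitP b p (mem_cI.2 h.four.comm)) hcop
      (fun x hx => mem_cI.1 (hQc hx))
      fun u _ hu => (mem_cI.1 (hNa (mem_normalizer_iff_of_finite fun x hx => by
        rwa [(hu x hx).eq.symm, mul_inv_cancel_right]))).symm
  refine h.moves fun u hu => ?_
  have hu' : g * u * g⁻¹ ∈ fitP b p := by
    rw [← h.four.ga, ← fitP_conj]; exact ⟨u, hu, rfl⟩
  have h1 : Commute (g⁻¹ * a * g) u := by
    have := (main _ hu').map (MulAut.conj g⁻¹).toMonoidHom
    simpa [MulAut.conj_apply, mul_assoc] using this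
  have hgab : g⁻¹ * a * g = a * b := by
    calc g⁻¹ * a * g = g⁻¹ * (g * (a * b) * g⁻¹) * g := by rw [h.four.gab]
      _ = a * b := by group
  rw [hgab] at h1
  have h2 : Commute a u := (mem_cI.1 (fitP_le_cI a p hu)).symm
  have h4 := h2.inv_left.mul_left h1
  rw [inv_mul_cancel_left] at h4
  exact mem_cI.2 h4.eq.symm

/-- **An involution centralising the central elements of order `p` is `a`.** -/
theorem eq_of_cent_general (M : Min G) (hmax : ∀ x : G, orderOf x = 2 → IsCoatom (cI x))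
    (hNL : NoLayerStmt.{u})
    (halpha : ∀ (a b g : G) (p : ℕ), Mixed a b g p → zP a p ⊓ cI b = ⊥)
    (h : Mixed a b g p) {j : G} (hj : orderOf j = 2) (hjz : ∀ z ∈ zP a p, Commute j z) : j = a := by
  by_contra hne
  haveI := Fact.mk h.hp
  have hle_a : zP a p ≤ cI a := (zP_le_coreC a p).trans (coreC_le_cI a)
  have hcent : ∀ x : G, (∀ z ∈ zP a p, Commute x z) → x ∈ cI a := by
    intro x hx
    have hne' : zP a p ≠ ⊤ := fun e =>
      M.cI_ne_top (invol_ne_one h.four.ha) (top_le_iff.1 (e ▸ hle_a))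
    rw [← ((hmax a h.four.ha).le_iff.1 (cI_le_normalizer_zP a p)).resolve_left
      (M.normalizer_ne_top (zP_ne_bot h) hne')]
    exact mem_normalizer_iff_of_finite fun z hz => by
      rwa [(hx z hz).eq, mul_inv_cancel_right]
  have hbz : ∀ z ∈ zP a p, b * z * b⁻¹ = z⁻¹ :=
    inverts_of_inf_eq_bot h.four.hb
      (fun _ hx => conj_mem_zP (mem_cI.2 h.four.comm.symm) hx) (halpha a b g p h)
  have hjc : j ∈ cI a := hcent j hjz
  obtain ⟨g', hg'⟩ := M.four_of_invol h.four.ha hj hjc hne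
  have hUj : fitP a p ≤ cI j := by
    by_contra hUj
    refine zP_ne_bot h (le_bot_iff.1 ((le_inf le_rfl fun z hz => mem_cI.2 (hjz z hz).eq.symm).trans_eq
      (halpha a j g' p ⟨hg', h.hp, fun e => zP_ne_bot h (le_bot_iff.1 ((le_inf (zP_le_fitP a p)
        fun z hz => mem_cI.2 (hjz z hz).eq.symm).trans_eq e)), hUj⟩)))
  have hW : coreC a ⊓ coreC b ≤ normalizer ((fitP a p ⊓ cI b : Subgroup G) : Set G) :=
    fun w hw => mem_normalizer_iff_of_finite fun x hx =>
    ⟨conj_mem_fitP (coreC_le_cI a hw.1) hx.1,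
      (cI b).mul_mem ((cI b).mul_mem (coreC_le_cI b hw.2) hx.2) ((cI b).inv_mem (coreC_le_cI b hw.2))⟩
  obtain ⟨N, hN, hle, hlay⟩ := exists_layer' M hmax hNL h h.meets le_rfl hW
  have hcN : ∀ c : G, (∀ x ∈ fitP a p ⊓ cI b, Commute c x) → c ∈ N := fun c hc => hle
    (mem_normalizer_iff_of_finite fun x hx => by rwa [(hc x hx).eq, mul_inv_cancel_right])
  have haN : a ∈ N := hcN a fun x hx => (mem_cI.1 (fitP_le_cI a p hx.1)).symm
  have hbN : b ∈ N := hcN b fun x hx => (mem_cI.1 hx.2).symm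
  have hjN : j ∈ N := hcN j fun x hx => (mem_cI.1 (hUj hx.1)).symm
  have hzN : ∀ z ∈ zP a p, z ∈ N := fun z hz => hcN z fun x hx => hz.2.1 x hx.1
  -- some central element is not in the core
  obtain ⟨z, hz, hzc⟩ : ∃ z ∈ zP a p, z ∉ coreK N := by
    by_contra hno
    push_neg at hno
    exact hlay (not_layer_le_solvable (M.isSolvable_cI h.four.ha) fun y hy =>
      hcent y fun z hz => layer_le_cent_coreK (hno z hz) hy)
  haveI : (Cfsg.oddCore ↥N).Normal := CfsgLib.Solvable.pPrimeCore_normal 2 _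
  set π := QuotientGroup.mk' (Cfsg.oddCore ↥N) with hπ
  set A : ↥N := ⟨a, haN⟩
  set B : ↥N := ⟨b, hbN⟩
  set J : ↥N := ⟨j, hjN⟩
  set Z : ↥N := ⟨z, hzN z hz⟩
  have hA2 : orderOf A = 2 := by rw [orderOf_mk, h.four.ha]
  have hJ2 : orderOf J = 2 := by rw [orderOf_mk, hj]
  have hB2 : orderOf B = 2 := by rw [orderOf_mk, h.four.hb]
  have hJA : Commute J A := Subtype.ext (mem_cI.1 hjc)
  have hπJA : π J ≠ π A := mk'_ne_of_commute hJ2 hA2 hJA fun e => hne (congrArg Subtype.val e)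
  have hZA : Commute (π Z) (π A) :=
    (show Commute Z A from Subtype.ext (mem_cI.1 (hle_a hz))).map π
  have hZJ : Commute (π Z) (π J) :=
    (show Commute Z J from Subtype.ext (hjz z hz).eq.symm).map π
  have hZo : Odd (orderOf (π Z)) := odd_map π (by
    rw [← Subgroup.orderOf_coe]; exact odd_orderOf_mem_coreC (zP_le_coreC a p hz))
  have hZ1 : π Z ≠ 1 := fun e => hzc ⟨Z, (QuotientGroup.eq_one_iff _).1 e, rfl⟩
  have hBZ : π B * π Z * (π B)⁻¹ = (π Z)⁻¹ := by
    rw [← map_inv, ← map_mul, ← map_mul, ← map_inv]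
    exact congrArg π (Subtype.ext (hbz z hz))
  have hns : ¬ Group.IsSolvable N := fun hs =>
    hZ1 ((QuotientGroup.eq_one_iff _).2 (OnePrime.mem_oddCore_of_commute M hs (v := A) h.four.ha
      (odd_orderOf_mem_coreC (zP_le_coreC a p hz)) (mem_cI.1 (hle_a hz))))
  rcases M.shape_cases hN.1 hns with ⟨⟨e⟩⟩ | ⟨T, E, L, hLn, F, iF, iFt, hodd, hq, hC, ⟨e⟩⟩
  swap
  · -- a linear group has no such element
    obtain ⟨P, χ, hχ, -, -, -, hinv, hconjinv⟩ := exists_linear hodd T E L e hC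
    have hAP := hinv _ (orderOf_mk'_invol hA2)
    have hJP := hinv _ (orderOf_mk'_invol hJ2)
    have hZP := hconjinv _ _ hZo hBZ
    have h1 : χ ⟨π Z, hZP⟩ = 1 := PGL.eq_one_of_two_invol hodd
      (a := χ ⟨π A, hAP⟩) (b := χ ⟨π J, hJP⟩)
      (by rw [orderOf_injective χ hχ, orderOf_mk, orderOf_mk'_invol hA2])
      (by rw [orderOf_injective χ hχ, orderOf_mk, orderOf_mk'_invol hJ2])
      (fun e' => hπJA (congrArg Subtype.val (hχ e')).symm)
      (Commute.map (Subtype.ext hZA.eq : Commute (⟨π Z, hZP⟩ : P) ⟨π A, hAP⟩) χ)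
      (Commute.map (Subtype.ext hZJ.eq : Commute (⟨π Z, hZP⟩ : P) ⟨π J, hJP⟩) χ)
      (by rw [orderOf_injective χ hχ, orderOf_mk]; exact hZo)
    exact hZ1 (congrArg Subtype.val (hχ (h1.trans (map_one χ).symm)))
  -- the alternating group of degree seven
  set f : ↥N →* alternatingGroup (Fin 7) := e.toMonoidHom.comp π with hf
  have hkerf : ∀ x : ↥N, f x = 1 → (x : G) ∈ coreK N := fun x hx =>
    ⟨x, (QuotientGroup.eq_one_iff _).1 (e.map_eq_one_iff.1 hx), rfl⟩
  have hfA : orderOf (f A) = 2 := (MulEquiv.orderOf_eq e _).trans (orderOf_mk'_invol hA2)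
  -- odd elements of `N` in `cI a` have cube in the core
  have hcube : ∀ x : ↥N, (x : G) ∈ coreC a → f x ^ 3 = 1 := fun x hx =>
    Overgroup.alt7_odd hfA ((show Commute x A from Subtype.ext (mem_cI.1 (coreC_le_cI a hx))).map f)
      (odd_map f (odd_mem M hx))
  have hp3 : p = 3 := by
    by_contra hp3
    refine hZ1 (e.map_eq_one_iff.1 (orderOf_eq_one_iff.1 (Nat.eq_one_of_dvd_coprimes
      (a := 3) (b := p) ((Nat.coprime_primes Nat.prime_three h.hp).2 (Ne.symm hp3))
      (orderOf_dvd_of_pow_eq_one (hcube Z (zP_le_coreC a p hz))) (orderOf_dvd_of_pow_eq_one ?_))))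
    show f Z ^ p = 1
    rw [← map_pow, show Z ^ p = 1 from Subtype.ext hz.2.2, map_one]
  -- the layer covers the quotient, so it contains the involutions
  set L : Subgroup ↥N := Cfsg.layer ↥N with hLdef
  haveI hLn : L.Normal := CfsgLib.Comp.layer_normal ↥N
  have hftop : L.map f = ⊤ := by
    haveI hn : (L.map f).Normal := hLn.map f (e.surjective.comp (QuotientGroup.mk'_surjective _))
    haveI : IsSimpleGroup (alternatingGroup (Fin 7)) := alternatingGroup.isSimpleGroup (by simp)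
    refine hn.eq_bot_or_eq_top.resolve_left fun hb => ?_
    haveI : Group.IsSolvable (coreK N) := CfsgLib.FT.odd_order_solvable (by
      rw [card_map_of_injective N.subtype_injective]
      exact Nat.coprime_two_right.1 (CfsgLib.Solvable.pPrimeCore_coprime 2))
    refine hlay (not_layer_le_solvable (K := coreK N) inferInstance fun y hy => ?_)
    obtain ⟨y', hy', rfl⟩ := hy
    exact hkerf y' (mem_bot.1 (hb ▸ mem_map_of_mem f hy'))
  have hsplit : ∀ x : ↥N, ∃ l ∈ L, ∃ o : ↥N, (o : G) ∈ coreK N ∧ x = l * o := fun x => by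
    obtain ⟨l, hl, hlx⟩ := (hftop.symm ▸ mem_top (f x) : f x ∈ L.map f)
    exact ⟨l, hl, l⁻¹ * x, hkerf _ (by rw [map_mul, map_inv, hlx, inv_mul_cancel]), by group⟩
  have hcom : ∀ l ∈ L, ∀ o : ↥N, (o : G) ∈ coreK N → Commute l o := fun l hl o ho =>
    Subtype.ext (layer_le_cent_coreK ho (mem_map_of_mem N.subtype hl)).eq
  have hodd : ∀ o : ↥N, (o : G) ∈ coreK N → Odd (orderOf o) := fun o ho => by
    obtain ⟨o', ho', e'⟩ := ho
    rw [← Subtype.ext e']
    exact (Nat.coprime_two_right.1 (CfsgLib.Solvable.pPrimeCore_coprime (G := ↥N) 2)).of_dvd_nat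
      (orderOf_dvd_natCard _ ho')
  have hinvL : ∀ x : ↥N, orderOf x = 2 → x ∈ L := by
    intro x hx
    obtain ⟨l, hl, o, ho, rfl⟩ := hsplit x
    have h2 : o * o ∈ L := by
      have h1 := invol_mul_self hx
      rw [(hcom l hl o ho).symm.mul_mul_mul_comm, mul_eq_one_iff_eq_inv] at h1
      rw [eq_inv_iff_mul_eq_one] at h1
      rw [eq_inv_of_mul_eq_one_right h1]
      exact inv_mem (mul_mem hl hl)
    obtain ⟨k, hk⟩ := hodd o ho
    have hoL : o = (o * o) ^ (k + 1) := by
      rw [← pow_two, ← pow_mul, show 2 * (k + 1) = orderOf o + 1 by omega, pow_succ,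
        pow_orderOf_eq_one, one_mul]
    exact mul_mem hl (hoL ▸ pow_mem h2 _)
  -- a rotation in the layer
  obtain ⟨r, hr, hrc⟩ := exists_rot_seven (i := f A) (y := f J) (x := f Z) hfA
    ((MulEquiv.orderOf_eq e _).trans (orderOf_mk'_invol hJ2)) (fun e' => hπJA (e.injective e'))
    (hJA.map f) (hZA.map e.toMonoidHom) (hZJ.map e.toMonoidHom)
    (odd_map f (by rw [← Subgroup.orderOf_coe]; exact odd_orderOf_mem_coreC (zP_le_coreC a p hz)))
    (fun e' => hZ1 (e.map_eq_one_iff.1 e'))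
  obtain ⟨l, hl, rfl⟩ := (hftop.symm ▸ mem_top r : r ∈ L.map f)
  have hlA : l * A * l⁻¹ = J := by
    set u := J⁻¹ * (l * A * l⁻¹) with hu
    have huO : (u : G) ∈ coreK N := hkerf u (by
      rw [hu, map_mul, map_inv, map_mul, map_mul, map_inv, hr, inv_mul_cancel])
    have h1 : orderOf (J * u) = 2 := by rw [hu, mul_inv_cancel_left, orderOf_conj_eq, hA2]
    have hc := hcom J (hinvL J hJ2) u huO
    have h2 := invol_mul_self h1
    rw [hc.symm.mul_mul_mul_comm, invol_mul_self hJ2, one_mul] at h2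
    have hu1 : u = 1 := by
      obtain ⟨k, hk⟩ := hodd u huO
      have h3 := pow_orderOf_eq_one u
      rwa [hk, pow_succ, pow_mul, pow_two, h2, one_pow, one_mul] at h3
    rw [hu, inv_mul_eq_one] at hu1
    exact hu1.symm
  have hlj : (l : G) * a * (l : G)⁻¹ = j := congrArg Subtype.val hlA
  -- the central elements form a group of order three
  have hinj : ∀ z' : zP a p, f ⟨z', hzN z' z'.2⟩ = 1 → z' = 1 := by
    intro z' hz'
    have hc : Commute b (z' : G) :=
      congrArg Subtype.val (hcom B (hinvL B hB2) ⟨z', hzN z' z'.2⟩ (hkerf _ hz')).eq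
    have h1 := hbz z' z'.2
    rw [hc.eq, mul_inv_cancel_right] at h1
    have h2 : (z' : G) ^ 2 = 1 := by rw [pow_two]; exact mul_eq_one_iff_eq_inv.2 h1
    exact Subtype.ext (orderOf_eq_one_iff.1 (Nat.eq_one_of_dvd_coprimes
      ((Nat.coprime_primes h.hp Nat.prime_two).2 h.ne_two)
      (orderOf_dvd_of_pow_eq_one z'.2.2.2) (orderOf_dvd_of_pow_eq_one h2)))
  have hcard : Nat.card (zP a p) = 3 := by
    set φ : zP a p →* alternatingGroup (Fin 7) := f.comp (inclusion (show zP a p ≤ N from hzN))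
    have hφ : Function.Injective φ := (injective_iff_map_eq_one φ).2 hinj
    have hle' : φ.range ≤ centralizer ({f A} : Set (alternatingGroup (Fin 7))) := by
      rintro _ ⟨z', rfl⟩
      exact mem_centralizer_singleton_iff.2
        ((show Commute (⟨z', hzN z' z'.2⟩ : ↥N) A from
          Subtype.ext (mem_cI.1 (hle_a z'.2))).map f).eq
    have h1 := (card_centralizer_alt_seven hfA) ▸ card_dvd_of_le hle'
    rw [Nat.card_congr (MonoidHom.ofInjective hφ).symm.toEquiv] at h1
    have ho : Odd (Nat.card (zP a p)) := (odd_coreC a).of_dvd_nat (card_dvd_of_le (zP_le_coreC a p))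
    have h3 : Nat.card (zP a p) ∣ 3 :=
      ((Nat.coprime_two_right.2 ho).pow_right 3).dvd_of_dvd_mul_left (show _ ∣ 2 ^ 3 * 3 from h1)
    rcases (Nat.dvd_prime Nat.prime_three).1 h3 with h4 | h4
    · exact absurd ((Subgroup.card_eq_one).1 h4) (zP_ne_bot h)
    · exact h4
  -- the image of `z` under the rotation
  set y : G := (l : G) * z * (l : G)⁻¹ with hy
  have hyP : y ∈ zP j p := by
    rw [← hlj, ← zP_conj]; exact ⟨z, hz, rfl⟩
  have hzPj : Nat.card (zP j p) = 3 := by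
    rw [← hlj, ← zP_conj, card_map_of_injective (MulEquiv.injective _)]; exact hcard
  have hy1 : y ≠ 1 := fun e' => hzc (by
    rw [conj_eq_one_iff.1 e']; exact one_mem _)
  have huy : ∀ u ∈ fitP a p, Commute u y := by
    intro u hu
    have hmem : u * y * u⁻¹ ∈ zP j p := conj_mem_zP (hUj hu) hyP
    have hyy : orderOf y = 3 := by
      have hd : orderOf y ∣ 3 := hzPj ▸ Subgroup.orderOf_dvd_natCard _ hyP
      exact ((Nat.dvd_prime Nat.prime_three).1 hd).resolve_left fun e' => hy1 (orderOf_eq_one_iff.1 e')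
    have hgen : zP j p = zpowers y := (eq_of_le_of_card_ge (zpowers_le.2 hyP)
      (by rw [Nat.card_zpowers, hyy, hzPj])).symm
    obtain ⟨i, hi⟩ : ∃ i : ℤ, y ^ i = u * y * u⁻¹ := mem_zpowers_iff.1 (hgen ▸ hmem)
    rw [zpow_eq_zpow_emod' (n := 3) i (by rw [← hyy, pow_orderOf_eq_one])] at hi
    have h0 := Int.emod_nonneg i (show ((3 : ℕ) : ℤ) ≠ 0 by norm_num)
    have h1 := Int.emod_lt_of_pos i (show (0 : ℤ) < ((3 : ℕ) : ℤ) by norm_num)
    rcases (show i % ((3 : ℕ) : ℤ) = 0 ∨ i % ((3 : ℕ) : ℤ) = 1 ∨ i % ((3 : ℕ) : ℤ) = 2 by omega)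
      with e' | e' | e'
    · rw [e', zpow_zero] at hi
      exact absurd (conj_eq_one_iff.1 hi.symm) hy1
    · rw [e', zpow_one] at hi
      exact (mul_inv_eq_iff_eq_mul.1 hi.symm)
    · exfalso
      have hinv' : u * y * u⁻¹ = y⁻¹ := by
        rw [← hi, e', eq_inv_iff_mul_eq_one]
        rw [show y ^ (2 : ℤ) * y = y ^ (3 : ℕ) by rw [zpow_two, pow_succ, pow_two]]
        rw [← hyy, pow_orderOf_eq_one]
      have hev : ∀ k : ℕ, u ^ (2 * k) * y * (u ^ (2 * k))⁻¹ = y := by
        intro k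
        induction k with
        | zero => simp
        | succ k ih =>
          calc u ^ (2 * (k + 1)) * y * (u ^ (2 * (k + 1)))⁻¹
              = u * (u * (u ^ (2 * k) * y * (u ^ (2 * k))⁻¹) * u⁻¹) * u⁻¹ := by
                rw [Nat.mul_succ, pow_add, (Commute.pow_pow_self u (2 * k) 2).eq, pow_two]; group
            _ = u * y⁻¹ * u⁻¹ := by rw [ih, hinv']
            _ = (u * y * u⁻¹)⁻¹ := by group
            _ = y := by rw [hinv', inv_inv]
      obtain ⟨k, hk⟩ := odd_orderOf_mem_coreC (fitP_le_coreC a p hu)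
      have h3 : y = y⁻¹ := by
        have := pow_orderOf_eq_one u
        rw [hk, pow_succ'] at this
        calc y = (u * u ^ (2 * k)) * y * (u * u ^ (2 * k))⁻¹ := by rw [this]; group
          _ = u * (u ^ (2 * k) * y * (u ^ (2 * k))⁻¹) * u⁻¹ := by group
          _ = y⁻¹ := by rw [hev, hinv']
      have h4 : orderOf y ∣ 2 := orderOf_dvd_of_pow_eq_one (by
        rw [pow_two]; nth_rw 1 [h3]; exact inv_mul_cancel y)
      rw [hyy] at h4
      norm_num at h4
  -- the commutator with the rotation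
  set W : ↥N := l * Z * l⁻¹ * Z⁻¹ with hWdef
  have hWL : W ∈ L := by
    rw [hWdef, show l * Z * l⁻¹ * Z⁻¹ = l * (Z * l⁻¹ * Z⁻¹) by group]
    exact mul_mem hl (hLn.conj_mem _ (inv_mem hl) Z)
  have hWO : (W : G) ∈ coreK N := hkerf W (by
    have hc := hrc (f Z) ((hZA).map e.toMonoidHom) (odd_map f (odd_mem M (zP_le_coreC a p hz)))
    rw [hWdef, map_mul, map_mul, map_mul, map_inv, map_inv, hc.eq, mul_inv_cancel_right,
      mul_inv_cancel])
  have hWy : (W : G) = y * z⁻¹ := rfl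
  have hzU : z ∈ fitP a p := zP_le_fitP a p hz
  have hyz : Commute y z := (huy z hzU).symm
  have hcl : ∀ x : ↥N, x ∈ L → Commute (x : G) (y * z⁻¹) := fun x hx =>
    hWy ▸ congrArg Subtype.val (hcom x hx W hWO).eq
  have hWa : y * z⁻¹ ∈ cI a := mem_cI.2 (hcl A (hinvL A hA2)).symm.eq
  have hW3 : (y * z⁻¹) ^ 3 = 1 := by
    have h1 : y ^ 3 = 1 := by
      have h1 : y ^ p = 1 := hyP.2.2
      rwa [hp3] at h1
    have h2 : z ^ 3 = 1 := by
      have h1 : z ^ p = 1 := hz.2.2
      rwa [hp3] at h1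
    rw [hyz.inv_right.mul_pow, inv_pow, h1, h2, inv_one, one_mul]
  have hWodd : Odd (orderOf (y * z⁻¹)) :=
    (by decide : Odd 3).of_dvd_nat (orderOf_dvd_of_pow_eq_one hW3)
  have hWC : y * z⁻¹ ∈ coreC a := M.mem_coreC h.four.ha hWa hWodd
  have hWU : ∀ u ∈ fitP a p, Commute (y * z⁻¹) u := fun u hu =>
    ((huy u hu).symm).mul_left (Commute.inv_left (hz.2.1 u hu))
  set WC : ↥(coreC a) := ⟨y * z⁻¹, hWC⟩ with hWCdef
  haveI : Group.IsSolvable ↥(coreC a) := CfsgLib.FT.odd_order_solvable (odd_coreC a)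
  have hcentF : WC ∈ centralizer (Cfsg.fittingSubgroup ↥(coreC a) : Set ↥(coreC a)) := by
    have key : Cfsg.fittingSubgroup ↥(coreC a) ≤ centralizer ({WC} : Set ↥(coreC a)) := by
      rw [CfsgLib.Solvable.fittingSubgroup_eq_iSup_pCore]
      refine iSup_le fun q x hx => mem_centralizer_singleton_iff.2 (Subtype.ext ?_)
      have hxq : (x : G) ∈ fitP a (q : ℕ) := mem_map_of_mem _ hx
      by_cases hqp : (q : ℕ) = p
      · exact (hWU x (hqp ▸ hxq)).symm.eq
      haveI : Fact (q : ℕ).Prime := ⟨q.2⟩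
      have hxN : (x : G) ∈ N := hcN x fun w hw => by
        obtain ⟨w', hw', rfl⟩ := hw.1
        have hd : Disjoint (Cfsg.pCore (q : ℕ) ↥(coreC a)) (Cfsg.pCore p ↥(coreC a)) :=
          IsPGroup.disjoint_of_ne (q : ℕ) p hqp _ _ (CfsgLib.Solvable.pCore_isPGroup (G := ↥(coreC a)) q)
            (CfsgLib.Solvable.pCore_isPGroup (G := ↥(coreC a)) p)
        exact congrArg Subtype.val (commute_of_normal_of_disjoint _ _
          (CfsgLib.Solvable.pCore_normal q ↥(coreC a)) (CfsgLib.Solvable.pCore_normal p ↥(coreC a))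
          hd x w' hx hw').eq
      obtain ⟨k, hk⟩ := isPGroup_fitP a (q : ℕ) ⟨x, hxq⟩
      have hk' : (x : G) ^ (q : ℕ) ^ k = 1 := congrArg Subtype.val hk
      have hf1 : f ⟨x, hxN⟩ = 1 := orderOf_eq_one_iff.1 (Nat.eq_one_of_dvd_coprimes
        (((Nat.coprime_primes Nat.prime_three q.2).2 (fun e' => hqp (e'.symm.trans hp3.symm))).pow_right k)
        (orderOf_dvd_of_pow_eq_one (hcube ⟨x, hxN⟩ x.2))
        (orderOf_dvd_of_pow_eq_one (by
          rw [← map_pow, show (⟨x, hxN⟩ : ↥N) ^ (q : ℕ) ^ k = 1 from Subtype.ext hk', map_one])))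
      show (x : G) * (y * z⁻¹) = y * z⁻¹ * x
      rw [← hWy]
      exact (congrArg Subtype.val (hcom W hWL ⟨x, hxN⟩ (hkerf _ hf1)).eq).symm
    exact mem_centralizer_iff.2 fun x hx => mem_centralizer_singleton_iff.1 (key hx)
  have hWP : y * z⁻¹ ∈ fitP a p := by
    have hWo : orderOf WC ∣ p := by
      rw [hp3, ← Subgroup.orderOf_coe]; exact orderOf_dvd_of_pow_eq_one hW3
    obtain ⟨k, -, hk⟩ := (Nat.dvd_prime_pow h.hp).1 (show orderOf WC ∣ p ^ 1 by rwa [pow_one])
    exact ⟨WC, mem_pCore_of_mem_fitting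
      (CfsgLib.Solvable.centralizer_fittingSubgroup_le hcentF) hk, rfl⟩
  have hWz : y * z⁻¹ ∈ zP a p := ⟨hWP, hWU, by rw [hp3]; exact hW3⟩
  have hW1 : y * z⁻¹ = 1 := by
    have h1 := hbz _ hWz
    have hc : Commute b (y * z⁻¹) := hcl B (hinvL B hB2)
    rw [hc.eq, mul_inv_cancel_right] at h1
    have h2 : (y * z⁻¹) ^ 2 = 1 := by rw [pow_two]; exact mul_eq_one_iff_eq_inv.2 h1
    exact orderOf_eq_one_iff.1 (Nat.eq_one_of_dvd_coprimes (a := 3) (b := 2) (by norm_num)
      (orderOf_dvd_of_pow_eq_one hW3) (orderOf_dvd_of_pow_eq_one h2))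
  have hlz : Commute (l : G) z := by
    have h1 : y = z := mul_inv_eq_one.1 hW1
    exact mul_inv_eq_iff_eq_mul.1 h1
  have hla : (l : G) ∈ cI a := hcent _ fun z' hz' => by
    have hzo : orderOf z = 3 := by
      have hd : orderOf z ∣ 3 := hcard ▸ Subgroup.orderOf_dvd_natCard _ hz
      exact ((Nat.dvd_prime Nat.prime_three).1 hd).resolve_left fun e' =>
        hzc (by rw [orderOf_eq_one_iff.1 e']; exact one_mem _)
    have hall : zpowers z = zP a p := eq_of_le_of_card_ge (zpowers_le.2 hz)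
      (by rw [Nat.card_zpowers, hzo, hcard])
    obtain ⟨i, rfl⟩ := mem_zpowers_iff.1 (hall.symm ▸ hz')
    exact hlz.zpow_right i
  apply hne
  rw [← hlj, mem_cI.1 hla, mul_inv_cancel_right]

end CfsgLib.GW.Component

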