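import Cfsg.Agent.Lib.GW.Component.Cases
import Cfsg.Agent.Lib.GW.Component.Seven
import Cfsg.Agent.Lib.GW.Component.TwistKill
import Cfsg.Agent.Lib.GW.Shape

/-!
The component leg: every `p`-core of `O(C(a))` is centralised by `b` or avoids `C(b)`.
-/

set_option autoImplicit false
set_option linter.unusedSectionVars false

namespace CfsgLib.GW

open Subgroup CfsgLib.Invol

universe u

variable {G : Type u} [Group G] [Finite G]

/-- The hypotheses of the component leg hold in a minimal counterexample. -/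
theorem Min.ctx (M : Min G) (hm : MaximalStmt.{u}) (hC : NoLayerStmt.{u})
    (halpha : ∀ (a b g : G) (p : ℕ), Mixed a b g p → zP a p ⊓ cI b = ⊥) : Ctx G where
  min := M
  max := hm G M
  noLayer := hC
  torus := fun _ hK _ ha haK => M.torus hK ha haK
  alpha := halpha
  seven := fun _ _ _ _ h _ _ hj hjz =>
    Component.eq_of_cent_general M (hm G M) hC halpha h hj hjz

/-- `ScalarStmt` from the pieces of the component leg. -/
theorem scalar_of_pieces
    (halpha : ∀ (G : Type u) [Group G] [Finite G], Min G →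
      (∀ x : G, orderOf x = 2 → IsCoatom (cI x)) →
      ∀ (a b g : G) (p : ℕ), Mixed a b g p → zP a p ⊓ cI b = ⊥)
    (hcent : ∀ (G : Type u) [Group G] [Finite G], Ctx G → ∀ (a b g : G) (p : ℕ), Mixed a b g p →
      ∀ x ∈ coreC a, ∀ z ∈ zP a p, Commute x z)
    (hquot : ∀ (G : Type u) [Group G] [Finite G], Ctx G → ∀ (a b g : G) (p : ℕ), Mixed a b g p →
      (∀ x ∈ coreC a, ∀ z ∈ zP a p, Commute x z) → CentQuot a p → False)
    (hsmall : ∀ (G : Type u) [Group G] [Finite G], Ctx G → ∀ (a j g x₀ : G) (p : ℕ), Mixed a j g p →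
      x₀ ∈ eP a p → x₀ ∈ cI j → x₀ ∉ zP a p →
      (∀ x ∈ coreC a, x * x₀ * x⁻¹ * x₀⁻¹ ∈ zP a p) → False)
    (hshape : ∀ (G : Type u) [Group G] [Finite G], Ctx G → ∀ (a j g u x₀ : G) (p : ℕ), Mixed a j g p →
      (∀ x ∈ coreC a, ∀ z ∈ zP a p, Commute x z) →
      u ∈ eP a p → u ∉ zP a p → j * u * j⁻¹ = u⁻¹ → x₀ ∈ eP a p → x₀ ∈ cI j → x₀ ≠ 1 → False)
    (hm : MaximalStmt.{u}) (hC : NoLayerStmt.{u}) : ScalarStmt.{u} := by
  intro G _ _ M a b g h p hp
  by_contra hne
  push Not at hne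
  have C : Ctx G := M.ctx hm hC (halpha G M (hm G M))
  have hmix : Mixed a b g p := ⟨h, hp, hne.2, hne.1⟩
  have hz := hcent G C a b g p hmix
  rcases hmix.cases C hz with hs | hq | ⟨j, g', x₀, hj, h1, h2, h3, h4⟩ |
    ⟨j, g', w, x₀, hj, h1, h2, h3, h4, h5, h6⟩
  · exact hs.false M h
  · exact hquot G C a b g p hmix hz hq
  · exact hsmall G C a j g' x₀ p hj h1 h2 h3 h4
  · exact hshape G C a j g' w x₀ p hj hz h1 h2 h3 h4 h5 h6

end CfsgLib.GW
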