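import Cfsg.Agent.Lib.GW.Component.RotFixed

/-!
The component leg without the hypothesis that `O(C(a))` centralises `zP a p`: the elements of the
common core centralising `zP a p` are invariant under the rotation, so the key fact only needs
that the element considered centralises `zP a p`.
-/

set_option autoImplicit false
set_option linter.unusedSectionVars false
set_option linter.style.haveILetI false

namespace CfsgLib.GW

open Subgroup CfsgLib.Invol

universe u

variable {G : Type u} [Group G] [Finite G] (C : Ctx G) {a b g : G} {p : ℕ} (h : Mixed a b g p)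

include C h

/-- The inverse rotation keeps the elements of the common core centralising `zP a p`. -/
theorem Mixed.rot_inv_mem {w : G} (hw : w ∈ coreC a ⊓ coreC b)
    (hwz : ∀ z ∈ zP a p, Commute w z) : ∀ z ∈ zP a p, Commute (g⁻¹ * w * g) z := by
  have hgN : g ∈ normalizer ((coreC a ⊓ coreC b : Subgroup G) : Set G) :=
    mem_normalizer_iff_of_finite fun x hx => h.four.rot_core C.min hx
  have hw0 : g⁻¹ * w * g ∈ coreC a ⊓ coreC b := by
    simpa using (mem_normalizer_iff.1 (inv_mem hgN) w).1 hw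
  intro z hz
  have h1 := h.rot_comm C hw0 z hz
  rw [show g * (g⁻¹ * w * g) * g⁻¹ * (g⁻¹ * w * g)⁻¹ = w * (g⁻¹ * w * g)⁻¹ by group] at h1
  simpa using ((hwz z hz).inv_left.mul_left h1).inv_left

/-- The key fact, for an element of the common core centralising `zP a p`. -/
theorem Mixed.mem_zP_of_inverted0 {w : G} (hwz : ∀ z ∈ zP a p, Commute w z)
    (hw : w ∈ coreC a ⊓ coreC b) (hw1 : w ≠ 1) {u : G} (hu : u ∈ fitP a p)
    (hinv : b * u * b⁻¹ = u⁻¹) (hup : u ^ p = 1) (huw : Commute u w) : u ∈ zP a p :=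
  h.mem_zP_of_inverted C hwz (h.rot_inv_mem C hw hwz) hw hw1 hu hinv hup huw

/-- When every involution inverts `eP a p` we are in the shape of the twist lemma. -/
theorem Mixed.twistShape_of_invert0
    (hC : ∀ j, orderOf j = 2 → j ∈ cI a → j ≠ a → eP a p ⊓ cI j = ⊥) : TwistShape a b := by
  have hbc : b ∈ cI a := mem_cI.2 h.four.comm.symm
  have hba : b ≠ a := h.four.hab.symm
  obtain ⟨u, hu, huz⟩ := h.exists_eP C
  have hinvE : ∀ j, orderOf j = 2 → j ∈ cI a → j ≠ a → ∀ e ∈ eP a p, j * e * j⁻¹ = e⁻¹ :=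
    fun j hj hjc hne => inverts_of_inf_eq_bot hj (fun _ hx => conj_mem_eP hjc hx) (hC j hj hjc hne)
  obtain ⟨F, hFdef⟩ : ∃ F, F = coreC a ⊓ centralizer (eP a p : Set G) := ⟨_, rfl⟩
  have hFn : ∀ x ∈ cI a, ∀ f ∈ F, x * f * x⁻¹ ∈ F := by
    intro x hx r hr
    rw [hFdef] at hr ⊢
    refine ⟨conj_mem_coreC hx hr.1, mem_centralizer_iff.2 fun e he => ?_⟩
    have he' : x⁻¹ * e * x ∈ eP a p := by simpa using conj_mem_eP (inv_mem hx) he
    calc e * (x * r * x⁻¹) = x * ((x⁻¹ * e * x) * r) * x⁻¹ := by group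
      _ = x * (r * (x⁻¹ * e * x)) * x⁻¹ := by rw [mem_centralizer_iff.1 hr.2 _ he']
      _ = x * r * x⁻¹ * e := by group
  have hmeets : ∀ j, orderOf j = 2 → j ∈ cI a → j ≠ a → F ⊓ cI j = ⊥ := by
    intro j hj hjc hne
    rw [eq_bot_iff_forall]
    rintro w ⟨hwF, hwj⟩
    by_contra hw1
    rw [hFdef] at hwF
    obtain ⟨g', hg'⟩ := C.min.four_of_invol h.four.ha hj hjc hne
    have huU := eP_le_fitP a p hu
    have hUj : ¬ fitP a p ≤ cI j := fun hle => hne (h.eq_of_cent C hj fun z hz =>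
      (mem_cI.1 (hle hz.1)).symm)
    by_cases hX : fitP a p ⊓ cI j = ⊥
    · -- then the inverted `p`-core is abelian, against `u`
      have hUinv := inverts_of_inf_eq_bot hj (fun _ hx => conj_mem_fitP hjc hx) hX
      refine huz ⟨huU, fun v hv => ?_, pow_eq_one_of_eP hu⟩
      have h1 := hUinv _ (mul_mem huU hv)
      calc u * v = ((u * v)⁻¹)⁻¹ := (inv_inv _).symm
        _ = (j * u * j⁻¹ * (j * v * j⁻¹))⁻¹ := by rw [← h1]; group
        _ = v * u := by rw [hUinv u huU, hUinv v hv, mul_inv_rev, inv_inv, inv_inv]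
    have hm : Mixed a j g' p := ⟨hg', h.hp, hX, hUj⟩
    exact huz (hm.mem_zP_of_inverted0 C (fun z hz =>
      (mem_centralizer_iff.1 hwF.2 z (h.zP_le_eP C hz)).symm) (C.min.fixed_mem_core hj hwF.1 hwj) hw1 huU
      (hinvE j hj hjc hne u hu) (pow_eq_one_of_eP hu) (mem_centralizer_iff.1 hwF.2 u hu))
  have hFinv : ∀ j, orderOf j = 2 → j ∈ cI a → j ≠ a → ∀ x ∈ F, j * x * j⁻¹ = x⁻¹ :=
    fun j hj hjc hne => inverts_of_inf_eq_bot hj (hFn j hjc) (hmeets j hj hjc hne)
  refine ⟨F, hFdef ▸ inf_le_left, hFn, fun x hx y hy => ?_, hFinv, le_antisymm (fun x hx => ?_)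
    (sup_le (hFdef ▸ inf_le_left) inf_le_left), fun hle => ?_, fun x hx => ?_⟩
  · have h1 := hFinv b h.four.hb hbc hba _ (mul_mem hx hy)
    calc x * y = ((x * y)⁻¹)⁻¹ := (inv_inv _).symm
      _ = (b * x * b⁻¹ * (b * y * b⁻¹))⁻¹ := by rw [← h1]; group
      _ = y * x := by
        rw [hFinv b h.four.hb hbc hba x hx, hFinv b h.four.hb hbc hba y hy, mul_inv_rev, inv_inv,
          inv_inv]
  · -- a square root of the commutator with `b`
    set y := x⁻¹ * (b * x * b⁻¹) with hy
    have hyF : y ∈ F := by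
      rw [hFdef]
      refine ⟨(coreC a).mul_mem ((coreC a).inv_mem hx) (conj_mem_coreC hbc hx), mem_centralizer_iff.2 fun e he => ?_⟩
      have hxc := coreC_le_cI a hx
      have he' : x * e * x⁻¹ ∈ eP a p := conj_mem_eP hxc he
      have h1 : b * e * b⁻¹ = e⁻¹ := hinvE b h.four.hb hbc hba e he
      have h2 : b * (x * e * x⁻¹) * b⁻¹ = (x * e * x⁻¹)⁻¹ := hinvE b h.four.hb hbc hba _ he'
      have h3 : b * x * b⁻¹ * e * (b * x * b⁻¹)⁻¹ = x * e * x⁻¹ := by
        calc b * x * b⁻¹ * e * (b * x * b⁻¹)⁻¹ = b * (x * (b⁻¹ * e * b) * x⁻¹) * b⁻¹ := by group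
          _ = b * (x * e⁻¹ * x⁻¹) * b⁻¹ := by
            rw [← h1, invol_inv h.four.hb]
          _ = (b * (x * e * x⁻¹) * b⁻¹)⁻¹ := by group
          _ = x * e * x⁻¹ := by rw [h2, inv_inv]
      calc e * y = y * e := by
            have h4 : y * e * y⁻¹ = e := by
              calc y * e * y⁻¹ = x⁻¹ * (b * x * b⁻¹ * e * (b * x * b⁻¹)⁻¹) * x := by rw [hy]; group
                _ = e := by rw [h3]; group
            exact (mul_inv_eq_iff_eq_mul.1 h4).symm
        _ = y * e := rfl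
    obtain ⟨k, hk⟩ := (odd_coreC a).of_dvd_nat
      (orderOf_dvd_natCard (coreC a) ((hFdef ▸ hyF : y ∈ coreC a ⊓ _).1))
    set r := y ^ (k + 1) with hr
    have hrr : r * r = y := by
      rw [hr, ← pow_add, show k + 1 + (k + 1) = orderOf y + 1 by omega, pow_succ, pow_orderOf_eq_one,
        one_mul]
    have hrF : r ∈ F := pow_mem hyF _
    have hfix : x * r ∈ coreC a ⊓ cI b := by
      refine ⟨mul_mem hx ((hFdef ▸ hrF : r ∈ coreC a ⊓ _).1), mem_cI.2 ?_⟩
      have e : b * (x * r) * b⁻¹ = x * r := by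
        calc b * (x * r) * b⁻¹ = (b * x * b⁻¹) * (b * r * b⁻¹) := by group
          _ = x * (r * r) * r⁻¹ := by rw [hrr, hFinv b h.four.hb hbc hba r hrF, hy]; group
          _ = x * r := by group
      exact (mul_inv_eq_iff_eq_mul.1 e).symm
    rw [show x = x * r * r⁻¹ by group]
    exact mul_mem (mem_sup_right hfix) (mem_sup_left (inv_mem hrF))
  · obtain ⟨d, hd, hd1⟩ := (bot_or_exists_ne_one (fitP a p ⊓ cI b)).resolve_left h.meets
    have hdO := fitP_le_coreC a p hd.1
    have huF : u ∈ F := by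
      rw [hFdef]
      refine ⟨fitP_le_coreC a p (eP_le_fitP a p hu), mem_centralizer_iff.2 fun e he => ?_⟩
      have h1 := hinvE b h.four.hb hbc hba _ (mul_mem he hu)
      calc e * u = ((e * u)⁻¹)⁻¹ := (inv_inv _).symm
        _ = (b * e * b⁻¹ * (b * u * b⁻¹))⁻¹ := by rw [← h1]; group
        _ = u * e := by
          rw [hinvE b h.four.hb hbc hba e he, hinvE b h.four.hb hbc hba u hu, mul_inv_rev, inv_inv,
            inv_inv]
    refine huz (h.mem_zP_of_inverted0 C (fun z hz => (hz.2.1 d hd.1).symm)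
      (C.min.fixed_mem_core h.four.hb hdO hd.2) hd1
      (eP_le_fitP a p hu) (hinvE b h.four.hb hbc hba u hu) (pow_eq_one_of_eP hu) ?_)
    exact mem_centralizer_iff.1 (hle ⟨hdO, hd.2⟩) u huF
  · have hEF : eP a p ≤ F := fun e he => by
      rw [hFdef]
      refine ⟨fitP_le_coreC a p (eP_le_fitP a p he), mem_centralizer_iff.2 fun e' he' => ?_⟩
      have h1 := hinvE b h.four.hb hbc hba _ (mul_mem he' he)
      calc e' * e = ((e' * e)⁻¹)⁻¹ := (inv_inv _).symm
        _ = (b * e' * b⁻¹ * (b * e * b⁻¹))⁻¹ := by rw [← h1]; group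
        _ = e * e' := by
          rw [hinvE b h.four.hb hbc hba e' he', hinvE b h.four.hb hbc hba e he, mul_inv_rev,
            inv_inv, inv_inv]
    rw [hFdef]
    exact ⟨hx.1, centralizer_le hEF hx.2⟩

end CfsgLib.GW
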