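import Cfsg.Agent.Lib.GW.Component.NoCentCore
import Cfsg.Agent.Lib.GW.Component.NoCentBase
import Cfsg.Agent.Lib.GW.Twist.InvRotMain

/-!
The component leg: `O(C(a))` centralises the central elements of order `p` when the rotations
centralise it.
-/

set_option autoImplicit false
set_option linter.unusedSectionVars false
set_option linter.style.haveILetI false

namespace CfsgLib.GW

open Subgroup CfsgLib.Invol CfsgLib.BlockA.DihedralBlock

universe u

variable {G : Type u} [Group G] [Finite G] {a b g : G} {p : ℕ}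

/-- When the rotations centralise `O(C(a))`, it centralises `zP a p`. -/
theorem Mixed.cent_of_rot (C : Ctx G) (h : Mixed a b g p) (T : Sylow 2 G)
    (hT : (T : Subgroup G) ≤ cI a) (hbT : b ∈ (T : Subgroup G))
    (hT8 : 8 ≤ Nat.card (T : Subgroup G)) (D : DihData (T : Subgroup G)) (hD : dz T D = a)
    (hrot : ∀ y ∈ coreC a, (D.r : G) * y = y * (D.r : G)) :
    ∀ x ∈ coreC a, ∀ z ∈ zP a p, Commute x z := by
  intro x₁ hx₁ z₁ hz₁
  by_contra hmv
  haveI := C.min.simple
  obtain ⟨lam, hlam, hfun, d, hd, z, hz, hdz⟩ := h.exists_char C hx₁ hz₁ hmv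
  have hbc : b ∈ cI a := mem_cI.2 h.four.comm.symm
  have hh : 2 ≤ D.h := by rw [D.card_eq] at hT8; omega
  obtain ⟨j, hj⟩ : ∃ j : ℤ, b = dt T D j := by
    rcases D.invol_cases (u := ⟨b, hbT⟩) (by rw [orderOf_mk]; exact h.four.hb) with e | ⟨i, e⟩
    · exact absurd ((congrArg Subtype.val e : b = dz T D).trans hD) h.four.hab.symm
    · exact ⟨i, congrArg Subtype.val e⟩
  have hur : b * rot T D * b⁻¹ = (rot T D)⁻¹ := by
    rw [hj]
    refine congrArg Subtype.val (?_ : D.r ^ j * D.s * D.r * (D.r ^ j * D.s)⁻¹ = D.r⁻¹)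
    have e := D.zy_mul_z j 1
    rw [zpow_one] at e
    rw [e, D.zy_inv, D.zy_mul_zy, show j - 1 - j = -1 by ring, zpow_neg_one]
  refine hlam (Twist.InvRot.eq_one (T := T) (D := D) (u := b) (K := coreC a) (F := zP a p)
    (A := coreC a ⊓ cI b)
    { hh := hh
      huT := hbT
      hu := h.four.hb
      hur := hur
      hA := rfl
      hKodd := odd_coreC a
      hKr := hrot
      hKu := fun k hk => conj_mem_coreC hbc hk
      hcent := ?_
      hFK := zP_le_coreC a p
      hFcomm := fun x hx y hy => (hx.2.1 y hy.1).eq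
      hKF := fun k hk y hy => conj_mem_zP (coreC_le_cI a hk) hy
      hFu := fun y hy => h.b_inverts C hy
      hmove := ⟨d, hd, z, hz, hdz⟩ } lam fun k k' e => hfun _ _ fun y hy => ?_)
  · rw [hD]
    refine le_antisymm ((C.min.cI_le_sup T h.four.ha hT).trans ?_) (sup_le hT (coreC_le_cI a))
    rw [sup_comm]
  · rw [e]
    exact h.act_conj C h.four.hb hbc h.four.hab.symm k.2 hy

/-- For a four-group Sylow subgroup `O(C(a))` centralises `zP a p`. -/
theorem Mixed.cent_of_four (C : Ctx G) (h : Mixed a b g p) (T : Sylow 2 G)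
    (haT : a ∈ (T : Subgroup G)) (hT : (T : Subgroup G) ≤ cI a) (hbT : b ∈ (T : Subgroup G))
    (h4 : Nat.card (T : Subgroup G) = 4) : ∀ x ∈ coreC a, ∀ z ∈ zP a p, Commute x z :=
  h.cent_of_klein C (fun _ hw => h.rot_comm C hw) T haT hT hbT h4

end CfsgLib.GW
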