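import Cfsg.Agent.Lib.GW.Component.TwistKill
import Cfsg.Agent.Lib.GW.Component.Split2
import Cfsg.Agent.Lib.GW.Twist.InvKleinMain
import Mathlib.GroupTheory.SpecificGroups.Cyclic
import Mathlib.GroupTheory.FiniteAbelian.Duality
import Mathlib.RingTheory.RootsOfUnity.Complex

/-!
The component leg: an element of `O(C(a))` moving the central elements of order `p` gives a linear
character of `O(C(a))` invariant under the involutions, against the twist cores.
-/

set_option autoImplicit false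
set_option linter.unusedSectionVars false
set_option linter.style.haveILetI false

namespace CfsgLib.GW

open Subgroup CfsgLib.Invol

universe u

variable {G : Type u} [Group G] [Finite G] {a b g : G} {p : ℕ}

/-- The action of `O(C(a))` on `zP a p`. -/
def conjZ (a : G) (p : ℕ) : ↥(coreC a) →* MulAut ↥(zP a p) :=
  (zP a p).normalizerMonoidHom.comp
    (inclusion ((coreC_le_cI a).trans (cI_le_normalizer_zP a p)))

theorem conjZ_apply (x : ↥(coreC a)) (z : ↥(zP a p)) :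
    ((conjZ a p x z : ↥(zP a p)) : G) = (x : G) * z * (x : G)⁻¹ := rfl

variable (C : Ctx G) (h : Mixed a b g p)

include C h

/-- Elements of `O(C(a))` inverted by an involution of `C(a)` centralise `zP a p`. -/
theorem Mixed.commute_of_inverted {j x : G} (hj : orderOf j = 2) (hjc : j ∈ cI a) (hne : j ≠ a)
    (hx : x ∈ coreC a) (hjx : j * x * j⁻¹ = x⁻¹) : ∀ z ∈ zP a p, Commute x z := by
  intro z hz
  have hjz := h.inverts C hj hjc hne hz
  have hz' := conj_mem_zP (coreC_le_cI a hx) hz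
  have h1 : x⁻¹ * z⁻¹ * x = (x * z * x⁻¹)⁻¹ := by
    rw [← h.inverts C hj hjc hne hz']
    calc x⁻¹ * z⁻¹ * x = (j * x * j⁻¹) * (j * z * j⁻¹) * (j * x * j⁻¹)⁻¹ := by
          rw [hjx, hjz, inv_inv]
      _ = _ := by group
  have h2 : x⁻¹ * z * x = x * z * x⁻¹ := by
    have h3 := congrArg (·⁻¹) h1
    simp only [mul_inv_rev, inv_inv] at h3
    simpa [mul_assoc] using h3
  have h3 : Commute (x * x) z := by
    calc x * x * z = x * (x * z * x⁻¹) * x := by group
      _ = x * (x⁻¹ * z * x) * x := by rw [h2]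
      _ = z * (x * x) := by group
  obtain ⟨k, hk⟩ := odd_orderOf_mem_coreC hx
  have h4 : x = (x * x) ^ (k + 1) := by
    rw [← pow_two, ← pow_mul, show 2 * (k + 1) = orderOf x + 1 by omega, pow_succ,
      pow_orderOf_eq_one, one_mul]
  rw [h4]
  exact h3.pow_left _

/-- A character of `O(C(a))` read from the action on `zP a p`. -/
theorem Mixed.exists_char {x₁ z₁ : G} (hx₁ : x₁ ∈ coreC a) (hz₁ : z₁ ∈ zP a p)
    (hmv : ¬ Commute x₁ z₁) :
    ∃ lam : ↥(coreC a) →* ℂˣ, lam ≠ 1 ∧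
      (∀ x y : ↥(coreC a), (∀ z ∈ zP a p, (x : G) * z * (x : G)⁻¹ = (y : G) * z * (y : G)⁻¹) →
        lam x = lam y) ∧
      ∃ d ∈ coreC a ⊓ cI b, ∃ z ∈ zP a p, d * z ≠ z * d := by
  obtain ⟨z₀, -, hall⟩ := h.exists_generator C
  haveI : IsCyclic ↥(zP a p) := hall ▸ Subgroup.isCyclic_zpowers z₀
  have hbc : b ∈ cI a := mem_cI.2 h.four.comm.symm
  obtain ⟨s, -, hsO, hsinv, hxs⟩ := exists_sqrt_inverted h.four.hb hbc hx₁
  have hscomm := h.commute_of_inverted C h.four.hb hbc h.four.hab.symm hsO hsinv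
  have hd : x₁ * s ∈ coreC a ⊓ cI b := ⟨mul_mem hx₁ hsO, hxs⟩
  have hdz : x₁ * s * z₁ ≠ z₁ * (x₁ * s) := fun e => hmv (by
    have h1 : Commute (x₁ * s) z₁ := e
    have := h1.mul_left (hscomm z₁ hz₁).inv_left
    rwa [mul_inv_cancel_right] at this)
  letI : CommGroup (MulAut ↥(zP a p)) :=
    { (inferInstance : Group (MulAut ↥(zP a p))) with
      mul_comm := fun f f' => by
        apply (IsCyclic.mulAutMulEquiv ↥(zP a p)).injective
        rw [map_mul, map_mul, mul_comm] }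
  haveI : Finite (MulAut ↥(zP a p)) := inferInstance
  have hne : conjZ a p ⟨x₁, hx₁⟩ ≠ 1 := fun e => hmv (by
    have h1 := congrArg (fun f : MulAut ↥(zP a p) => ((f ⟨z₁, hz₁⟩ : ↥(zP a p)) : G)) e
    simp only [conjZ_apply, MulAut.one_apply] at h1
    exact mul_inv_eq_iff_eq_mul.1 h1)
  obtain ⟨χ, hχ⟩ :=
    CommGroup.exists_apply_ne_one_of_hasEnoughRootsOfUnity (MulAut ↥(zP a p)) ℂ hne
  refine ⟨χ.comp (conjZ a p), fun e => hχ ?_, fun x y hxy => ?_, x₁ * s, hd, z₁, hz₁, hdz⟩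
  · exact (DFunLike.congr_fun e ⟨x₁, hx₁⟩ :)
  · show χ (conjZ a p x) = χ (conjZ a p y)
    congr 1
    exact MulEquiv.ext fun z => Subtype.ext (hxy z z.2)

/-- Conjugation by an involution of `C(a)` does not change the action on `zP a p`. -/
theorem Mixed.act_conj {j x : G} (hj : orderOf j = 2) (hjc : j ∈ cI a) (hne : j ≠ a)
    (hx : x ∈ coreC a) {z : G} (hz : z ∈ zP a p) :
    (j * x * j⁻¹) * z * (j * x * j⁻¹)⁻¹ = x * z * x⁻¹ := by
  have h1 : j⁻¹ * z * j = z⁻¹ := by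
    rw [invol_inv hj]
    have := h.inverts C hj hjc hne hz
    rwa [invol_inv hj] at this
  calc (j * x * j⁻¹) * z * (j * x * j⁻¹)⁻¹ = j * (x * (j⁻¹ * z * j) * x⁻¹) * j⁻¹ := by group
    _ = j * (x * z * x⁻¹)⁻¹ * j⁻¹ := by rw [h1]; group
    _ = x * z * x⁻¹ := by
      rw [h.inverts C hj hjc hne (inv_mem (conj_mem_zP (coreC_le_cI a hx) hz)), inv_inv]

/-- For a four-group Sylow subgroup `O(C(a))` centralises `zP a p`. -/
theorem Mixed.cent_of_klein
    (hrc : ∀ w ∈ coreC a ⊓ coreC b, ∀ z ∈ zP a p, Commute (g * w * g⁻¹ * w⁻¹) z)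
    (T : Sylow 2 G) (haT : a ∈ (T : Subgroup G)) (hT : (T : Subgroup G) ≤ cI a)
    (hbT : b ∈ (T : Subgroup G)) (h4 : Nat.card (T : Subgroup G) = 4) :
    ∀ x ∈ coreC a, ∀ z ∈ zP a p, Commute x z := by
  intro x₁ hx₁ z₁ hz₁
  by_contra hmv
  haveI := C.min.simple
  obtain ⟨lam, hlam, hfun, d, hd, z, hz, hdz⟩ := h.exists_char C hx₁ hz₁ hmv
  have hbc : b ∈ cI a := mem_cI.2 h.four.comm.symm
  have hW : coreC a ⊓ cI b = coreC a ⊓ coreC b := C.min.inf_cI_eq h.four.hb
  have hsup : zpowers a ⊔ zpowers b ≤ (T : Subgroup G) :=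
    sup_le (zpowers_le.2 haT) (zpowers_le.2 hbT)
  have hTeq : (T : Subgroup G) = zpowers a ⊔ zpowers b := by
    refine (eq_of_le_of_card_ge hsup ?_).symm
    have h3 : 2 < Nat.card ↥(zpowers a ⊔ zpowers b) := by
      have := Fintype.ofFinite ↥(zpowers a ⊔ zpowers b)
      rw [Nat.card_eq_fintype_card, Fintype.two_lt_card_iff]
      refine ⟨1, ⟨a, mem_sup_left (mem_zpowers a)⟩, ⟨b, mem_sup_right (mem_zpowers b)⟩,
        ?_, ?_, ?_⟩
      · exact fun e => invol_ne_one h.four.ha (congrArg Subtype.val e).symm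
      · exact fun e => invol_ne_one h.four.hb (congrArg Subtype.val e).symm
      · exact fun e => h.four.hab (congrArg Subtype.val e)
    obtain ⟨k, hk⟩ := (T.2.to_le hsup).exists_card_eq
    rw [hk] at h3 ⊢
    rw [h4]
    match k, h3 with
    | 0, h3 => norm_num at h3
    | 1, h3 => norm_num at h3
    | k + 2, _ =>
      rw [pow_add]
      have := Nat.one_le_two_pow (n := k)
      omega
  refine hlam (Twist.InvTwist.eq_one (t := a) (u := b) (n := g) (K := coreC a) (F := zP a p)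
    (A := coreC a ⊓ cI b)
    ⟨h.four.ha, h.four.hb, h.four.comm, h.four.hab, ⟨T, hTeq⟩, ⟨h.four.ga, h.four.gb⟩, rfl,
      odd_coreC a, fun k hk => (mem_cI.1 (coreC_le_cI a hk)).symm,
      fun k hk => conj_mem_coreC hbc hk, ?_, ?_, zP_le_coreC a p,
      fun x hx y hy => (hx.2.1 y hy.1).eq, fun k hk y hy => conj_mem_zP (coreC_le_cI a hk) hy,
      fun y hy => h.b_inverts C hy, d, hd, z, hz, hdz⟩
    lam (fun k k' e => hfun _ _ fun y hy => ?_) fun e e' he hee => hfun _ _ fun y hy => ?_)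
  · refine le_antisymm ((C.min.cI_le_sup T h.four.ha hT).trans ?_) ?_
    · rw [hTeq, sup_comm]
    · rw [← hTeq]
      exact sup_le hT (coreC_le_cI a)
  · intro e he
    rw [hW] at he ⊢
    exact h.four.rot_core C.min he
  · rw [e]
    exact h.act_conj C h.four.hb hbc h.four.hab.symm k.2 hy
  · have hv := hrc e (hW ▸ he) y hy
    have hy' : (e : G) * y * (e : G)⁻¹ ∈ zP a p := conj_mem_zP (coreC_le_cI a e.2) hy
    rw [hee]
    calc g * e * g⁻¹ * y * (g * e * g⁻¹)⁻¹
        = (g * e * g⁻¹ * (e : G)⁻¹) * ((e : G) * y * (e : G)⁻¹) * (g * e * g⁻¹ * (e : G)⁻¹)⁻¹ := by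
          group
      _ = (e : G) * y * (e : G)⁻¹ := by
        rw [(hrc e (hW ▸ he) _ hy').eq, mul_inv_cancel_right]

end CfsgLib.GW
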