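import Cfsg.Agent.Lib.GW.Component.OrbitShape

/-!
An orbit index divisible by four in the component leg makes `2` a square modulo `p`: a rotation `w`
of a Sylow `2`-subgroup of `C(a)` acts on the Heisenberg group `E` so that its square is a quarter
turn of the plane `E / Z(E)` while fixing the centre.
-/

set_option autoImplicit false
set_option linter.unusedSectionVars false
set_option linter.style.haveILetI false

open scoped commutatorElement

namespace CfsgLib.GW.Component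

open Subgroup CfsgLib.Invol

universe u

section Heisenberg

variable {P : Type u} [Group P] [Finite P] {p : ℕ}

/-- The centre of a nonabelian group of order `p³` has order `p`. -/
theorem heis_card_center (hp : p.Prime) (hP : Nat.card P = p ^ 3)
    (hnc : ∃ u v : P, u * v ≠ v * u) : Nat.card (center P) = p := by
  haveI := Fact.mk hp
  haveI : Nontrivial P := Finite.one_lt_card_iff_nontrivial.1 (hP ▸ Nat.one_lt_pow (by norm_num) hp.one_lt)
  obtain ⟨u, v, huv⟩ := hnc
  obtain ⟨k, hk3, hk⟩ := (Nat.dvd_prime_pow hp).1 (hP ▸ card_subgroup_dvd_card (center P))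
  interval_cases k
  · haveI := (IsPGroup.of_card hP).center_nontrivial
    exact absurd hk (Finite.one_lt_card (α := center P)).ne'
  · rw [hk, pow_one]
  · refine absurd ?_ huv
    have hq : Nat.card (P ⧸ center P) = p := by
      have h := (center P).card_eq_card_quotient_mul_card_subgroup
      rw [hP, hk, pow_succ'] at h
      exact (Nat.eq_of_mul_eq_mul_right (pow_pos hp.pos 2) h).symm
    haveI := isCyclic_of_prime_card hq
    exact (MonoidHom.isMulCommutative_of_isCyclic_of_ker_le_center (QuotientGroup.mk' (center P))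
      (by rw [QuotientGroup.ker_mk'])).is_comm.comm u v
  · refine absurd ?_ huv
    exact (mem_center_iff.1 (by rw [eq_top_of_card_eq _ (hk.trans hP.symm)]; exact mem_top v) u)

/-- Commutators are central in a nonabelian group of order `p³`. -/
theorem heis_commutator_mem (hp : p.Prime) (hP : Nat.card P = p ^ 3)
    (hnc : ∃ u v : P, u * v ≠ v * u) (u v : P) : ⁅u, v⁆ ∈ center P := by
  haveI := Fact.mk hp
  have hq : Nat.card (P ⧸ center P) = p ^ 2 := by
    have h := (center P).card_eq_card_quotient_mul_card_subgroup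
    rw [hP, heis_card_center hp hP hnc, pow_succ] at h
    exact (Nat.eq_of_mul_eq_mul_right hp.pos h).symm
  rw [← QuotientGroup.eq_one_iff]
  show (QuotientGroup.mk' (center P)) ⁅u, v⁆ = 1
  rw [map_commutatorElement, commutatorElement_eq_one_iff_mul_comm]
  exact (IsPGroup.isMulCommutative_of_card_eq_prime_sq hq).is_comm.comm _ _

/-- Two elements which do not commute generate a group of order `p³`. -/
theorem heis_eq_top (hp : p.Prime) (hP : Nat.card P = p ^ 3) {H : Subgroup P} {u v : P}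
    (hu : u ∈ H) (hv : v ∈ H) (huv : u * v ≠ v * u) : H = ⊤ := by
  haveI := Fact.mk hp
  obtain ⟨k, hk3, hk⟩ := (Nat.dvd_prime_pow hp).1 (hP ▸ card_subgroup_dvd_card H)
  interval_cases k
  · rw [pow_zero, card_eq_one] at hk
    rw [hk, mem_bot] at hu
    simp [hu] at huv
  · haveI := isCyclic_of_prime_card (hk.trans (pow_one p))
    exact absurd (congrArg Subtype.val ((IsCyclic.isMulCommutative (α := H)).is_comm.comm ⟨u, hu⟩ ⟨v, hv⟩)) huv
  · exact absurd (congrArg Subtype.val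
      ((IsPGroup.isMulCommutative_of_card_eq_prime_sq hk).is_comm.comm (⟨u, hu⟩ : H) ⟨v, hv⟩)) huv
  · exact eq_top_of_card_eq _ (hk.trans hP.symm)

/-- A square root of a quarter turn fixing the centre makes `2` a square. -/
theorem isSquare_two_of_quarter (hp : p.Prime) (hP : Nat.card P = p ^ 3) (σ : P →* P) {F Y : P}
    (hne : F * Y ≠ Y * F) (hF : σ (σ F) = Y) (hY : σ (σ Y) = F⁻¹)
    (hfix : ∀ v ∈ center P, σ v = v) : IsSquare (2 : ZMod p) := by
  haveI := Fact.mk hp
  have hnc : ∃ u v : P, u * v ≠ v * u := ⟨F, Y, hne⟩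
  have hcm := heis_commutator_mem hp hP hnc
  let φ : P → P →* P := fun t => MonoidHom.mk' (fun u => ⁅u, t⁆) fun u v => by
    calc ⁅u * v, t⁆ = u * ⁅v, t⁆ * u⁻¹ * ⁅u, t⁆ := by simp [commutatorElement_def]; group
      _ = ⁅v, t⁆ * ⁅u, t⁆ := by rw [mem_center_iff.1 (hcm v t) u, mul_inv_cancel_right]
      _ = ⁅u, t⁆ * ⁅v, t⁆ := mem_center_iff.1 (hcm u t) _
  have hφ : ∀ u t, φ t u = ⁅u, t⁆ := fun _ _ => rfl
  obtain ⟨ζ, hζ⟩ : ∃ ζ, ζ = ⁅F, Y⁆ := ⟨_, rfl⟩
  have hζ1 : ζ ≠ 1 := fun e => hne (commutatorElement_eq_one_iff_mul_comm.1 (hζ ▸ e))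
  have hcard := heis_card_center hp hP hnc
  have hζm : ζ ∈ center P := hζ ▸ hcm F Y
  have hζp : orderOf ζ = p := by
    have h : orderOf ζ ∣ p := hcard ▸ orderOf_dvd_natCard (center P) hζm
    exact ((Nat.dvd_prime hp).1 h).resolve_left fun e => hζ1 (orderOf_eq_one_iff.1 e)
  have hgen : ∀ v ∈ center P, ∃ n : ℤ, ζ ^ n = v := fun v hv => by
    rw [← eq_of_le_of_card_ge (zpowers_le.2 hζm)
      (by rw [hcard, Nat.card_zpowers, hζp])] at hv
    exact mem_zpowers_iff.1 hv
  have hdvd : ∀ m n : ℤ, ζ ^ m = ζ ^ n → ((m : ZMod p) = (n : ZMod p)) := fun m n e => by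
    rw [ZMod.intCast_eq_intCast_iff_dvd_sub, ← hζp, orderOf_dvd_iff_zpow_eq_one, zpow_sub, e,
      mul_inv_cancel]
  obtain ⟨u, hu⟩ : ∃ u, u = σ F := ⟨_, rfl⟩
  obtain ⟨A, hA⟩ := hgen _ (hcm u Y)
  obtain ⟨B, hB⟩ := hgen _ (hcm F u)
  have hinv : ∀ s t : P, ⁅s, t⁆ = ⁅t, s⁆⁻¹ := fun s t => (commutatorElement_inv t s).symm
  obtain ⟨v, hv⟩ : ∃ v, v = u * (F ^ A * Y ^ B)⁻¹ := ⟨_, rfl⟩
  have hφFY : φ Y F = ζ := by rw [hφ, hζ]
  have hφYY : φ Y Y = 1 := commutatorElement_self Y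
  have hφFF : φ F F = 1 := commutatorElement_self F
  have hφYF : φ F Y = ζ⁻¹ := by rw [hφ, hζ, hinv Y F]
  have hvY : φ Y v = 1 := by
    rw [hv, map_mul, map_inv, map_mul, map_zpow, map_zpow, hφFY, hφYY, one_zpow, mul_one, hφ, ← hA,
      mul_inv_cancel]
  have hvF : φ F v = 1 := by
    rw [hv, map_mul, map_inv, map_mul, map_zpow, map_zpow, hφFF, hφYF, one_zpow, one_mul, hφ,
      hinv u F, ← hB, inv_zpow, mul_inv_cancel]
  have hvc : v ∈ center P := by
    have htop := heis_eq_top hp hP (H := centralizer ({v} : Set P)) (u := F) (v := Y)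
      (mem_centralizer_singleton_iff.2 (commutatorElement_eq_one_iff_mul_comm.1 hvF).symm)
      (mem_centralizer_singleton_iff.2 (commutatorElement_eq_one_iff_mul_comm.1 hvY).symm) hne
    exact mem_center_iff.2 fun g =>
      mem_centralizer_singleton_iff.1 (show g ∈ centralizer ({v} : Set P) from htop ▸ mem_top g)
  have hvt : ∀ t, φ t v = 1 := fun t =>
    commutatorElement_eq_one_iff_mul_comm.2 (mem_center_iff.1 hvc t).symm
  have hu' : u = v * (F ^ A * Y ^ B) := by rw [hv, inv_mul_cancel_right]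
  -- the images of `F` and `Y`
  have hσY : σ Y = v * (Y ^ A * (F⁻¹) ^ B) := by
    calc σ Y = σ (σ u) := by rw [hu, hF]
      _ = _ := by
        rw [hu', map_mul, map_mul, map_mul, map_mul, map_zpow, map_zpow, map_zpow, map_zpow,
          hfix v hvc, hfix v hvc, hF, hY]
  have hYu : Y = v * (u ^ A * (σ Y) ^ B) := by
    calc Y = σ u := by rw [hu, hF]
      _ = _ := by
        conv_lhs => rw [hu']
        rw [map_mul, map_mul, map_zpow, map_zpow, hfix v hvc, ← hu]
  -- the two relations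
  have h1 : ((A * A : ℤ) : ZMod p) = ((B * B : ℤ) : ZMod p) := by
    refine hdvd _ _ ?_
    have e : φ Y (σ Y) = (ζ ^ B)⁻¹ := by
      rw [hσY, map_mul, map_mul, map_zpow, map_zpow, map_inv, hvY, hφYY, hφFY, one_zpow, one_mul,
        one_mul, inv_zpow]
    have h := congrArg (φ Y) hYu
    rw [hφYY, map_mul, map_mul, map_zpow, map_zpow, hvY, e, hφ, ← hA, one_mul, ← zpow_mul,
      inv_zpow, ← zpow_mul, eq_comm, mul_inv_eq_one] at h
    exact h
  have h2 : ((A * A + B * B : ℤ) : ZMod p) = ((1 : ℤ) : ZMod p) := by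
    refine hdvd _ _ ?_
    have h : φ (σ Y) u = ζ := by
      rw [hφ, hu, ← map_commutatorElement, ← hζ, hfix ζ hζm]
    have eF : φ (σ Y) F = ζ ^ A := by
      rw [hφ, hinv, ← hφ (σ Y) F, hσY, map_mul, map_mul, map_zpow, map_zpow, map_inv, hvF, hφYF,
        hφFF, inv_one, one_zpow, mul_one, one_mul, inv_zpow, inv_inv]
    have eY : φ (σ Y) Y = ζ ^ B := by
      rw [hφ, hinv, ← hφ (σ Y) Y, hσY, map_mul, map_mul, map_zpow, map_zpow, map_inv, hvY, hφYY,
        hφFY, one_zpow, one_mul, one_mul, inv_zpow, inv_inv]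
    rw [hu', map_mul, map_mul, map_zpow, map_zpow, hvt, eF, eY, one_mul, ← zpow_mul, ← zpow_mul,
      ← zpow_add] at h
    rw [h, zpow_one]
  refine ⟨2 * (A : ZMod p), ?_⟩
  push_cast at h1 h2
  linear_combination (-2 : ZMod p) * h2 - 2 * h1

end Heisenberg

variable {G : Type u} [Group G] [Finite G]

/-- An orbit index divisible by `4` makes `2` a square modulo `p`. -/
theorem ShapeData.isSquare_two {a b z : G} {E C0 : Subgroup G} {p c : ℕ} (M : Min G)
    (d : ShapeData a b z (coreC a) E C0 p c) (hEn : cI a ≤ normalizer (E : Set G))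
    (hinv : ∀ j, orderOf j = 2 → j ∈ centralizer ({a} : Set G) → j ≠ a → j * z * j⁻¹ = z⁻¹)
    (h4 : 4 ∣ (cI a ⊓ normalizer ((coreC a ⊓ cI b : Subgroup G) : Set G)).relIndex (cI a)) :
    IsSquare (2 : ZMod p) := by
  classical
  haveI := Fact.mk d.hp
  haveI : Fact (Nat.Prime 2) := ⟨Nat.prime_two⟩
  set W := coreC a ⊓ cI b with hWdef
  set N := normalizer (W : Set G) with hN
  have hWcard : Nat.card W = p := d.hfix b d.hb d.hbc d.hba
  -- a Sylow `2`-subgroup of `C(a)` through `b`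
  obtain ⟨T₀, haT₀, hT₀⟩ := M.exists_sylow d.ha
  obtain ⟨⟨g, hg⟩, hgb⟩ := exists_conj_invol_mem_sylow (T₀.subtype hT₀)
    (x := (⟨b, d.hbc⟩ : cI a)) (by rw [orderOf_mk, d.hb])
  have hgb' : g * b * g⁻¹ ∈ (T₀ : Subgroup G) := mem_subgroupOf.1 hgb
  set T := g⁻¹ • T₀ with hT
  have hmemT : ∀ w ∈ (T₀ : Subgroup G), g⁻¹ * w * g⁻¹⁻¹ ∈ (T : Subgroup G) :=
    fun w hw => ⟨w, hw, rfl⟩
  have haT : a ∈ (T : Subgroup G) := by
    have e : g⁻¹ * a * g⁻¹⁻¹ = a := conj_eq_self (inv_mem hg)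
    exact e ▸ hmemT a haT₀
  have hbT : b ∈ (T : Subgroup G) := by
    have e : g⁻¹ * (g * b * g⁻¹) * g⁻¹⁻¹ = b := by group
    exact e ▸ hmemT _ hgb'
  have hTc : (T : Subgroup G) ≤ cI a := by
    rintro _ ⟨w, hw, rfl⟩
    exact mul_mem (mul_mem (inv_mem hg) (hT₀ hw)) (inv_mem (inv_mem hg))
  obtain ⟨D⟩ := M.dih T
  set TN := (T : Subgroup G) ⊓ N with hTN
  have hTNle : Nat.card TN ≤ D.h := by
    obtain ⟨j, hj⟩ := IsPGroup.iff_card.1 (T.2.to_le (inf_le_left : TN ≤ _))
    have h1 : 2 ^ (j + 2) ∣ Nat.card G := by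
      refine dvd_trans ?_ (card_subgroup_dvd_card (cI a))
      have h3 := ((cI a ⊓ N).subgroupOf (cI a)).card_mul_index
      rw [Nat.card_congr (subgroupOfEquivOfLe (inf_le_left : cI a ⊓ N ≤ cI a)).toEquiv] at h3
      rw [← h3, pow_add, ← hj]
      exact mul_dvd_mul (card_dvd_of_le (inf_le_inf_right _ hTc)) h4
    have h2 := Nat.le_of_dvd Nat.card_pos (T.pow_dvd_card_of_pow_dvd_card h1)
    rw [pow_add, D.card_eq] at h2
    have hj' : Nat.card TN = 2 ^ j := hj
    rw [show (2 : ℕ) ^ 2 = 4 by norm_num] at h2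
    omega
  have hcentW : ∀ t : G, (∀ w ∈ W, t * w = w * t) → t ∈ N := fun t ht =>
    mem_normalizer_iff_of_finite fun w hw => by rwa [ht w hw, mul_inv_cancel_right]
  have haN : a ∈ N := hcentW a fun w hw => (mem_cI.1 (coreC_le_cI a hw.1)).symm
  have hbN : b ∈ N := hcentW b fun w hw => (mem_cI.1 hw.2).symm
  have hcomm_a : ∀ t : (T : Subgroup G), t * ⟨a, haT⟩ = ⟨a, haT⟩ * t := fun t =>
    Subtype.ext (mem_cI.1 (hTc t.2))
  -- `a` is central and `b` is a reflection
  have haz : (⟨a, haT⟩ : (T : Subgroup G)) = D.z := by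
    rcases D.invol_cases (u := ⟨a, haT⟩) (by rw [orderOf_mk, d.ha]) with e | ⟨i, e⟩
    · exact e
    · exfalso
      have h1 := hcomm_a (D.r ^ (1 : ℤ))
      rw [e, ← mul_assoc, ← zpow_add, D.zy_mul_z, mul_left_inj, D.zpow_eq_iff] at h1
      have h2 := Int.le_of_dvd (by norm_num) (dvd_neg.1 (by rw [show i - 1 - (1 + i) = -2 by ring] at h1; exact h1) :
        2 * (D.h : ℤ) ∣ 2)
      have h3 : 2 ≤ Nat.card TN := d.ha ▸
        Nat.le_of_dvd Nat.card_pos (orderOf_dvd_natCard TN ⟨haT, haN⟩)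
      omega
  obtain ⟨i, hbi⟩ : ∃ i : ℤ, (⟨b, hbT⟩ : (T : Subgroup G)) = D.r ^ i * D.s := by
    rcases D.invol_cases (u := ⟨b, hbT⟩) (by rw [orderOf_mk, d.hb]) with e | e
    · exact absurd (congrArg Subtype.val (e.trans haz.symm) :) d.hba
    · exact e
  set R : G := (D.r : G) with hR
  have hbR : b * R * b⁻¹ = R⁻¹ := by
    have h : (⟨b, hbT⟩ : (T : Subgroup G)) * D.r * (⟨b, hbT⟩ : (T : Subgroup G))⁻¹ = D.r⁻¹ := by
      rw [hbi]
      calc D.r ^ i * D.s * D.r * (D.r ^ i * D.s)⁻¹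
          = D.r ^ i * (D.s * D.r * D.s⁻¹) * (D.r ^ i)⁻¹ := by group
        _ = D.r⁻¹ := by rw [D.conj_r]; group
    exact congrArg Subtype.val h
  have hR2 : R * R ∉ N := by
    intro h
    have hev : ∀ j : ℤ, Even j → R ^ j ∈ N := by
      rintro j ⟨l, rfl⟩
      rw [zpow_add, ← ((Commute.refl R).mul_zpow l)]
      exact zpow_mem h l
    let f : Bool × TN → (T : Subgroup G) := fun q =>
      (if q.1 then D.r else 1) * ⟨q.2.1, q.2.2.1⟩
    have hsurj : Function.Surjective f := by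
      intro t
      obtain ⟨j, t', ht', rfl⟩ : ∃ (j : ℤ) (t' : (T : Subgroup G)), (t' : G) ∈ N ∧
          D.r ^ j * t' = t := by
        rcases D.cases t with ⟨j, rfl⟩ | ⟨j, rfl⟩
        · exact ⟨j, 1, one_mem _, mul_one _⟩
        · exact ⟨j - i, ⟨b, hbT⟩, hbN, by rw [hbi, ← mul_assoc, ← zpow_add, sub_add_cancel]⟩
      rcases Int.even_or_odd j with hj | hj
      · exact ⟨(false, ⟨(D.r ^ j * t' : (T : Subgroup G)), SetLike.coe_mem _,
          mul_mem (hev j hj) ht'⟩), Subtype.ext (by simp [f])⟩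
      · refine ⟨(true, ⟨(D.r ^ (j - 1) * t' : (T : Subgroup G)), SetLike.coe_mem _,
          mul_mem (hev _ (hj.sub_odd odd_one)) ht'⟩), Subtype.ext ?_⟩
        simp only [f, if_true]
        rw [Subgroup.coe_mul, Subtype.coe_mk, ← Subgroup.coe_mul, ← mul_assoc,
          ← zpow_one_add, add_sub_cancel] 
    have h1 := Nat.card_le_card_of_surjective f hsurj
    rw [D.card_eq, Nat.card_prod, Nat.card_eq_fintype_card (α := Bool), Fintype.card_bool] at h1
    have := D.h_pos
    omega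
  -- a rotation `w` with `w⁴ ∈ N` and `w² ∉ N`
  have hex : ∃ k : ℕ, R ^ 2 ^ k ∈ N := by
    obtain ⟨k, hk⟩ := D.h_pow
    refine ⟨k + 1, ?_⟩
    rw [pow_succ', ← hk, ← D.orderOf_r, ← Subgroup.orderOf_coe, pow_orderOf_eq_one]
    exact one_mem _
  obtain ⟨k, hk, hkmin⟩ : ∃ k, R ^ 2 ^ k ∈ N ∧ ∀ l < k, R ^ 2 ^ l ∉ N :=
    ⟨Nat.find hex, Nat.find_spec hex, fun l hl => Nat.find_min hex hl⟩
  obtain ⟨k, rfl⟩ : ∃ l, k = l + 2 := by
    rcases k with _ | _ | k
    · rw [pow_zero, pow_one] at hk; exact absurd (mul_mem hk hk) hR2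
    · rw [pow_one, pow_two] at hk; exact absurd hk hR2
    · exact ⟨k, rfl⟩
  set w := R ^ 2 ^ k with hw
  set x := w * w with hx
  have hxN : x ∉ N := by
    have := hkmin (k + 1) (by omega)
    rwa [pow_succ, pow_mul, pow_two] at this
  have hxxN : x * x ∈ N := by
    rwa [show k + 2 = k + 1 + 1 from rfl, pow_succ, pow_mul, pow_two, pow_succ, pow_mul,
      pow_two] at hk
  have hbw : b * w * b⁻¹ = w⁻¹ := by rw [hw, ← conj_pow, hbR, inv_pow]
  have hbx : b * x * b⁻¹ = x⁻¹ := by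
    calc b * x * b⁻¹ = (b * w * b⁻¹) * (b * w * b⁻¹) := by rw [hx]; group
      _ = x⁻¹ := by rw [hbw, hx]; group
  have hwc : w ∈ cI a := pow_mem (hTc D.r.2) _
  have hxc : x ∈ cI a := mul_mem hwc hwc
  have hbb := invol_mul_self d.hb
  have hbinv := invol_inv d.hb
  have hbz : b * z * b⁻¹ = z⁻¹ := d.hbC0 z d.hzC0
  -- rotations centralise `z`
  have hwz : w * z = z * w := by
    have hj : w * b * (w * b) = 1 := by
      calc w * b * (w * b) = w * (b * w * b⁻¹) * (b * b) := by group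
        _ = 1 := by rw [hbw, hbb]; group
    have hne : ∀ t : G, t * b = b * t → t * t = 1 → w ≠ t * b := fun t ht htt e => hxN (by
      rw [hx, e, show t * b * (t * b) = t * (b * t) * b by group, ← ht,
        show t * (t * b) * b = t * t * (b * b) by group, htt, hbb, mul_one]
      exact one_mem _)
    have hj2 : orderOf (w * b) = 2 := invol_of_mul_self hj fun e => hne 1 (by simp) (by simp) (by
      rw [one_mul]; exact (eq_inv_of_mul_eq_one_left e).trans hbinv)
    have hjc : w * b ∈ cI a := mul_mem hwc d.hbc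
    have hja : w * b ≠ a := fun e => hne a (mem_cI.1 d.hbc).symm (invol_mul_self d.ha) (by
      rw [← e, mul_assoc, hbb, mul_one])
    have h := hinv _ hj2 hjc hja
    have hz' : b * z⁻¹ * b⁻¹ = z := by rw [← conj_inv, hbz, inv_inv]
    have h' : w * z * w⁻¹ = z := by
      calc w * z * w⁻¹ = w * (b * z⁻¹ * b⁻¹) * w⁻¹ := by rw [hz']
        _ = (w * b * z * (w * b)⁻¹)⁻¹ := by group
        _ = z := by rw [h, inv_inv]
    exact mul_inv_eq_iff_eq_mul.1 h'
  have hxz : x * z = z * x := by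
    rw [hx, mul_assoc, hwz, ← mul_assoc, hwz, mul_assoc]
  -- the generator of `W` and its image
  obtain ⟨f, hf, hf1⟩ := (bot_or_exists_ne_one W).resolve_left fun e => d.hp.ne_one (by
    rw [← hWcard, e, card_bot])
  have hfp : orderOf f = p :=
    ((Nat.dvd_prime d.hp).1 (hWcard ▸ orderOf_dvd_natCard W hf)).resolve_left
      fun e => hf1 (orderOf_eq_one_iff.1 e)
  have hWf : W = zpowers f := (eq_of_le_of_card_ge (zpowers_le.2 hf)
    (by rw [hWcard, Nat.card_zpowers, hfp])).symm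
  have hfE : f ∈ E := d.hW hf
  have hfb : b * f * b⁻¹ = f := by
    rw [← mem_cI.1 hf.2, mul_inv_cancel_right]
  have hsq : ∀ t : G, orderOf t = p → t ≠ t⁻¹ := fun t ht e => by
    have h1 : orderOf t ∣ 2 := orderOf_dvd_of_pow_eq_one (by
      rw [pow_two]; exact mul_eq_one_iff_eq_inv.2 e)
    rw [ht, Nat.dvd_prime Nat.prime_two] at h1
    exact h1.elim d.hp.ne_one d.hp2
  have hzW : z ∉ W := fun h => hsq z d.hzp (by
    rw [← hbz, ← mem_cI.1 h.2, mul_inv_cancel_right])
  set y := x * f * x⁻¹ with hy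
  have hyE : y ∈ E := (mem_normalizer_iff.1 (hEn hxc) f).1 hfE
  have hyW : y ∉ W := by
    intro h
    refine hxN (mem_normalizer_iff_of_finite fun v hv => ?_)
    rw [hWf] at hv ⊢
    obtain ⟨n, rfl⟩ := mem_zpowers_iff.1 hv
    rw [← conj_zpow]
    exact zpow_mem (hWf ▸ h) n
  have hX : x * x * f * (x * x)⁻¹ = f⁻¹ := by
    obtain ⟨e, he⟩ : ∃ e : ℤ, f ^ e = x * x * f * (x * x)⁻¹ :=
      mem_zpowers_iff.1 (hWf ▸ (mem_normalizer_iff.1 hxxN f).1 hf)
    have he' : (x * x)⁻¹ * f * (x * x) = f ^ e := by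
      calc (x * x)⁻¹ * f * (x * x)
          = (b * x * b⁻¹) * (b * x * b⁻¹) * (b * f * b⁻¹) *
              ((b * x * b⁻¹) * (b * x * b⁻¹))⁻¹   := by
              rw [hbx, hfb, show x⁻¹ * x⁻¹ = (x * x)⁻¹ by group, inv_inv]
        _ = b * (x * x * f * (x * x)⁻¹) * b⁻¹ := by group
        _ = f ^ e := by rw [← he, ← conj_zpow, hfb]
    have hee : f ^ (e * e - 1) = 1 := by
      rw [zpow_sub_one, mul_inv_eq_one, zpow_mul]
      calc (f ^ e) ^ e = ((x * x)⁻¹ * f * (x * x)⁻¹⁻¹) ^ e := by rw [inv_inv, he']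
        _ = f := by rw [conj_zpow, inv_inv, he]; group
    rw [← orderOf_dvd_iff_zpow_eq_one, hfp, show e * e - 1 = (e - 1) * (e + 1) by ring] at hee
    rcases (Nat.prime_iff_prime_int.1 d.hp).dvd_or_dvd hee with h | h
    · exfalso
      rw [← hfp, orderOf_dvd_iff_zpow_eq_one, zpow_sub_one, mul_inv_eq_one] at h
      refine hyW ⟨d.hEO hyE, mem_cI.2 ?_⟩
      have e1 : b * y * b⁻¹ = y := by
        calc b * y * b⁻¹ = (b * x * b⁻¹) * (b * f * b⁻¹) * (b * x * b⁻¹)⁻¹ := by rw [hy]; group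
          _ = x⁻¹ * (x * x * f * (x * x)⁻¹) * x := by
              rw [hbx, hfb, ← he, h]; group
          _ = y := by rw [hy]; group
      exact (mul_inv_eq_iff_eq_mul.1 e1).symm
    · rw [← hfp, orderOf_dvd_iff_zpow_eq_one, zpow_add_one, mul_eq_one_iff_eq_inv] at h
      rw [← he, h]
  have hxy : x * y * x⁻¹ = f⁻¹ := by
    rw [← hX, hy]; group
  have hby : b * y * b⁻¹ = y⁻¹ := by
    calc b * y * b⁻¹ = (b * x * b⁻¹) * (b * f * b⁻¹) * (b * x * b⁻¹)⁻¹ := by rw [hy]; group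
      _ = x⁻¹ * f * x := by rw [hbx, hfb, inv_inv]
      _ = x⁻¹ * (x * x * f * (x * x)⁻¹)⁻¹ * x := by rw [hX, inv_inv]
      _ = y⁻¹ := by rw [hy]; group
  -- in `E`
  let F : E := ⟨f, hfE⟩
  let Y : E := ⟨y, hyE⟩
  let Z : E := ⟨z, d.hzE⟩
  have hncE : ∃ u v : E, u * v ≠ v * u := by
    by_contra hall
    push Not at hall
    exact d.hEab fun u hu v hv => congrArg Subtype.val (hall ⟨u, hu⟩ ⟨v, hv⟩)
  have hcenter : center ↥E = zpowers Z := by
    refine (eq_of_le_of_card_ge (zpowers_le.2 (mem_center_iff.2 fun e => Subtype.ext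
      (d.hzc (e : G) (d.hEO e.2)))) ?_).symm
    rw [heis_card_center d.hp d.hE hncE, Nat.card_zpowers, orderOf_mk, d.hzp]
  have hFY : F * Y ≠ Y * F := by
    intro hFY
    haveI := Fact.mk d.hp
    -- otherwise `y` lies in `Z ⟨f⟩`, which `b` acts on diagonally
    have hH : Y ∈ center ↥E ⊔ zpowers F := by
      by_contra hYn
      set H := center ↥E ⊔ zpowers F ⊔ zpowers Y with hH
      obtain ⟨u, v, huv⟩ := hncE
      have hFn : F ∉ center ↥E := fun h => hzW (by
        rw [hcenter] at h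
        obtain ⟨n, hn⟩ := mem_zpowers_iff.1 h
        have hfz : f ∈ zpowers z := ⟨n, congrArg Subtype.val hn⟩
        rw [hWf, eq_of_le_of_card_ge (zpowers_le.2 hfz)
          (by rw [Nat.card_zpowers, Nat.card_zpowers, hfp, d.hzp])]
        exact mem_zpowers z)
      have hlt1 : Nat.card (center ↥E) < Nat.card ↥(center ↥E ⊔ zpowers F) := by
        by_contra hle
        exact hFn ((eq_of_le_of_card_ge le_sup_left (not_lt.1 hle)).symm ▸
          mem_sup_right (mem_zpowers F))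
      have hlt2 : Nat.card ↥(center ↥E ⊔ zpowers F) < Nat.card H := by
        by_contra hle
        exact hYn ((eq_of_le_of_card_ge le_sup_left (not_lt.1 hle)).symm ▸
          mem_sup_right (mem_zpowers Y))
      have htop : H = ⊤ := by
        obtain ⟨k, -, hk⟩ := (Nat.dvd_prime_pow d.hp).1 (d.hE ▸ card_subgroup_dvd_card H)
        obtain ⟨l, -, hl⟩ := (Nat.dvd_prime_pow d.hp).1
          (d.hE ▸ card_subgroup_dvd_card (center ↥E ⊔ zpowers F))
        rw [heis_card_center d.hp d.hE ⟨u, v, huv⟩, hl] at hlt1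
        rw [hl, hk] at hlt2
        have h1 : 1 < l := (Nat.pow_lt_pow_iff_right d.hp.one_lt).1 (by rwa [pow_one])
        have h2 : l < k := (Nat.pow_lt_pow_iff_right d.hp.one_lt).1 hlt2
        refine eq_top_of_le_card _ ?_
        rw [hk, d.hE]
        exact Nat.pow_le_pow_right d.hp.pos (by omega)
      have hF : F ∈ center ↥E := by
        have hle : H ≤ centralizer ({F} : Set ↥E) := sup_le (sup_le
          (center_le_centralizer _) (zpowers_le.2 (mem_centralizer_singleton_iff.2 rfl)))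
          (zpowers_le.2 (mem_centralizer_singleton_iff.2 hFY.symm))
        exact mem_center_iff.2 fun g =>
          mem_centralizer_singleton_iff.1 (hle (htop ▸ mem_top g))
      exact hFn hF
    obtain ⟨c', hc', F', hF', e⟩ := mem_sup_of_normal_left.1 hH
    obtain ⟨n, rfl⟩ := mem_zpowers_iff.1 hF'
    rw [hcenter] at hc'
    obtain ⟨m, rfl⟩ := mem_zpowers_iff.1 hc'
    have e' : z ^ m * f ^ n = y := congrArg Subtype.val e
    have hzf : Commute (z ^ m) (f ^ n) :=
      (Commute.zpow_zpow (d.hzc f (d.hEO hfE)).symm m n)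
    have hn : f ^ n = (f ^ n)⁻¹ := by
      have := hby
      rw [← e', ← conj_mul, ← conj_zpow, ← conj_zpow, hbz, hfb, mul_inv_rev, inv_zpow,
        (hzf.inv_inv).eq.symm] at this
      exact mul_left_cancel this
    have hn1 : f ^ n = 1 := by
      by_contra h
      refine hsq _ ?_ hn
      exact ((Nat.dvd_prime d.hp).1 (hfp ▸ orderOf_dvd_of_mem_zpowers ⟨n, rfl⟩)).resolve_left
        fun e => h (orderOf_eq_one_iff.1 e)
    rw [hn1, mul_one] at e'
    refine hzW ?_
    have hfz : f ∈ zpowers z := ⟨m, by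
      show z ^ m = f
      have hc : Commute x (z ^ m) := Commute.zpow_right hxz m
      calc z ^ m = x⁻¹ * (x * z ^ m) := by group
        _ = x⁻¹ * (z ^ m * x) := by rw [hc.eq]
        _ = f := by rw [e', hy]; group⟩
    rw [hWf, eq_of_le_of_card_ge (zpowers_le.2 hfz)
      (by rw [Nat.card_zpowers, Nat.card_zpowers, hfp, d.hzp])]
    exact mem_zpowers z
  have hwE : ∀ e ∈ E, w * e * w⁻¹ ∈ E := fun e he => (mem_normalizer_iff.1 (hEn hwc) e).1 he
  let σ : E →* E := MonoidHom.mk' (fun e => ⟨w * e * w⁻¹, hwE e e.2⟩) fun e e' =>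
    Subtype.ext (by simp [mul_assoc])
  refine isSquare_two_of_quarter d.hp d.hE σ hFY (Subtype.ext ?_) (Subtype.ext ?_) fun v hv => ?_
  · show w * (w * f * w⁻¹) * w⁻¹ = x * f * x⁻¹
    rw [hx]; group
  · show w * (w * y * w⁻¹) * w⁻¹ = f⁻¹
    rw [← hxy, hx]; group
  · rw [hcenter] at hv
    obtain ⟨n, rfl⟩ := mem_zpowers_iff.1 hv
    rw [map_zpow]
    congr 1
    exact Subtype.ext (show w * z * w⁻¹ = z by rw [hwz, mul_inv_cancel_right])

end CfsgLib.GW.Component
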