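import Cfsg.Agent.Lib.GW.Component.OrbitTools
import Cfsg.Agent.Lib.GW.Scalar

/-!
`FreeData` from the shape of `O(C(a))` in the component leg: `O = (E ⋊ C) ∘ C₀` with `E` nonabelian
of order `p³`, `C₀ = C_O(E)` cyclic inverted by `b`, and `|C| ≤ (p+1)/2`.
-/

set_option autoImplicit false
set_option linter.unusedSectionVars false
set_option linter.style.haveILetI false

namespace CfsgLib.GW.Component

open Subgroup CfsgLib.Invol

universe u

variable {G : Type u} [Group G] [Finite G]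

/-- The shape used. -/
structure ShapeData (a b z : G) (O E C0 : Subgroup G) (p c : ℕ) : Prop where
  hp : p.Prime
  hp2 : p ≠ 2
  ha : orderOf a = 2
  hb : orderOf b = 2
  hba : b ≠ a
  hbc : b ∈ centralizer ({a} : Set G)
  hOa : O ≤ centralizer ({a} : Set G)
  hOodd : Odd (Nat.card O)
  hbO : b ∈ normalizer (O : Set G)
  hEO : E ≤ O
  hE : Nat.card E = p ^ 3
  hOE : O ≤ normalizer (E : Set G)
  hEab : ¬ ∀ x ∈ E, ∀ y ∈ E, x * y = y * x
  hC0 : C0 = O ⊓ centralizer (E : Set G)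
  hcyc : IsCyclic C0
  hOC0 : O ≤ normalizer (C0 : Set G)
  hbC0 : ∀ x ∈ C0, b * x * b⁻¹ = x⁻¹
  hzE : z ∈ E
  hzC0 : z ∈ C0
  hzp : orderOf z = p
  hfix : ∀ j, orderOf j = 2 → j ∈ centralizer ({a} : Set G) → j ≠ a →
    Nat.card (O ⊓ centralizer ({j} : Set G) : Subgroup G) = p
  hW : O ⊓ centralizer ({b} : Set G) ≤ E
  hc : (E ⊔ C0).relIndex O = c
  hcp : 2 * c ≤ p + 1

namespace ShapeData

variable {a b z : G} {O E C0 : Subgroup G} {p c : ℕ} (d : ShapeData a b z O E C0 p c)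
include d

theorem C0_le : C0 ≤ O := d.hC0 ▸ inf_le_left

theorem C0_comm {t e : G} (ht : t ∈ C0) (he : e ∈ E) : e * t = t * e := by
  have := ht
  rw [d.hC0] at this
  exact mem_centralizer_iff.1 this.2 e he

/-- `C₀` is central in `O`. -/
theorem C0_central {t : G} (ht : t ∈ C0) {o : G} (ho : o ∈ O) : o * t = t * o := by
  have hbO : ∀ y ∈ O, b * y * b⁻¹ ∈ O := fun y hy => (mem_normalizer_iff.1 d.hbO y).1 hy
  set y := o⁻¹ * (b * o * b⁻¹) with hy
  have hyO : y ∈ O := mul_mem (inv_mem ho) (hbO o ho)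
  have hyodd : Odd (orderOf y) := d.hOodd.of_dvd_nat (orderOf_dvd_natCard O hyO)
  obtain ⟨k, hk⟩ := hyodd
  set s := y ^ (k + 1) with hs
  have hss : s * s = y := by
    rw [hs, ← pow_add, show k + 1 + (k + 1) = orderOf y + 1 by omega, pow_succ, pow_orderOf_eq_one,
      one_mul]
  have hby : b * y * b⁻¹ = y⁻¹ := by
    have hbb : b * b = 1 := invol_mul_self d.hb
    calc b * y * b⁻¹ = (b * o⁻¹ * b⁻¹) * ((b * b) * o * (b * b)⁻¹) := by rw [hy]; group
      _ = (b * o⁻¹ * b⁻¹) * o := by rw [hbb]; group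
      _ = y⁻¹ := by rw [hy]; group
  have hbs : b * s * b⁻¹ = s⁻¹ := by rw [hs, ← conj_pow, hby, inv_pow]
  have hsO : s ∈ O := pow_mem hyO _
  have hw : o * s ∈ O ⊓ centralizer ({b} : Set G) := by
    refine ⟨mul_mem ho hsO, mem_centralizer_singleton_iff.2 ?_⟩
    have e : b * (o * s) * b⁻¹ = o * s := by
      calc b * (o * s) * b⁻¹ = (b * o * b⁻¹) * (b * s * b⁻¹) := by group
        _ = o * (s * s) * s⁻¹ := by rw [hss, hbs, hy]; group
        _ = o * s := by group
    calc o * s * b = b * (o * s) * b⁻¹ * b := by rw [e]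
      _ = b * (o * s) := by group
  -- `s` centralises the cyclic group `C₀`
  haveI := d.hcyc
  obtain ⟨⟨t0, ht0⟩, hgen⟩ := IsCyclic.exists_generator (α := C0)
  have hst : Commute s t0 := by
    obtain ⟨i, hi⟩ : s * t0 * s⁻¹ ∈ zpowers t0 := by
      have h1 := (mem_normalizer_iff.1 (d.hOC0 hsO) t0).1 ht0
      obtain ⟨i, hi⟩ := mem_zpowers_iff.1 (hgen ⟨_, h1⟩)
      exact mem_zpowers_iff.2 ⟨i, congrArg Subtype.val hi⟩
    have hi' : s * t0 * s⁻¹ = t0 ^ i := hi.symm
    have h2 : s⁻¹ * t0 * s = t0 ^ i := by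
      have e1 : b * (s * t0 * s⁻¹) * b⁻¹ = s⁻¹ * t0⁻¹ * s := by
        calc b * (s * t0 * s⁻¹) * b⁻¹ = (b * s * b⁻¹) * (b * t0 * b⁻¹) * (b * s * b⁻¹)⁻¹ := by group
          _ = _ := by rw [hbs, d.hbC0 t0 ht0, inv_inv]
      rw [hi', ← conj_zpow, d.hbC0 t0 ht0, inv_zpow] at e1
      calc s⁻¹ * t0 * s = (s⁻¹ * t0⁻¹ * s)⁻¹ := by group
        _ = t0 ^ i := by rw [← e1, inv_inv]
    have h3 : Commute (s * s) t0 := by
      calc s * s * t0 = s * (s * t0 * s⁻¹) * s := by group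
        _ = s * (s⁻¹ * t0 * s) * s := by rw [hi', h2]
        _ = t0 * (s * s) := by group
    rw [hss] at h3
    exact h3.pow_left _
  obtain ⟨i, hi⟩ := mem_zpowers_iff.1 (hgen ⟨t, ht⟩)
  have hst' : Commute s t := by
    rw [show t = t0 ^ i from (congrArg Subtype.val hi).symm]
    exact hst.zpow_right i
  have hwt : Commute (o * s) t := d.C0_comm ht (d.hW hw)
  have := hwt.mul_left hst'.inv_left
  rwa [mul_inv_cancel_right] at this

theorem hzc : ∀ o ∈ O, o * z = z * o := fun _ ho => d.C0_central d.hzC0 ho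

theorem F_le : E ⊔ C0 ≤ O := sup_le d.hEO d.C0_le

theorem mem_F {y : G} (hy : y ∈ E ⊔ C0) : ∃ e ∈ E, ∃ t ∈ C0, e * t = y := by
  have hn : C0 ≤ normalizer (E : Set G) := d.C0_le.trans d.hOE
  have := (coe_mul_of_right_le_normalizer_left E C0 hn) ▸ (SetLike.mem_coe.2 hy)
  exact Set.mem_mul.1 this

theorem pow_E {e : G} (he : e ∈ E) : e ^ p ^ 3 = 1 :=
  orderOf_dvd_iff_pow_eq_one.1 ((orderOf_dvd_natCard E he).trans (dvd_of_eq d.hE))

/-- The elements of order prime to `p` of `E C₀` lie in `C₀`. -/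
theorem mem_C0_of_coprime {y : G} (hy : y ∈ E ⊔ C0) (hp : (orderOf y).Coprime p) : y ∈ C0 := by
  obtain ⟨e, he, t, ht, rfl⟩ := d.mem_F hy
  have h1 : (e * t) ^ p ^ 3 = t ^ p ^ 3 := by
    rw [Commute.mul_pow (d.C0_comm ht he), d.pow_E he, one_mul]
  obtain ⟨k, hk⟩ := exists_pow_eq_self_of_coprime (x := e * t) (n := p ^ 3) (hp.symm.pow_left 3)
  rw [← hk, h1]
  exact pow_mem (pow_mem ht _) _

theorem F_normal : O ≤ normalizer ((E ⊔ C0 : Subgroup G) : Set G) := by
  refine fun o ho => mem_normalizer_iff_of_finite fun y hy => ?_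
  obtain ⟨e, he, t, ht, rfl⟩ := d.mem_F hy
  rw [show o * (e * t) * o⁻¹ = (o * e * o⁻¹) * (o * t * o⁻¹) by group, d.C0_central ht ho,
    mul_inv_cancel_right]
  exact mul_mem (mem_sup_left ((mem_normalizer_iff.1 (d.hOE ho) e).1 he)) (mem_sup_right ht)

theorem c_pos : 0 < c := by
  rw [← d.hc]
  exact Nat.pos_of_ne_zero Subgroup.FiniteIndex.index_ne_zero

theorem c_lt : c < p := by have := d.hp.two_le; have := d.hcp; omega

/-- An element of order prime to `[O : E C₀]` of `O` lies in `E C₀`. -/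
theorem mem_F_of_coprime {x : G} (hx : x ∈ O) (h : (orderOf x).Coprime c) : x ∈ E ⊔ C0 := by
  haveI : ((E ⊔ C0).subgroupOf O).Normal := normal_subgroupOf_of_le_normalizer d.F_normal
  have h1 : (QuotientGroup.mk' ((E ⊔ C0).subgroupOf O)) ⟨x, hx⟩ = 1 := by
    refine orderOf_eq_one_iff.1 (Nat.eq_one_of_dvd_coprimes h ?_ ?_)
    · exact (orderOf_map_dvd _ _).trans (by rw [orderOf_mk])
    · rw [← d.hc, relIndex, index_eq_card]
      exact orderOf_dvd_natCard _
  exact mem_subgroupOf.1 ((QuotientGroup.eq_one_iff _).1 h1)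

theorem mem_F_of_pgroup [Fact p.Prime] {P : Subgroup G} (hP : IsPGroup p P) (hPO : P ≤ O) :
    P ≤ E ⊔ C0 := by
  intro x hx
  refine d.mem_F_of_coprime (hPO hx) ?_
  obtain ⟨k, hk⟩ := hP ⟨x, hx⟩
  refine Nat.Coprime.coprime_dvd_left (orderOf_dvd_of_pow_eq_one (congrArg Subtype.val hk :))
    (Nat.Coprime.pow_left k ((d.hp.coprime_iff_not_dvd).2 fun h => ?_))
  exact absurd (Nat.le_of_dvd d.c_pos h) (not_le.2 d.c_lt)

/-- An element of order prime to `p` outside `C₀` has only `⟨z⟩` fixed in `E`. -/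
theorem fixed_le {x : G} (hx : x ∈ O) (hxp : (orderOf x).Coprime p) (hxC : x ∉ C0) :
    E ⊓ centralizer ({x} : Set G) ≤ zpowers z := by
  haveI := Fact.mk d.hp
  set H0 := E ⊓ centralizer ({x} : Set G) with hH0
  have hzH : zpowers z ≤ H0 := zpowers_le.2
    ⟨d.hzE, mem_centralizer_singleton_iff.2 (d.hzc x hx).symm⟩
  obtain ⟨k, hk3, hk⟩ := (Nat.dvd_prime_pow d.hp).1 (d.hE ▸ card_dvd_of_le (inf_le_left : H0 ≤ E))
  have hnot3 : k ≠ 3 := by
    rintro rfl
    refine hxC ?_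
    have he : H0 = E := eq_of_le_of_card_ge inf_le_left (by rw [hk, d.hE])
    rw [d.hC0]
    exact ⟨hx, mem_centralizer_iff.2 fun e hee => mem_centralizer_singleton_iff.1 (he.ge hee).2⟩
  by_contra hne
  have hk1 : 2 ≤ k := by
    by_contra hlt
    exact hne (eq_of_le_of_card_ge hzH (by
      rw [hk, Nat.card_zpowers, d.hzp]
      calc p ^ k ≤ p ^ 1 := Nat.pow_le_pow_right d.hp.pos (by omega)
        _ = p := pow_one p)).ge
  obtain rfl : k = 2 := by omega
  have hH0ab : ∀ h ∈ H0, ∀ h' ∈ H0, h * h' = h' * h := fun h hh h' hh' => congrArg Subtype.val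
    ((IsPGroup.isMulCommutative_of_card_eq_prime_sq hk).is_comm.comm (⟨h, hh⟩ : H0) ⟨h', hh'⟩)
  obtain ⟨f, hf, hfH⟩ : ∃ f ∈ E, f ∉ H0 := by
    by_contra hall
    push Not at hall
    have := card_le_of_le (show E ≤ H0 from hall)
    rw [hk, d.hE] at this
    exact absurd this (not_le.2 (Nat.pow_lt_pow_right d.hp.one_lt (by norm_num)))
  have hsup : H0 ⊔ zpowers f = E := by
    have hle : H0 ⊔ zpowers f ≤ E := sup_le inf_le_left (zpowers_le.2 hf)
    obtain ⟨l, hl3, hl⟩ := (Nat.dvd_prime_pow d.hp).1 (d.hE ▸ card_dvd_of_le hle)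
    refine eq_of_le_of_card_ge hle ?_
    have h2 : H0 < H0 ⊔ zpowers f := lt_of_le_of_ne le_sup_left fun e =>
      hfH (e.symm ▸ mem_sup_right (mem_zpowers f))
    have h3 : Nat.card H0 < Nat.card ↥(H0 ⊔ zpowers f) := by
      by_contra h4
      exact h2.ne (eq_of_le_of_card_ge le_sup_left (not_lt.1 h4))
    rw [hk, hl] at h3
    have : 2 < l := (Nat.pow_lt_pow_iff_right d.hp.one_lt).1 h3
    rw [hl, d.hE, show l = 3 by omega]
  -- `H0` is normal in `E`
  have hH0n : ∀ y ∈ E, ∀ h ∈ H0, y * h * y⁻¹ ∈ H0 := by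
    have hn : (H0.subgroupOf E).Normal := by
      refine normal_of_index_eq_minFac_card ?_
      rw [d.hE, Nat.pow_minFac (by norm_num), d.hp.minFac_eq]
      have h := (H0.subgroupOf E).card_mul_index
      rw [Nat.card_congr (subgroupOfEquivOfLe (inf_le_left : H0 ≤ E)).toEquiv, hk, d.hE, pow_succ] at h
      exact Nat.eq_of_mul_eq_mul_left (pow_pos d.hp.pos 2) h
    intro y hy h hh
    exact mem_subgroupOf.1 (hn.conj_mem ⟨h, hh.1⟩ (mem_subgroupOf.2 hh) ⟨y, hy⟩)
  set g := f⁻¹ * (x * f * x⁻¹) with hg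
  have hgE : g ∈ E := mul_mem (inv_mem hf) ((mem_normalizer_iff.1 (d.hOE hx) f).1 hf)
  have hxh : ∀ h ∈ H0, Commute x h := fun h hh => (mem_centralizer_singleton_iff.1 hh.2).symm
  have hgc : ∀ h ∈ H0, Commute g h := by
    intro h hh
    have h1 := hxh _ (hH0n f hf h hh)
    have h2 := hxh h hh
    calc g * h = f⁻¹ * (x * (f * (x⁻¹ * h))) := by rw [hg]; group
      _ = f⁻¹ * (x * (f * h * f⁻¹) * f * x⁻¹) := by rw [h2.inv_left.eq]; group
      _ = h * g := by rw [h1.eq, hg]; group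
  have hgH : g ∈ H0 := by
    by_contra hgn
    refine d.hEab ?_
    have hsup' : H0 ⊔ zpowers g = E := by
      have hle : H0 ⊔ zpowers g ≤ E := sup_le inf_le_left (zpowers_le.2 hgE)
      obtain ⟨l, hl3, hl⟩ := (Nat.dvd_prime_pow d.hp).1 (d.hE ▸ card_dvd_of_le hle)
      refine eq_of_le_of_card_ge hle ?_
      have h3 : Nat.card H0 < Nat.card ↥(H0 ⊔ zpowers g) := by
        by_contra h4
        exact hgn ((eq_of_le_of_card_ge le_sup_left (not_lt.1 h4)).symm ▸ mem_sup_right (mem_zpowers g))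
      rw [hk, hl] at h3
      have : 2 < l := (Nat.pow_lt_pow_iff_right d.hp.one_lt).1 h3
      rw [hl, d.hE, show l = 3 by omega]
    have hc1 : H0 ≤ centralizer ((H0 ⊔ zpowers g : Subgroup G) : Set G) := by
      rw [le_centralizer_iff]
      refine sup_le (fun h hh => mem_centralizer_iff.2 fun h' hh' => hH0ab h' hh' h hh)
        (zpowers_le.2 (mem_centralizer_iff.2 fun h' hh' => (hgc h' hh').eq.symm))
    have hc2 : zpowers g ≤ centralizer ((H0 ⊔ zpowers g : Subgroup G) : Set G) := by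
      rw [le_centralizer_iff]
      refine sup_le (fun h hh => mem_centralizer_iff.2 fun y hy => ?_)
        (fun h hh => mem_centralizer_iff.2 fun y hy => ?_)
      · obtain ⟨i, rfl⟩ := mem_zpowers_iff.1 hy
        exact ((hgc h hh).zpow_left i).eq
      · obtain ⟨i, rfl⟩ := mem_zpowers_iff.1 hy
        obtain ⟨j, rfl⟩ := mem_zpowers_iff.1 hh
        exact zpow_mul_comm g i j
    intro u hu v hv
    rw [← hsup'] at hu hv
    exact (mem_centralizer_iff.1 (sup_le hc1 hc2 hv) u hu)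
  have hiter : ∀ m : ℕ, x ^ m * f * (x ^ m)⁻¹ = f * g ^ m := by
    intro m
    induction m with
    | zero => simp
    | succ m ih =>
      have hxg : Commute (x ^ m) g := (hxh g hgH).pow_left m
      calc x ^ (m + 1) * f * (x ^ (m + 1))⁻¹ = x ^ m * (x * f * x⁻¹) * (x ^ m)⁻¹ := by
            rw [pow_succ]; group
        _ = x ^ m * (f * g) * (x ^ m)⁻¹ := by rw [hg, mul_inv_cancel_left]
        _ = x ^ m * f * (x ^ m)⁻¹ * (x ^ m * g * (x ^ m)⁻¹) := by group
        _ = f * g ^ (m + 1) := by rw [ih, hxg.eq, mul_inv_cancel_right, pow_succ, mul_assoc]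
  have h1 := hiter (orderOf x)
  rw [pow_orderOf_eq_one, inv_one, one_mul, mul_one, eq_comm, mul_eq_left] at h1
  have hg1 : g = 1 := orderOf_eq_one_iff.1 (Nat.eq_one_of_dvd_coprimes (hxp.pow_right 3)
    (orderOf_dvd_of_pow_eq_one h1) (orderOf_dvd_of_pow_eq_one (d.pow_E hgE)))
  refine hfH ⟨hf, mem_centralizer_singleton_iff.2 ?_⟩
  rw [hg, inv_mul_eq_one] at hg1
  calc f * x = x * f * x⁻¹ * x := by rw [← hg1]
    _ = x * f := by group

/-- An invariant Sylow subgroup of `O` for a prime other than `p` is inverted by `b`. -/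
theorem exists_inverted {ℓ : ℕ} [Fact ℓ.Prime] (hℓ : ℓ ≠ p) {R : Subgroup G} (hR : IsPGroup ℓ R)
    (hRO : R ≤ O) : ∃ o ∈ O, ∀ x ∈ R, (o * b * o⁻¹) * x * (o * b * o⁻¹)⁻¹ = x⁻¹ := by
  classical
  have hA : zpowers b ≤ normalizer (O : Set G) := zpowers_le.2 d.hbO
  have hcop : (Nat.card (zpowers b)).Coprime (Nat.card O) := by
    rw [Nat.card_zpowers, d.hb]; exact Nat.coprime_two_left.2 d.hOodd
  obtain ⟨P, hP⟩ := CfsgLib.Coprime.exists_invariant_sylow hA hcop
    (Or.inr (CfsgLib.FT.odd_order_solvable d.hOodd)) ℓ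
  obtain ⟨Q, hQ⟩ := (hR.comap_of_injective O.subtype O.subtype_injective).exists_le_sylow
  obtain ⟨o, ho⟩ := MulAction.exists_smul_eq O P Q
  refine ⟨o, o.2, fun x hx => ?_⟩
  set S := (P : Subgroup O).map O.subtype with hS
  have hinv : ∀ y ∈ S, b * y * b⁻¹ = y⁻¹ := by
    refine CfsgLib.GW.inverts_of_inf_eq_bot d.hb
      (fun y hy => (mem_normalizer_iff.1 (hP (mem_zpowers b)) y).1 hy) ?_
    refine le_bot_iff.1 fun y hy => mem_bot.2 ?_
    have hyW : y ∈ O ⊓ centralizer ({b} : Set G) := ⟨map_subtype_le _ hy.1, hy.2⟩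
    have h1 : orderOf y ∣ p := d.hfix b d.hb d.hbc d.hba ▸ orderOf_dvd_natCard _ hyW
    obtain ⟨k, hk⟩ := (P.2.map O.subtype) ⟨y, hy.1⟩
    exact orderOf_eq_one_iff.1 (Nat.eq_one_of_dvd_coprimes
      (((Nat.coprime_primes Fact.out d.hp).2 hℓ).pow_left k)
      (orderOf_dvd_of_pow_eq_one (congrArg Subtype.val hk :)) h1)
  have hx' : (⟨x, hRO hx⟩ : O) ∈ ((o • P : Sylow ℓ O) : Subgroup O) := ho ▸ hQ hx
  obtain ⟨y, hy, e⟩ := hx'
  have he : (o : G) * (y : G) * (o : G)⁻¹ = x := congrArg Subtype.val e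
  rw [← he]
  calc (o : G) * b * (o : G)⁻¹ * ((o : G) * (y : G) * (o : G)⁻¹) * ((o : G) * b * (o : G)⁻¹)⁻¹
      = (o : G) * (b * (y : G) * b⁻¹) * (o : G)⁻¹ := by group
    _ = _ := by rw [show b * (y : G) * b⁻¹ = (y : G)⁻¹ from hinv _ (mem_map_of_mem _ hy)]; group

/-- `FreeData` from the shape and the facts on involutions. -/
theorem freeData (hcore : ∀ y ∈ centralizer ({a} : Set G), Odd (orderOf y) → y ∈ O)
    (huniq : ∀ j, orderOf j = 2 → j * z = z * j → j = a)
    (hinv : ∀ j, orderOf j = 2 → j ∈ centralizer ({a} : Set G) → j ≠ a → j * z * j⁻¹ = z⁻¹)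
    (hone : ∀ j, orderOf j = 2 → IsConj a j)
    (htwo : ∀ S : Subgroup G, IsPGroup 2 S → (∀ x ∈ S, orderOf x = 2 → x = a) → IsCyclic S)
    (hcent : ∀ x ∈ C0, x ≠ 1 → centralizer ({x} : Set G) ≤ centralizer ({a} : Set G)) :
    FreeData a z O p := by
  haveI := Fact.mk d.hp
  have hnc : ∀ x : G, (∀ o ∈ O, o * x = x * o) → x ∈ O → x ∈ C0 := fun x hx hxO => by
    rw [d.hC0]; exact ⟨hxO, mem_centralizer_iff.2 fun e he => hx e (d.hEO he)⟩
  refine ⟨d.hp, d.hp2, d.ha, d.hOa, d.hOodd, hcore, d.C0_le d.hzC0, d.hzp, d.hzc, huniq, hinv, hone,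
    htwo, fun j hj hjc hja => IsPGroup.of_card (n := 1) (by rw [d.hfix j hj hjc hja, pow_one]),
    fun x hxO hx1 _ hx => hcent x (hnc x hx hxO) hx1, ?_, ?_, ?_, ?_⟩
  · intro x hx _ hxp hnx P hP hPp y hy
    have hxC : x ∉ C0 := fun h => hnx fun o ho => d.C0_central h ho
    obtain ⟨e, he, t, ht, hy'⟩ := d.mem_F (d.mem_F_of_pgroup hPp (hP.trans inf_le_left) hy)
    have hex : e ∈ E ⊓ centralizer ({x} : Set G) := by
      refine ⟨he, mem_centralizer_singleton_iff.2 ?_⟩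
      have h1 : Commute y x := mem_centralizer_singleton_iff.1 (hP hy).2
      have h2 : Commute t x := (d.C0_central ht hx).symm
      have := h1.mul_left h2.inv_left
      rwa [← hy', mul_inv_cancel_right] at this
    obtain ⟨i, hi⟩ := mem_zpowers_iff.1 (d.fixed_le hx hxp hxC hex)
    intro o ho
    exact d.C0_central (hy' ▸ mul_mem (hi ▸ zpow_mem d.hzC0 i) ht) ho
  · intro x hx hxr hxp hnx
    haveI := Fact.mk hxr
    have hne : orderOf x ≠ p := fun e => by
      rw [e, Nat.coprime_self] at hxp; exact d.hp.ne_one hxp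
    obtain ⟨o, ho, hinv'⟩ := d.exists_inverted (ℓ := orderOf x) hne
      (IsPGroup.of_card (n := 1) (by rw [Nat.card_zpowers, pow_one])) (zpowers_le.2 hx)
    have hoa : Commute o a := mem_centralizer_singleton_iff.1 (d.hOa ho)
    refine ⟨o * b * o⁻¹, by rw [orderOf_conj_eq]; exact d.hb, ?_, ?_, hinv' x (mem_zpowers x)⟩
    · exact mul_mem (mul_mem (d.hOa ho) d.hbc) (inv_mem (d.hOa ho))
    · intro e
      refine d.hba ?_
      calc b = o⁻¹ * (o * b * o⁻¹) * o := by group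
        _ = o⁻¹ * (o * a) := by rw [e, mul_assoc, hoa.eq]
        _ = a := by group
  · intro ℓ hℓ hℓp R hRO hR hfree
    haveI := Fact.mk hℓ
    obtain ⟨o, -, hinv'⟩ := d.exists_inverted hℓp hR hRO
    have hcomm : ∀ x ∈ R, ∀ y ∈ R, x * y = y * x := by
      intro x hx y hy
      have h1 : (x * y)⁻¹ = x⁻¹ * y⁻¹ := by
        rw [← hinv' _ (mul_mem hx hy), ← hinv' x hx, ← hinv' y hy]; group
      calc x * y = ((x * y)⁻¹)⁻¹ := (inv_inv _).symm
        _ = y * x := by rw [h1]; group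
    have hRp : ∀ x ∈ R, (orderOf x).Coprime p := fun x hx => by
      obtain ⟨k, hk⟩ := hR ⟨x, hx⟩
      exact Nat.Coprime.coprime_dvd_left (orderOf_dvd_of_pow_eq_one (congrArg Subtype.val hk :))
        (((Nat.coprime_primes hℓ d.hp).2 hℓp).pow_left k)
    have hRC : ∀ x ∈ R, x ≠ 1 → x ∉ C0 := fun x hx hx1 hxC =>
      hx1 (hfree x hx fun o ho => d.C0_central hxC ho)
    refine ⟨?_, fun hR0 hd => ?_⟩
    · by_contra hnc'
      have hcopE : (Nat.card R).Coprime (Nat.card E) := by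
        obtain ⟨k, hk⟩ := IsPGroup.iff_card.1 hR
        rw [hk, d.hE]
        exact (((Nat.coprime_primes hℓ d.hp).2 hℓp).pow_left k).pow_right 3
      have hgen := CfsgLib.Coprime.iSup_centralizer_eq (A := R) (G := E)
        ⟨⟨fun x y => Subtype.ext (hcomm x x.2 y y.2)⟩⟩ hnc' (hRO.trans d.hOE) hcopE
      have hEz : E ≤ zpowers z := by
        conv_lhs => rw [← hgen]
        exact iSup_le fun r => d.fixed_le (hRO r.2.1) (hRp _ r.2.1) (hRC _ r.2.1 r.2.2)
      have h3 := card_le_of_le hEz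
      rw [d.hE, Nat.card_zpowers, d.hzp] at h3
      exact absurd h3 (not_le.2 ((pow_one p).symm.trans_lt
        (Nat.pow_lt_pow_right d.hp.one_lt (by norm_num))))
    · obtain ⟨x, hx, hx1⟩ := (bot_or_exists_ne_one R).resolve_left hR0
      have hℓc : ℓ ∣ c := by
        by_contra hnd
        obtain ⟨k, hk⟩ := hR ⟨x, hx⟩
        refine hRC x hx hx1 (d.mem_C0_of_coprime (d.mem_F_of_coprime (hRO hx) ?_) (hRp x hx))
        exact Nat.Coprime.coprime_dvd_left (orderOf_dvd_of_pow_eq_one (congrArg Subtype.val hk :))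
          ((hℓ.coprime_iff_not_dvd.2 hnd).pow_left k)
      have hle := Nat.le_of_dvd d.c_pos hℓc
      have hℓ2' : ℓ ≠ 2 := by
        rintro rfl
        have hc : c ∣ Nat.card O := d.hc ▸ relIndex_dvd_card _ _
        exact (Nat.not_even_iff_odd.2 d.hOodd) (even_iff_two_dvd.2 (hℓc.trans hc))
      have hℓ2 := hℓ.two_le
      have hcp := d.hcp
      rw [show ℓ ^ 2 - 1 = (ℓ + 1) * (ℓ - 1) from by rw [← Nat.sq_sub_sq, one_pow]] at hd
      rcases d.hp.dvd_mul.1 hd with h | h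
      · have := Nat.le_of_dvd (by omega) h
        have hp3 : p = 3 := by have := d.hp.two_le; have := d.hp2; omega
        omega
      · have := Nat.le_of_dvd (by omega) h; omega
  · intro P hPO hP
    classical
    by_contra hzP
    refine d.hEab ?_
    have hPp : IsPGroup p P := IsPGroup.of_card hP
    have hPC : ∀ w ∈ P, w ∈ C0 → w = 1 := by
      intro w hwP hwC
      by_contra hw1
      haveI := d.hcyc
      obtain ⟨k, hk, hk'⟩ := (Nat.dvd_prime_pow d.hp).1 (hP ▸ orderOf_dvd_natCard P hwP)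
      have hk0 : k ≠ 0 := fun h0 => hw1 (orderOf_eq_one_iff.1 (by rw [hk', h0, pow_zero]))
      have hv : orderOf (w ^ p ^ (k - 1)) = p := by
        rw [orderOf_pow_of_dvd (pow_ne_zero _ d.hp.ne_zero) (hk' ▸ pow_dvd_pow p (by omega)), hk',
          Nat.pow_div (by omega) d.hp.pos, show k - (k - 1) = 1 by omega, pow_one]
      refine hzP ?_
      haveI : Fintype C0 := Fintype.ofFinite _
      have hz1 : (⟨z, d.hzC0⟩ : C0) ∈ zpowers (⟨w ^ p ^ (k - 1), pow_mem hwC _⟩ : C0) := by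
        set v : C0 := ⟨w ^ p ^ (k - 1), pow_mem hwC _⟩ with hvdef
        have hvo : orderOf v = p := by rw [hvdef, orderOf_mk, hv]
        have hsub : (Finset.univ.filter fun x : C0 => x ∈ zpowers v) ⊆
            Finset.univ.filter fun x : C0 => x ^ p = 1 := fun x hx => by
          simp only [Finset.mem_filter, Finset.mem_univ, true_and] at hx ⊢
          exact orderOf_dvd_iff_pow_eq_one.1 (hvo ▸ orderOf_dvd_of_mem_zpowers hx)
        have hcard : (Finset.univ.filter fun x : C0 => x ∈ zpowers v).card = p := by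
          rw [← Fintype.card_subtype, ← Nat.card_eq_fintype_card]
          exact (Nat.card_zpowers v).trans hvo
        have heq := Finset.eq_of_subset_of_card_le hsub
          ((IsCyclic.card_pow_eq_one_le (α := C0) d.hp.pos).trans hcard.ge)
        have hzmem : (⟨z, d.hzC0⟩ : C0) ∈ Finset.univ.filter fun x : C0 => x ^ p = 1 :=
          Finset.mem_filter.2 ⟨Finset.mem_univ _, orderOf_dvd_iff_pow_eq_one.1
            (by rw [orderOf_mk, d.hzp])⟩
        rw [← heq] at hzmem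
        exact (Finset.mem_filter.1 hzmem).2
      obtain ⟨i, hi⟩ := mem_zpowers_iff.1 hz1
      rw [show z = (w ^ p ^ (k - 1)) ^ i from (congrArg Subtype.val hi).symm]
      exact zpow_mem (pow_mem hwP _) i
    -- count `E C₀`
    let S := {y : G // y ∈ E ⊔ C0}
    choose e he t ht het using fun s : S => d.mem_F s.2
    have h1 : Nat.card S * p ≤ p ^ 3 * Nat.card C0 := by
      rw [← d.hE, ← d.hzp, ← Nat.card_zpowers, ← Nat.card_prod, ← Nat.card_prod]
      refine Nat.card_le_card_of_injective (fun q : S × zpowers z =>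
        ((⟨e q.1 * q.2, mul_mem (he _) ((zpowers_le.2 d.hzE) q.2.2)⟩ : E),
          (⟨(q.2 : G)⁻¹ * t q.1, mul_mem (inv_mem ((zpowers_le.2 d.hzC0) q.2.2)) (ht _)⟩ : C0))) ?_
      intro q r h
      have ha' : e q.1 * q.2 = e r.1 * r.2 := congrArg (fun w => ((w.1 : E) : G)) h
      have hb' : (q.2 : G)⁻¹ * t q.1 = (r.2 : G)⁻¹ * t r.1 := congrArg (fun w => ((w.2 : C0) : G)) h
      have hs : q.1 = r.1 := Subtype.ext (by
        rw [← het q.1, ← het r.1]
        calc e q.1 * t q.1 = (e q.1 * q.2) * ((q.2 : G)⁻¹ * t q.1) := by group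
          _ = e r.1 * t r.1 := by rw [ha', hb']; group)
      rw [hs] at ha'
      exact Prod.ext hs (Subtype.ext (mul_left_cancel ha'))
    let ι : P × C0 → S := fun q =>
      ⟨(q.1 : G) * q.2, mul_mem (d.mem_F_of_pgroup hPp hPO q.1.2) (mem_sup_right q.2.2)⟩
    have hι : Function.Injective ι := by
      intro q r h
      have h' : (q.1 : G) * q.2 = (r.1 : G) * r.2 := congrArg Subtype.val h
      have h2 : (r.1 : G)⁻¹ * q.1 = r.2 * (q.2 : G)⁻¹ := by
        calc (r.1 : G)⁻¹ * q.1 = (r.1 : G)⁻¹ * ((q.1 : G) * q.2) * (q.2 : G)⁻¹ := by group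
          _ = _ := by rw [h']; group
      have h3 := hPC _ (mul_mem (inv_mem r.1.2) q.1.2) (h2 ▸ mul_mem r.2.2 (inv_mem q.2.2))
      have h4 : r.1 = q.1 := Subtype.ext (inv_mul_eq_one.1 h3)
      rw [h4] at h'
      exact Prod.ext h4.symm (Subtype.ext (mul_left_cancel h'))
    have hbij : Function.Bijective ι := by
      refine hι.bijective_of_nat_card_le ?_
      rw [Nat.card_prod, hP]
      refine Nat.le_of_mul_le_mul_right (h1.trans (le_of_eq ?_)) d.hp.pos
      ring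
    have hPab : ∀ w w' : P, (w : G) * w' = w' * w := fun w w' => congrArg Subtype.val
      ((IsPGroup.isMulCommutative_of_card_eq_prime_sq hP).is_comm.comm w w')
    intro u hu v hv
    obtain ⟨⟨w, t₁⟩, hw⟩ := hbij.2 ⟨u, mem_sup_left hu⟩
    obtain ⟨⟨w', t₂⟩, hw'⟩ := hbij.2 ⟨v, mem_sup_left hv⟩
    have hu' : (w : G) * t₁ = u := congrArg Subtype.val hw
    have hv' : (w' : G) * t₂ = v := congrArg Subtype.val hw'
    have c1 : ∀ (s : C0) (y : G), y ∈ O → Commute (s : G) y := fun s y hy =>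
      (d.C0_central s.2 hy).symm
    rw [← hu', ← hv']
    exact ((Commute.mul_right (show Commute (w : G) w' from hPab w w') (c1 t₂ w (hPO w.2)).symm).mul_left
      ((c1 t₁ w' (hPO w'.2)).mul_right (c1 t₁ _ (d.C0_le t₂.2)))).eq

end ShapeData

/-- A subgroup of a cyclic normal subgroup is normal. -/
theorem le_normalizer_zpowers {H C0 : Subgroup G} [IsCyclic C0] (hn : H ≤ normalizer (C0 : Set G))
    {x : G} (hx : x ∈ C0) : H ≤ normalizer (zpowers x : Set G) := by
  refine fun h hh => mem_normalizer_iff_of_finite fun y hy => ?_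
  have hmem : ∀ w ∈ C0, h * w * h⁻¹ ∈ C0 := fun w hw => (mem_normalizer_iff.1 (hn hh) w).1 hw
  let φ : C0 →* C0 := ((MulAut.conj h).toMonoidHom.comp C0.subtype).codRestrict C0
    fun w => hmem w w.2
  obtain ⟨m, hm⟩ := MonoidHom.map_cyclic φ
  obtain ⟨i, rfl⟩ := mem_zpowers_iff.1 hy
  have e : h * x ^ i * h⁻¹ = (x ^ i) ^ m :=
    congrArg Subtype.val (hm ⟨x ^ i, zpow_mem hx i⟩)
  rw [e]
  exact zpow_mem (zpow_mem (mem_zpowers x) i) m

/-- `FreeData` in a minimal counterexample. -/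
theorem ShapeData.freeData_of_min {a b z : G} {E C0 : Subgroup G} {p c : ℕ}
    (d : ShapeData a b z (coreC a) E C0 p c) (M : Min G) (hmax : IsCoatom (cI a))
    (huniq : ∀ j, orderOf j = 2 → j * z = z * j → j = a)
    (hinv : ∀ j, orderOf j = 2 → j ∈ centralizer ({a} : Set G) → j ≠ a → j * z * j⁻¹ = z⁻¹)
    (hnC0 : cI a ≤ normalizer (C0 : Set G)) : FreeData a z (coreC a) p := by
  haveI := d.hcyc
  exact d.freeData (fun y hy hodd => M.mem_coreC d.ha hy hodd) huniq hinv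
    (fun j hj => M.one_class d.ha hj) (fun S hS h => M.isCyclic_of_unique_invol hS h)
    fun x hx hx1 => M.centralizer_le_of_normal d.ha hmax (d.hOa (d.C0_le hx)) hx1
      (le_normalizer_zpowers hnC0 hx)

end CfsgLib.GW.Component
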