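import Mathlib.Data.Nat.Choose.Dvd
import Mathlib.GroupTheory.SpecificGroups.Cyclic
import Mathlib.Tactic.Group
import Mathlib.Tactic.Linarith

/-!
Generic facts for the scalar case of the component leg: comparable elements of a cyclic group and
powers of a product in a group of class three.
-/

set_option autoImplicit false
set_option linter.unusedSectionVars false
set_option linter.style.haveILetI false

namespace CfsgLib.GW.Component

open Subgroup

variable {H : Type*} [Group H]

/-- In a cyclic group an element of order dividing the order of another one is a power of it. -/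
theorem mem_zpowers_of_dvd_in_cyclic [Finite H] {ρ x y : H} (hx : x ∈ zpowers ρ) (hy : y ∈ zpowers ρ)
    (hd : orderOf y ∣ orderOf x) : y ∈ zpowers x := by
  let K : Subgroup H :=
    { carrier := {w | w ∈ zpowers ρ ∧ w ^ orderOf x = 1}
      one_mem' := ⟨one_mem _, one_pow _⟩
      mul_mem' := fun {u v} hu hv => ⟨mul_mem hu.1 hv.1, by
        obtain ⟨i, rfl⟩ := hu.1
        obtain ⟨j, rfl⟩ := hv.1
        rw [((Commute.refl ρ).zpow_zpow i j).mul_pow, hu.2, hv.2, one_mul]⟩
      inv_mem' := fun {u} hu => ⟨inv_mem hu.1, by rw [inv_pow, hu.2, inv_one]⟩ }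
  have hxK : zpowers x ≤ K := zpowers_le.2 ⟨hx, pow_orderOf_eq_one x⟩
  have hyK : y ∈ K := ⟨hy, orderOf_dvd_iff_pow_eq_one.1 hd⟩
  have hK : K ≤ zpowers ρ := fun _ h => h.1
  haveI : IsCyclic K := isCyclic_of_injective (inclusion hK) (inclusion_injective hK)
  obtain ⟨⟨w, hw⟩, hgen⟩ := IsCyclic.exists_generator (α := K)
  have hcard : Nat.card K ≤ Nat.card (zpowers x) := by
    rw [Nat.card_zpowers, ← orderOf_eq_card_of_forall_mem_zpowers hgen, orderOf_mk]
    exact Nat.le_of_dvd (orderOf_pos x) (orderOf_dvd_of_pow_eq_one hw.2)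
  exact (eq_of_le_of_card_ge hxK hcard).symm ▸ hyK

variable {w t c z₁ z₂ : H}

section Power

variable (hwc : w * c = z₂ * c * w) (h2w : Commute z₂ w) (h2c : Commute z₂ c)

include hwc h2c in
theorem conj_c_pow (m : ℕ) : w * c ^ m = z₂ ^ m * c ^ m * w := by
  induction m with
  | zero => simp
  | succ m ih =>
    calc w * c ^ (m + 1) = w * c ^ m * c := by rw [pow_succ, mul_assoc]
      _ = z₂ ^ m * c ^ m * (w * c) := by rw [ih]; group
      _ = z₂ ^ m * (c ^ m * z₂) * c * w := by rw [hwc]; group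
      _ = z₂ ^ (m + 1) * c ^ (m + 1) * w := by rw [← (h2c.pow_right m).eq]; group

include hwc h2w h2c in
theorem mul_pow_class_two (n : ℕ) : (c * w) ^ n = z₂ ^ n.choose 2 * c ^ n * w ^ n := by
  induction n with
  | zero => simp
  | succ n ih =>
    rw [Nat.choose_succ_succ', Nat.choose_one_right]
    calc (c * w) ^ (n + 1) = c * (w * z₂ ^ n.choose 2) * c ^ n * w ^ n := by
          rw [pow_succ', ih]; group
      _ = (c * z₂ ^ n.choose 2) * (w * c ^ n) * w ^ n := by
          rw [← (h2w.pow_left _).eq]; group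
      _ = z₂ ^ n.choose 2 * (c * z₂ ^ n) * c ^ n * w * w ^ n := by
          rw [conj_c_pow hwc h2c n, ← (h2c.pow_left _).eq]; group
      _ = z₂ ^ (n + n.choose 2) * c ^ (n + 1) * w ^ (n + 1) := by
          rw [← (h2c.pow_left n).eq, add_comm n (n.choose 2), pow_add, pow_succ' c, pow_succ' w]
          group

end Power

variable (htw : t * w = c * w * t) (htc : t * c = z₁ * c * t) (hwc : w * c = z₂ * c * w)
  (h1w : Commute z₁ w) (h1c : Commute z₁ c) (h1t : Commute z₁ t)
  (h2w : Commute z₂ w) (h2c : Commute z₂ c) (h2t : Commute z₂ t) (h12 : Commute z₁ z₂)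

include htw htc h1c h1t in
theorem pow_conj_class_three (n : ℕ) : t ^ n * w = z₁ ^ n.choose 2 * c ^ n * w * t ^ n := by
  induction n with
  | zero => simp
  | succ n ih =>
    rw [Nat.choose_succ_succ', Nat.choose_one_right]
    calc t ^ (n + 1) * w = t * (t ^ n * w) := by rw [pow_succ', mul_assoc]
      _ = (t * z₁ ^ n.choose 2) * c ^ n * w * t ^ n := by rw [ih]; group
      _ = z₁ ^ n.choose 2 * (t * c ^ n) * w * t ^ n := by rw [← (h1t.pow_left _).eq]; group
      _ = z₁ ^ n.choose 2 * z₁ ^ n * c ^ n * (t * w) * t ^ n := by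
          rw [conj_c_pow htc h1c n]; group
      _ = z₁ ^ (n + n.choose 2) * c ^ (n + 1) * w * t ^ (n + 1) := by
          rw [htw, add_comm n (n.choose 2), pow_add, pow_succ c, pow_succ' t]; group

include htw htc hwc h1w h1c h1t h2w h2c h2t h12 in
theorem mul_pow_class_three (n : ℕ) : (w * t) ^ n =
    z₁ ^ n.choose 3 * z₂ ^ (2 * n.choose 3 + n.choose 2) * c ^ n.choose 2 * w ^ n * t ^ n := by
  induction n with
  | zero => simp
  | succ n ih =>
    obtain ⟨C, hC⟩ : ∃ C, C = n.choose 2 := ⟨_, rfl⟩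
    obtain ⟨f, hf⟩ : ∃ f, f = n.choose 3 := ⟨_, rfl⟩
    have e2 : (n + 1).choose 2 = C + n := by
      rw [Nat.choose_succ_succ', Nat.choose_one_right, hC, add_comm]
    have e3 : (n + 1).choose 3 = f + C := by
      rw [Nat.choose_succ_succ', hC, hf, add_comm]
    rw [← hC, ← hf] at ih
    rw [e2, e3]
    have hts : t * (c ^ C * w ^ n) = z₁ ^ C * z₂ ^ C * c ^ (C + n) * w ^ n * t := by
      have h : t * w ^ n = z₂ ^ C * c ^ n * w ^ n * t := by
        rw [hC, ← mul_pow_class_two hwc h2w h2c n]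
        exact (show SemiconjBy t w (c * w) from htw).pow_right n
      calc t * (c ^ C * w ^ n) = z₁ ^ C * c ^ C * (t * w ^ n) := by
            rw [← mul_assoc, conj_c_pow htc h1c C]; group
        _ = z₁ ^ C * (c ^ C * z₂ ^ C) * c ^ n * w ^ n * t := by rw [h]; group
        _ = _ := by rw [← (h2c.pow_pow C C).eq]; group
    calc (w * t) ^ (n + 1)
        = w * (t * (z₁ ^ f * z₂ ^ (2 * f + C))) * (c ^ C * w ^ n) * t ^ n := by
          rw [pow_succ', ih]; group
      _ = (w * (z₁ ^ f * z₂ ^ (2 * f + C))) * (t * (c ^ C * w ^ n)) * t ^ n := by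
          rw [← ((h1t.pow_left f).mul_left (h2t.pow_left (2 * f + C))).eq]; group
      _ = z₁ ^ f * z₂ ^ (2 * f + C) * (w * (z₁ ^ C * z₂ ^ C)) * c ^ (C + n) * w ^ n * t * t ^ n := by
          rw [hts, ← ((h1w.pow_left f).mul_left (h2w.pow_left (2 * f + C))).eq]; group
      _ = z₁ ^ f * z₂ ^ (2 * f + C) * (z₁ ^ C * z₂ ^ C) * (w * c ^ (C + n)) * w ^ n * t * t ^ n := by
          rw [← ((h1w.pow_left C).mul_left (h2w.pow_left C)).eq]; group
      _ = z₁ ^ f * (z₂ ^ (2 * f + C) * z₁ ^ C) * (z₂ ^ C * z₂ ^ (C + n)) * c ^ (C + n) * w * w ^ n *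
          t * t ^ n := by rw [conj_c_pow hwc h2c (C + n)]; group
      _ = z₁ ^ (f + C) * z₂ ^ (2 * (f + C) + (C + n)) * c ^ (C + n) * w ^ (n + 1) * t ^ (n + 1) := by
          rw [← (h12.pow_pow C (2 * f + C)).eq, pow_succ' w, pow_succ' t,
            show 2 * (f + C) + (C + n) = (2 * f + C) + C + (C + n) by ring]
          group

end CfsgLib.GW.Component
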