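import Cfsg.Agent.Lib.GW.Component.Cases
import Cfsg.Agent.Lib.GW.Component.NoCentBase
import Cfsg.Agent.Lib.GW.Component.FocalKill
import Cfsg.Agent.Lib.GW.Component.ScalarTools
import Cfsg.Agent.Lib.GW.Component.Alpha.Shape

/-!
The component leg, scalar case: an involution fixes a complement of `zP a p` in `eP a p`.  The
complement has order at most `p²`, and order `p²` only for `p = 3`.
-/

set_option autoImplicit false
set_option linter.unusedSectionVars false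
set_option linter.style.haveILetI false

namespace CfsgLib.GW

open Subgroup CfsgLib.Invol

universe u

variable {G : Type u} [Group G] [Finite G] {a b g : G} {p : ℕ}

/-- `b` is trivial on `eP a p` modulo `zP a p`. -/
structure ScalE (a b g : G) (p : ℕ) : Prop where
  mixed : Mixed a b g p
  triv : ∀ e ∈ eP a p, b * e * b⁻¹ * e⁻¹ ∈ zP a p

namespace ScalE

variable (C : Ctx G) (d : ScalE a b g p)
include C d

theorem hbc : b ∈ cI a := mem_cI.2 d.mixed.four.comm.symm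

theorem conj_fixed {r : G} (hr : r ∈ cI b) : b * r * b⁻¹ = r := by
  rw [← mem_cI.1 hr, mul_inv_cancel_right]

theorem eq_one_of_zP {r : G} (hrb : r ∈ cI b) (hz : r ∈ zP a p) : r = 1 := by
  have h : r ∈ zP a p ⊓ cI b := ⟨hz, hrb⟩
  rw [C.alpha a b g p d.mixed] at h
  exact h

/-- Elements of `eP` are products of fixed and central elements. -/
theorem decomp {e : G} (he : e ∈ eP a p) :
    ∃ r ∈ eP a p ⊓ cI b, ∃ z ∈ zP a p, e = r * z := by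
  obtain ⟨w, v, hw, hv, rfl, hwb, hvb⟩ := Alpha.exists_fixed_mul_inv
    ((odd_coreC a).of_dvd_nat (card_dvd_of_le ((eP_le_fitP a p).trans (fitP_le_coreC a p))))
    (invol_mul_self d.mixed.four.hb) (fun x hx => conj_mem_eP (d.hbc C) hx) he
  refine ⟨w, ⟨hw, mem_cI.2 hwb.eq.symm⟩, v, ?_, rfl⟩
  have h1 := d.triv v hv
  rw [hvb, ← mul_inv_rev] at h1
  obtain ⟨n, hn⟩ := Alpha.exists_sq_root
    (odd_orderOf_mem_coreC (fitP_le_coreC a p (eP_le_fitP a p hv)))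
  rw [← hn, ← (Commute.refl v).mul_pow]
  exact pow_mem (inv_mem_iff.1 h1) n

/-- The fixed part of `eP` centralises the fixed part of the `p`-core. -/
theorem comm_fixed {r x : G} (hr : r ∈ eP a p ⊓ cI b) (hx : x ∈ fitP a p ⊓ cI b) : Commute r x := by
  have h1 := comm_mem_of_eP hr.1 hx.1
  exact mul_inv_eq_iff_eq_mul.1 (mul_inv_eq_one.1 (d.eq_one_of_zP C
    (mul_mem (mul_mem (mul_mem hr.2 hx.2) (inv_mem hr.2)) (inv_mem hx.2)) h1))

/-- Conjugation by `r` moves `u` by the central commutator. -/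
theorem conj_r {r u : G} (hr : r ∈ eP a p) (hu : u ∈ fitP a p) :
    ∃ ζ ∈ zP a p, r * u * r⁻¹ = ζ * u ∧ ∀ y ∈ fitP a p, Commute ζ y :=
  ⟨r * u * r⁻¹ * u⁻¹, comm_mem_of_eP hr hu, by rw [inv_mul_cancel_right],
    fun y hy => (comm_mem_of_eP hr hu).2.1 y hy⟩

/-- Commutators of the `p`-core centralise `eP`. -/
theorem comm_comm {r t w : G} (hr : r ∈ eP a p) (ht : t ∈ fitP a p) (hw : w ∈ fitP a p) :
    Commute r (t * w * t⁻¹ * w⁻¹) := by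
  obtain ⟨ζ, -, h1, hζ⟩ := d.conj_r C hr ht
  obtain ⟨η, hη', h2, hη⟩ := d.conj_r C hr hw
  refine mul_inv_eq_iff_eq_mul.1 ?_
  calc r * (t * w * t⁻¹ * w⁻¹) * r⁻¹
      = (r * t * r⁻¹) * (r * w * r⁻¹) * (r * t * r⁻¹)⁻¹ * (r * w * r⁻¹)⁻¹ := by group
    _ = ζ * t * (η * w) * (t⁻¹ * ζ⁻¹) * (w⁻¹ * η⁻¹) := by rw [h1, h2, mul_inv_rev, mul_inv_rev]
    _ = ζ * t * η * (w * t⁻¹) * (ζ⁻¹ * w⁻¹) * η⁻¹ := by group
    _ = ζ * (t * η) * (w * t⁻¹ * w⁻¹) * ζ⁻¹ * η⁻¹ := by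
      rw [((hζ w hw).inv_inv).eq]; group
    _ = (ζ * η) * (t * w * t⁻¹ * w⁻¹) * (ζ⁻¹ * η⁻¹) := by rw [← (hη t ht).eq]; group
    _ = (t * w * t⁻¹ * w⁻¹) * (ζ * η) * (ζ⁻¹ * η⁻¹) := by
      rw [((hζ _ (mul_mem (mul_mem (mul_mem ht hw) (inv_mem ht)) (inv_mem hw))).mul_left
        (hη _ (mul_mem (mul_mem (mul_mem ht hw) (inv_mem ht)) (inv_mem hw)))).eq]
    _ = t * w * t⁻¹ * w⁻¹ := by
      rw [(hζ η (zP_le_fitP a p hη')).eq]; group

/-- The elements of the centralizer of `r` in the `p`-core inverted by `b` lie in a cyclic group. -/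
theorem inverted_cyclic {r : G} (hr : r ∈ fitP a p) (hrb : r ∈ cI b) (hr1 : r ≠ 1) :
    ∃ v ∈ fitP a p, b * v * b⁻¹ = v⁻¹ ∧ Commute v r ∧
      ∀ v' ∈ fitP a p, b * v' * b⁻¹ = v'⁻¹ → Commute v' r → v' ∈ zpowers v := by
  classical
  have h := d.mixed
  haveI := Fact.mk h.hp
  have hw := C.min.fixed_mem_core h.four.hb (fitP_le_coreC a p hr) hrb
  have hwz : ∀ z ∈ zP a p, Commute r z := fun z hz => (hz.2.1 r hr).symm
  obtain ⟨l, hlr, hla⟩ := h.exists_rot C hw hwz (h.rot_inv_mem C hw hwz)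
  set M := cI r
  have haM : a ∈ M := mem_cI.2 (mem_cI.1 (coreC_le_cI a hw.1)).symm
  have hbM : b ∈ M := mem_cI.2 (mem_cI.1 (coreC_le_cI b hw.2)).symm
  have hlM : l ∈ M := mem_cI.2 hlr.eq
  have hZM : zP a p ≤ M := fun y hy => mem_cI.2 (hwz y hy).eq.symm
  obtain ⟨R, ρ, hρR, hRle, hcyc, hR⟩ := C.torus M (C.min.cI_ne_top hr1) a h.four.ha haM
  obtain ⟨hR1, -⟩ := hR b hbM h.four.hb h.four.comm.symm h.four.hab.symm
  haveI : (Cfsg.oddCore ↥M).Normal := CfsgLib.Solvable.pPrimeCore_normal 2 _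
  set π := QuotientGroup.mk' (Cfsg.oddCore ↥M) with hπ
  have hmem : ∀ (y : M), (y : G) ∈ fitP a p → b * (y : G) * b⁻¹ = (y : G)⁻¹ →
      π y ∈ zpowers (π ⟨ρ, (hRle hρR).1⟩) := by
    intro y hy hyi
    obtain ⟨i, t, ht, hte⟩ := hcyc y (hR1 y ⟨y.2, fitP_le_coreC a p hy⟩ hyi)
    refine ⟨i, ?_⟩
    show (π ⟨ρ, (hRle hρR).1⟩) ^ (i : ℤ) = π y
    rw [zpow_natCast, ← map_pow]
    refine QuotientGroup.eq.2 ?_
    have e : (⟨ρ, (hRle hρR).1⟩ ^ i)⁻¹ * y = t :=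
      Subtype.ext (hte.symm : (ρ ^ i)⁻¹ * (y : G) = M.subtype t)
    exact e.symm ▸ ht
  haveI : Nonempty {y : M // (y : G) ∈ fitP a p ∧ b * (y : G) * b⁻¹ = (y : G)⁻¹} :=
    ⟨⟨1, one_mem _, by simp⟩⟩
  obtain ⟨⟨v, hvU, hvi⟩, hmax⟩ := Finite.exists_max
    (fun y : {y : M // (y : G) ∈ fitP a p ∧ b * (y : G) * b⁻¹ = (y : G)⁻¹} => orderOf (π y.1))
  refine ⟨v, hvU, hvi, mem_cI.1 v.2, fun v' hv' hi' hc' => ?_⟩
  set y : M := ⟨v', mem_cI.2 hc'.eq⟩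
  have hpo : ∀ x : M, (x : G) ∈ fitP a p → ∃ k, orderOf (π x) = p ^ k := fun x hx => by
    obtain ⟨k, hk⟩ := isPGroup_fitP a p ⟨x, hx⟩
    obtain ⟨i, -, hi⟩ := (Nat.dvd_prime_pow h.hp).1 (orderOf_dvd_of_pow_eq_one
      (show π x ^ p ^ k = 1 by rw [← map_pow, show x ^ p ^ k = 1 from
        Subtype.ext (congrArg Subtype.val hk :), map_one]))
    exact ⟨i, hi⟩
  obtain ⟨k, hk⟩ := hpo v hvU
  obtain ⟨k', hk'⟩ := hpo y hv'
  have hd : orderOf (π y) ∣ orderOf (π v) := by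
    have h1 := hmax ⟨y, hv', hi'⟩
    simp only [hk, hk'] at h1
    rw [hk, hk']
    exact pow_dvd_pow p ((Nat.pow_le_pow_iff_right h.hp.one_lt).1 h1)
  obtain ⟨i, hi⟩ := Component.mem_zpowers_of_dvd_in_cyclic (hmem v hvU hvi) (hmem y hv' hi') hd
  replace hi : π v ^ i = π y := hi
  -- the kernel
  set K : Subgroup G := coreK M ⊓ fitP a p
  have hKb : ∀ x ∈ K, b * x * b⁻¹ ∈ K := fun x hx =>
    ⟨Alpha.conj_mem_coreK hbM hx.1, conj_mem_fitP (d.hbc C) hx.2⟩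
  have hKfix : ∀ x ∈ K, Commute b x := by
    intro x hx
    obtain ⟨w, v0, hw0, hv0, rfl, hwb, hvb⟩ := Alpha.exists_fixed_mul_inv
      ((odd_coreC a).of_dvd_nat (card_dvd_of_le (inf_le_right.trans (fitP_le_coreC a p) : K ≤ coreC a)))
      (invol_mul_self h.four.hb) hKb hx
    have h1 : v0 = 1 := h.eq_one_of_coreK C haM hbM hlM hla hZM (isPGroup_fitP a p) hv0.2
      (fitP_le_coreC a p hv0.2) hv0.1 hvb
    rw [h1, mul_one]
    exact hwb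
  have hvi' : b * (v : G) ^ i * b⁻¹ = ((v : G) ^ i)⁻¹ := by rw [← conj_zpow, hvi, inv_zpow]
  have hn : ((v : G) ^ i)⁻¹ * v' ∈ K := by
    refine ⟨⟨(v ^ i)⁻¹ * y, (QuotientGroup.eq_one_iff _).1 ?_, rfl⟩,
      (fitP a p).mul_mem ((fitP a p).inv_mem ((fitP a p).zpow_mem hvU i)) hv'⟩
    show π ((v ^ i)⁻¹ * y) = 1
    rw [map_mul, map_inv, map_zpow, hi, inv_mul_cancel]
  have h2 := (hKfix _ hn).eq
  have h3 : (v : G) ^ i * v'⁻¹ = ((v : G) ^ i)⁻¹ * v' := by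
    calc (v : G) ^ i * v'⁻¹ = (b * (v : G) ^ i * b⁻¹)⁻¹ * (b * v' * b⁻¹) := by
          rw [hvi', hi', inv_inv]
      _ = b * (((v : G) ^ i)⁻¹ * v') * b⁻¹ := by group
      _ = _ := by rw [h2, mul_inv_cancel_right]
  have h4 : v' * v' = (v : G) ^ i * (v : G) ^ i := by
    calc v' * v' = (v : G) ^ i * (((v : G) ^ i)⁻¹ * v') * v' := by group
      _ = (v : G) ^ i * ((v : G) ^ i * v'⁻¹) * v' := by rw [h3]
      _ = _ := by group
  obtain ⟨n, hn'⟩ := Alpha.exists_sq_root (odd_orderOf_mem_coreC (fitP_le_coreC a p hv'))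
  rw [← hn', ← (Commute.refl v').mul_pow, h4]
  exact pow_mem (mul_mem (zpow_mem (mem_zpowers _) i) (zpow_mem (mem_zpowers _) i)) n

/-- The generator of the inverted part of `C(r₁)` does not centralise an independent `r₂`. -/
theorem not_commute {r₁ r₂ v : G} (h₁ : r₁ ∈ eP a p ⊓ cI b) (h1' : r₁ ≠ 1)
    (h₂ : r₂ ∈ eP a p ⊓ cI b) (h₂' : r₂ ∉ zpowers r₁)
    (hgen : ∀ v' ∈ fitP a p, b * v' * b⁻¹ = v'⁻¹ → Commute v' r₁ → v' ∈ zpowers v) :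
    ¬ Commute v r₂ := by
  intro hc
  have h := d.mixed
  haveI := Fact.mk h.hp
  have hall : ∀ u ∈ fitP a p, Commute r₁ u → Commute r₂ u := by
    intro u hu hru
    obtain ⟨w, v', hw, hv', rfl, hwb, hvb⟩ := Alpha.exists_fixed_mul_inv
      ((odd_coreC a).of_dvd_nat (card_dvd_of_le
        (inf_le_left.trans (fitP_le_coreC a p) : fitP a p ⊓ cI r₁ ≤ coreC a)))
      (invol_mul_self h.four.hb) (fun x hx => ⟨conj_mem_fitP (d.hbc C) hx.1, by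
        have hb1 : Commute b r₁ := (mem_cI.1 h₁.2).symm
        exact mem_cI.2 (((hb1.mul_left (mem_cI.1 hx.2)).mul_left hb1.inv_left).eq)⟩)
      (mem_inf.2 ⟨hu, mem_cI.2 hru.eq.symm⟩)
    refine (d.comm_fixed C h₂ ⟨hw.1, mem_cI.2 hwb.eq.symm⟩).mul_right ?_
    obtain ⟨i, rfl⟩ := hgen v' hv'.1 hvb (mem_cI.1 hv'.2)
    exact (hc.zpow_left i).symm
  -- some element moves `r₁`
  obtain ⟨u₀, hu₀, hu₀'⟩ : ∃ u ∈ fitP a p, ¬ Commute r₁ u := by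
    by_contra hno
    push Not at hno
    exact h1' (d.eq_one_of_zP C h₁.2 ⟨eP_le_fitP a p h₁.1, hno, pow_eq_one_of_eP h₁.1⟩)
  obtain ⟨ζ, hζ, e1, hζc⟩ := d.conj_r C h₁.1 hu₀
  obtain ⟨η, hη, e2, -⟩ := d.conj_r C h₂.1 hu₀
  obtain ⟨z₀, hzo, hall'⟩ := h.exists_generator C
  have hζ1 : ζ ≠ 1 := fun e => hu₀' (mul_inv_eq_iff_eq_mul.1 (e1.trans (by rw [e, one_mul])))
  have hgenζ : ∀ x ∈ zP a p, x ∈ zpowers ζ := by
    intro x hx
    have : zpowers ζ = zP a p := eq_of_le_of_card_ge (zpowers_le.2 hζ) (by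
      rw [hall', Nat.card_zpowers, Nat.card_zpowers, hzo, orderOf_eq_prime hζ.2.2 hζ1])
    rwa [this]
  have hpw : ∀ n : ℕ, ∀ u ∈ fitP a p, ∀ θ ∈ zP a p, r₁ * u * r₁⁻¹ = θ * u →
      r₁ ^ n * u * (r₁ ^ n)⁻¹ = θ ^ n * u := by
    intro n u hu θ hθ e
    induction n with
    | zero => simp
    | succ n ih =>
      calc r₁ ^ (n + 1) * u * (r₁ ^ (n + 1))⁻¹ = r₁ * (r₁ ^ n * u * (r₁ ^ n)⁻¹) * r₁⁻¹ := by group
        _ = (r₁ * θ ^ n * r₁⁻¹) * (r₁ * u * r₁⁻¹) := by rw [ih]; group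
        _ = θ ^ (n + 1) * u := by
          rw [e, ← ((hθ.2.1 r₁ (eP_le_fitP a p h₁.1)).pow_left n).eq, mul_inv_cancel_right,
            ← mul_assoc, pow_succ]
  obtain ⟨n, hn⟩ := mem_powers_iff_mem_zpowers.2 (hgenζ η hη)
  replace hn : ζ ^ n = η := hn
  set r := r₂ * (r₁ ^ n)⁻¹
  have hr : r ∈ eP a p ⊓ cI b := mul_mem h₂ (inv_mem (pow_mem h₁ n))
  have hru₀ : Commute r u₀ := by
    refine mul_inv_eq_iff_eq_mul.1 ?_
    have e3 : (r₁ ^ n)⁻¹ * u₀ * r₁ ^ n = η⁻¹ * u₀ := by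
      have h5 := hpw n u₀ hu₀ ζ hζ e1
      rw [hn] at h5
      calc (r₁ ^ n)⁻¹ * u₀ * r₁ ^ n = (r₁ ^ n)⁻¹ * (η⁻¹ * (η * u₀)) * r₁ ^ n := by group
        _ = ((r₁ ^ n)⁻¹ * η⁻¹ * r₁ ^ n) * u₀ := by rw [← h5]; group
        _ = η⁻¹ * u₀ := by
          rw [(((hη.2.1 r₁ (eP_le_fitP a p h₁.1)).pow_right n).inv_inv).eq.symm, inv_mul_cancel_right]
    calc r * u₀ * r⁻¹ = r₂ * ((r₁ ^ n)⁻¹ * u₀ * r₁ ^ n) * r₂⁻¹ := by simp only [r]; group
      _ = (r₂ * η⁻¹ * r₂⁻¹) * (r₂ * u₀ * r₂⁻¹) := by rw [e3]; group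
      _ = u₀ := by
        rw [e2, ← ((hη.2.1 r₂ (eP_le_fitP a p h₂.1)).inv_left).eq, mul_inv_cancel_right,
          inv_mul_cancel_left]
  have hrz : r ∈ zP a p := by
    refine ⟨eP_le_fitP a p hr.1, fun u hu => ?_, pow_eq_one_of_eP hr.1⟩
    obtain ⟨θ, hθ, e, hθc⟩ := d.conj_r C h₁.1 hu
    obtain ⟨m, hm⟩ := mem_powers_iff_mem_zpowers.2 (hgenζ θ hθ)
    replace hm : ζ ^ m = θ := hm
    have hc1 : Commute r₁ ((u₀ ^ m)⁻¹ * u) := by
      refine mul_inv_eq_iff_eq_mul.1 ?_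
      calc r₁ * ((u₀ ^ m)⁻¹ * u) * r₁⁻¹ = ((r₁ * u₀ * r₁⁻¹) ^ m)⁻¹ * (r₁ * u * r₁⁻¹) := by
            rw [conj_pow]; group
        _ = ((u₀ ^ m)⁻¹ * (θ⁻¹ * θ)) * u := by rw [e1, e, (hζc u₀ hu₀).mul_pow, hm]; group
        _ = _ := by rw [inv_mul_cancel, mul_one]
    have hc2 : Commute r ((u₀ ^ m)⁻¹ * u) :=
      (hall _ (mul_mem (inv_mem (pow_mem hu₀ m)) hu) hc1).mul_left (hc1.pow_left n).inv_left
    have := (hru₀.pow_right m).mul_right hc2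
    rwa [mul_inv_cancel_left] at this
  have := d.eq_one_of_zP C hr.2 hrz
  rw [mul_inv_eq_one] at this
  exact h₂' (this ▸ pow_mem (mem_zpowers r₁) n)

/-- The fixed complement has order at most `p ^ 2`. -/
theorem card_le : Nat.card (eP a p ⊓ cI b : Subgroup G) ≤ p ^ 2 := by
  classical
  have h := d.mixed
  haveI := Fact.mk h.hp
  set R := eP a p ⊓ cI b
  obtain ⟨z₀, hzo, hall⟩ := h.exists_generator C
  have hzc : Nat.card (zP a p) = p := by rw [hall, Nat.card_zpowers, hzo]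
  by_cases hcyc : ∀ r₁ ∈ R, ∀ r₂ ∈ R, r₁ ≠ 1 → r₂ ∈ zpowers r₁
  · by_cases hb : R = ⊥
    · rw [hb, card_bot]; exact Nat.one_le_pow _ _ h.hp.pos
    obtain ⟨r₁, h₁, h1'⟩ := (bot_or_exists_ne_one R).resolve_left hb
    refine (card_le_of_le (fun r₂ h₂ => hcyc r₁ h₁ r₂ h₂ h1' : R ≤ zpowers r₁)).trans ?_
    rw [Nat.card_zpowers]
    exact (Nat.le_of_dvd h.hp.pos (orderOf_dvd_of_pow_eq_one (pow_eq_one_of_eP h₁.1))).trans
      (Nat.le_self_pow two_ne_zero p)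
  push Not at hcyc
  obtain ⟨r₁, h₁, r₂, h₂, h1', h2'⟩ := hcyc
  have h2'' : r₂ ≠ 1 := fun e => h2' (e ▸ one_mem _)
  have h12 : r₁ ∉ zpowers r₂ := fun hm => h2' (by
    have : zpowers r₁ = zpowers r₂ := eq_of_le_of_card_ge (zpowers_le.2 hm) (by
      rw [Nat.card_zpowers, Nat.card_zpowers, orderOf_eq_prime (pow_eq_one_of_eP h₁.1) h1',
        orderOf_eq_prime (pow_eq_one_of_eP h₂.1) h2''])
    exact this.symm ▸ mem_zpowers r₂)
  obtain ⟨v₁, hv₁, hi₁, hc₁, hg₁⟩ := d.inverted_cyclic C (eP_le_fitP a p h₁.1) h₁.2 h1'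
  obtain ⟨v₂, hv₂, hi₂, hc₂, hg₂⟩ := d.inverted_cyclic C (eP_le_fitP a p h₂.1) h₂.2 h2''
  let f : R → zP a p × zP a p := fun r =>
    (⟨_, comm_mem_of_eP r.2.1 hv₁⟩, ⟨_, comm_mem_of_eP r.2.1 hv₂⟩)
  have hf : Function.Injective f := by
    intro r r' e
    have e₁ : (r : G) * v₁ * (r : G)⁻¹ * v₁⁻¹ = r' * v₁ * (r' : G)⁻¹ * v₁⁻¹ :=
      congrArg (fun x : zP a p × zP a p => ((x.1 : zP a p) : G)) e
    have e₂ : (r : G) * v₂ * (r : G)⁻¹ * v₂⁻¹ = r' * v₂ * (r' : G)⁻¹ * v₂⁻¹ :=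
      congrArg (fun x : zP a p × zP a p => ((x.2 : zP a p) : G)) e
    have key : ∀ v : G, (r : G) * v * (r : G)⁻¹ * v⁻¹ = r' * v * (r' : G)⁻¹ * v⁻¹ →
        Commute ((r' : G)⁻¹ * r) v := fun v hv => by
      refine mul_inv_eq_iff_eq_mul.1 ?_
      calc (r' : G)⁻¹ * r * v * ((r' : G)⁻¹ * r)⁻¹
          = (r' : G)⁻¹ * ((r : G) * v * (r : G)⁻¹ * v⁻¹) * v * r' := by group
        _ = v := by rw [hv]; group
    set s : G := (r' : G)⁻¹ * r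
    by_contra hne
    have hs : s ∈ R := mul_mem (inv_mem r'.2) r.2
    have hs1 : s ≠ 1 := fun e' => hne (Subtype.ext (inv_mul_eq_one.1 e').symm)
    obtain ⟨v, hv, hi, -, hg⟩ := d.inverted_cyclic C (eP_le_fitP a p hs.1) hs.2 hs1
    have m₁ := hg v₁ hv₁ hi₁ (key v₁ e₁).symm
    have m₂ := hg v₂ hv₂ hi₂ (key v₂ e₂).symm
    have hpo : ∀ x ∈ fitP a p, ∃ k, orderOf x = p ^ k := fun x hx => by
      obtain ⟨k, hk⟩ := isPGroup_fitP a p ⟨x, hx⟩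
      obtain ⟨i, -, hi⟩ := (Nat.dvd_prime_pow h.hp).1
        (orderOf_dvd_of_pow_eq_one (congrArg Subtype.val hk :) : orderOf x ∣ p ^ k)
      exact ⟨i, hi⟩
    obtain ⟨k₁, hk₁⟩ := hpo v₁ hv₁
    obtain ⟨k₂, hk₂⟩ := hpo v₂ hv₂
    rcases le_total k₁ k₂ with hle | hle
    · obtain ⟨i, hi⟩ := Component.mem_zpowers_of_dvd_in_cyclic m₂ m₁
        (by rw [hk₁, hk₂]; exact pow_dvd_pow p hle)
      exact d.not_commute C h₁ h1' h₂ h2' hg₁ (hi ▸ hc₂.zpow_left i)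
    · obtain ⟨i, hi⟩ := Component.mem_zpowers_of_dvd_in_cyclic m₁ m₂
        (by rw [hk₁, hk₂]; exact pow_dvd_pow p hle)
      exact d.not_commute C h₂ h2'' h₁ h12 hg₂ (hi ▸ hc₁.zpow_left i)
  have hle := Nat.card_le_card_of_injective f hf
  rw [Nat.card_prod, hzc, ← pow_two] at hle
  exact hle

/-- Complements of order `p ^ 2` force `p = 3`. -/
theorem eq_three (hcard : Nat.card (eP a p ⊓ cI b : Subgroup G) = p ^ 2) : p = 3 := by
  classical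
  by_contra hp3
  have h := d.mixed
  haveI := Fact.mk h.hp
  have hp5 : 4 ≤ p := by
    rcases Nat.lt_or_ge p 4 with hlt | hge
    · have := h.hp.two_le; have := h.ne_two; omega
    · exact hge
  set R := eP a p ⊓ cI b
  obtain ⟨z₀, hzo, hall⟩ := h.exists_generator C
  have hzc : Nat.card (zP a p) = p := by rw [hall, Nat.card_zpowers, hzo]
  obtain ⟨r₁, h₁, h1'⟩ := (bot_or_exists_ne_one R).resolve_left fun e => by
    rw [e, card_bot] at hcard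
    exact (Nat.one_lt_pow two_ne_zero h.hp.one_lt).ne hcard
  obtain ⟨r₂, h₂, h2'⟩ : ∃ r ∈ R, r ∉ zpowers r₁ := by
    by_contra hno
    push Not at hno
    have := card_le_of_le (hno : R ≤ zpowers r₁)
    rw [hcard, Nat.card_zpowers, orderOf_eq_prime (pow_eq_one_of_eP h₁.1) h1'] at this
    have := h.hp.two_le
    nlinarith
  have h2'' : r₂ ≠ 1 := fun e => h2' (e ▸ one_mem _)
  have h12 : r₁ ∉ zpowers r₂ := fun hm => h2' (by
    have : zpowers r₁ = zpowers r₂ := eq_of_le_of_card_ge (zpowers_le.2 hm) (by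
      rw [Nat.card_zpowers, Nat.card_zpowers, orderOf_eq_prime (pow_eq_one_of_eP h₁.1) h1',
        orderOf_eq_prime (pow_eq_one_of_eP h₂.1) h2''])
    exact this.symm ▸ mem_zpowers r₂)
  obtain ⟨v₁, hv₁, hi₁, hc₁, hg₁⟩ := d.inverted_cyclic C (eP_le_fitP a p h₁.1) h₁.2 h1'
  obtain ⟨v₂, hv₂, hi₂, hc₂, hg₂⟩ := d.inverted_cyclic C (eP_le_fitP a p h₂.1) h₂.2 h2''
  have hn₁ : ¬ Commute v₁ r₂ := d.not_commute C h₁ h1' h₂ h2' hg₁
  have hn₂ : ¬ Commute v₂ r₁ := d.not_commute C h₂ h2'' h₁ h12 hg₂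
  -- `p`-th powers centralise the complement
  have hpow : ∀ r ∈ R, ∀ v ∈ fitP a p, Commute r (v ^ p) := by
    intro r hr v hv
    obtain ⟨ζ, hζ, e, hζc⟩ := d.conj_r C hr.1 hv
    refine mul_inv_eq_iff_eq_mul.1 ?_
    rw [← conj_pow, e, (hζc v hv).mul_pow, hζ.2.2, one_mul]
  -- a power of `v` centralising both lies among the `p`-th powers
  have hsub : ∀ {v r s : G}, v ∈ fitP a p → Commute v r → ¬ Commute v s → ∀ x ∈ zpowers v,
      Commute x s → ∃ j : ℤ, (v ^ p) ^ j = x := by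
    intro v r s hv _ hns x hx hxs
    obtain ⟨i, rfl⟩ := hx
    by_cases hd : (p : ℤ) ∣ i
    · obtain ⟨j, rfl⟩ := hd
      exact ⟨j, by show (v ^ p) ^ j = v ^ ((p : ℤ) * j); rw [zpow_mul, zpow_natCast]⟩
    · exfalso
      refine hns ?_
      obtain ⟨k, hk⟩ := isPGroup_fitP a p ⟨v, hv⟩
      obtain ⟨s', t', hst⟩ : IsCoprime i ((p : ℤ) ^ k) :=
        (((Nat.prime_iff_prime_int.1 h.hp).coprime_iff_not_dvd.2 hd).symm).pow_right
      have hvk : v ^ ((p : ℤ) ^ k) = 1 := by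
        rw [← Nat.cast_pow, zpow_natCast]; exact congrArg Subtype.val hk
      have : v = (v ^ i) ^ s' := by
        calc v = v ^ (s' * i + t' * (p : ℤ) ^ k) := by rw [hst, zpow_one]
          _ = (v ^ i) ^ s' := by
            rw [zpow_add, mul_comm t', zpow_mul v ((p : ℤ) ^ k), hvk, one_zpow, mul_one, mul_comm,
              zpow_mul]
      rw [this]
      exact hxs.zpow_left s'
  have hinvp : ∀ {v : G}, b * v * b⁻¹ = v⁻¹ → ∀ n : ℕ, b * v ^ n * b⁻¹ = (v ^ n)⁻¹ := fun hv n => by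
    rw [← conj_pow, hv, inv_pow]
  obtain ⟨j₁, hj₁⟩ := hsub hv₁ hc₁ hn₁ (v₂ ^ p)
    (hg₁ _ (pow_mem hv₂ p) (hinvp hi₂ p) (hpow r₁ h₁ v₂ hv₂).symm) (hc₂.pow_left p)
  obtain ⟨j₂, hj₂⟩ := hsub hv₂ hc₂ hn₂ (v₁ ^ p)
    (hg₂ _ (pow_mem hv₁ p) (hinvp hi₁ p) (hpow r₂ h₂ v₁ hv₁).symm) (hc₁.pow_left p)
  -- the square root
  obtain ⟨n, hn⟩ := Alpha.exists_sq_root (odd_orderOf_mem_coreC (fitP_le_coreC a p hv₁))
  set t := v₂ with htdef
  set v := (v₁ ^ (-j₁)) ^ n with hvdef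
  set w := v₁ ^ (-j₁) with hwdef
  have hvv : v * v = w := by
    rw [hvdef, ← (Commute.refl w).mul_pow, hwdef, ← (Commute.refl v₁).mul_zpow,
      ← zpow_natCast, ← zpow_mul, mul_comm, zpow_mul, zpow_natCast, (Commute.refl v₁).mul_pow, hn]
  have hwU : w ∈ fitP a p := zpow_mem hv₁ _
  have hvU : v ∈ fitP a p := pow_mem hwU _
  have hwt : w ^ p * t ^ p = 1 := by
    rw [hwdef, ← zpow_natCast (v₁ ^ (-j₁)), ← zpow_mul, mul_comm, zpow_mul, zpow_natCast, ← hj₁,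
      ← zpow_add, neg_add_cancel, zpow_zero]
  -- `c` and its decomposition
  set c := t * w * t⁻¹ * w⁻¹ with hcdef
  have hcU : c ∈ fitP a p := mul_mem (mul_mem (mul_mem hv₂ hwU) (inv_mem hv₂)) (inv_mem hwU)
  obtain ⟨x, q, hx, hq, hxq, hxb, hqb⟩ := Alpha.exists_fixed_mul_inv
    ((odd_coreC a).of_dvd_nat (card_dvd_of_le ((inf_le_left.trans inf_le_left).trans
      (fitP_le_coreC a p) : fitP a p ⊓ cI r₁ ⊓ cI r₂ ≤ coreC a)))
    (invol_mul_self h.four.hb) (fun x hx => by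
      have hb1 : Commute b r₁ := (mem_cI.1 h₁.2).symm
      have hb2 : Commute b r₂ := (mem_cI.1 h₂.2).symm
      exact ⟨⟨conj_mem_fitP (d.hbc C) hx.1.1,
        mem_cI.2 (((hb1.mul_left (mem_cI.1 hx.1.2)).mul_left hb1.inv_left).eq)⟩,
        mem_cI.2 (((hb2.mul_left (mem_cI.1 hx.2)).mul_left hb2.inv_left).eq)⟩)
    (show c ∈ fitP a p ⊓ cI r₁ ⊓ cI r₂ from
      ⟨⟨hcU, mem_cI.2 (d.comm_comm C h₁.1 hv₂ hwU).eq.symm⟩,
        mem_cI.2 (d.comm_comm C h₂.1 hv₂ hwU).eq.symm⟩)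
  obtain ⟨j, hj⟩ := hsub hv₁ hc₁ hn₁ q (hg₁ q hq.1.1 hqb (mem_cI.1 hq.1.2)) (mem_cI.1 hq.2)
  have hv1pt : Commute (v₁ ^ p) t := by
    rw [← hj₂]; exact ((Commute.refl t).pow_left p).zpow_left j₂
  have hv1pw : Commute (v₁ ^ p) w := ((Commute.refl v₁).pow_left p).zpow_right _
  have hqt : Commute q t := hj ▸ hv1pt.zpow_left j
  have hqw : Commute q w := hj ▸ hv1pw.zpow_left j
  have hcp : Commute c (v₁ ^ p) :=
    (((hv1pt.mul_right hv1pw).mul_right hv1pt.inv_right).mul_right hv1pw.inv_right).symm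
  have hqp : Commute q (v₁ ^ p) := hj ▸ (Commute.refl (v₁ ^ p)).zpow_left j
  have hxp : Commute x (v₁ ^ p) := by
    have h5 := hcp.mul_left hqp.inv_left
    rwa [hxq, mul_inv_cancel_right] at h5
  have hxp' : Commute x (v₂ ^ p) := by rw [← hj₁]; exact hxp.zpow_right j₁
  -- the commutators with `x` are central
  have hdel : ∀ {v r : G}, v ∈ fitP a p → b * v * b⁻¹ = v⁻¹ → r ∈ R → r ≠ 1 → Commute v r →
      (∀ v' ∈ fitP a p, b * v' * b⁻¹ = v'⁻¹ → Commute v' r → v' ∈ zpowers v) → Commute x r →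
      Commute x (v ^ p) → x * v * x⁻¹ * v⁻¹ ∈ zP a p := by
    intro v r hv hvi hr hr1 hvr hg hxr hxvp
    have hbx : b * x * b⁻¹ = x := by rw [hxb.eq, mul_inv_cancel_right]
    have hinv' : b * (x * v * x⁻¹) * b⁻¹ = (x * v * x⁻¹)⁻¹ := by
      calc b * (x * v * x⁻¹) * b⁻¹ = (b * x * b⁻¹) * (b * v * b⁻¹) * (b * x * b⁻¹)⁻¹ := by group
        _ = _ := by rw [hbx, hvi]; group
    obtain ⟨i, hi⟩ := hg _ (mul_mem (mul_mem hx.1.1 hv) (inv_mem hx.1.1)) hinv'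
      ((hxr.mul_left hvr).mul_left hxr.inv_left)
    replace hi : v ^ i = x * v * x⁻¹ := hi
    have hδ : x * v * x⁻¹ * v⁻¹ = v ^ (i - 1) := by rw [zpow_sub_one, hi]
    rw [hδ]
    have hw := C.min.fixed_mem_core h.four.hb (fitP_le_coreC a p (eP_le_fitP a p hr.1)) hr.2
    refine h.mem_zP_of_inverted0 C (fun z hz => (hz.2.1 r (eP_le_fitP a p hr.1)).symm) hw hr1
      (zpow_mem hv _) (by rw [← conj_zpow, hvi, inv_zpow]) ?_ (hvr.zpow_left _)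
    rw [← zpow_natCast, ← zpow_mul, mul_comm, zpow_mul, zpow_natCast, zpow_sub_one,
      show (v ^ p) ^ i = (x * v * x⁻¹) ^ p by
        rw [← hi, ← zpow_natCast, ← zpow_mul, mul_comm, zpow_mul, zpow_natCast],
      conj_pow, hxvp.eq, mul_inv_cancel_right, mul_inv_cancel]
  have hδ1 : x * v₁ * x⁻¹ * v₁⁻¹ ∈ zP a p :=
    hdel hv₁ hi₁ h₁ h1' hc₁ hg₁ (mem_cI.1 hx.1.2) hxp
  have hδt : x * t * x⁻¹ * t⁻¹ ∈ zP a p :=
    hdel hv₂ hi₂ h₂ h2'' hc₂ hg₂ (mem_cI.1 hx.2) hxp'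
  have hδw : x * w * x⁻¹ * w⁻¹ ∈ zP a p := by
    have e : x * v₁ * x⁻¹ = (x * v₁ * x⁻¹ * v₁⁻¹) * v₁ := by rw [inv_mul_cancel_right]
    rw [hwdef, ← conj_zpow, e, (hδ1.2.1 v₁ hv₁).mul_zpow, mul_inv_cancel_right]
    exact zpow_mem hδ1 _
  obtain ⟨δt, hδtdef⟩ : ∃ e, e = x * t * x⁻¹ * t⁻¹ := ⟨_, rfl⟩
  obtain ⟨δw, hδwdef⟩ : ∃ e, e = x * w * x⁻¹ * w⁻¹ := ⟨_, rfl⟩
  rw [← hδtdef] at hδt
  rw [← hδwdef] at hδw
  have htw : t * w = c * w * t := by rw [hcdef]; group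
  have htc : t * c = δt⁻¹ * c * t := by
    have h5 : t * x = δt⁻¹ * (x * t) := by rw [hδtdef]; group
    rw [hxq, ← mul_assoc, h5, mul_assoc δt⁻¹ (x * t) q, mul_assoc x t q, ← hqt.eq]
    group
  have hwc : w * c = δw⁻¹ * c * w := by
    have h5 : w * x = δw⁻¹ * (x * w) := by rw [hδwdef]; group
    rw [hxq, ← mul_assoc, h5, mul_assoc δw⁻¹ (x * w) q, mul_assoc x w q, ← hqw.eq]
    group
  have hc' : ∀ δ ∈ zP a p, ∀ y ∈ fitP a p, Commute δ⁻¹ y := fun δ hδ y hy => (hδ.2.1 y hy).inv_left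
  have hzp : ∀ δ ∈ zP a p, ∀ m : ℕ, p ∣ m → (δ⁻¹) ^ m = 1 := fun δ hδ m ⟨k, hk⟩ => by
    rw [hk, pow_mul, inv_pow, hδ.2.2, inv_one, one_pow]
  have hcp1 : c ^ p = 1 := by
    have h1 := Component.pow_conj_class_three htw htc (hc' _ hδt c hcU)
      (hc' _ hδt t hv₂) p
    rw [hzp _ hδt _ (h.hp.dvd_choose_self two_ne_zero (by omega)), one_mul] at h1
    have h2 : Commute (t ^ p) w := by rw [← hj₁]; exact hv1pw.zpow_left j₁
    rw [h2.eq] at h1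
    have h6 : c ^ p * (w * t ^ p) = w * t ^ p := by rw [← mul_assoc]; exact h1.symm
    exact mul_eq_right.1 h6
  have hwtp : (w * t) ^ p = 1 := by
    have h1 := Component.mul_pow_class_three htw htc hwc (hc' _ hδt w hwU) (hc' _ hδt c hcU)
      (hc' _ hδt t hv₂) (hc' _ hδw w hwU) (hc' _ hδw c hcU) (hc' _ hδw t hv₂)
      (hc' _ hδt _ (inv_mem (zP_le_fitP a p hδw))) p
    have hd2 : p ∣ p.choose 2 := h.hp.dvd_choose_self two_ne_zero (by omega)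
    have hd3 : p ∣ p.choose 3 := h.hp.dvd_choose_self three_ne_zero (by omega)
    obtain ⟨k, hk⟩ := hd2
    rw [h1, hzp _ hδt _ hd3, hzp _ hδw _ (dvd_add (hd3.mul_left 2) ⟨k, hk⟩), hk, pow_mul, hcp1,
      one_pow, one_mul, one_mul, one_mul, hwt]
  -- the inverted element of order `p`
  set y := v * t * v with hydef
  have hyU : y ∈ fitP a p := mul_mem (mul_mem hvU hv₂) hvU
  have hwi : b * v * b⁻¹ = v⁻¹ := by
    rw [hvdef, hwdef, ← conj_pow, ← conj_zpow, hi₁, inv_zpow, inv_pow]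
  have hyi : b * y * b⁻¹ = y⁻¹ := by
    calc b * y * b⁻¹ = (b * v * b⁻¹) * (b * t * b⁻¹) * (b * v * b⁻¹) := by rw [hydef]; group
      _ = v⁻¹ * t⁻¹ * v⁻¹ := by rw [hwi, show b * t * b⁻¹ = t⁻¹ from hi₂]
      _ = y⁻¹ := by rw [hydef]; group
  have hyp : y ^ p = 1 := by
    have e : y = v⁻¹ * (w * t) * v⁻¹⁻¹ := by rw [hydef, ← hvv]; group
    rw [e, conj_pow, hwtp, mul_one, mul_inv_cancel]
  obtain ⟨s, hs, hs1, hsy⟩ : ∃ s ∈ R, s ≠ 1 ∧ Commute s y := by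
    by_contra hno
    push Not at hno
    have hf : Function.Injective (fun r : R => (⟨_, comm_mem_of_eP r.2.1 hyU⟩ : zP a p)) := by
      intro r r' e
      have e₁ : (r : G) * y * (r : G)⁻¹ * y⁻¹ = r' * y * (r' : G)⁻¹ * y⁻¹ := congrArg Subtype.val e
      by_contra hne
      refine hno ((r' : G)⁻¹ * r) (mul_mem (inv_mem r'.2) r.2)
        (fun e' => hne (Subtype.ext (inv_mul_eq_one.1 e').symm)) (mul_inv_eq_iff_eq_mul.1 ?_)
      calc (r' : G)⁻¹ * r * y * ((r' : G)⁻¹ * r)⁻¹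
          = (r' : G)⁻¹ * ((r : G) * y * (r : G)⁻¹ * y⁻¹) * y * r' := by group
        _ = y := by rw [e₁]; group
    have := Nat.card_le_card_of_injective _ hf
    rw [hcard, hzc] at this
    have := h.hp.two_le
    nlinarith
  have hyz : y ∈ zP a p := h.mem_zP_of_inverted0 C
    (fun z hz => (hz.2.1 s (eP_le_fitP a p hs.1)).symm)
    (C.min.fixed_mem_core h.four.hb (fitP_le_coreC a p (eP_le_fitP a p hs.1)) hs.2) hs1 hyU hyi hyp
    hsy.symm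
  refine hn₂ ?_
  have h1 : Commute y r₁ := hyz.2.1 r₁ (eP_le_fitP a p h₁.1)
  have h2 : Commute v r₁ := (hc₁.zpow_left _).pow_left _
  have := (h2.inv_left.mul_left h1).mul_left h2.inv_left
  rwa [hydef, show v⁻¹ * (v * t * v) * v⁻¹ = t by group] at this

end ScalE

end CfsgLib.GW
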