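import Cfsg.Agent.Lib.GW.Component.Act
import Cfsg.Agent.Lib.GW.Component.Leg

/-!
The component leg, scalar case: an involution trivial on `eP a p` modulo `zP a p` fixes an element
spanning a line over `zP a p` which is normal in `C(a)`, once the fixed part is small.
-/

set_option autoImplicit false
set_option linter.unusedSectionVars false
set_option linter.style.haveILetI false

namespace CfsgLib.GW

open Subgroup CfsgLib.Invol

universe u

variable {G : Type u} [Group G] [Finite G] {a b g : G} {p : ℕ}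

/-- The fixed point of a `3`-group on a small elementary group: automorphism groups of odd order of
a group of exponent three and order at most nine. -/
theorem exists_fixed_three {V : Type u} [Group V] [Finite V] (h3 : ∀ v : V, v ^ 3 = 1)
    (h9 : Nat.card V ≤ 9) (hV : Nontrivial V) (S : Subgroup (MulAut V)) (hS : Odd (Nat.card S)) :
    ∃ v : V, v ≠ 1 ∧ ∀ s ∈ S, s v = v := by
  haveI : Fact (Nat.Prime 3) := ⟨Nat.prime_three⟩
  haveI : Finite (MulAut V) := Finite.of_injective (fun f => (f : V → V)) DFunLike.coe_injective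
  have hVp : IsPGroup 3 V := fun v => ⟨1, by rw [pow_one, h3]⟩
  obtain ⟨k, hk⟩ := hVp.exists_card_eq
  have hk3 : k ≤ 2 := by
    by_contra hc
    have := Nat.pow_le_pow_right (show 0 < 3 by norm_num) (show 3 ≤ k by omega)
    rw [← hk] at this
    norm_num at this
    omega
  have hSp : IsPGroup 3 S := by
    obtain ⟨m, hm⟩ : ∃ m, Nat.card S = 3 ^ m :=
      ⟨_, Nat.eq_prime_pow_of_unique_prime_dvd Nat.card_pos.ne' fun {q} hq hqd => by
        by_contra hq3
        haveI := Fact.mk hq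
        obtain ⟨s, hs⟩ := exists_prime_orderOf_dvd_card' (G := S) q hqd
        have hq2 : q ≠ 2 := fun e => by
          subst e; exact Nat.not_even_iff_odd.2 hS (even_iff_two_dvd.2 hqd)
        have hP : IsPGroup q (zpowers s) := IsPGroup.of_card (n := 1) (by
          rw [Nat.card_zpowers, hs, pow_one])
        letI : MulDistribMulAction (zpowers s) V :=
          MulDistribMulAction.compHom V (S.subtype.comp (zpowers s).subtype)
        have hmod := hP.card_modEq_card_fixedPoints (α := V)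
        let F : Subgroup V :=
          { carrier := MulAction.fixedPoints (zpowers s) V
            one_mem' := fun t => smul_one t
            mul_mem' := fun {x y} hx hy t => by
              show ((t : S) : MulAut V) (x * y) = x * y
              rw [map_mul]; exact congrArg₂ (· * ·) (hx t) (hy t)
            inv_mem' := fun {x} hx t => by
              show ((t : S) : MulAut V) x⁻¹ = x⁻¹
              rw [map_inv]; exact congrArg (·⁻¹) (hx t) }
        obtain ⟨l, hlk, hl⟩ := (Nat.dvd_prime_pow Nat.prime_three).1 (hk ▸ F.card_subgroup_dvd_card)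
        have hF : Nat.card (MulAction.fixedPoints (zpowers s) V) = 3 ^ l := hl
        rw [hk, hF] at hmod
        have hl' : l = k := by
          by_contra hne
          have hd := (Nat.modEq_iff_dvd' (Nat.pow_le_pow_right (by norm_num) hlk)).1 hmod.symm
          have hq' : q ∣ 2 ∨ q ∣ 3 := by
            interval_cases k <;> interval_cases l <;> simp at hd hne ⊢
            · exact Or.inl hd
            · exact Or.inl (hq.dvd_of_dvd_pow (show q ∣ 2 ^ 3 from hd))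
            · exact (hq.dvd_mul.1 (show q ∣ 2 * 3 from hd))
          rcases hq' with h | h
          · exact hq2 ((Nat.prime_dvd_prime_iff_eq hq Nat.prime_two).1 h)
          · exact hq3 ((Nat.prime_dvd_prime_iff_eq hq Nat.prime_three).1 h)
        have htop : F = ⊤ := eq_top_of_card_eq F (by rw [hl, hk, hl'])
        have hs1 : s = 1 := Subtype.ext (MulEquiv.ext fun v =>
          (show v ∈ F from htop ▸ mem_top v) ⟨s, mem_zpowers s⟩)
        rw [hs1, orderOf_one] at hs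
        exact hq.ne_one hs.symm⟩
    exact IsPGroup.of_card hm
  letI : MulAction S V := MulAction.compHom V S.subtype
  have hdvd : 3 ∣ Nat.card V := by
    rw [hk]
    refine dvd_pow_self 3 fun e => ?_
    rw [e, pow_zero] at hk
    exact (Finite.one_lt_card (α := V)).ne' hk
  obtain ⟨v, hv, hv1⟩ := hSp.exists_fixed_point_of_prime_dvd_card_of_fixed_point V hdvd
    (a := 1) (fun s => map_one (s : MulAut V))
  exact ⟨v, hv1.symm, fun s hs => hv ⟨s, hs⟩⟩

/-- The line of the scalar case. -/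
theorem Mixed.exists_line (C : Ctx G) (h : Mixed a b g p)
    (hA : ∀ j, orderOf j = 2 → j ∈ cI a → j ≠ a → eP a p ⊓ cI j ≠ ⊥ →
      ∀ u ∈ eP a p, u ∉ zP a p → j * u * j⁻¹ ≠ u⁻¹)
    (htriv : ∀ e ∈ eP a p, b * e * b⁻¹ * e⁻¹ ∈ zP a p)
    (hrank : IsCyclic (eP a p ⊓ cI b : Subgroup G) ∨
      (p = 3 ∧ Nat.card (eP a p ⊓ cI b : Subgroup G) ≤ 9)) :
    ∃ x₀ ∈ eP a p, x₀ ∈ cI b ∧ x₀ ∉ zP a p ∧
      ∀ x ∈ cI a, x * x₀ * x⁻¹ ∈ zP a p ⊔ zpowers x₀ := by
  classical
  haveI := Fact.mk h.hp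
  set R : Subgroup G := eP a p ⊓ cI b with hR
  have hnz : ∀ r ∈ R, r ∈ zP a p → r = 1 := fun r hr hz => by
    have h1 := h.b_inverts C hz
    rw [(mem_cI.1 hr.2).symm, mul_inv_cancel_right] at h1
    exact orderOf_eq_one_iff.1 (Nat.eq_one_of_dvd_coprimes (Nat.coprime_two_right.2
      (odd_orderOf_mem_coreC (zP_le_coreC a p hz))) dvd_rfl
      (orderOf_dvd_of_pow_eq_one (by rw [pow_two]; nth_rw 1 [h1]; exact inv_mul_cancel r)))
  -- every class has a fixed representative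
  have hsplit : ∀ e ∈ eP a p, ∃ z ∈ zP a p, z * e ∈ R := by
    intro e he
    obtain ⟨c, hc⟩ : ∃ c, c = b * e * b⁻¹ * e⁻¹ := ⟨_, rfl⟩
    have hcz : c ∈ zP a p := hc ▸ htriv e he
    obtain ⟨k, hk⟩ := h.hp.odd_of_ne_two h.ne_two
    have hzz : c ^ (k + 1) * c ^ (k + 1) = c := by
      rw [← pow_add, show k + 1 + (k + 1) = p + 1 by omega, pow_succ, hcz.2.2, one_mul]
    have hz : c ^ (k + 1) ∈ zP a p := pow_mem hcz _
    refine ⟨_, hz, mul_mem (h.zP_le_eP C hz) he, mem_cI.2 (mul_inv_eq_iff_eq_mul.1 ?_).symm⟩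
    calc b * (c ^ (k + 1) * e) * b⁻¹ = (b * c ^ (k + 1) * b⁻¹) * (c * e) := by rw [hc]; group
      _ = (c ^ (k + 1))⁻¹ * (c ^ (k + 1) * c ^ (k + 1) * e) := by rw [h.b_inverts C hz, hzz]
      _ = c ^ (k + 1) * e := by group
  rcases hrank with hcyc | ⟨rfl, h9⟩
  · haveI := hcyc
    obtain ⟨⟨x₀, hx⟩, hgen⟩ := IsCyclic.exists_generator (α := R)
    have hall : ∀ e ∈ eP a p, e ∈ zP a p ⊔ zpowers x₀ := fun e he => by
      obtain ⟨z, hz, hze⟩ := hsplit e he
      obtain ⟨i, hi⟩ := mem_zpowers_iff.1 (hgen ⟨_, hze⟩)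
      rw [show e = z⁻¹ * (z * e) by group]
      exact mul_mem (mem_sup_left (inv_mem hz)) (mem_sup_right ⟨i, congrArg Subtype.val hi⟩)
    refine ⟨x₀, hx.1, hx.2, fun hxz => ?_, fun x hxa => hall _ (conj_mem_eP hxa hx.1)⟩
    obtain ⟨e, he, hez⟩ := h.exists_eP C
    have h1 := hall e he
    rw [hnz x₀ hx hxz, zpowers_one_eq_bot, sup_bot_eq] at h1
    exact hez h1
  let mkR : R → EBar a 3 := fun r => QuotientGroup.mk ⟨(r : G), r.2.1⟩
  have hsurj : Function.Surjective mkR := fun q => by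
    obtain ⟨⟨e, he⟩, rfl⟩ := QuotientGroup.mk'_surjective (zE a 3) q
    obtain ⟨z, hz, hze⟩ := hsplit e he
    refine ⟨⟨z * e, hze⟩, mk_eq_mk.2 ?_⟩
    show (z * e)⁻¹ * e ∈ zP a 3
    rw [show (z * e)⁻¹ * e = e⁻¹ * z⁻¹ * e⁻¹⁻¹ by group]
    exact conj_mem_zP (inv_mem (fitP_le_cI a 3 (eP_le_fitP a 3 he))) (inv_mem hz)
  have h3 : ∀ v : EBar a 3, v ^ 3 = 1 := fun v => by
    obtain ⟨r, rfl⟩ := hsurj v
    show (QuotientGroup.mk (⟨(r : G), r.2.1⟩ : eP a 3) : EBar a 3) ^ 3 = 1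
    rw [← QuotientGroup.mk_pow, show (⟨(r : G), r.2.1⟩ : eP a 3) ^ 3 = 1 from
      Subtype.ext (pow_eq_one_of_eP r.2.1)]
    rfl
  have hV : Nontrivial (EBar a 3) := by
    obtain ⟨e, he, hez⟩ := h.exists_eP C
    exact ⟨⟨QuotientGroup.mk ⟨e, he⟩, 1, fun e' => hez (mk_eq_one.1 e')⟩⟩
  set S : Subgroup (MulAut (EBar a 3)) := ((coreC a).subgroupOf (cI a)).map (act a 3)
  have hSo : Odd (Nat.card S) := by
    refine Odd.of_dvd_nat ?_ (Subgroup.card_map_dvd (H := (coreC a).subgroupOf (cI a)) (act a 3))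
    rw [Nat.card_congr (subgroupOfEquivOfLe (coreC_le_cI a)).toEquiv]
    exact odd_coreC a
  obtain ⟨v, hv1, hv⟩ := exists_fixed_three h3
    ((Nat.card_le_card_of_surjective mkR hsurj).trans h9) hV S hSo
  obtain ⟨⟨x₀, hx⟩, rfl⟩ := hsurj v
  refine ⟨x₀, hx.1, hx.2, fun hz => hv1 (mk_eq_one.2 hz), ?_⟩
  have hgen : ∀ x ∈ cI a, x * x₀ * x⁻¹ ∈ zP a 3 ⊔ zpowers x₀ →
      x ∈ normalizer ((zP a 3 ⊔ zpowers x₀ : Subgroup G) : Set G) := fun x hxa hxx => by
    refine mem_normalizer_iff_of_finite fun f hf => ?_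
    have hle : zP a 3 ⊔ zpowers x₀ ≤ (zP a 3 ⊔ zpowers x₀).comap (MulAut.conj x).toMonoidHom :=
      sup_le (fun z hz => mem_sup_left (conj_mem_zP hxa hz)) (zpowers_le.2 hxx)
    exact hle hf
  have hcore : ∀ o ∈ coreC a, o * x₀ * o⁻¹ ∈ zP a 3 ⊔ zpowers x₀ := fun o ho => by
    have h1 := hv (act a 3 ⟨o, coreC_le_cI a ho⟩) ⟨⟨o, coreC_le_cI a ho⟩, mem_subgroupOf.2 ho, rfl⟩
    rw [act_mk, mk_eq_mk, conjE_apply] at h1
    rw [show o * x₀ * o⁻¹ = x₀ * ((o * x₀ * o⁻¹)⁻¹ * x₀)⁻¹ by group]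
    exact mul_mem (mem_sup_right (mem_zpowers x₀)) (mem_sup_left (inv_mem h1))
  have hle : cI a ≤ normalizer ((zP a 3 ⊔ zpowers x₀ : Subgroup G) : Set G) := by
    refine (C.min.cI_le_closure h.four.ha).trans
      (sup_le (fun o ho => hgen o (coreC_le_cI a ho) (hcore o ho)) ((closure_le _).2 fun j hj => ?_))
    obtain ⟨hj2, hjc⟩ := hj
    refine hgen j hjc ?_
    by_cases hja : j = a
    · rw [hja, (mem_cI.1 (fitP_le_cI a 3 (eP_le_fitP a 3 hx.1))).symm, mul_inv_cancel_right]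
      exact mem_sup_right (mem_zpowers x₀)
    by_cases hfix : eP a 3 ⊓ cI j = ⊥
    · rw [inverts_of_inf_eq_bot hj2 (fun _ he => conj_mem_eP hjc he) hfix x₀ hx.1]
      exact mem_sup_right (inv_mem (mem_zpowers x₀))
    obtain ⟨c, hc⟩ : ∃ c, c = j * x₀ * j⁻¹ * x₀⁻¹ := ⟨_, rfl⟩
    have hcE : c ∈ eP a 3 := hc ▸ mul_mem (conj_mem_eP hjc hx.1) (inv_mem hx.1)
    have hinv : j * c * j⁻¹ = c⁻¹ := by
      rw [hc]
      calc j * (j * x₀ * j⁻¹ * x₀⁻¹) * j⁻¹ = (j * j) * x₀ * (j⁻¹ * x₀⁻¹ * j⁻¹) := by group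
        _ = x₀ * (j * x₀⁻¹ * j⁻¹) := by rw [invol_mul_self hj2, invol_inv hj2]; group
        _ = (j * x₀ * j⁻¹ * x₀⁻¹)⁻¹ := by group
    have hcz : c ∈ zP a 3 := by
      by_contra hcz
      exact hA j hj2 hjc hja hfix c hcE hcz hinv
    rw [show j * x₀ * j⁻¹ = c * x₀ by rw [hc]; group]
    exact mul_mem (mem_sup_left hcz) (mem_sup_right (mem_zpowers x₀))
  exact fun x hxa => (mem_normalizer_iff.1 (hle hxa) x₀).1 (mem_sup_right (mem_zpowers x₀))

/-- No involution of `C(a)` both fixes and inverts non-central elements of `eP a p`. -/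
theorem Mixed.not_split (C : Ctx G) (h : Mixed a b g p) :
    ∀ j, orderOf j = 2 → j ∈ cI a → j ≠ a → eP a p ⊓ cI j ≠ ⊥ →
      ∀ u ∈ eP a p, u ∉ zP a p → j * u * j⁻¹ ≠ u⁻¹ := by
  intro j hj hjc hne hfix u hu huz hinv
  obtain ⟨g', hg'⟩ := h.mixed_of_fixed C hj hjc hne hfix
  obtain ⟨x₀, hx₀, hx1⟩ := (bot_or_exists_ne_one (eP a p ⊓ cI j)).resolve_left hfix
  exact hg'.shape_case_false C (hg'.cent_of_split C hu huz hinv hx₀.1 hx₀.2 hx1) hu huz hinv
    hx₀.1 hx₀.2 hx1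

/-- `ScalarStmt` from the rank fact of the scalar case. -/
theorem scalar_of_rank
    (hrank : ∀ (G : Type u) [Group G] [Finite G], Ctx G → ∀ (a j g : G) (p : ℕ), Mixed a j g p →
      (∀ e ∈ eP a p, j * e * j⁻¹ * e⁻¹ ∈ zP a p) →
      IsCyclic (eP a p ⊓ cI j : Subgroup G) ∨
        (p = 3 ∧ Nat.card (eP a p ⊓ cI j : Subgroup G) ≤ 9))
    (hm : MaximalStmt.{u}) (hC : NoLayerStmt.{u}) : ScalarStmt.{u} :=
  scalar_of_line (fun G _ _ C a j g p h ht =>
    h.exists_line C (h.not_split C) ht (hrank G C a j g p h ht)) hm hC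

end CfsgLib.GW
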