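import Cfsg.Agent.Lib.GW.Component.End
import Cfsg.Agent.Lib.GW.Component.KleinFocal
import Cfsg.Agent.Lib.GW.Component.Local

/-!
The shape data of a mixed four-group are contradictory.
-/

set_option autoImplicit false
set_option linter.unusedSectionVars false

namespace CfsgLib.GW

open Subgroup CfsgLib.Invol CfsgLib.GW.Component

universe u

variable {G : Type u} [Group G] [Finite G] {a b g z : G} {E C0 : Subgroup G} {p c : ℕ}

/-- The shape, for a mixed four-group with `z` in `zP a p`. -/
theorem Mixed.shape_false (C : Ctx G) (h : Mixed a b g p) (hz : z ∈ zP a p)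
    (d : ShapeData a b z (coreC a) E C0 p c) (hEn : cI a ≤ normalizer (E : Set G)) :
    False := by
  have hinv : ∀ j, orderOf j = 2 → j ∈ centralizer ({a} : Set G) → j ≠ a → j * z * j⁻¹ = z⁻¹ :=
    fun j hj hjc hne => h.inverts C hj hjc hne hz
  have huniq : ∀ j, orderOf j = 2 → j * z = z * j → j = a := by
    intro j hj hjz
    refine h.eq_of_cent C hj fun y hy => ?_
    obtain ⟨z₀, hzo, hall⟩ := h.exists_generator C
    have hle : zpowers z ≤ zP a p := zpowers_le.2 hz
    have heq : zpowers z = zP a p := eq_of_le_of_card_ge hle (by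
      rw [hall, Nat.card_zpowers, Nat.card_zpowers, hzo, d.hzp])
    obtain ⟨i, rfl⟩ := mem_zpowers_iff.1 (heq.symm ▸ hy : y ∈ zpowers z)
    exact Commute.zpow_right hjz i
  exact Component.shape_false C.min h.four d hEn hinv
    (d.freeData_of_min C.min (C.max a h.four.ha) huniq hinv (d.cI_le_normalizer_C0 hEn))
    fun hc hT => d.false_of_focal C h hc hEn hT

end CfsgLib.GW
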