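import Cfsg.Agent.Lib.GW.Component.Act

/-!
The component leg, split case: an involution `b` fixes and inverts elements of `eP a p` which are
not central.
-/

set_option autoImplicit false
set_option linter.unusedSectionVars false
set_option linter.style.haveILetI false

namespace CfsgLib.GW

open Subgroup CfsgLib.Invol
open scoped commutatorElement

universe u

variable {G : Type u} [Group G] [Finite G]

/-- Elements of `p`-torsion of a commutative setting: a member of order `p` of a cyclic group of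
order `p` generates it. -/
theorem zpowers_eq_of_prime {H : Type*} [Group H] [Finite H] {p : ℕ} (hp : p.Prime) {ζ v : H}
    (hζ : ζ ^ p = 1) (hv : v ∈ zpowers ζ) (hv1 : v ≠ 1) : zpowers v = zpowers ζ := by
  refine eq_of_le_of_card_ge (zpowers_le.2 hv) ?_
  rw [Nat.card_zpowers, Nat.card_zpowers]
  have h1 : orderOf ζ ∣ p := orderOf_dvd_of_pow_eq_one hζ
  have h2 : orderOf v ∣ orderOf ζ := orderOf_dvd_of_mem_zpowers hv
  have h3 : orderOf v = p := ((Nat.dvd_prime hp).1 (h2.trans h1)).resolve_left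
    fun e => hv1 (orderOf_eq_one_iff.1 e)
  rw [h3]
  exact Nat.le_of_dvd hp.pos h1

theorem eq_one_of_inverse_self {a x : G} (hx : x ∈ coreC a) (h : x = x⁻¹) : x = 1 :=
  orderOf_eq_one_iff.1 (Nat.eq_one_of_dvd_coprimes
    (Nat.coprime_two_right.2 (odd_orderOf_mem_coreC hx)) dvd_rfl
    (orderOf_dvd_of_pow_eq_one (by rw [pow_two]; nth_rw 1 [h]; exact inv_mul_cancel x)))

/-- The data of the split case. -/
structure SplitE (a b g : G) (p : ℕ) (u x₀ : G) : Prop where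
  mixed : Mixed a b g p
  cent : ∀ x ∈ coreC a, ∀ z ∈ zP a p, Commute x z
  hu : u ∈ eP a p
  huz : u ∉ zP a p
  hinv : b * u * b⁻¹ = u⁻¹
  hx : x₀ ∈ eP a p
  hxb : x₀ ∈ cI b
  hx1 : x₀ ≠ 1

/-- The centralizer of `eP a p` in `O(C(a))`. -/
def cZero (a : G) (p : ℕ) : Subgroup G := coreC a ⊓ centralizer (eP a p : Set G)

theorem conj_mem_cZero {a x r : G} {p : ℕ} (hx : x ∈ cI a) (hr : r ∈ cZero a p) :
    x * r * x⁻¹ ∈ cZero a p := by
  refine ⟨conj_mem_coreC hx hr.1, mem_centralizer_iff.2 fun e he => ?_⟩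
  have he' : x⁻¹ * e * x ∈ eP a p := by simpa using conj_mem_eP (inv_mem hx) he
  calc e * (x * r * x⁻¹) = x * ((x⁻¹ * e * x) * r) * x⁻¹ := by group
    _ = x * (r * (x⁻¹ * e * x)) * x⁻¹ := by rw [mem_centralizer_iff.1 hr.2 _ he']
    _ = x * r * x⁻¹ * e := by group

namespace SplitE

variable (C : Ctx G) {a b g : G} {p : ℕ} {u x₀ : G} (d : SplitE a b g p u x₀)

include C d

theorem hbc : b ∈ cI a := mem_cI.2 d.mixed.four.comm.symm

theorem x_core : x₀ ∈ coreC a := fitP_le_coreC a p (eP_le_fitP a p d.hx)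

theorem u_core : u ∈ coreC a := fitP_le_coreC a p (eP_le_fitP a p d.hu)

theorem x_pow : x₀ ^ p = 1 := pow_eq_one_of_eP d.hx

theorem u_pow : u ^ p = 1 := pow_eq_one_of_eP d.hu

theorem u_ne_one : u ≠ 1 := fun e => d.huz (e ▸ one_mem _)

theorem orderOf_x : orderOf x₀ = p := by
  haveI := Fact.mk d.mixed.hp
  exact orderOf_eq_prime (d.x_pow C) d.hx1

theorem x_not_mem : x₀ ∉ zP a p := fun hz => by
  have h1 := d.mixed.b_inverts C hz
  rw [(mem_cI.1 d.hxb).symm, mul_inv_cancel_right] at h1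
  exact d.hx1 (eq_one_of_inverse_self (d.x_core C) h1)

/-- The key fact in this setting. -/
theorem key {w : G} (hw : w ∈ coreC a) (hwb : w ∈ cI b) (hwu : Commute w u) : w = 1 := by
  by_contra hw1
  exact d.huz (d.mixed.mem_zP_of_inverted' C d.cent
    (C.min.fixed_mem_core d.mixed.four.hb hw hwb) hw1 (eP_le_fitP a p d.hu) d.hinv (d.u_pow C)
    hwu.symm)

theorem comm_mem {e v : G} (he : e ∈ eP a p) (hv : v ∈ fitP a p) :
    v * e * v⁻¹ * e⁻¹ ∈ zP a p := by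
  have h := inv_mem (comm_mem_of_eP he hv)
  simpa [mul_assoc] using h

theorem zeta_ne : x₀ * u * x₀⁻¹ * u⁻¹ ≠ 1 := fun e =>
  d.hx1 (d.key C (d.x_core C) d.hxb (mul_inv_eq_iff_eq_mul.1 (mul_inv_eq_one.1 e)))

theorem zeta_mem : x₀ * u * x₀⁻¹ * u⁻¹ ∈ zP a p :=
  d.comm_mem C d.hu (eP_le_fitP a p d.hx)

theorem exists_zeta_pow {z : G} (hz : z ∈ zP a p) :
    ∃ i : ℤ, (x₀ * u * x₀⁻¹ * u⁻¹) ^ i = z := by
  obtain ⟨z₀, ho, hall⟩ := d.mixed.exists_generator C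
  have h := d.zeta_mem C
  rw [hall] at h hz
  rw [← zpowers_eq_of_prime d.mixed.hp (ho ▸ pow_orderOf_eq_one z₀) h (d.zeta_ne C)] at hz
  exact mem_zpowers_iff.1 hz

/-- The fixed part of the `p`-core has order `p`. -/
theorem fixed_eq : fitP a p ⊓ cI b = zpowers x₀ := by
  haveI := Fact.mk d.mixed.hp
  set X := fitP a p ⊓ cI b
  obtain ⟨z₀, ho, hall⟩ := d.mixed.exists_generator C
  let φ : X →* zP a p := MonoidHom.mk'
    (fun v => ⟨(v : G) * u * (v : G)⁻¹ * u⁻¹, d.comm_mem C d.hu v.2.1⟩) fun v w => by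
      refine Subtype.ext ?_
      show (v : G) * w * u * ((v : G) * w)⁻¹ * u⁻¹ =
        (v : G) * u * (v : G)⁻¹ * u⁻¹ * ((w : G) * u * (w : G)⁻¹ * u⁻¹)
      have h1 := d.comm_mem C d.hu w.2.1
      have h2 := d.comm_mem C d.hu v.2.1
      calc (v : G) * w * u * ((v : G) * w)⁻¹ * u⁻¹
          = (v : G) * ((w : G) * u * (w : G)⁻¹ * u⁻¹) * (v : G)⁻¹ * ((v : G) * u * (v : G)⁻¹ * u⁻¹) := by
            group
        _ = (w : G) * u * (w : G)⁻¹ * u⁻¹ * ((v : G) * u * (v : G)⁻¹ * u⁻¹) := by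
            rw [← (h1.2.1 _ v.2.1).eq, mul_inv_cancel_right]
        _ = _ := (h1.2.1 _ (zP_le_fitP a p h2)).eq
  have hφ : Function.Injective φ := (injective_iff_map_eq_one φ).2 fun v hv => by
    refine Subtype.ext (d.key C (fitP_le_coreC a p v.2.1) v.2.2 (mul_inv_eq_iff_eq_mul.1 ?_))
    exact mul_inv_eq_one.1 (congrArg Subtype.val hv :)
  refine (eq_of_le_of_card_ge (zpowers_le.2 (mem_inf.2 ⟨eP_le_fitP a p d.hx, d.hxb⟩)) ?_).symm
  refine (Nat.card_le_card_of_injective φ hφ).trans (le_of_eq ?_)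
  rw [hall, Nat.card_zpowers, Nat.card_zpowers, ho, d.orderOf_x C]

/-- An element of `eP a p` inverted by `b` is a power of `u` modulo `zP a p`. -/
theorem inv_span {v : G} (hv : v ∈ eP a p) (hinvv : b * v * b⁻¹ = v⁻¹) :
    ∃ i : ℤ, v * (u ^ i)⁻¹ ∈ zP a p := by
  have hvU := eP_le_fitP a p hv
  have huU := eP_le_fitP a p d.hu
  obtain ⟨i, hi⟩ := d.exists_zeta_pow C (d.comm_mem C hv (eP_le_fitP a p d.hx))
  -- `v` and `u` commute
  have hc : Commute v u := by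
    have hk := d.comm_mem C hv huU
    have h1 := d.mixed.b_inverts C hk
    rw [show b * (u * v * u⁻¹ * v⁻¹) * b⁻¹ =
      b * u * b⁻¹ * (b * v * b⁻¹) * (b * u * b⁻¹)⁻¹ * (b * v * b⁻¹)⁻¹ by group, hinvv, d.hinv,
      inv_inv, inv_inv] at h1
    have h2 : u⁻¹ * v⁻¹ * u * v = u * v * u⁻¹ * v⁻¹ := by
      calc u⁻¹ * v⁻¹ * u * v = (v * u)⁻¹ * (u * v * u⁻¹ * v⁻¹) * (v * u) := by group
        _ = (u * v * u⁻¹ * v⁻¹) * ((v * u)⁻¹ * (v * u)) := by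
          rw [← (hk.2.1 _ (inv_mem (mul_mem hvU huU))).eq, mul_assoc]
        _ = _ := by rw [inv_mul_cancel, mul_one]
    rw [h2] at h1
    have h3 : u * v * u⁻¹ * v⁻¹ = 1 :=
      eq_one_of_inverse_self (zP_le_coreC a p hk) h1
    exact (mul_inv_eq_iff_eq_mul.1 (mul_inv_eq_one.1 h3)).symm
  refine ⟨i, d.mixed.mem_zP_of_inverted' C d.cent
    (C.min.fixed_mem_core d.mixed.four.hb (d.x_core C) d.hxb) d.hx1
    (mul_mem hvU (inv_mem (zpow_mem huU i))) ?_ ?_ ?_⟩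
  · rw [show b * (v * (u ^ i)⁻¹) * b⁻¹ = b * v * b⁻¹ * (b * u ^ i * b⁻¹)⁻¹ by group, hinvv,
      ← conj_zpow, d.hinv, inv_zpow, inv_inv, mul_inv_rev, inv_inv]
    exact ((hc.zpow_right i).inv_left).eq
  · rw [(hc.zpow_right i).inv_right.mul_pow, pow_eq_one_of_eP hv, one_mul, inv_pow, ← zpow_natCast,
      ← zpow_mul, mul_comm, zpow_mul, zpow_natCast, d.u_pow C, one_zpow, inv_one]
  · have hζ := d.zeta_mem C
    have e1 : x₀ * v * x₀⁻¹ = (x₀ * u * x₀⁻¹ * u⁻¹) ^ i * v := by rw [hi]; group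
    have e2 : x₀ * u ^ i * x₀⁻¹ = (x₀ * u * x₀⁻¹ * u⁻¹) ^ i * u ^ i := by
      rw [← conj_zpow, ← (hζ.2.1 u huU).mul_zpow, inv_mul_cancel_right]
    have h1 : x₀ * (v * (u ^ i)⁻¹) * x₀⁻¹ = v * (u ^ i)⁻¹ := by
      have hcz : Commute ((x₀ * u * x₀⁻¹ * u⁻¹) ^ i) (v * (u ^ i)⁻¹) :=
        (hζ.2.1 _ (mul_mem hvU (inv_mem (zpow_mem huU i)))).zpow_left i
      calc x₀ * (v * (u ^ i)⁻¹) * x₀⁻¹ = x₀ * v * x₀⁻¹ * (x₀ * u ^ i * x₀⁻¹)⁻¹ := by group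
        _ = (x₀ * u * x₀⁻¹ * u⁻¹) ^ i * (v * (u ^ i)⁻¹) * ((x₀ * u * x₀⁻¹ * u⁻¹) ^ i)⁻¹ := by
          rw [e1, e2]; group
        _ = v * (u ^ i)⁻¹ := by rw [hcz.eq, mul_inv_cancel_right]
    exact (mul_inv_eq_iff_eq_mul.1 h1).symm

/-- `eP a p` is spanned by `x₀`, `u` and `zP a p`. -/
theorem span {e : G} (he : e ∈ eP a p) :
    ∃ i j : ℤ, ∃ z ∈ zP a p, e = x₀ ^ i * u ^ j * z := by
  have hbc := d.hbc C
  set y := e⁻¹ * (b * e * b⁻¹) with hy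
  have hyE : y ∈ eP a p := mul_mem (inv_mem he) (conj_mem_eP hbc he)
  have hby : b * y * b⁻¹ = y⁻¹ := by
    have hbb := invol_mul_self d.mixed.four.hb
    calc b * y * b⁻¹ = b * e⁻¹ * b⁻¹ * (b * b * e * (b * b)⁻¹) := by rw [hy]; group
      _ = y⁻¹ := by rw [hbb, hy]; group
  obtain ⟨k, hk⟩ := d.mixed.hp.odd_of_ne_two d.mixed.ne_two
  set r := y ^ (k + 1) with hr
  have hrE : r ∈ eP a p := pow_mem hyE _
  have hrr : r * r = y := by
    rw [hr, ← pow_add, show k + 1 + (k + 1) = p + 1 by omega, pow_succ, pow_eq_one_of_eP hyE, one_mul]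
  have hbr : b * r * b⁻¹ = r⁻¹ := by rw [hr, ← conj_pow, hby, inv_pow]
  have hfix : e * r ∈ fitP a p ⊓ cI b := by
    refine ⟨mul_mem (eP_le_fitP a p he) (eP_le_fitP a p hrE), mem_cI.2 (mul_inv_eq_iff_eq_mul.1 ?_).symm⟩
    calc b * (e * r) * b⁻¹ = (b * e * b⁻¹) * (b * r * b⁻¹) := by group
      _ = e * (r * r) * r⁻¹ := by rw [hrr, hbr, hy]; group
      _ = e * r := by group
  rw [d.fixed_eq C] at hfix
  obtain ⟨i, hi⟩ := mem_zpowers_iff.1 hfix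
  obtain ⟨j, hj⟩ := d.inv_span C (inv_mem hrE)
    (by rw [inv_inv, show b * r⁻¹ * b⁻¹ = (b * r * b⁻¹)⁻¹ by group, hbr, inv_inv])
  refine ⟨i, j, r⁻¹ * (u ^ j)⁻¹, hj, ?_⟩
  have hcz : Commute (r⁻¹ * (u ^ j)⁻¹) (u ^ j) :=
    hj.2.1 _ (zpow_mem (eP_le_fitP a p d.hu) j)
  calc e = x₀ ^ i * r⁻¹ := by rw [hi]; group
    _ = x₀ ^ i * (r⁻¹ * (u ^ j)⁻¹ * u ^ j) := by group
    _ = x₀ ^ i * u ^ j * (r⁻¹ * (u ^ j)⁻¹) := by rw [hcz.eq]; group

/-- An element of `O(C(a))` acting trivially modulo `zP a p` lies in `eP a p` times its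
centralizer. -/
theorem exists_of_trivial {y : G} (hy : y ∈ coreC a)
    (h : ∀ e ∈ eP a p, y * e * y⁻¹ * e⁻¹ ∈ zP a p) : ∃ e ∈ eP a p, y * e⁻¹ ∈ cZero a p := by
  set ζ := x₀ * u * x₀⁻¹ * u⁻¹ with hζdef
  have hζ := d.zeta_mem C
  have hxU := eP_le_fitP a p d.hx
  have huU := eP_le_fitP a p d.hu
  have hζx : Commute ζ x₀ := hζ.2.1 _ hxU
  have hζu : Commute ζ u := hζ.2.1 _ huU
  obtain ⟨α, hα⟩ := d.exists_zeta_pow C (h x₀ d.hx)
  obtain ⟨β, hβ⟩ := d.exists_zeta_pow C (h u d.hu)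
  rw [← hζdef] at hα hβ
  have eu : ∀ i : ℤ, x₀ ^ i * u * (x₀ ^ i)⁻¹ = ζ ^ i * u := by
    have h1 : u * x₀ * u⁻¹ = ζ⁻¹ * x₀ := by
      rw [hζdef]
      group
    intro i
    have h2 : u * x₀ ^ i * u⁻¹ = (ζ⁻¹) ^ i * x₀ ^ i := by
      rw [← conj_zpow, h1, hζx.inv_left.mul_zpow]
    calc x₀ ^ i * u * (x₀ ^ i)⁻¹ = ((ζ⁻¹) ^ i)⁻¹ * (u * x₀ ^ i * u⁻¹) * u * (x₀ ^ i)⁻¹ := by
          rw [h2]; group
      _ = ((ζ⁻¹) ^ i)⁻¹ * u := by group
      _ = ζ ^ i * u := by rw [inv_zpow, inv_inv]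
  have ex : ∀ i : ℤ, u ^ i * x₀ * (u ^ i)⁻¹ = ζ ^ (-i) * x₀ := by
    have h1 : x₀ * u * x₀⁻¹ = ζ * u := by rw [hζdef]; group
    intro i
    have h2 : x₀ * u ^ i * x₀⁻¹ = ζ ^ i * u ^ i := by rw [← conj_zpow, h1, hζu.mul_zpow]
    calc u ^ i * x₀ * (u ^ i)⁻¹ = (ζ ^ i)⁻¹ * (x₀ * u ^ i * x₀⁻¹) * x₀ * (u ^ i)⁻¹ := by
          rw [h2]; group
      _ = (ζ ^ i)⁻¹ * x₀ := by group
      _ = ζ ^ (-i) * x₀ := by rw [zpow_neg]
  obtain ⟨e, hedef⟩ : ∃ e, e = x₀ ^ β * u ^ (-α) := ⟨_, rfl⟩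
  have heE : e ∈ eP a p := hedef ▸ mul_mem (zpow_mem d.hx _) (zpow_mem d.hu _)
  have hec : e ∈ cI a := fitP_le_cI a p (eP_le_fitP a p heE)
  suffices h0 : e⁻¹ * y ∈ cZero a p by
    refine ⟨e, heE, ?_⟩
    rw [show y * e⁻¹ = e * (e⁻¹ * y) * e⁻¹ by group]
    exact conj_mem_cZero hec h0
  have ht : e⁻¹ * y ∈ coreC a :=
    (coreC a).mul_mem ((coreC a).inv_mem (fitP_le_coreC a p (eP_le_fitP a p heE))) hy
  refine ⟨ht, mem_centralizer_iff.2 fun v hv => ?_⟩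
  set t := e⁻¹ * y with htdef
  have hfix : ∀ w : G, y * w * y⁻¹ = e * w * e⁻¹ → Commute t w := by
    intro w hw
    refine mul_inv_eq_iff_eq_mul.1 ?_
    calc t * w * t⁻¹ = e⁻¹ * (y * w * y⁻¹) * e := by rw [htdef]; group
      _ = w := by rw [hw]; group
  obtain ⟨i, j, z, hz, rfl⟩ := d.span C hv
  have tx : Commute t x₀ := hfix x₀ (by
    rw [hedef, show x₀ ^ β * u ^ (-α) * x₀ * (x₀ ^ β * u ^ (-α))⁻¹ =
      x₀ ^ β * (u ^ (-α) * x₀ * (u ^ (-α))⁻¹) * (x₀ ^ β)⁻¹ by group, ex, neg_neg,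
      show x₀ ^ β * (ζ ^ α * x₀) * (x₀ ^ β)⁻¹ = x₀ ^ β * ζ ^ α * (x₀ ^ β)⁻¹ * x₀ by group,
      ← ((hζx.zpow_zpow α β)).eq, mul_inv_cancel_right, hα]
    group)
  have tu : Commute t u := hfix u (by
    rw [hedef, show x₀ ^ β * u ^ (-α) * u * (x₀ ^ β * u ^ (-α))⁻¹ = x₀ ^ β * u * (x₀ ^ β)⁻¹ by group,
      eu, hβ]
    group)
  exact (((tx.zpow_right i).mul_right (tu.zpow_right j)).mul_right (d.cent t ht z hz)).eq.symm

end SplitE

end CfsgLib.GW
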