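import Cfsg.Agent.Lib.GW.Component.Split2

/-!
The component leg, split case: no element of `O(C(a))` acts on `eP a p` modulo `zP a p` as a
nontrivial transvection fixing a line of `b`.
-/

set_option autoImplicit false
set_option linter.unusedSectionVars false
set_option linter.style.haveILetI false

namespace CfsgLib.GW

open Subgroup CfsgLib.Invol

universe u

variable {G : Type u} [Group G] [Finite G] {a : G} {p : ℕ}

theorem eBar_pow (q : EBar a p) : q ^ p = 1 := by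
  obtain ⟨⟨e, he⟩, rfl⟩ := QuotientGroup.mk'_surjective (zE a p) q
  rw [← map_pow, show (⟨e, he⟩ : eP a p) ^ p = 1 from Subtype.ext (pow_eq_one_of_eP he), map_one]

theorem mulAut_pow_fix {H : Type*} [Group H] {M : MulAut H} {q : H} (h : M q = q) (n : ℕ) :
    (M ^ n) q = q := by
  induction n with
  | zero => rw [pow_zero, MulAut.one_apply]
  | succ n ih => rw [pow_succ, MulAut.mul_apply, h, ih]

theorem mulAut_pow_shift {H : Type*} [Group H] {M : MulAut H} {q v : H} (hv : M v = v)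
    (hq : M q = q * v) (n : ℕ) : (M ^ n) q = q * v ^ n := by
  induction n with
  | zero => rw [pow_zero, pow_zero, MulAut.one_apply, mul_one]
  | succ n ih =>
    rw [pow_succ, MulAut.mul_apply, hq, map_mul, ih, mulAut_pow_fix hv, mul_assoc, ← pow_succ]

theorem exists_pow_eq_of_ne_one (hp : p.Prime) {v w : EBar a p} (hv : v ∈ zpowers w) (hv1 : v ≠ 1)
    {t : EBar a p} (ht : t ∈ zpowers w) : ∃ n : ℕ, v ^ n = t := by
  rw [← zpowers_eq_of_prime hp (eBar_pow w) hv hv1, ← mem_powers_iff_mem_zpowers] at ht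
  exact ht

namespace SplitE

variable (C : Ctx G) {b g : G} {u x₀ : G} (d : SplitE a b g p u x₀)

include C d

/-- The line fixed by a nontrivial transvection is invariant. -/
theorem line_of_transvection {e f : EBar a p} (hgen : ∀ q, ∃ i j : ℤ, q = e ^ i * f ^ j)
    (hfix : ∀ y : cI a, (y : G) ∈ coreC a → act a p y e = e → ∀ q, act a p y q * q⁻¹ ∈ zpowers e)
    {x : cI a} (hx : (x : G) ∈ coreC a) (h : act a p x e = e) (hne : act a p x ≠ 1) :
    ∀ o : cI a, (o : G) ∈ coreC a → act a p o e ∈ zpowers e := by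
  classical
  haveI := Fact.mk d.mixed.hp
  have hzfix : ∀ (y : cI a), act a p y e = e → ∀ q ∈ zpowers e, act a p y q = q := by
    intro y hy q hq
    obtain ⟨i, rfl⟩ := mem_zpowers_iff.1 hq
    rw [map_zpow, hy]
  have htwo : ∀ (M : MulAut (EBar a p)) (f' : EBar a p), M e = e → M f' = f' → f' ∉ zpowers e → M = 1 := by
    intro M f' h1 h2 hf'
    obtain ⟨k, l, hkl⟩ := hgen f'
    have hl : f ^ l ≠ 1 := fun e1 => hf' (by rw [hkl, e1, mul_one]; exact zpow_mem (mem_zpowers e) k)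
    obtain ⟨n, hn⟩ := exists_pow_eq_of_ne_one d.mixed.hp (zpow_mem (mem_zpowers f) l) hl (mem_zpowers f)
    have h3 : M f = f := by
      rw [← hn, map_pow, show M (f ^ l) = f ^ l by
        calc M (f ^ l) = M ((e ^ k)⁻¹ * f') := by rw [hkl, inv_mul_cancel_left]
          _ = (e ^ k)⁻¹ * f' := by rw [map_mul, map_inv, map_zpow, h1, h2]
          _ = f ^ l := by rw [hkl, inv_mul_cancel_left]]
    refine MulEquiv.ext fun q => ?_
    obtain ⟨i, j, rfl⟩ := hgen q
    rw [map_mul, map_zpow, map_zpow, h1, h3, MulAut.one_apply]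
  intro o ho
  by_contra hf
  set f' := act a p o e with hf'def
  set y : cI a := o * x * o⁻¹ with hy
  have hyO : (y : G) ∈ coreC a := conj_mem_coreC o.2 hx
  have hyact : ∀ q, act a p y q = act a p o (act a p x (act a p o⁻¹ q)) := fun q => by
    rw [hy, map_mul, map_mul, MulAut.mul_apply, MulAut.mul_apply]
  have hinvo : act a p o⁻¹ f' = e := by
    rw [hf'def, ← MulAut.mul_apply, ← map_mul, inv_mul_cancel, map_one, MulAut.one_apply]
  have hyf : act a p y f' = f' := by rw [hyact, hinvo, h]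
  have hymove : ∀ q, act a p y q * q⁻¹ ∈ zpowers f' := by
    intro q
    obtain ⟨k, hk⟩ := mem_zpowers_iff.1 (hfix x hx h (act a p o⁻¹ q))
    refine mem_zpowers_iff.2 ⟨k, ?_⟩
    have hq : act a p o (act a p o⁻¹ q) = q := by
      rw [← MulAut.mul_apply, ← map_mul, mul_inv_cancel, map_one, MulAut.one_apply]
    obtain ⟨q0, hq0⟩ : ∃ q0, q0 = act a p o⁻¹ q := ⟨_, rfl⟩
    rw [← hq0] at hk hq
    rw [hf'def, ← map_zpow, hk, hyact, ← hq0, map_mul, map_inv (act a p o), hq]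
  have hk0 : act a p x f' * f'⁻¹ ≠ 1 := fun e1 => hne (htwo _ f' h (mul_inv_eq_one.1 e1) hf)
  obtain ⟨n, hn⟩ := exists_pow_eq_of_ne_one d.mixed.hp (hfix x hx h f') hk0 (mem_zpowers e)
  have hXf : ((act a p x) ^ n) f' = f' * e := by
    rw [← hn]
    refine mulAut_pow_shift (hzfix x h _ (hfix x hx h f')) ?_ n
    rw [eBar_comm a p f', inv_mul_cancel_right]
  have hXe : ((act a p x) ^ n) e = e := mulAut_pow_fix h n
  have hk1 : act a p y e * e⁻¹ ≠ 1 := fun e1 =>
    hne (by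
      have h1 : act a p y = 1 := htwo _ f' (mul_inv_eq_one.1 e1) hyf hf
      rw [hy, map_mul, map_mul, map_inv, mul_inv_eq_one, mul_eq_left] at h1
      exact h1)
  obtain ⟨m, hm⟩ := exists_pow_eq_of_ne_one d.mixed.hp (hymove e) hk1 (inv_mem (mem_zpowers f'))
  have hYe : ((act a p y) ^ m) e = e * f'⁻¹ := by
    rw [← hm]
    refine mulAut_pow_shift ?_ ?_ m
    · obtain ⟨k, hk⟩ := mem_zpowers_iff.1 (hymove e)
      rw [← hk, map_zpow, hyf]
    · rw [eBar_comm a p e, inv_mul_cancel_right]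
  have hYf : ((act a p y) ^ m) f' = f' := mulAut_pow_fix hyf m
  set w : cI a := x ^ n * y ^ m * x ^ n with hwdef
  have hMe : act a p w e = f'⁻¹ := by
    rw [hwdef, map_mul, map_mul, map_pow, map_pow, MulAut.mul_apply, MulAut.mul_apply, hXe, hYe,
      map_mul, map_inv, hXe, hXf, mul_inv_rev, ← mul_assoc, mul_inv_cancel, one_mul]
  have hMf : act a p w f' = e := by
    rw [hwdef, map_mul, map_mul, map_pow, map_pow, MulAut.mul_apply, MulAut.mul_apply, hXf, map_mul,
      hYe, hYf, eBar_comm a p e, ← mul_assoc, mul_inv_cancel, one_mul, hXe]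
  have h4 : ((act a p w) ^ 4) e = e := by
    rw [pow_succ, pow_succ, pow_succ, pow_one, MulAut.mul_apply, MulAut.mul_apply, MulAut.mul_apply,
      hMe, map_inv, hMf, map_inv, hMe, inv_inv, hMf]
  have hwO : (w : G) ∈ coreC a := by
    have hxn : ((x ^ n : cI a) : G) ∈ coreC a := pow_mem hx n
    have hym : ((y ^ m : cI a) : G) ∈ coreC a := pow_mem hyO m
    exact mul_mem (mul_mem hxn hym) hxn
  obtain ⟨r, hr⟩ := exists_pow_eq_self_of_coprime (x := act a p w) (n := 4) (by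
    have hodd : Odd (orderOf (act a p w)) := (odd_orderOf_mem_coreC hwO).of_dvd_nat
      ((orderOf_map_dvd (act a p) w).trans (by rw [Subgroup.orderOf_coe]))
    exact (Nat.coprime_two_left.2 hodd).pow_left 2)
  have h5 : act a p w e = e := by rw [← hr]; exact mulAut_pow_fix h4 r
  rw [hMe] at h5
  exact hf (by rw [← inv_inv f', h5]; exact inv_mem (mem_zpowers e))

/-- No transvection fixes the line of `e`, when `e` is fixed or inverted by `b`. -/
theorem unip_of {e f : EBar a p} (he : e ≠ 1) (hgen : ∀ q, ∃ i j : ℤ, q = e ^ i * f ^ j)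
    (hfix : ∀ y : cI a, (y : G) ∈ coreC a → act a p y e = e → ∀ q, act a p y q * q⁻¹ ∈ zpowers e)
    (hbe : act a p ⟨b, d.hbc C⟩ e ∈ zpowers e)
    (hw : ∀ w : cI a, (w : G) ∈ coreC a → (w : G) ∈ cI b → act a p w e = e → act a p w = 1)
    {x : cI a} (hx : (x : G) ∈ coreC a) (h : act a p x e = e) : act a p x = 1 := by
  classical
  haveI := Fact.mk d.mixed.hp
  by_contra hne
  have hline := d.line_of_transvection C hgen hfix hx h hne
  have hzfix : ∀ (y : cI a), act a p y e = e → ∀ q ∈ zpowers e, act a p y q = q := by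
    intro y hy q hq
    obtain ⟨i, rfl⟩ := mem_zpowers_iff.1 hq
    rw [map_zpow, hy]
  -- the stabilizer of `e` in `O(C(a))`
  let S : Subgroup G :=
    { carrier := {y | y ∈ coreC a ∧ ∃ hy : y ∈ cI a, act a p ⟨y, hy⟩ e = e}
      one_mem' := ⟨one_mem _, one_mem _, by
        rw [show (⟨1, one_mem _⟩ : cI a) = 1 from rfl, map_one, MulAut.one_apply]⟩
      mul_mem' := fun {y y'} hy hy' => by
        obtain ⟨hy1, hy2, hy3⟩ := hy
        obtain ⟨hy1', hy2', hy3'⟩ := hy'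
        exact ⟨mul_mem hy1 hy1', mul_mem hy2 hy2', by
          rw [show (⟨y * y', mul_mem hy2 hy2'⟩ : cI a) = ⟨y, hy2⟩ * ⟨y', hy2'⟩ from rfl, map_mul,
            MulAut.mul_apply, hy3', hy3]⟩
      inv_mem' := fun {y} hy => by
        obtain ⟨hy1, hy2, hy3⟩ := hy
        refine ⟨inv_mem hy1, inv_mem hy2, ?_⟩
        rw [show (⟨y⁻¹, inv_mem hy2⟩ : cI a) = (⟨y, hy2⟩ : cI a)⁻¹ from rfl]
        conv_lhs => rw [← hy3]
        rw [← MulAut.mul_apply, ← map_mul, inv_mul_cancel, map_one, MulAut.one_apply] }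
  have hSn : ∀ o ∈ coreC a, ∀ y ∈ S, o * y * o⁻¹ ∈ S := by
    rintro o ho y ⟨hy1, hy2, hy3⟩
    have hoc := coreC_le_cI a ho
    refine ⟨conj_mem_coreC hoc hy1, mul_mem (mul_mem hoc hy2) (inv_mem hoc), ?_⟩
    rw [show (⟨o * y * o⁻¹, _⟩ : cI a) = ⟨o, hoc⟩ * ⟨y, hy2⟩ * (⟨o, hoc⟩ : cI a)⁻¹ from rfl,
      map_mul, map_mul, MulAut.mul_apply, MulAut.mul_apply,
      hzfix _ hy3 _ (hline _ (show ((⟨o, hoc⟩ : cI a)⁻¹ : cI a).1 ∈ coreC a from inv_mem ho)),
      ← MulAut.mul_apply, ← map_mul, mul_inv_cancel, map_one, MulAut.one_apply]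
  have hbc := d.hbc C
  have hSC : ∀ y ∈ S, ∀ v ∈ cZero a p, Commute y v := by
    rintro y ⟨hy1, hy2, hy3⟩ v hv
    obtain ⟨s, hs1, hs2, hs3, hs4⟩ := exists_sqrt_inverted d.mixed.four.hb hbc hy1
    obtain ⟨i, hi⟩ := mem_zpowers_iff.1 hbe
    have hsS : s ∈ S := by
      have hbinv : act a p (⟨b, hbc⟩ : cI a)⁻¹ e ∈ zpowers e := by
        rwa [show (⟨b, hbc⟩ : cI a)⁻¹ = ⟨b, hbc⟩ from Subtype.ext (invol_inv d.mixed.four.hb)]
      have hb' : b * y * b⁻¹ ∈ S := by
        refine ⟨conj_mem_coreC hbc hy1, mul_mem (mul_mem hbc hy2) (inv_mem hbc), ?_⟩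
        rw [show (⟨b * y * b⁻¹, _⟩ : cI a) = ⟨b, hbc⟩ * ⟨y, hy2⟩ * (⟨b, hbc⟩ : cI a)⁻¹ from rfl,
          map_mul, map_mul, MulAut.mul_apply, MulAut.mul_apply, hzfix _ hy3 _ hbinv,
          ← MulAut.mul_apply, ← map_mul, mul_inv_cancel, map_one, MulAut.one_apply]
      exact (zpowers_le.2 (mul_mem (inv_mem (show y ∈ S from ⟨hy1, hy2, hy3⟩)) hb')) hs1
    obtain ⟨hw1, hw2, hw3⟩ := mul_mem (show y ∈ S from ⟨hy1, hy2, hy3⟩) hsS
    obtain ⟨e', he', hcz⟩ := d.exists_of_trivial C hw1 (act_eq_one_iff.1 (hw ⟨_, hw2⟩ hw1 hs4 hw3))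
    have h1 : Commute (y * s) v := by
      rw [show y * s = y * s * e'⁻¹ * e' by group]
      haveI := d.cZero_cyclic C
      refine Commute.mul_left ?_ ((mem_centralizer_iff.1 hv.2 e' he') : e' * v = v * e')
      letI := IsCyclic.commGroup (α := cZero a p)
      exact congrArg Subtype.val (mul_comm (⟨_, hcz⟩ : cZero a p) ⟨v, hv⟩)
    have := h1.mul_left (d.inverted_commute_cZero C hs2 hs3 hv).inv_left
    rwa [mul_inv_cancel_right] at this
  have hpow : ∀ y : cI a, (y : G) ∈ coreC a → act a p y e = e → (act a p y) ^ p = 1 := by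
    intro y hy1 hy3
    refine MulEquiv.ext fun q => ?_
    obtain ⟨i, j, rfl⟩ := hgen q
    have hf1 : (act a p y) f = f * (act a p y f * f⁻¹) := by
      rw [eBar_comm a p f, inv_mul_cancel_right]
    rw [map_mul, map_zpow, map_zpow, mulAut_pow_fix hy3,
      mulAut_pow_shift (hzfix y hy3 _ (hfix y hy1 hy3 f)) hf1, eBar_pow, mul_one, MulAut.one_apply]
  -- `S` is nilpotent
  set K : Subgroup S := (cZero a p).subgroupOf S
  haveI : K.Normal := ⟨fun v hv y => mem_subgroupOf.2 (conj_mem_cZero y.2.2.choose (mem_subgroupOf.1 hv))⟩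
  have hpK : IsPGroup p (↥S ⧸ K) := by
    intro q
    obtain ⟨⟨y, hy1, hy2, hy3⟩, rfl⟩ := QuotientGroup.mk'_surjective K q
    refine ⟨2, ?_⟩
    rw [← map_pow]
    refine (QuotientGroup.eq_one_iff _).2 (mem_subgroupOf.2 ?_)
    show y ^ p ^ 2 ∈ cZero a p
    have h1 : act a p (⟨y, hy2⟩ ^ p : cI a) = 1 := by rw [map_pow]; exact hpow ⟨y, hy2⟩ hy1 hy3
    obtain ⟨e', he', hcz⟩ := d.exists_of_trivial C (pow_mem hy1 p) (act_eq_one_iff.1 h1)
    have hcomm : Commute (y ^ p * e'⁻¹) e' := (mem_centralizer_iff.1 hcz.2 e' he').symm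
    rw [pow_two, pow_mul, show y ^ p = y ^ p * e'⁻¹ * e' by group, hcomm.mul_pow, pow_eq_one_of_eP he',
      mul_one]
    exact pow_mem hcz p
  haveI : Group.IsNilpotent (↥S ⧸ K) := hpK.isNilpotent
  haveI : Group.IsNilpotent S := Subgroup.isNilpotent_of_ker_le_center (QuotientGroup.mk' K) (by
    rw [QuotientGroup.ker_mk']
    exact fun v hv => mem_center_iff.2 fun y => Subtype.ext (hSC y y.2 v (mem_subgroupOf.1 hv)).eq)
  obtain ⟨P⟩ := (inferInstance : Nonempty (Sylow p S))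
  set P' := (P : Subgroup S).map S.subtype with hP'
  have hP'O : P' ≤ coreC a := fun y hy => ((map_subtype_le _ : P' ≤ S) hy).1
  have hPn : ∀ o ∈ coreC a, ∀ y ∈ P', o * y * o⁻¹ ∈ P' := by
    intro o ho y hy
    have hy' : o * y * o⁻¹ ∈ S := hSn o ho y ((map_subtype_le _ : P' ≤ S) hy)
    obtain ⟨k, hk⟩ := (P.2.map S.subtype) ⟨y, hy⟩
    obtain ⟨Q, hQ⟩ := (show IsPGroup p (zpowers (⟨_, hy'⟩ : S)) from fun v => by
      obtain ⟨i, hi⟩ := v.2
      refine ⟨k, Subtype.ext ?_⟩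
      show (v : S) ^ p ^ k = 1
      rw [← hi, ← zpow_natCast, ← zpow_mul, mul_comm, zpow_mul, zpow_natCast]
      rw [show (⟨_, hy'⟩ : S) ^ p ^ k = 1 from Subtype.ext (by
        show (o * y * o⁻¹) ^ p ^ k = 1
        rw [conj_pow, show y ^ p ^ k = 1 from congrArg Subtype.val hk, mul_one, mul_inv_cancel]), one_zpow]).exists_le_sylow
    haveI := Sylow.unique_of_normal P inferInstance
    rw [Subsingleton.elim Q P] at hQ
    exact ⟨_, hQ (mem_zpowers _), rfl⟩
  have hPU : P' ≤ fitP a p := by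
    haveI : (P'.subgroupOf (coreC a)).Normal := ⟨fun y hy o => mem_subgroupOf.2 (hPn o o.2 y (mem_subgroupOf.1 hy))⟩
    have hle : P'.subgroupOf (coreC a) ≤ Cfsg.pCore p ↥(coreC a) :=
      le_sSup ⟨inferInstance, (P.2.map S.subtype).comap_of_injective (coreC a).subtype (subtype_injective _)⟩
    intro y hy
    exact ⟨⟨y, hP'O hy⟩, hle (mem_subgroupOf.2 hy), rfl⟩
  -- the `p`-part of `x`
  obtain ⟨k, l, hl, hkl⟩ := Nat.exists_eq_pow_mul_and_not_dvd (orderOf_pos (x : G)).ne' p d.mixed.hp.ne_one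
  have hxS : (x : G) ∈ S := ⟨hx, x.2, h⟩
  obtain ⟨Q, hQ⟩ := (show IsPGroup p (zpowers ((⟨x, hxS⟩ : S) ^ l)) from fun v => by
    obtain ⟨i, hi⟩ := v.2
    refine ⟨k, Subtype.ext ?_⟩
    show (v : S) ^ p ^ k = 1
    rw [← hi, ← zpow_natCast, ← zpow_mul, mul_comm, zpow_mul, zpow_natCast, ← pow_mul, mul_comm, ← hkl,
      Subgroup.orderOf_coe, show (orderOf (x : cI a)) = orderOf (⟨x, hxS⟩ : S) by
        rw [← Subgroup.orderOf_coe, orderOf_mk], pow_orderOf_eq_one, one_zpow]).exists_le_sylow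
  haveI := Sylow.unique_of_normal P inferInstance
  rw [Subsingleton.elim Q P] at hQ
  have hxU : (x : G) ^ l ∈ fitP a p := hPU ⟨_, hQ (mem_zpowers _), rfl⟩
  have h1 : act a p x ^ l = 1 := by
    rw [← map_pow]
    refine act_eq_one_iff.2 fun e' he' => ?_
    have := inv_mem (comm_mem_of_eP he' hxU)
    simpa [mul_assoc] using this
  exact hne (orderOf_eq_one_iff.1 (Nat.eq_one_of_dvd_coprimes
    ((d.mixed.hp.coprime_iff_not_dvd.2 hl)) (orderOf_dvd_of_pow_eq_one (hpow x hx h))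
    (orderOf_dvd_of_pow_eq_one h1)))

theorem ub_not_mem : d.ub ∉ zpowers d.xb := fun hmem => by
  obtain ⟨i, hi⟩ := mem_zpowers_iff.1 hmem
  have h1 := d.act_b_ub C
  rw [← hi, map_zpow, d.act_b_xb C] at h1
  exact d.ub_ne C (hi ▸ d.eBar_eq_one C h1)

/-- An element of `O(C(a))` fixing the first line pointwise acts trivially. -/
theorem act_eq_one_of_fix_x {x : cI a} (hx : (x : G) ∈ coreC a) (h : act a p x d.xb = d.xb) :
    act a p x = 1 :=
  d.unip_of C (f := d.ub) (d.xb_ne C) (d.gen C) (fun _ hy hy' q => d.fix_x C hy hy' q)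
    (by rw [d.act_b_xb C]; exact mem_zpowers _) (fun _ h1 h2 h3 => d.fixed_act C h1 h2 (Or.inl h3)) hx h

/-- An element of `O(C(a))` fixing the second line pointwise acts trivially. -/
theorem act_eq_one_of_fix_u {x : cI a} (hx : (x : G) ∈ coreC a) (h : act a p x d.ub = d.ub) :
    act a p x = 1 :=
  d.unip_of C (f := d.xb) (d.ub_ne C) (fun q => by
      obtain ⟨i, j, rfl⟩ := d.gen C q
      exact ⟨j, i, eBar_comm a p _ _⟩) (fun _ hy hy' q => d.fix_u C hy hy' q)
    (by rw [d.act_b_ub C]; exact inv_mem (mem_zpowers _))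
    (fun _ h1 h2 h3 => d.fixed_act C h1 h2 (Or.inr h3)) hx h

end SplitE

end CfsgLib.GW
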