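import Cfsg.Agent.Lib.GW.Component.Split3
import Cfsg.Agent.Lib.GW.Component.ShapeKill

/-!
The component leg, split case: orders, and the shape when the fixed points of `b` lie in `eP a p`.
-/

set_option autoImplicit false
set_option linter.unusedSectionVars false
set_option linter.style.haveILetI false

namespace CfsgLib.GW

open Subgroup CfsgLib.Invol

universe u

variable {G : Type u} [Group G] [Finite G]

namespace SplitE

variable (C : Ctx G) {a b g : G} {p : ℕ} {u x₀ : G} (d : SplitE a b g p u x₀)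

include C d

/-- An involution of `C(a)` other than `a` is again split. -/
theorem exists_splitE {j : G} (hj : orderOf j = 2) (hjc : j ∈ cI a) (hne : j ≠ a) :
    ∃ g' v y : G, SplitE a j g' p v y := by
  have hζ := d.zeta_mem C
  have hζinv := d.mixed.inverts C hj hjc hne hζ
  have hfix : eP a p ⊓ cI j ≠ ⊥ := fun hfix => by
    have hinvE := inverts_of_inf_eq_bot hj (fun _ he => conj_mem_eP hjc he) hfix
    refine d.zeta_ne C ?_
    have h1 := hinvE _ (mul_mem d.hx d.hu)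
    have h2 : x₀ * u = u * x₀ := by
      calc x₀ * u = ((x₀ * u)⁻¹)⁻¹ := (inv_inv _).symm
        _ = (j * x₀ * j⁻¹ * (j * u * j⁻¹))⁻¹ := by rw [← h1]; group
        _ = u * x₀ := by rw [hinvE _ d.hx, hinvE _ d.hu, mul_inv_rev, inv_inv, inv_inv]
    rw [h2]; group
  obtain ⟨g', hg'⟩ := d.mixed.mixed_of_fixed C hj hjc hne hfix
  obtain ⟨y, hy, hy1⟩ := (bot_or_exists_ne_one (eP a p ⊓ cI j)).resolve_left hfix
  obtain ⟨v, hv, hvz, hvinv⟩ : ∃ v ∈ eP a p, v ∉ zP a p ∧ j * v * j⁻¹ = v⁻¹ := by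
    by_contra hno
    push_neg at hno
    have hscal : ∀ e, ∀ he : e ∈ eP a p, act a p ⟨j, hjc⟩
        (QuotientGroup.mk (⟨e, he⟩ : eP a p)) = (QuotientGroup.mk (⟨e, he⟩ : eP a p) : EBar a p) := by
      intro e he
      rw [act_mk, mk_eq_mk, conjE_apply]
      by_contra hnz
      refine hno _ (mul_mem (conj_mem_eP hjc he) (inv_mem he))
        (fun h1 => hnz ?_) ?_
      · have h2 := conj_mem_zP (inv_mem (fitP_le_cI a p (eP_le_fitP a p he))) (inv_mem h1)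
        show (j * e * j⁻¹)⁻¹ * e ∈ zP a p
        simpa [mul_assoc] using h2
      · calc j * (j * e * j⁻¹ * e⁻¹) * j⁻¹ = (j * j) * e * (j⁻¹ * e⁻¹ * j⁻¹) := by group
          _ = e * (j * e⁻¹ * j⁻¹) := by rw [invol_mul_self hj, invol_inv hj]; group
          _ = (j * e * j⁻¹ * e⁻¹)⁻¹ := by group
    have hx := hscal _ d.hx
    have hu := hscal _ d.hu
    have htriv : act a p ⟨j, hjc⟩ = 1 := d.act_eq_one C hx hu
    have hall := act_eq_one_iff.1 htriv
    obtain ⟨z1, hz1⟩ : ∃ z1, z1 = j * x₀ * j⁻¹ * x₀⁻¹ := ⟨_, rfl⟩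
    obtain ⟨z2, hz2⟩ : ∃ z2, z2 = j * u * j⁻¹ * u⁻¹ := ⟨_, rfl⟩
    have h1 : z1 ∈ zP a p := hz1 ▸ hall _ d.hx
    have h2 : z2 ∈ zP a p := hz2 ▸ hall _ d.hu
    have hxU := eP_le_fitP a p d.hx
    have huU := eP_le_fitP a p d.hu
    have e : j * (x₀ * u * x₀⁻¹ * u⁻¹) * j⁻¹ = x₀ * u * x₀⁻¹ * u⁻¹ := by
      calc j * (x₀ * u * x₀⁻¹ * u⁻¹) * j⁻¹
          = (z1 * x₀) * (z2 * u) * (z1 * x₀)⁻¹ * (z2 * u)⁻¹ := by rw [hz1, hz2]; group
        _ = z1 * (x₀ * z2) * u * x₀⁻¹ * z1⁻¹ * u⁻¹ * z2⁻¹ := by group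
        _ = (z1 * z2) * (x₀ * u * x₀⁻¹) * z1⁻¹ * u⁻¹ * z2⁻¹ := by
          rw [← (h2.2.1 _ hxU).eq]; group
        _ = (z1 * z2) * z1⁻¹ * (x₀ * u * x₀⁻¹ * u⁻¹) * z2⁻¹ := by
          rw [mul_assoc (z1 * z2), ← (h1.2.1 _ (mul_mem (mul_mem hxU huU) (inv_mem hxU))).inv_left.eq]
          group
        _ = z2 * (x₀ * u * x₀⁻¹ * u⁻¹) * z2⁻¹ := by
          rw [show z1 * z2 * z1⁻¹ = z2 by rw [(h1.2.1 _ h2.1).eq, mul_inv_cancel_right]]
        _ = _ := by rw [(h2.2.1 _ hζ.1).eq, mul_inv_cancel_right]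
    rw [e] at hζinv
    exact d.zeta_ne C (eq_one_of_inverse_self (zP_le_coreC a p hζ) hζinv)
  exact ⟨g', v, y, ⟨hg', d.cent, hv, hvz, hvinv, hy.1, hy.2, hy1⟩⟩

theorem eP_inf_cZero : eP a p ⊓ cZero a p = zP a p := by
  refine le_antisymm (fun e he => ⟨eP_le_fitP a p he.1, fun v hv => ?_, pow_eq_one_of_eP he.1⟩)
    (le_inf (d.mixed.zP_le_eP C) (d.zP_le_cZero C))
  -- `e` commutes with `x₀` and `u`, so it is congruent to `1`
  obtain ⟨i, j, z, hz, hee⟩ := d.span C he.1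
  have hzU := hz.2.1
  have hζ := d.zeta_mem C
  have hxU := eP_le_fitP a p d.hx
  have huU := eP_le_fitP a p d.hu
  have hij : ∀ w ∈ eP a p, Commute e w := fun w hw => (mem_centralizer_iff.1 he.2.2 w hw).symm
  have h1 : x₀ * (x₀ ^ i * u ^ j * z) * x₀⁻¹ = x₀ ^ i * u ^ j * z := by
    rw [← hee, (hij _ d.hx).symm.eq, mul_inv_cancel_right]
  have hj0 : u ^ j = 1 := by
    have h2 : x₀ * u ^ j * x₀⁻¹ = (x₀ * u * x₀⁻¹ * u⁻¹) ^ j * u ^ j := by
      rw [← conj_zpow, ← (hζ.2.1 u huU).mul_zpow, inv_mul_cancel_right]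
    have h3 : x₀ * u ^ j * x₀⁻¹ = u ^ j := by
      calc x₀ * u ^ j * x₀⁻¹
          = (x₀ ^ i)⁻¹ * (x₀ * (x₀ ^ i * u ^ j * z) * x₀⁻¹) * (x₀ * z⁻¹ * x₀⁻¹) := by group
        _ = (x₀ ^ i)⁻¹ * (x₀ ^ i * u ^ j * z) * z⁻¹ := by
          rw [h1, ← (hzU _ hxU).inv_left.eq, mul_inv_cancel_right]
        _ = u ^ j := by group
    rw [h2, mul_eq_right] at h3
    have h4 := orderOf_dvd_iff_zpow_eq_one.2 h3
    rw [d.zeta_order C] at h4
    obtain ⟨l, rfl⟩ := h4
    rw [zpow_mul, zpow_natCast, d.u_pow C, one_zpow]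
  have hi0 : x₀ ^ i = 1 := by
    rw [hj0, mul_one] at hee
    have h2 : u * x₀ ^ i * u⁻¹ = ((x₀ * u * x₀⁻¹ * u⁻¹) ^ i)⁻¹ * x₀ ^ i := by
      rw [← conj_zpow, ← inv_zpow, ← (hζ.2.1 x₀ hxU).inv_left.mul_zpow]
      congr 1
      group
    have h3 : u * x₀ ^ i * u⁻¹ = x₀ ^ i := by
      calc u * x₀ ^ i * u⁻¹ = u * e * u⁻¹ * (u * z⁻¹ * u⁻¹) := by rw [hee]; group
        _ = e * z⁻¹ := by
          rw [(hij _ d.hu).symm.eq, mul_inv_cancel_right, ← (hzU _ huU).inv_left.eq,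
            mul_inv_cancel_right]
        _ = x₀ ^ i := by rw [hee, mul_inv_cancel_right]
    rw [h2, mul_eq_right, inv_eq_one] at h3
    have h4 := orderOf_dvd_iff_zpow_eq_one.2 h3
    rw [d.zeta_order C] at h4
    obtain ⟨l, rfl⟩ := h4
    rw [zpow_mul, zpow_natCast, d.x_pow C, one_zpow]
  rw [hee, hi0, hj0, one_mul, one_mul]
  exact hz.2.1 v hv

/-- The kernel of the action on `O(C(a))`. -/
theorem act_eq_one_iff_mem {y : G} (hy : y ∈ coreC a) :
    act a p ⟨y, coreC_le_cI a hy⟩ = 1 ↔ y ∈ eP a p ⊔ cZero a p := by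
  refine ⟨fun h => ?_, fun h => act_eq_one_iff.2 ?_⟩
  · obtain ⟨e, he, hc⟩ := d.exists_of_trivial C hy (act_eq_one_iff.1 h)
    rw [show y = y * e⁻¹ * e by group]
    exact mul_mem (mem_sup_right hc) (mem_sup_left he)
  · have hle : eP a p ⊔ cZero a p ≤ actsTriv a p := sup_le
      (fun e he => ⟨fitP_le_coreC a p (eP_le_fitP a p he), fun v hv =>
        comm_mem_of_eP he (eP_le_fitP a p hv)⟩)
      (fun v hv => ⟨hv.1, fun e he => by
        rw [← mem_centralizer_iff.1 hv.2 e he, mul_inv_cancel_right, mul_inv_cancel]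
        exact one_mem _⟩)
    exact (hle h).2

/-- An element acting trivially which an involution fixes lies in `eP a p`. -/
theorem fixed_trivial {y j : G} (hy : y ∈ coreC a) (hj : orderOf j = 2) (hjc : j ∈ cI a) (hne : j ≠ a)
    (hyj : y ∈ cI j) (h : act a p ⟨y, coreC_le_cI a hy⟩ = 1) : y ∈ eP a p := by
  obtain ⟨e, he, hc⟩ := d.exists_of_trivial C hy (act_eq_one_iff.1 h)
  set c := y * e⁻¹ with hcdef
  have h1 := d.cZero_inverts C hj hjc hne hc
  have h2 : c⁻¹ * (j * e * j⁻¹) = c * e := by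
    rw [← h1, hcdef]
    calc j * (y * e⁻¹) * j⁻¹ * (j * e * j⁻¹) = j * y * j⁻¹ := by group
      _ = y * e⁻¹ * e := by rw [(mem_cI.1 hyj).symm]; group
  have hcc : c * c ∈ eP a p := by
    have hce : Commute c e := (mem_centralizer_iff.1 hc.2 e he).symm
    rw [show c * c = j * e * j⁻¹ * e⁻¹ by
      calc c * c = c * (c * e) * e⁻¹ := by group
        _ = j * e * j⁻¹ * e⁻¹ := by rw [← h2]; group]
    exact mul_mem (conj_mem_eP hjc he) (inv_mem he)
  obtain ⟨k, hk⟩ := odd_orderOf_mem_coreC hc.1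
  have hce : c ∈ eP a p := by
    rw [show c = (c * c) ^ (k + 1) by
      rw [← pow_two, ← pow_mul, show 2 * (k + 1) = orderOf c + 1 by omega, pow_succ, pow_orderOf_eq_one,
        one_mul]]
    exact pow_mem hcc _
  rw [show y = c * e by rw [hcdef]; group]
  exact mul_mem hce he

theorem card_eBar : Nat.card (EBar a p) = p ^ 2 := by
  haveI := Fact.mk d.mixed.hp
  have hox : orderOf d.xb = p := orderOf_eq_prime (eBar_pow _) (d.xb_ne C)
  have hou : orderOf d.ub = p := orderOf_eq_prime (eBar_pow _) (d.ub_ne C)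
  let f : zpowers d.xb × zpowers d.ub → EBar a p := fun q => (q.1 : EBar a p) * q.2
  have hf : Function.Bijective f := by
    refine ⟨fun ⟨⟨v, hv⟩, ⟨w, hw⟩⟩ ⟨⟨v', hv'⟩, ⟨w', hw'⟩⟩ he => ?_, fun q => ?_⟩
    · have he' : v * w = v' * w' := he
      have h1 : v'⁻¹ * v = w' * w⁻¹ := by
        calc v'⁻¹ * v = v'⁻¹ * (v * w) * w⁻¹ := by group
          _ = w' * w⁻¹ := by rw [he']; group
      have h2 : v'⁻¹ * v = 1 := by
        obtain ⟨i, hi⟩ := mem_zpowers_iff.1 (show v'⁻¹ * v ∈ zpowers d.xb from mul_mem (inv_mem hv') hv)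
        obtain ⟨k, hk⟩ := mem_zpowers_iff.1 (show v'⁻¹ * v ∈ zpowers d.ub from
          h1 ▸ mul_mem hw' (inv_mem hw))
        refine d.eBar_eq_one C ?_
        have h3 : act a p ⟨b, d.hbc C⟩ (v'⁻¹ * v) = v'⁻¹ * v := by rw [← hi, map_zpow, d.act_b_xb C]
        have h4 : act a p ⟨b, d.hbc C⟩ (v'⁻¹ * v) = (v'⁻¹ * v)⁻¹ := by
          rw [← hk, map_zpow, d.act_b_ub C, inv_zpow]
        exact h3.symm.trans h4
      have hvv : v = v' := (inv_mul_eq_one.1 h2).symm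
      subst hvv
      obtain rfl := mul_left_cancel he'
      rfl
    · obtain ⟨i, k, rfl⟩ := d.gen C q
      exact ⟨⟨⟨_, zpow_mem (mem_zpowers _) i⟩, ⟨_, zpow_mem (mem_zpowers _) k⟩⟩, rfl⟩
  rw [← Nat.card_eq_of_bijective f hf, Nat.card_prod, Nat.card_zpowers, Nat.card_zpowers, hox, hou,
    pow_two]

theorem card_eP : Nat.card (eP a p) = p ^ 3 := by
  obtain ⟨z, ho, hall⟩ := d.mixed.exists_generator C
  rw [card_eq_card_quotient_mul_card_subgroup (zE a p), show Nat.card (eP a p ⧸ zE a p) = p ^ 2 from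
    d.card_eBar C, Nat.card_congr (subgroupOfEquivOfLe (d.mixed.zP_le_eP C)).toEquiv, hall,
    Nat.card_zpowers, ho, pow_succ p 2]

/-- When the fixed points of `b` act trivially, the elements of `O(C(a))` act as inverted
automorphisms. -/
theorem conj_b_act (hW : coreC a ⊓ cI b ≤ eP a p) {o : G} (ho : o ∈ coreC a) :
    act a p ⟨b, d.hbc C⟩ * act a p ⟨o, coreC_le_cI a ho⟩ * act a p ⟨b, d.hbc C⟩ =
      (act a p ⟨o, coreC_le_cI a ho⟩)⁻¹ := by
  obtain ⟨s, hs1, hs2, hs3, hs4⟩ := exists_sqrt_inverted d.mixed.four.hb (d.hbc C) ho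
  have h1 : act a p ⟨o * s, coreC_le_cI a (mul_mem ho hs2)⟩ = 1 :=
    (d.act_eq_one_iff_mem C (mul_mem ho hs2)).2 (mem_sup_left (hW ⟨mul_mem ho hs2, hs4⟩))
  rw [show (⟨o * s, _⟩ : cI a) = ⟨o, coreC_le_cI a ho⟩ * ⟨s, coreC_le_cI a hs2⟩ from rfl, map_mul,
    mul_eq_one_iff_eq_inv] at h1
  rw [h1, inv_inv, ← map_inv, ← map_mul, ← map_mul]
  refine congrArg _ (Subtype.ext ?_)
  show b * s⁻¹ * b = s
  nth_rw 2 [← invol_inv d.mixed.four.hb]
  rw [show b * s⁻¹ * b⁻¹ = (b * s * b⁻¹)⁻¹ by group, hs3, inv_inv]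

/-- The orbit bound for the lines. -/
theorem two_index_le (hW : coreC a ⊓ cI b ≤ eP a p) :
    2 * (eP a p ⊔ cZero a p).relIndex (coreC a) ≤ p + 1 := by
  haveI := Fact.mk d.mixed.hp
  let φ : coreC a →* MulAut (EBar a p) := (act a p).comp (inclusion (coreC_le_cI a))
  have hker : φ.ker = (eP a p ⊔ cZero a p).subgroupOf (coreC a) := by
    ext ⟨y, hy⟩
    rw [MonoidHom.mem_ker, mem_subgroupOf]
    exact d.act_eq_one_iff_mem C hy
  have hc : (eP a p ⊔ cZero a p).relIndex (coreC a) = Nat.card φ.range := by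
    rw [relIndex, ← hker, index_ker]
  set B := act a p ⟨b, d.hbc C⟩
  have hinvr : ∀ σ ∈ φ.range, B * σ * B = σ⁻¹ := by
    rintro _ ⟨⟨o, ho⟩, rfl⟩
    exact d.conj_b_act C hW ho
  have hBB : ∀ q, B (B q) = q := fun q => by
    rw [← MulAut.mul_apply, ← map_mul, show (⟨b, d.hbc C⟩ : cI a) * ⟨b, d.hbc C⟩ = 1 from
      Subtype.ext (invol_mul_self d.mixed.four.hb), map_one, MulAut.one_apply]
  have hfixline : ∀ σ ∈ φ.range, (σ d.xb = d.xb → σ = 1) ∧ (σ d.ub = d.ub → σ = 1) := by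
    rintro _ ⟨⟨o, ho⟩, rfl⟩
    exact ⟨fun h => d.act_eq_one_of_fix_x C ho h, fun h => d.act_eq_one_of_fix_u C ho h⟩
  -- an inverted automorphism fixing one of the lines
  have hsquare : ∀ σ ∈ φ.range, ∀ q : EBar a p, σ (σ q) = q → σ q = q := by
    intro σ hσ q hq
    obtain ⟨r, hr⟩ := exists_pow_eq_self_of_coprime (x := σ) (n := 2) (by
      obtain ⟨⟨o, ho⟩, rfl⟩ := hσ
      exact Nat.coprime_two_left.2 ((odd_orderOf_mem_coreC ho).of_dvd_nat
        ((orderOf_map_dvd φ _).trans (by rw [orderOf_mk]))))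
    rw [← hr]
    exact mulAut_pow_fix (by rw [pow_two, MulAut.mul_apply, hq]) r
  have hBxb : B d.xb = d.xb := d.act_b_xb C
  have hBub : B d.ub = d.ub⁻¹ := d.act_b_ub C
  have hBσ : ∀ σ ∈ φ.range, ∀ q, B (σ (B q)) = σ⁻¹ q := fun σ hσ q => by
    rw [← hinvr σ hσ]; rfl
  have hl1 : ∀ σ ∈ φ.range, ∀ i : ℤ, σ d.xb = d.xb ^ i → σ = 1 := by
    intro σ hσ i hi
    refine (hfixline σ hσ).1 (hsquare σ hσ _ ?_)
    have h1 := hBσ σ hσ d.xb
    rw [hBxb, hi, map_zpow, hBxb, ← hi] at h1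
    conv_lhs => rw [h1]
    exact MulEquiv.apply_symm_apply σ d.xb
  have hl2 : ∀ σ ∈ φ.range, ∀ i : ℤ, σ d.ub = d.ub ^ i → σ = 1 := by
    intro σ hσ i hi
    refine (hfixline σ hσ).2 (hsquare σ hσ _ ?_)
    have h1 := hBσ σ hσ d.ub
    rw [hBub, map_inv, map_inv, hi, map_zpow, hBub, inv_zpow, inv_inv, ← hi] at h1
    conv_lhs => rw [h1]
    exact MulEquiv.apply_symm_apply σ d.ub
  have hl12 : ∀ σ ∈ φ.range, ∀ i : ℤ, σ d.xb ≠ d.ub ^ i := by
    intro σ hσ i hi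
    have h1 := hBσ σ hσ d.xb
    rw [hBxb, hi, map_zpow, hBub, inv_zpow, ← hi] at h1
    have h2 : σ (σ d.xb) = d.xb⁻¹ := by
      have h3 : σ (σ d.xb)⁻¹ = d.xb := by rw [h1]; exact MulEquiv.apply_symm_apply σ d.xb
      rw [map_inv] at h3
      exact inv_eq_iff_eq_inv.1 h3
    obtain ⟨r, hr⟩ := exists_pow_eq_self_of_coprime (x := σ) (n := 4) (by
      obtain ⟨⟨o, ho⟩, rfl⟩ := hσ
      exact (Nat.coprime_two_left.2 ((odd_orderOf_mem_coreC ho).of_dvd_nat
        ((orderOf_map_dvd φ _).trans (by rw [orderOf_mk])))).pow_left 2)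
    have h5 : σ d.xb = d.xb := by
      rw [← hr]
      refine mulAut_pow_fix ?_ r
      rw [pow_succ, pow_succ, pow_succ, pow_one, MulAut.mul_apply, MulAut.mul_apply, MulAut.mul_apply,
        h2, map_inv, map_inv, h2, inv_inv]
    rw [h5, h5] at h2
    exact d.xb_ne C (d.eBar_eq_one C h2)
  -- the count
  let A := {q : EBar a p // q ≠ 1}
  let P1 := {q : zpowers d.xb // q ≠ 1}
  let P2 := {q : zpowers d.ub // q ≠ 1}
  let F : φ.range × P1 ⊕ φ.range × P2 → A := fun s => match s with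
    | .inl (σ, q) => ⟨(σ : MulAut (EBar a p)) q.1,
        fun e => q.2 (Subtype.ext ((MulEquiv.map_eq_one_iff (σ : MulAut (EBar a p))).1 e))⟩
    | .inr (σ, q) => ⟨(σ : MulAut (EBar a p)) q.1,
        fun e => q.2 (Subtype.ext ((MulEquiv.map_eq_one_iff (σ : MulAut (EBar a p))).1 e))⟩
  have hgen1 : ∀ {w v : EBar a p}, v ∈ zpowers w → v ≠ 1 → zpowers v = zpowers w := fun hv hv1 =>
    zpowers_eq_of_prime d.mixed.hp (eBar_pow _) hv hv1
  have hsame : ∀ (w : EBar a p), (∀ σ ∈ φ.range, ∀ i : ℤ, σ w = w ^ i → σ = 1) →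
      ∀ σ ∈ φ.range, ∀ τ ∈ φ.range, ∀ v ∈ zpowers w, v ≠ 1 → ∀ v' ∈ zpowers w,
        (σ : MulAut (EBar a p)) v = τ v' → σ = τ := by
    intro w hw σ hσ τ hτ v hv hv1 v' hv' he
    have h1 : (τ⁻¹ * σ) v = v' := by rw [MulAut.mul_apply, he]; exact MulEquiv.symm_apply_apply τ v'
    obtain ⟨n, hn⟩ := mem_zpowers_iff.1 ((hgen1 hv hv1).symm ▸ mem_zpowers w : w ∈ zpowers v)
    obtain ⟨i, hi⟩ := mem_zpowers_iff.1 (zpow_mem hv' n)
    have := hw _ (mul_mem (inv_mem hτ) hσ) i (by rw [← hn, map_zpow, h1, hn, hi])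
    exact (inv_mul_eq_one.1 this).symm
  have hF : Function.Injective F := by
    have hcross : ∀ (σ τ : φ.range) (q : P1) (q' : P2), (F (.inl (σ, q))).1 ≠ (F (.inr (τ, q'))).1 := by
      rintro ⟨σ, hσ⟩ ⟨τ, hτ⟩ ⟨⟨v, hv⟩, hv1⟩ ⟨⟨v', hv'⟩, _⟩ hee
      have he' : σ v = τ v' := hee
      have h1 : (τ⁻¹ * σ) v = v' := by
        rw [MulAut.mul_apply, he']; exact MulEquiv.symm_apply_apply τ v'
      obtain ⟨n, hn⟩ := mem_zpowers_iff.1 ((hgen1 hv fun e => hv1 (Subtype.ext e)).symm ▸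
        mem_zpowers d.xb : d.xb ∈ zpowers v)
      obtain ⟨i, hi⟩ := mem_zpowers_iff.1 (zpow_mem hv' n)
      exact hl12 _ (mul_mem (inv_mem hτ) hσ) i (by rw [← hn, map_zpow, h1, hi])
    rintro (⟨⟨σ, hσ⟩, ⟨⟨v, hv⟩, hv1⟩⟩ | ⟨⟨σ, hσ⟩, ⟨⟨v, hv⟩, hv1⟩⟩)
      (⟨⟨τ, hτ⟩, ⟨⟨v', hv'⟩, hv1'⟩⟩ | ⟨⟨τ, hτ⟩, ⟨⟨v', hv'⟩, hv1'⟩⟩) he
    · have he' : σ v = τ v' := congrArg Subtype.val he
      obtain rfl := hsame _ hl1 σ hσ τ hτ v hv (fun e => hv1 (Subtype.ext e)) v' hv' he'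
      obtain rfl := σ.injective he'
      rfl
    · exact absurd (congrArg Subtype.val he) (hcross _ _ _ _)
    · exact absurd (congrArg Subtype.val he).symm (hcross _ _ _ _)
    · have he' : σ v = τ v' := congrArg Subtype.val he
      obtain rfl := hsame _ hl2 σ hσ τ hτ v hv (fun e => hv1 (Subtype.ext e)) v' hv' he'
      obtain rfl := σ.injective he'
      rfl
  have hcard := Nat.card_le_card_of_injective F hF
  have hne : ∀ (X : Type u) [Group X] [Finite X], Nat.card {q : X // q ≠ 1} = Nat.card X - 1 := by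
    intro X _ _
    classical
    have := Fintype.ofFinite X
    rw [Nat.card_eq_fintype_card, Nat.card_eq_fintype_card, Fintype.card_subtype_compl,
      Fintype.card_subtype_eq]
  rw [Nat.card_sum, Nat.card_prod, Nat.card_prod, hne, hne, hne, d.card_eBar C, Nat.card_zpowers,
    Nat.card_zpowers, orderOf_eq_prime (eBar_pow _) (d.xb_ne C), orderOf_eq_prime (eBar_pow _) (d.ub_ne C),
    ← two_mul, show p ^ 2 - 1 = (p + 1) * (p - 1) by rw [← Nat.sq_sub_sq, one_pow]] at hcard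
  rw [hc]
  exact Nat.le_of_mul_le_mul_right (by linarith) (Nat.sub_pos_of_lt d.mixed.hp.one_lt)

/-- The shape is contradictory when the fixed points of every involution lie in `eP a p`. -/
theorem false_of_fixed_le (hW : ∀ j, orderOf j = 2 → j ∈ cI a → j ≠ a → coreC a ⊓ cI j ≤ eP a p) :
    False := by
  haveI := Fact.mk d.mixed.hp
  have hbc := d.hbc C
  have hWb := hW b d.mixed.four.hb hbc d.mixed.four.hab.symm
  have hEO : eP a p ≤ coreC a := (eP_le_fitP a p).trans (fitP_le_coreC a p)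
  have hEn : cI a ≤ normalizer (eP a p : Set G) :=
    fun x hx => mem_normalizer_iff_of_finite fun _ he => conj_mem_eP hx he
  obtain ⟨z, hzo, hall⟩ := d.mixed.exists_generator C
  have hz : z ∈ zP a p := hall.symm ▸ mem_zpowers z
  refine d.mixed.shape_false C (c := (eP a p ⊔ cZero a p).relIndex (coreC a)) hz
    { hp := d.mixed.hp
      hp2 := d.mixed.ne_two
      ha := d.mixed.four.ha
      hb := d.mixed.four.hb
      hba := d.mixed.four.hab.symm
      hbc := hbc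
      hOa := coreC_le_cI a
      hOodd := odd_coreC a
      hbO := cI_le_normalizer_coreC a hbc
      hEO := hEO
      hE := d.card_eP C
      hOE := (coreC_le_cI a).trans hEn
      hEab := fun hab => d.zeta_ne C (by rw [hab _ d.hx _ d.hu]; group)
      hC0 := rfl
      hcyc := d.cZero_cyclic C
      hOC0 := fun x hx => mem_normalizer_iff_of_finite fun _ hv => conj_mem_cZero (coreC_le_cI a hx) hv
      hbC0 := fun _ hv => d.cZero_inverts C d.mixed.four.hb hbc d.mixed.four.hab.symm hv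
      hzE := d.mixed.zP_le_eP C hz
      hzC0 := d.zP_le_cZero C hz
      hzp := hzo
      hfix := fun j hj hjc hne => ?_
      hW := hWb
      hc := rfl
      hcp := d.two_index_le C hWb } hEn
  obtain ⟨g', v, y, d'⟩ := d.exists_splitE C hj hjc hne
  have heq : coreC a ⊓ cI j = zpowers y := by
    rw [← d'.fixed_eq C]
    exact le_antisymm (le_inf ((hW j hj hjc hne).trans (eP_le_fitP a p)) inf_le_right)
      (inf_le_inf_right _ (fitP_le_coreC a p))
  show Nat.card (coreC a ⊓ cI j : Subgroup G) = p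
  rw [heq, Nat.card_zpowers, d'.orderOf_x C]

end SplitE

end CfsgLib.GW
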