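import Cfsg.Agent.Lib.GW.Component.Split4
import Cfsg.Agent.Lib.GW.Component.GlTwo
import Cfsg.Agent.Lib.GW.Component.Ratio

/-!
The component leg, split case: the action is fixed-point-free, and fixed points of an involution
outside `eP a p` make both lines invariant.
-/

set_option autoImplicit false
set_option linter.unusedSectionVars false
set_option linter.style.haveILetI false

namespace CfsgLib.GW

open Subgroup CfsgLib.Invol CfsgLib.BlockA.DihedralBlock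

universe u

variable {G : Type u} [Group G] [Finite G] {a : G} {p : ℕ}

theorem comm_zpow_left {u v ζ : G} (h : u * v * u⁻¹ * v⁻¹ = ζ) (hc : Commute ζ u) (n : ℤ) :
    u ^ n * v * (u ^ n)⁻¹ = ζ ^ n * v := by
  have h1 : v * u * v⁻¹ = ζ⁻¹ * u := by rw [← h]; group
  have h2 : v * u ^ n * v⁻¹ = (ζ⁻¹) ^ n * u ^ n := by rw [← conj_zpow, h1, hc.inv_left.mul_zpow]
  calc u ^ n * v * (u ^ n)⁻¹
      = ((ζ⁻¹) ^ n)⁻¹ * (v * u ^ n * v⁻¹) * v * (u ^ n)⁻¹ := by rw [h2]; group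
    _ = ((ζ⁻¹) ^ n)⁻¹ * v := by group
    _ = ζ ^ n * v := by rw [inv_zpow, inv_inv]

theorem comm_zpow_right {u v ζ : G} (h : u * v * u⁻¹ * v⁻¹ = ζ) (hc : Commute ζ v) (n : ℤ) :
    u * v ^ n * u⁻¹ = ζ ^ n * v ^ n := by
  rw [← conj_zpow, ← hc.mul_zpow, ← h]
  congr 1
  group

namespace SplitE

variable (C : Ctx G) {b g : G} {u x₀ : G} (d : SplitE a b g p u x₀)

include C d

/-- The determinant is one. -/
theorem det_one {y : cI a} (hy : (y : G) ∈ coreC a) {α β γ δ : ℤ}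
    (h1 : act a p y d.xb = d.xb ^ α * d.ub ^ β) (h2 : act a p y d.ub = d.xb ^ γ * d.ub ^ δ) :
    (p : ℤ) ∣ α * δ - β * γ - 1 := by
  have hxU := eP_le_fitP a p d.hx
  have huU := eP_le_fitP a p d.hu
  obtain ⟨ζ, hζdef⟩ : ∃ ζ, ζ = x₀ * u * x₀⁻¹ * u⁻¹ := ⟨_, rfl⟩
  have hζ : ζ ∈ zP a p := hζdef ▸ d.zeta_mem C
  have hcx : Commute ζ x₀ := hζ.2.1 _ hxU
  have hcu : Commute ζ u := hζ.2.1 _ huU
  rw [← QuotientGroup.mk_zpow, ← QuotientGroup.mk_zpow, ← QuotientGroup.mk_mul, act_mk, mk_eq_mk,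
    conjE_apply] at h1 h2
  have hx1 : ((y : G) * x₀ * (y : G)⁻¹)⁻¹ * (x₀ ^ α * u ^ β) ∈ zP a p := h1
  have hu1 : ((y : G) * u * (y : G)⁻¹)⁻¹ * (x₀ ^ γ * u ^ δ) ∈ zP a p := h2
  obtain ⟨z1, hz1, ex⟩ : ∃ z1 ∈ zP a p, (y : G) * x₀ * (y : G)⁻¹ = x₀ ^ α * u ^ β * z1 :=
    ⟨_, inv_mem hx1, by group⟩
  obtain ⟨z2, hz2, eu⟩ : ∃ z2 ∈ zP a p, (y : G) * u * (y : G)⁻¹ = x₀ ^ γ * u ^ δ * z2 :=
    ⟨_, inv_mem hu1, by group⟩
  have hP : x₀ ^ α * u ^ β ∈ fitP a p := mul_mem (zpow_mem hxU _) (zpow_mem huU _)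
  have hQ : x₀ ^ γ * u ^ δ ∈ fitP a p := mul_mem (zpow_mem hxU _) (zpow_mem huU _)
  -- commutators of the spanning elements
  have exu : ∀ i k : ℤ, x₀ ^ i * u ^ k * (x₀ ^ i)⁻¹ = ζ ^ (i * k) * u ^ k := by
    intro i k
    have h := comm_zpow_left (u := x₀) (v := u) hζdef.symm hcx i
    rw [← conj_zpow, h, (hcu.zpow_left i).mul_zpow, ← zpow_mul]
  have eux : ∀ k i : ℤ, u ^ k * x₀ ^ i * (u ^ k)⁻¹ = ζ ^ (-(i * k)) * x₀ ^ i := by
    intro k i
    calc u ^ k * x₀ ^ i * (u ^ k)⁻¹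
        = (ζ ^ (i * k))⁻¹ * (x₀ ^ i * u ^ k * (x₀ ^ i)⁻¹) * x₀ ^ i * (u ^ k)⁻¹ := by
          rw [exu]; group
      _ = (ζ ^ (i * k))⁻¹ * x₀ ^ i := by group
      _ = _ := by rw [zpow_neg]
  have key : (x₀ ^ α * u ^ β) * (x₀ ^ γ * u ^ δ) * (x₀ ^ α * u ^ β)⁻¹ =
      ζ ^ (α * δ - β * γ) * (x₀ ^ γ * u ^ δ) := by
    calc (x₀ ^ α * u ^ β) * (x₀ ^ γ * u ^ δ) * (x₀ ^ α * u ^ β)⁻¹
        = x₀ ^ α * ((u ^ β * x₀ ^ γ * (u ^ β)⁻¹) * u ^ δ) * (x₀ ^ α)⁻¹ := by group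
      _ = x₀ ^ α * ζ ^ (-(γ * β)) * (x₀ ^ γ * u ^ δ) * (x₀ ^ α)⁻¹ := by rw [eux]; group
      _ = ζ ^ (-(γ * β)) * x₀ ^ γ * (x₀ ^ α * u ^ δ * (x₀ ^ α)⁻¹) := by
          rw [← (hcx.zpow_zpow (-(γ * β)) α).eq]; group
      _ = ζ ^ (-(γ * β)) * x₀ ^ γ * (ζ ^ (α * δ) * u ^ δ) := by rw [exu]
      _ = ζ ^ (-(γ * β)) * (x₀ ^ γ * ζ ^ (α * δ)) * u ^ δ := by group
      _ = ζ ^ (α * δ - β * γ) * (x₀ ^ γ * u ^ δ) := by
          rw [← (hcx.zpow_zpow (α * δ) γ).eq]; group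
  have hfix : ζ ^ (α * δ - β * γ) = ζ := by
    have e := d.cent _ hy _ hζ
    have e1 : (y : G) * ζ * (y : G)⁻¹ = ζ := by rw [e.eq, mul_inv_cancel_right]
    calc ζ ^ (α * δ - β * γ)
        = (x₀ ^ α * u ^ β) * (x₀ ^ γ * u ^ δ) * (x₀ ^ α * u ^ β)⁻¹ * (x₀ ^ γ * u ^ δ)⁻¹ := by
          rw [key]; group
      _ = (x₀ ^ α * u ^ β) * ((x₀ ^ γ * u ^ δ) * (z1 * z1⁻¹)) * (x₀ ^ α * u ^ β)⁻¹ *
            (x₀ ^ γ * u ^ δ)⁻¹ := by group
      _ = (x₀ ^ α * u ^ β) * (z1 * (x₀ ^ γ * u ^ δ) * z1⁻¹) * (x₀ ^ α * u ^ β)⁻¹ *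
            (x₀ ^ γ * u ^ δ)⁻¹ := by
          rw [(hz1.2.1 _ hQ).eq]; group
      _ = (x₀ ^ α * u ^ β * z1) * ((x₀ ^ γ * u ^ δ) * z2 * ((x₀ ^ α * u ^ β * z1)⁻¹ * z2⁻¹)) *
            (x₀ ^ γ * u ^ δ)⁻¹ := by
          rw [(hz2.2.1 _ (inv_mem (mul_mem hP hz1.1))).inv_left.symm.eq]; group
      _ = (x₀ ^ α * u ^ β * z1) * (x₀ ^ γ * u ^ δ * z2) * (x₀ ^ α * u ^ β * z1)⁻¹ *
            (x₀ ^ γ * u ^ δ * z2)⁻¹ := by group
      _ = (y : G) * ζ * (y : G)⁻¹ := by rw [← ex, ← eu, hζdef]; group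
      _ = ζ := e1
  have h3 : ζ ^ (α * δ - β * γ - 1) = 1 := by rw [zpow_sub_one, hfix, mul_inv_cancel]
  have h4 := orderOf_dvd_iff_zpow_eq_one.2 h3
  rwa [hζdef, d.zeta_order C] at h4

/-- Coordinates. -/
theorem coord {i j : ℤ} (h : d.xb ^ i * d.ub ^ j = 1) : d.xb ^ i = 1 ∧ d.ub ^ j = 1 := by
  have h1 := congrArg (act a p ⟨b, d.hbc C⟩) h
  rw [map_mul, map_zpow, map_zpow, d.act_b_xb C, d.act_b_ub C, map_one, inv_zpow, ← h] at h1
  have hj := d.eBar_eq_one C (mul_left_cancel h1).symm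
  exact ⟨by rwa [hj, mul_one] at h, hj⟩

/-- No element fixed by `b` acts as a scalar. -/
theorem not_scalar {w : cI a} (hw : (w : G) ∈ coreC a) (hne : act a p w ≠ 1) {n : ℤ}
    (h1 : act a p w d.xb = d.xb ^ n) (h2 : act a p w d.ub = d.ub ^ n) : False := by
  have hdet := d.det_one C hw (α := n) (β := 0) (γ := 0) (δ := n) (by rw [h1, zpow_zero, mul_one])
    (by rw [h2, zpow_zero, one_mul])
  obtain ⟨l, hl⟩ := hdet
  have hsq : ∀ q : EBar a p, q ^ (n * n) = q := fun q => by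
    rw [show n * n = p * l + 1 by linarith, zpow_add_one, zpow_mul, zpow_natCast, eBar_pow, one_zpow,
      one_mul]
  have h3 : act a p (w ^ 2) d.xb = d.xb := by
    rw [map_pow, pow_two, MulAut.mul_apply, h1, map_zpow, h1, ← zpow_mul, hsq]
  have h4 := d.act_eq_one_of_fix_x C (x := w ^ 2) (pow_mem hw 2) h3
  obtain ⟨k, hk⟩ := odd_orderOf_mem_coreC hw
  refine hne ?_
  rw [show w = (w ^ 2) ^ (k + 1) by
    rw [← pow_mul, show 2 * (k + 1) = orderOf (w : G) + 1 by omega, pow_succ, Subgroup.orderOf_coe,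
      pow_orderOf_eq_one, one_mul], map_pow, h4, one_pow]

/-- A fixed element of `O(C(a))` is diagonal. -/
theorem diag {w : cI a} (hwb : (w : G) ∈ cI b) :
    (∃ i : ℤ, act a p w d.xb = d.xb ^ i) ∧ ∃ k : ℤ, act a p w d.ub = d.ub ^ k := by
  have hcomm : ∀ q, act a p ⟨b, d.hbc C⟩ (act a p w q) = act a p w (act a p ⟨b, d.hbc C⟩ q) := by
    intro q
    rw [← MulAut.mul_apply, ← MulAut.mul_apply, ← map_mul, ← map_mul,
      show (⟨b, d.hbc C⟩ : cI a) * w = w * ⟨b, d.hbc C⟩ from Subtype.ext (mem_cI.1 hwb).symm]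
  constructor
  · obtain ⟨i, j, hij⟩ := d.gen C (act a p w d.xb)
    have h1 := hcomm d.xb
    rw [d.act_b_xb C, hij, map_mul, map_zpow, map_zpow, d.act_b_xb C, d.act_b_ub C, inv_zpow] at h1
    exact ⟨i, by rw [hij, d.eBar_eq_one C (mul_left_cancel h1).symm, mul_one]⟩
  · obtain ⟨i, j, hij⟩ := d.gen C (act a p w d.ub)
    have h1 := hcomm d.ub
    rw [d.act_b_ub C, map_inv, hij, map_mul, map_zpow, map_zpow, d.act_b_xb C, d.act_b_ub C,
      inv_zpow, mul_inv_rev, eBar_comm a p (d.ub ^ j)⁻¹] at h1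
    exact ⟨j, by rw [hij, d.eBar_eq_one C (mul_right_cancel h1), one_mul]⟩

/-- A fixed point outside `eP a p` fixes exactly the two lines. -/
theorem line_cases {w : cI a} (hw : (w : G) ∈ coreC a) (hwb : (w : G) ∈ cI b)
    (hne : act a p w ≠ 1) {v : EBar a p} {n : ℤ} (hv : act a p w v = v ^ n) :
    v ∈ zpowers d.xb ∨ v ∈ zpowers d.ub := by
  haveI := Fact.mk d.mixed.hp
  obtain ⟨⟨i, hi⟩, k, hk⟩ := d.diag C hwb
  obtain ⟨α, β, rfl⟩ := d.gen C v
  rw [map_mul, map_zpow, map_zpow, hi, hk, (show Commute (d.xb ^ α) (d.ub ^ β) from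
    eBar_comm a p _ _).mul_zpow] at hv
  letI : CommGroup (EBar a p) := { (inferInstance : Group _) with mul_comm := eBar_comm a p }
  have h1 : d.xb ^ (i * α - α * n) * d.ub ^ (k * β - β * n) = 1 := by
    rw [zpow_sub, zpow_sub, zpow_mul, zpow_mul, zpow_mul, zpow_mul, mul_mul_mul_comm, hv, ← mul_inv,
      mul_inv_cancel]
  obtain ⟨hA, hB⟩ := d.coord C h1
  by_contra hcon
  push_neg at hcon
  have hox : orderOf d.xb = p := orderOf_eq_prime (eBar_pow _) (d.xb_ne C)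
  have hou : orderOf d.ub = p := orderOf_eq_prime (eBar_pow _) (d.ub_ne C)
  have hP : Prime (p : ℤ) := Nat.prime_iff_prime_int.1 d.mixed.hp
  have hα : ¬ (p : ℤ) ∣ α := fun hd => hcon.2 (by
    rw [show d.xb ^ α = 1 from orderOf_dvd_iff_zpow_eq_one.1 (hox.symm ▸ hd), one_mul]
    exact zpow_mem (mem_zpowers _) β)
  have hβ : ¬ (p : ℤ) ∣ β := fun hd => hcon.1 (by
    rw [show d.ub ^ β = 1 from orderOf_dvd_iff_zpow_eq_one.1 (hou.symm ▸ hd), mul_one]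
    exact zpow_mem (mem_zpowers _) α)
  have hd1 : (p : ℤ) ∣ i - n := by
    have := orderOf_dvd_iff_zpow_eq_one.2 hA
    rw [hox, show i * α - α * n = α * (i - n) by ring] at this
    exact (hP.dvd_mul.1 this).resolve_left hα
  have hd2 : (p : ℤ) ∣ k - n := by
    have := orderOf_dvd_iff_zpow_eq_one.2 hB
    rw [hou, show k * β - β * n = β * (k - n) by ring] at this
    exact (hP.dvd_mul.1 this).resolve_left hβ
  refine d.not_scalar C hw hne (n := n) ?_ ?_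
  · rw [hi, ← mul_inv_eq_one, ← zpow_sub]; exact orderOf_dvd_iff_zpow_eq_one.1 (hox.symm ▸ hd1)
  · rw [hk, ← mul_inv_eq_one, ← zpow_sub]; exact orderOf_dvd_iff_zpow_eq_one.1 (hou.symm ▸ hd2)

/-- With a fixed point outside `eP a p` the action is fixed-point-free. -/
theorem fpf {w : cI a} (hw : (w : G) ∈ coreC a) (hwb : (w : G) ∈ cI b) (hne : act a p w ≠ 1)
    {x : cI a} (hx : (x : G) ∈ coreC a) {v : EBar a p} (hv : act a p x v = v) (hv1 : v ≠ 1) :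
    act a p x = 1 := by
  haveI := Fact.mk d.mixed.hp
  by_contra hxne
  by_cases hvx : v ∈ zpowers d.xb
  · obtain ⟨k, hk⟩ := exists_pow_eq_of_ne_one d.mixed.hp hvx hv1 (mem_zpowers d.xb)
    exact hxne (d.act_eq_one_of_fix_x C hx (by rw [← hk, map_pow, hv]))
  by_cases hvu : v ∈ zpowers d.ub
  · obtain ⟨k, hk⟩ := exists_pow_eq_of_ne_one d.mixed.hp hvu hv1 (mem_zpowers d.ub)
    exact hxne (d.act_eq_one_of_fix_u C hx (by rw [← hk, map_pow, hv]))
  obtain ⟨α, β, hvab⟩ := d.gen C v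
  have hβ : d.ub ^ β ≠ 1 := fun e => hvx (by rw [hvab, e, mul_one]; exact zpow_mem (mem_zpowers _) α)
  have hou : orderOf d.ub = p := orderOf_eq_prime (eBar_pow _) (d.ub_ne C)
  have hβp : ¬ (p : ℤ) ∣ β := fun hd => hβ (orderOf_dvd_iff_zpow_eq_one.1 (hou.symm ▸ hd))
  have hgen : ∀ q, ∃ i j : ℤ, q = v ^ i * d.xb ^ j := by
    intro q
    obtain ⟨i, j, rfl⟩ := d.gen C q
    obtain ⟨n, hn⟩ := exists_pow_eq_of_ne_one d.mixed.hp (zpow_mem (mem_zpowers d.ub) β) hβ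
      (mem_zpowers d.ub)
    refine ⟨(n : ℤ) * j, i - α * n * j, ?_⟩
    have hc := eBar_comm a p
    rw [hvab, (show Commute (d.xb ^ α) (d.ub ^ β) from hc _ _).mul_zpow, ← zpow_mul, zpow_mul (d.ub ^ β),
      zpow_natCast, hn, hc (d.xb ^ (α * ((n : ℤ) * j))), mul_assoc, ← zpow_add,
      show α * (↑n * j) + (i - α * ↑n * j) = i by ring, hc]
  have hfix : ∀ y : cI a, (y : G) ∈ coreC a → act a p y v = v → ∀ q, act a p y q * q⁻¹ ∈ zpowers v := by
    intro y hy hyv q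
    -- the image of `xb`
    obtain ⟨k, l, hkl⟩ := hgen (act a p y d.xb)
    have hl : d.xb ^ l = d.xb := by
      obtain ⟨A, B, hAB⟩ := d.gen C (act a p y d.xb)
      obtain ⟨Γ, Δ, hΓΔ⟩ := d.gen C (act a p y d.ub)
      obtain ⟨L, hL⟩ := d.det_one C hy hAB hΓΔ
      letI : CommGroup (EBar a p) := { (inferInstance : Group _) with mul_comm := eBar_comm a p }
      have e1 : d.xb ^ (A * α + Γ * β - α) * d.ub ^ (B * α + Δ * β - β) = 1 := by
        have h0 := hyv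
        rw [hvab, map_mul, map_zpow, map_zpow, hAB, hΓΔ, mul_zpow, mul_zpow] at h0
        rw [zpow_sub, zpow_sub, zpow_add, zpow_add, zpow_mul, zpow_mul, zpow_mul, zpow_mul,
          mul_mul_mul_comm, mul_mul_mul_comm ((d.xb ^ A) ^ α), h0, ← mul_inv, mul_inv_cancel]
      obtain ⟨hA', hB'⟩ := d.coord C e1
      have e2 : d.xb ^ (A - k * α - l) * d.ub ^ (B - k * β) = 1 := by
        have h0 := hkl
        rw [hAB, hvab, mul_zpow] at h0
        rw [zpow_sub, zpow_sub, zpow_sub, mul_comm k α, mul_comm k β, zpow_mul, zpow_mul,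
          mul_assoc (d.xb ^ A), mul_mul_mul_comm, h0, ← mul_inv, ← mul_inv,
          mul_right_comm ((d.xb ^ α) ^ k), mul_inv_cancel]
      obtain ⟨hK, hJ⟩ := d.coord C e2
      have hox : orderOf d.xb = p := orderOf_eq_prime (eBar_pow _) (d.xb_ne C)
      have d1 := orderOf_dvd_iff_zpow_eq_one.2 hA'
      have d2 := orderOf_dvd_iff_zpow_eq_one.2 hB'
      have d3 := orderOf_dvd_iff_zpow_eq_one.2 hK
      have d4 := orderOf_dvd_iff_zpow_eq_one.2 hJ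
      rw [hox] at d1 d3
      rw [hou] at d2 d4
      obtain ⟨c1, hc1⟩ := d1
      obtain ⟨c2, hc2⟩ := d2
      obtain ⟨c3, hc3⟩ := d3
      obtain ⟨c4, hc4⟩ := d4
      have hd : (p : ℤ) ∣ β * (l - 1) := by
        refine ⟨β * L - A * c2 + B * c1 + α * c4 - β * c3, ?_⟩
        linear_combination β * hL - A * hc2 + B * hc1 + α * hc4 - β * hc3
      obtain ⟨c5, hc5⟩ := ((Nat.prime_iff_prime_int.1 d.mixed.hp).dvd_mul.1 hd).resolve_left hβp
      rw [show l = p * c5 + 1 by linarith, zpow_add_one, zpow_mul, zpow_natCast, eBar_pow, one_zpow,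
        one_mul]
    rw [hl] at hkl
    obtain ⟨i, j, rfl⟩ := hgen q
    refine mem_zpowers_iff.2 ⟨k * j, ?_⟩
    rw [map_mul, map_zpow, map_zpow, hyv, hkl,
      (show Commute (v ^ k) d.xb from eBar_comm a p _ _).mul_zpow, ← zpow_mul, mul_inv_rev]
    calc v ^ (k * j) = v ^ i * v ^ (k * j) * (v ^ i)⁻¹ := by
          rw [eBar_comm a p (v ^ i), mul_inv_cancel_right]
      _ = _ := by group
  obtain ⟨n, hn⟩ := mem_zpowers_iff.1 (d.line_of_transvection C hgen hfix hx hv hxne w hw)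
  rcases d.line_cases C hw hwb hne hn.symm with h | h
  · exact hvx h
  · exact hvu h

/-- With a fixed point outside `eP a p` the image of `O(C(a))` is abelian. -/
theorem act_comm {w : cI a} (hw : (w : G) ∈ coreC a) (hwb : (w : G) ∈ cI b) (hne : act a p w ≠ 1)
    {x y : cI a} (hx : (x : G) ∈ coreC a) (hy : (y : G) ∈ coreC a) :
    act a p x * act a p y = act a p y * act a p x := by
  haveI := Fact.mk d.mixed.hp
  set S : Subgroup (MulAut (EBar a p)) := ((coreC a).subgroupOf (cI a)).map (act a p)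
  have hmem : ∀ z : cI a, (z : G) ∈ coreC a → act a p z ∈ S := fun z hz =>
    mem_map_of_mem _ (mem_subgroupOf.2 hz)
  refine CfsgLib.GW.Component.commute_of_fpf d.mixed.ne_two (d.card_eBar C) eBar_pow S ?_ ?_
    _ (hmem x hx) _ (hmem y hy)
  · refine Odd.of_dvd_nat ?_ (Subgroup.card_map_dvd (H := (coreC a).subgroupOf (cI a)) (act a p))
    rw [Nat.card_congr (subgroupOfEquivOfLe (coreC_le_cI a)).toEquiv]
    exact odd_coreC a
  · rintro _ ⟨z, hz, rfl⟩ v hv hv1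
    exact d.fpf C hw hwb hne (mem_subgroupOf.1 hz) hv hv1

/-- With a fixed point outside `eP a p` both lines are invariant. -/
theorem lines_invariant {w : cI a} (hw : (w : G) ∈ coreC a) (hwb : (w : G) ∈ cI b)
    (hne : act a p w ≠ 1) {o : cI a} (ho : (o : G) ∈ coreC a) :
    (∃ i : ℤ, act a p o d.xb = d.xb ^ i) ∧ ∃ k : ℤ, act a p o d.ub = d.ub ^ k := by
  obtain ⟨⟨i, hi⟩, k, hk⟩ := d.diag C hwb
  have hc : ∀ q, act a p w (act a p o q) = act a p o (act a p w q) := fun q => by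
    rw [← MulAut.mul_apply, ← MulAut.mul_apply, d.act_comm C hw hwb hne hw ho]
  have hik : ¬ (d.xb ^ i = d.xb ^ k) := fun e =>
    d.not_scalar C hw hne (n := k) (by rw [hi, e]) hk
  haveI := Fact.mk d.mixed.hp
  have hpow : ∀ (e : EBar a p), e ≠ 1 → ∀ m : ℤ, e ^ m = 1 → (p : ℤ) ∣ m := fun e he m hm => by
    have := orderOf_dvd_iff_zpow_eq_one.2 hm
    rwa [orderOf_eq_prime (eBar_pow e) he] at this
  constructor
  · have h1 := hc d.xb
    rw [hi, map_zpow] at h1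
    rcases d.line_cases C hw hwb hne h1 with h | h
    · exact ⟨_, (mem_zpowers_iff.1 h).choose_spec.symm⟩
    · exfalso
      obtain ⟨l, hl⟩ := mem_zpowers_iff.1 h
      rw [← hl, map_zpow, hk, ← zpow_mul, ← zpow_mul] at h1
      have h2 : d.ub ^ (l * i - k * l) = 1 := by rw [zpow_sub, h1, mul_inv_cancel]
      have h3 := hpow _ (d.ub_ne C) _ h2
      rw [show l * i - k * l = l * (i - k) by ring] at h3
      rcases (Nat.prime_iff_prime_int.1 d.mixed.hp).dvd_mul.1 h3 with h4 | ⟨m, hm⟩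
      · obtain ⟨m, rfl⟩ := h4
        rw [zpow_mul, zpow_natCast, eBar_pow, one_zpow, eq_comm] at hl
        exact d.xb_ne C ((MulEquiv.map_eq_one_iff _).1 hl)
      · exact hik (by
          rw [show i = p * m + k by linarith, zpow_add, zpow_mul, zpow_natCast, eBar_pow, one_zpow, one_mul])
  · have h1 := hc d.ub
    rw [hk, map_zpow] at h1
    rcases d.line_cases C hw hwb hne h1 with h | h
    · exfalso
      obtain ⟨l, hl⟩ := mem_zpowers_iff.1 h
      rw [← hl, map_zpow, hi, ← zpow_mul, ← zpow_mul] at h1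
      have h2 : d.xb ^ (l * k - i * l) = 1 := by rw [zpow_sub, h1, mul_inv_cancel]
      have h3 := hpow _ (d.xb_ne C) _ h2
      rw [show l * k - i * l = l * (k - i) by ring] at h3
      rcases (Nat.prime_iff_prime_int.1 d.mixed.hp).dvd_mul.1 h3 with h4 | ⟨m, hm⟩
      · obtain ⟨m, rfl⟩ := h4
        rw [zpow_mul, zpow_natCast, eBar_pow, one_zpow, eq_comm] at hl
        exact d.ub_ne C ((MulEquiv.map_eq_one_iff _).1 hl)
      · exact hik (by
          rw [show k = p * m + i by linarith, zpow_add, zpow_mul, zpow_natCast, eBar_pow, one_zpow, one_mul])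
    · exact ⟨_, (mem_zpowers_iff.1 h).choose_spec.symm⟩

end SplitE

end CfsgLib.GW
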